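import Mathlib

set_option autoImplicit false

/-! Elements of coprime orders in a nilpotent group commute (same argument as in helper8's S1473,
kept here so that files needing only this fact have a light dependency). -/

namespace Cfsg.Agent.Helper3

universe u

/-- In a nilpotent group, elements of coprime finite orders commute. -/
theorem mul_comm_of_coprime_of_isNilpotent (N : Type u) [Group N] [Group.IsNilpotent N] :
    ∀ a b : N, IsOfFinOrder a → IsOfFinOrder b → (orderOf a).Coprime (orderOf b) → a * b = b * a := by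
  refine Group.nilpotent_center_quotient_ind
    (P := fun N _ _ => ∀ a b : N, IsOfFinOrder a → IsOfFinOrder b →
      (orderOf a).Coprime (orderOf b) → a * b = b * a) N ?_ ?_
  · intro N _ _ a b _ _ _
    exact Subsingleton.elim _ _
  · intro N _ _ ih a b ha hb hcop
    have h1 := ih (QuotientGroup.mk' (Subgroup.center N) a) (QuotientGroup.mk' (Subgroup.center N) b)
      (MonoidHom.isOfFinOrder _ ha) (MonoidHom.isOfFinOrder _ hb)
      (Nat.Coprime.coprime_dvd_left (orderOf_map_dvd _ a)
        (Nat.Coprime.coprime_dvd_right (orderOf_map_dvd _ b) hcop))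
    have hz : a * b * a⁻¹ * b⁻¹ ∈ Subgroup.center N := by
      rw [← QuotientGroup.eq_one_iff]
      change QuotientGroup.mk' (Subgroup.center N) (a * b * a⁻¹ * b⁻¹) = 1
      rw [map_mul, map_mul, map_mul, h1, map_inv, map_inv]
      group
    set z := a * b * a⁻¹ * b⁻¹ with hzdef
    have hzc : ∀ g : N, g * z = z * g := fun g => (Subgroup.mem_center_iff.mp hz g)
    have hab : a * b * a⁻¹ = z * b := by rw [hzdef]; group
    have h2 : z ^ orderOf b = 1 := by
      have h3 : (z * b) ^ orderOf b = z ^ orderOf b * b ^ orderOf b :=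
        (Commute.mul_pow (show Commute z b from (hzc b).symm) _)
      have h4 : (a * b * a⁻¹) ^ orderOf b = 1 := by
        rw [conj_pow, pow_orderOf_eq_one]; group
      rw [hab, h3, pow_orderOf_eq_one, mul_one] at h4
      exact h4
    have hba : b * a⁻¹ * b⁻¹ = a⁻¹ * z := by
      rw [hzdef]; group
    have h5 : z ^ orderOf a = 1 := by
      have h3 : (a⁻¹ * z) ^ orderOf a = a⁻¹ ^ orderOf a * z ^ orderOf a :=
        (Commute.mul_pow (show Commute a⁻¹ z from hzc a⁻¹) _)
      have h4 : (b * a⁻¹ * b⁻¹) ^ orderOf a = 1 := by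
        rw [conj_pow, inv_pow, pow_orderOf_eq_one]; group
      rw [hba, h3, inv_pow, pow_orderOf_eq_one, inv_one, one_mul] at h4
      exact h4
    have h6 : orderOf z ∣ 1 := by
      rw [← Nat.Coprime.gcd_eq_one hcop]
      exact Nat.dvd_gcd (orderOf_dvd_of_pow_eq_one h5) (orderOf_dvd_of_pow_eq_one h2)
    have h7 : z = 1 := orderOf_eq_one_iff.mp (Nat.dvd_one.mp h6)
    calc a * b = (a * b * a⁻¹ * b⁻¹) * (b * a) := by group
      _ = b * a := by rw [← hzdef, h7, one_mul]

/-- Elements of coprime orders in a nilpotent subgroup commute. -/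
theorem mul_comm_of_mem_isNilpotent_of_coprime {G : Type u} [Group G] [Finite G] {N : Subgroup G}
    (hN : Group.IsNilpotent N) {a b : G}
    (ha : a ∈ N) (hb : b ∈ N) (hcop : (orderOf a).Coprime (orderOf b)) : a * b = b * a := by
  have h1 := mul_comm_of_coprime_of_isNilpotent N ⟨a, ha⟩ ⟨b, hb⟩ (isOfFinOrder_of_finite _)
    (isOfFinOrder_of_finite _)
    (by rw [Subgroup.orderOf_mk, Subgroup.orderOf_mk]; exact hcop)
  exact congrArg Subtype.val h1

end Cfsg.Agent.Helper3
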