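import Mathlib

set_option autoImplicit false

namespace Cfsg.Agent.Helper3

open scoped Pointwise

variable {G : Type*} [Group G]

theorem mem_conj_smul_iff (g x : G) (H : Subgroup G) :
    x ∈ MulAut.conj g • H ↔ g⁻¹ * x * g ∈ H := by
  rw [Subgroup.mem_pointwise_smul_iff_inv_smul_mem]
  simp only [MulAut.smul_def, MulAut.inv_apply, MulAut.conj_symm_apply]

theorem conj_mem_conj_smul {g x : G} {H : Subgroup G} (hx : x ∈ H) :
    g * x * g⁻¹ ∈ MulAut.conj g • H := by
  rw [mem_conj_smul_iff]
  have : g⁻¹ * (g * x * g⁻¹) * g = x := by group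
  rw [this]; exact hx

theorem conj_mem_of_normal_subgroupOf {A H : Subgroup G} (hA : A ≤ H)
    (hAn : (A.subgroupOf H).Normal) {h a : G} (hh : h ∈ H) (ha : a ∈ A) : h * a * h⁻¹ ∈ A := by
  have h1 : (⟨a, hA ha⟩ : H) ∈ A.subgroupOf H := by
    rw [Subgroup.mem_subgroupOf]; exact ha
  have h2 := hAn.conj_mem _ h1 ⟨h, hh⟩
  rw [Subgroup.mem_subgroupOf] at h2
  simpa using h2

theorem conj_smul_eq_of_normal_subgroupOf {A H : Subgroup G} (hA : A ≤ H)
    (hAn : (A.subgroupOf H).Normal) {h : G} (hh : h ∈ H) : MulAut.conj h • A = A := by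
  apply le_antisymm
  · intro x hx
    rw [mem_conj_smul_iff] at hx
    have := conj_mem_of_normal_subgroupOf hA hAn hh hx
    have e : h * (h⁻¹ * x * h) * h⁻¹ = x := by group
    rwa [e] at this
  · intro x hx
    rw [mem_conj_smul_iff]
    have := conj_mem_of_normal_subgroupOf hA hAn (H.inv_mem hh) hx
    rwa [inv_inv] at this

/-- In a finite group, a subgroup contained in one of its conjugates is normalized. -/
theorem mem_normalizer_of_le_conj_smul [Finite G] {X : Subgroup G} {k : G}
    (h : X ≤ MulAut.conj k • X) : k ∈ Subgroup.normalizer (X : Set G) := by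
  have : k⁻¹ ∈ Subgroup.normalizer (X : Set G) := by
    apply Subgroup.mem_normalizer_fintype
    intro n hn
    have := h hn
    rw [mem_conj_smul_iff] at this
    rw [inv_inv]; exact this
  have := Subgroup.inv_mem _ this
  rwa [inv_inv] at this

theorem conj_smul_eq_of_mem_normalizer {X : Subgroup G} {k : G}
    (h : k ∈ Subgroup.normalizer (X : Set G)) : MulAut.conj k • X = X := by
  ext x
  rw [mem_conj_smul_iff]
  exact ((Subgroup.mem_normalizer_iff''.mp h) x).symm

end Cfsg.Agent.Helper3

namespace Cfsg.Agent.Helper3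

open scoped Pointwise

variable {G : Type*} [Group G]

theorem le_normalizer_of_forall_conj_smul_le {S X : Subgroup G}
    (h : ∀ s ∈ S, MulAut.conj s • X ≤ X) : S ≤ Subgroup.normalizer (X : Set G) := by
  intro s hs
  rw [Subgroup.mem_normalizer_iff'']
  intro x
  constructor
  · intro hx
    have := h s⁻¹ (S.inv_mem hs) (conj_mem_conj_smul (g := s⁻¹) hx)
    rwa [inv_inv] at this
  · intro hx
    have := h s hs (conj_mem_conj_smul (g := s) hx)
    have e : s * (s⁻¹ * x * s) * s⁻¹ = x := by group
    rwa [e] at this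

theorem mem_normalizer_of_conj_smul_eq {X : Subgroup G} {k : G}
    (h : MulAut.conj k • X = X) : k ∈ Subgroup.normalizer (X : Set G) := by
  rw [Subgroup.mem_normalizer_iff'']
  intro x
  rw [← mem_conj_smul_iff, h]

theorem le_normalizer_sup {A B C : Subgroup G} (hB : A ≤ Subgroup.normalizer (B : Set G))
    (hC : A ≤ Subgroup.normalizer (C : Set G)) : A ≤ Subgroup.normalizer ((B ⊔ C : Subgroup G) : Set G) := by
  intro a ha
  apply mem_normalizer_of_conj_smul_eq
  rw [Subgroup.smul_sup, conj_smul_eq_of_mem_normalizer (hB ha),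
    conj_smul_eq_of_mem_normalizer (hC ha)]

end Cfsg.Agent.Helper3

namespace Cfsg.Agent.Helper3

variable {G : Type*} [Group G]

theorem card_mul_relIndex_of_le {H K : Subgroup G} (h : H ≤ K) :
    Nat.card H * H.relIndex K = Nat.card K := by
  have := Subgroup.relIndex_mul_relIndex ⊥ H K bot_le h
  rwa [Subgroup.relIndex_bot_left, Subgroup.relIndex_bot_left] at this

/-- `|B| |C| ≤ |⟨B, C⟩| |B ∩ C|` for subgroups of a finite group. -/
theorem card_mul_card_le_card_sup_mul_card_inf [Finite G] (B C : Subgroup G) :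
    Nat.card B * Nat.card C ≤ Nat.card (B ⊔ C : Subgroup G) * Nat.card (B ⊓ C : Subgroup G) := by
  have h1 : Nat.card (B ⊓ C : Subgroup G) * C.relIndex B = Nat.card B := by
    rw [← Subgroup.inf_relIndex_left B C]
    rw [inf_comm]
    have := card_mul_relIndex_of_le (inf_le_right : C ⊓ B ≤ B)
    rwa [inf_comm] at this ⊢
  have h2 : Nat.card C * C.relIndex (B ⊔ C) = Nat.card (B ⊔ C : Subgroup G) :=
    card_mul_relIndex_of_le le_sup_right
  have h3 : C.relIndex B ≤ C.relIndex (B ⊔ C) := by
    apply Subgroup.relIndex_le_of_le_right le_sup_left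
    intro h0
    rw [h0, mul_zero] at h2
    exact Nat.card_pos.ne' h2.symm
  calc Nat.card B * Nat.card C = Nat.card (B ⊓ C : Subgroup G) * C.relIndex B * Nat.card C := by
        rw [h1]
    _ ≤ Nat.card (B ⊓ C : Subgroup G) * C.relIndex (B ⊔ C) * Nat.card C := by
        gcongr
    _ = Nat.card (B ⊔ C : Subgroup G) * Nat.card (B ⊓ C : Subgroup G) := by
        rw [← h2]; ring

end Cfsg.Agent.Helper3
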