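import Mathlib
import Cfsg.Prelude.Def_SolvableStructure

set_option autoImplicit false

/-! Groups satisfying the converse of Lagrange's theorem (`Cfsg.HasSubgroupOfEveryOrder`). -/

namespace Cfsg.Agent.Helper3

universe u v

variable {G : Type u} [Group G] {G' : Type v} [Group G']

theorem hasSubgroupOfEveryOrder_of_mulEquiv (e : G ≃* G') (h : Cfsg.HasSubgroupOfEveryOrder G) :
    Cfsg.HasSubgroupOfEveryOrder G' := by
  intro d hd
  rw [← Nat.card_congr e.toEquiv] at hd
  obtain ⟨H, hH⟩ := h d hd
  refine ⟨H.map e.toMonoidHom, ?_⟩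
  rw [Subgroup.card_map_of_injective e.injective, hH]

/-- "every subgroup has subgroups of all possible orders", unfolded inside `G`. -/
theorem exists_le_card_eq (h : ∀ H : Subgroup G, Cfsg.HasSubgroupOfEveryOrder H) (H : Subgroup G)
    (d : ℕ) (hd : d ∣ Nat.card H) : ∃ K : Subgroup G, K ≤ H ∧ Nat.card K = d := by
  obtain ⟨K, hK⟩ := h H d hd
  refine ⟨K.map H.subtype, Subgroup.map_subtype_le K, ?_⟩
  rw [Subgroup.card_map_of_injective (Subgroup.subtype_injective H), hK]

theorem exists_card_eq (h : ∀ H : Subgroup G, Cfsg.HasSubgroupOfEveryOrder H)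
    (d : ℕ) (hd : d ∣ Nat.card G) : ∃ K : Subgroup G, Nat.card K = d := by
  obtain ⟨K, -, hK⟩ := exists_le_card_eq h ⊤ d (by rwa [Subgroup.card_top])
  exact ⟨K, hK⟩

/-- The hypothesis passes to subgroups. -/
theorem hasSubgroupOfEveryOrder_subgroup (h : ∀ H : Subgroup G, Cfsg.HasSubgroupOfEveryOrder H)
    (L : Subgroup G) : ∀ H : Subgroup L, Cfsg.HasSubgroupOfEveryOrder H := by
  intro H
  exact hasSubgroupOfEveryOrder_of_mulEquiv
    (H.equivMapOfInjective L.subtype (Subgroup.subtype_injective L)).symm (h _)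

/-- If every subgroup satisfies the converse of Lagrange's theorem, the Sylow subgroup for the
largest prime is normal. -/
theorem sylow_normal_of_max_prime_aux (n : ℕ) : ∀ (G : Type u) [Group G] [Finite G],
    Nat.card G = n → (∀ H : Subgroup G, Cfsg.HasSubgroupOfEveryOrder H) →
    ∀ (p : ℕ) [Fact p.Prime], p ∣ n → (∀ q : ℕ, q.Prime → q ∣ n → q ≤ p) →
    ∀ P : Sylow p G, (P : Subgroup G).Normal := by
  induction n using Nat.strong_induction_on with
  | _ n ih =>
  intro G _ _ hcard h p hpF hpn hmax P
  have hp : p.Prime := hpF.out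
  have hn0 : n ≠ 0 := by rw [← hcard]; exact Nat.card_pos.ne'
  have hn1 : n ≠ 1 := by
    intro h1; rw [h1, Nat.dvd_one] at hpn; exact hp.one_lt.ne' hpn
  set q := n.minFac with hq
  have hqp : q.Prime := Nat.minFac_prime hn1
  have hqn : q ∣ n := Nat.minFac_dvd n
  by_cases hqeq : q = p
  · -- G is a p-group
    have hpow : n = p ^ n.primeFactorsList.length := by
      apply Nat.eq_prime_pow_of_unique_prime_dvd hn0
      intro d hd hdn
      apply le_antisymm (hmax d hd hdn)
      rw [← hqeq]
      exact Nat.minFac_le_of_dvd hd.two_le hdn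
    have hPcard : Nat.card (P : Subgroup G) = Nat.card G := by
      rw [P.card_eq_multiplicity, hcard]
      generalize n.primeFactorsList.length = k at hpow
      rw [hpow, hp.factorization_pow, Finsupp.single_eq_same]
    have : (P : Subgroup G) = ⊤ := Subgroup.eq_top_of_card_eq _ hPcard
    rw [this]; infer_instance
  · have hqlt : q < p := lt_of_le_of_ne (hmax q hqp hqn) hqeq
    obtain ⟨m, hm⟩ := hqn
    have hmd : m ∣ Nat.card G := by rw [hcard]; exact ⟨q, by rw [hm, mul_comm]⟩
    obtain ⟨H₀, hH₀⟩ := exists_card_eq h m hmd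
    have hidx : H₀.index = q := by
      have := Subgroup.card_mul_index H₀
      rw [hH₀, hcard] at this
      have hm0 : 0 < m := Nat.pos_of_ne_zero (by rintro rfl; rw [mul_zero] at hm; exact hn0 hm)
      rw [hm, mul_comm q m] at this
      exact Nat.eq_of_mul_eq_mul_left hm0 this
    have hH₀n : H₀.Normal := by
      apply Subgroup.normal_of_index_eq_minFac_card
      rw [hidx, hcard]
    -- P ≤ H₀
    have hPH : (P : Subgroup G) ≤ H₀ := by
      rw [← Subgroup.relIndex_eq_one]
      have h1 : H₀.relIndex (P : Subgroup G) ∣ q := hidx ▸ Subgroup.relIndex_dvd_index_of_normal H₀ _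
      have h2 : H₀.relIndex (P : Subgroup G) ∣ Nat.card (P : Subgroup G) :=
        Subgroup.relIndex_dvd_card _ _
      rw [P.card_eq_multiplicity] at h2
      have hcop : Nat.Coprime q (p ^ (Nat.card G).factorization p) := by
        apply Nat.Coprime.pow_right
        exact (Nat.coprime_primes hqp hp).mpr hqeq
      exact Nat.eq_one_of_dvd_coprimes hcop h1 h2
    have hlt : Nat.card H₀ < n := by
      rw [hH₀, hm]
      have hm0 : 0 < m := Nat.pos_of_ne_zero (by rintro rfl; rw [mul_zero] at hm; exact hn0 hm)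
      have := hqp.one_lt
      nlinarith
    have hpH₀ : p ∣ Nat.card H₀ := by
      have h1 : p ∣ Nat.card (P : Subgroup G) := by
        rw [P.card_eq_multiplicity]
        apply dvd_pow_self
        have := (hp.dvd_iff_one_le_factorization Nat.card_pos.ne').mp (hcard ▸ hpn)
        omega
      exact h1.trans (Subgroup.card_dvd_of_le hPH)
    have hmaxH₀ : ∀ r : ℕ, r.Prime → r ∣ Nat.card H₀ → r ≤ p := by
      intro r hr hrd
      apply hmax r hr
      rw [← hcard]
      exact hrd.trans (Subgroup.card_subgroup_dvd_card H₀)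
    have hnorm := ih _ hlt H₀ rfl (hasSubgroupOfEveryOrder_subgroup h H₀) p hpH₀ hmaxH₀
      (P.subtype hPH)
    have hchar := Sylow.characteristic_of_normal _ hnorm
    have hfin : (((P.subtype hPH : Sylow p H₀) : Subgroup H₀).map H₀.subtype).Normal :=
      ConjAct.normal_of_characteristic_of_normal
    rw [Sylow.coe_subtype, Subgroup.subgroupOf_map_subtype, inf_of_le_left hPH] at hfin
    exact hfin

end Cfsg.Agent.Helper3
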