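import Mathlib

set_option autoImplicit false

/-! Primitive solvable permutation groups: minimal normal subgroups are regular elementary abelian. -/

namespace Cfsg.Agent.Helper3

variable {G : Type*} [Group G] {Ω : Type*} [MulAction G Ω]

/-- A nontrivial normal subgroup of a faithful primitive group is transitive. -/
theorem isPretransitive_of_normal_of_faithful [FaithfulSMul G Ω]
    (hprim : MulAction.IsPreprimitive G Ω) (M : Subgroup G) [M.Normal] (hM : M ≠ ⊥) :
    MulAction.IsPretransitive M Ω := by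
  apply MulAction.IsQuasiPreprimitive.isPretransitive_of_normal
  intro hfix
  apply hM
  rw [eq_bot_iff]
  intro m hm
  rw [Subgroup.mem_bot]
  apply FaithfulSMul.eq_of_smul_eq_smul (α := Ω)
  intro ω
  have hω : ω ∈ MulAction.fixedPoints M Ω := by rw [hfix]; trivial
  have := hω ⟨m, hm⟩
  rw [one_smul]
  exact this

/-- A minimal normal subgroup of a solvable group is abelian. -/
theorem commute_of_minimal_normal [Group.IsSolvable G] (M : Subgroup G) [M.Normal] (hM : M ≠ ⊥)
    (hmin : ∀ K : Subgroup G, K.Normal → K ≤ M → K = ⊥ ∨ K = M) :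
    ∀ a ∈ M, ∀ b ∈ M, a * b = b * a := by
  have hle : ⁅M, M⁆ ≤ M := Subgroup.commutator_le_left M M
  rcases hmin ⁅M, M⁆ inferInstance hle with h | h
  · intro a ha b hb
    have h1 := (Subgroup.commutator_eq_bot_iff_le_centralizer.mp h) ha
    exact (Subgroup.mem_centralizer_iff.mp h1 b hb).symm
  · exfalso
    have hder : ∀ n, M ≤ derivedSeries G n := by
      intro n
      induction n with
      | zero => exact le_top
      | succ n ih =>
        rw [derivedSeries_succ, ← h]
        exact Subgroup.commutator_mono ih ih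
    obtain ⟨n, hn⟩ := (Group.isSolvable_def G).mp inferInstance
    have := hder n
    rw [hn] at this
    exact hM (le_bot_iff.mp this)

/-- A transitive abelian subgroup of a faithful group has trivial point stabilizers. -/
theorem stabilizer_eq_bot_of_commute [FaithfulSMul G Ω] (M : Subgroup G)
    (hc : ∀ a ∈ M, ∀ b ∈ M, a * b = b * a) (htr : MulAction.IsPretransitive M Ω) (ω : Ω) :
    MulAction.stabilizer M ω = ⊥ := by
  rw [eq_bot_iff]
  intro m hm
  rw [Subgroup.mem_bot]
  apply Subtype.ext
  apply FaithfulSMul.eq_of_smul_eq_smul (α := Ω)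
  intro ω'
  obtain ⟨m', rfl⟩ := MulAction.exists_smul_eq M ω ω'
  have hmω : m • ω = ω := MulAction.mem_stabilizer_iff.mp hm
  show (m : G) • (m' • ω) = ((1 : M) : G) • (m' • ω)
  rw [Subgroup.coe_one, one_smul]
  show m • (m' • ω) = m' • ω
  rw [smul_smul]
  have : m * m' = m' * m := Subtype.ext (hc m m.2 m' m'.2)
  rw [this, ← smul_smul, hmω]

/-- Regular action: the number of points is the order of the group. -/
theorem card_eq_card_of_regular (M : Subgroup G) (htr : MulAction.IsPretransitive M Ω)
    (hreg : ∀ ω : Ω, MulAction.stabilizer M ω = ⊥) (ω : Ω) : Nat.card Ω = Nat.card M := by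
  symm
  apply Nat.card_eq_of_bijective (fun m : M => m • ω)
  constructor
  · intro a b hab
    have hmem : b⁻¹ * a ∈ MulAction.stabilizer M ω := by
      rw [MulAction.mem_stabilizer_iff, mul_smul]
      have : a • ω = b • ω := hab
      rw [this, inv_smul_smul]
    rw [hreg ω, Subgroup.mem_bot] at hmem
    exact (inv_mul_eq_one.mp hmem).symm
  · intro ω'
    exact MulAction.exists_smul_eq M ω ω'

/-- An abelian minimal normal subgroup of a finite group has prime power order. -/
theorem card_eq_prime_pow_of_minimal_normal [Finite G] (M : Subgroup G) [hMn : M.Normal]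
    (hM : M ≠ ⊥) (hmin : ∀ K : Subgroup G, K.Normal → K ≤ M → K = ⊥ ∨ K = M)
    (hc : ∀ a ∈ M, ∀ b ∈ M, a * b = b * a) :
    ∃ p d : ℕ, p.Prime ∧ 0 < d ∧ Nat.card M = p ^ d ∧ ∀ m ∈ M, m ^ p = 1 := by
  have hcard : Nat.card M ≠ 1 := fun h => hM (Subgroup.card_eq_one.mp h)
  set p := (Nat.card M).minFac with hp
  have hpp : p.Prime := Nat.minFac_prime hcard
  have : Fact p.Prime := ⟨hpp⟩
  have hdvd : p ∣ Nat.card M := Nat.minFac_dvd _
  obtain ⟨x, hx⟩ := exists_prime_orderOf_dvd_card' p hdvd
  let K : Subgroup G :=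
    { carrier := {m | m ∈ M ∧ m ^ p = 1}
      one_mem' := ⟨M.one_mem, one_pow _⟩
      mul_mem' := by
        rintro a b ⟨ha, ha'⟩ ⟨hb, hb'⟩
        refine ⟨M.mul_mem ha hb, ?_⟩
        rw [(show Commute a b from hc a ha b hb).mul_pow, ha', hb', one_mul]
      inv_mem' := by
        rintro a ⟨ha, ha'⟩
        exact ⟨M.inv_mem ha, by rw [inv_pow, ha', inv_one]⟩ }
  have hKn : K.Normal := by
    constructor
    rintro a ⟨ha, ha'⟩ g
    refine ⟨hMn.conj_mem a ha g, ?_⟩
    rw [conj_pow, ha', mul_one, mul_inv_cancel]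
  have hKM : K ≤ M := fun a ha => ha.1
  have hxK : (x : G) ∈ K := by
    refine ⟨x.2, ?_⟩
    have : x ^ p = 1 := by rw [← hx]; exact pow_orderOf_eq_one x
    exact_mod_cast congrArg Subtype.val this
  have hK : K = M := by
    rcases hmin K hKn hKM with h | h
    · exfalso
      rw [h, Subgroup.mem_bot] at hxK
      have : x = 1 := Subtype.ext hxK
      rw [this, orderOf_one] at hx
      exact hpp.one_lt.ne hx
    · exact h
  have hpow : ∀ m ∈ M, m ^ p = 1 := by
    intro m hm
    have : m ∈ K := by rw [hK]; exact hm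
    exact this.2
  have hPG : IsPGroup p M := by
    intro m
    refine ⟨1, ?_⟩
    rw [pow_one]
    exact Subtype.ext (by simpa using hpow m m.2)
  obtain ⟨d, hd⟩ := IsPGroup.iff_card.mp hPG
  refine ⟨p, d, hpp, ?_, hd, hpow⟩
  rcases Nat.eq_zero_or_pos d with h0 | h0
  · rw [h0, pow_zero] at hd; exact absurd hd hcard
  · exact h0

end Cfsg.Agent.Helper3
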