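import Mathlib
import Cfsg.Prelude.Def_SolvableStructure

set_option autoImplicit false

/-! Supersolvable groups: an inductive reformulation of `Cfsg.IsSupersolvable` and closure
properties. -/

namespace Cfsg.Agent.Helper3

universe u

/-- `SSReach K`: the normal subgroup `K` is the top of a chain of normal subgroups of `G` starting
at the trivial subgroup, each obtained from the previous by adjoining one element. -/
inductive SSReach {G : Type u} [Group G] : Subgroup G → Prop
  | bot : SSReach ⊥
  | step (K : Subgroup G) (g : G) : SSReach K → K.Normal → (K ⊔ Subgroup.zpowers g).Normal →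
      SSReach (K ⊔ Subgroup.zpowers g)

variable {G : Type u} [Group G]

theorem SSReach.normal {K : Subgroup G} (h : SSReach K) : K.Normal := by
  cases h with
  | bot => infer_instance
  | step K g _ _ h2 => exact h2

/-- From the inductive form to a `Fin`-indexed chain. -/
theorem SSReach.exists_chain {K : Subgroup G} (h : SSReach K) :
    ∃ (n : ℕ) (H : Fin (n + 1) → Subgroup G),
      H 0 = ⊥ ∧ H (Fin.last n) = K ∧ (∀ i, (H i).Normal) ∧
        ∀ i : Fin n, ∃ g : G, H i.succ = H i.castSucc ⊔ Subgroup.zpowers g := by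
  induction h with
  | bot =>
    refine ⟨0, fun _ => ⊥, rfl, rfl, fun _ => inferInstance, fun i => i.elim0⟩
  | step K g _ hKn hK'n ih =>
    obtain ⟨n, H, h0, hlast, hnorm, hstep⟩ := ih
    refine ⟨n + 1, Fin.snoc H (K ⊔ Subgroup.zpowers g), ?_, ?_, ?_, ?_⟩
    · have : (0 : Fin (n + 1 + 1)) = Fin.castSucc (0 : Fin (n + 1)) := rfl
      rw [this, Fin.snoc_castSucc]; exact h0
    · exact Fin.snoc_last _ _
    · intro i
      refine Fin.lastCases ?_ (fun j => ?_) i
      · rw [Fin.snoc_last]; exact hK'n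
      · rw [Fin.snoc_castSucc]; exact hnorm j
    · intro i
      refine Fin.lastCases ?_ (fun j => ?_) i
      · refine ⟨g, ?_⟩
        rw [Fin.succ_last, Fin.snoc_last, Fin.snoc_castSucc, hlast]
      · obtain ⟨g', hg'⟩ := hstep j
        refine ⟨g', ?_⟩
        rw [Fin.succ_castSucc, Fin.snoc_castSucc, Fin.snoc_castSucc, hg']

theorem isSupersolvable_iff_ssReach : Cfsg.IsSupersolvable G ↔ SSReach (⊤ : Subgroup G) := by
  constructor
  · rintro ⟨n, H, h0, hlast, hnorm, hstep⟩
    have : ∀ i : Fin (n + 1), SSReach (H i) := by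
      intro i
      induction i using Fin.induction with
      | zero => rw [h0]; exact SSReach.bot
      | succ i ih =>
        obtain ⟨g, hg⟩ := hstep i
        rw [hg]
        exact SSReach.step _ g ih (hnorm _) (hg ▸ hnorm _)
    rw [← hlast]; exact this _
  · intro h
    obtain ⟨n, H, h0, hlast, hnorm, hstep⟩ := h.exists_chain
    exact ⟨n, H, h0, hlast, hnorm, hstep⟩


universe v

variable {G' : Type v} [Group G']

/-- Images of chains under surjective homomorphisms. -/
theorem SSReach.map {K : Subgroup G} (h : SSReach K) (f : G →* G') (hf : Function.Surjective f) :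
    SSReach (K.map f) := by
  induction h with
  | bot => rw [Subgroup.map_bot]; exact SSReach.bot
  | step K g _ hKn hK'n ih =>
    have e : (K ⊔ Subgroup.zpowers g).map f = K.map f ⊔ Subgroup.zpowers (f g) := by
      rw [Subgroup.map_sup, MonoidHom.map_zpowers]
    rw [e]
    exact SSReach.step _ _ ih (hKn.map f hf) (e ▸ hK'n.map f hf)

theorem comap_sup_zpowers (f : G →* G') (hf : Function.Surjective f) (K' : Subgroup G') (g : G) :
    (K' ⊔ Subgroup.zpowers (f g)).comap f = K'.comap f ⊔ Subgroup.zpowers g := by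
  rw [← Subgroup.comap_sup_eq f _ _ hf, ← MonoidHom.map_zpowers, Subgroup.comap_map_eq]
  apply le_antisymm
  · apply sup_le le_sup_left
    apply sup_le le_sup_right
    exact le_trans (Subgroup.ker_le_comap f K') le_sup_left
  · exact sup_le_sup_left le_sup_left _

/-- Preimages of chains, when the kernel itself is reachable. -/
theorem SSReach.comap {K' : Subgroup G'} (h : SSReach K') (f : G →* G')
    (hf : Function.Surjective f) (hker : SSReach f.ker) : SSReach (K'.comap f) := by
  induction h with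
  | bot => rw [MonoidHom.comap_bot]; exact hker
  | step K' g' _ hKn hK'n ih =>
    obtain ⟨g, rfl⟩ := hf g'
    rw [comap_sup_zpowers f hf]
    exact SSReach.step _ _ ih (hKn.comap f) (comap_sup_zpowers f hf K' g ▸ hK'n.comap f)

/-- A subgroup of `K ⊔ ⟨g⟩` (with `K` normal) is generated by its intersection with `K` and one
element. -/
theorem exists_eq_inf_sup_zpowers (K : Subgroup G) [K.Normal] (g : G) (C : Subgroup G)
    (hC : C ≤ K ⊔ Subgroup.zpowers g) : ∃ c ∈ C, C = (K ⊓ C) ⊔ Subgroup.zpowers c := by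
  set φ := QuotientGroup.mk' K with hφ
  have hKmap : K.map φ = ⊥ := QuotientGroup.map_mk'_self K
  have h1 : C.map φ ≤ Subgroup.zpowers (φ g) := by
    calc C.map φ ≤ (K ⊔ Subgroup.zpowers g).map φ := Subgroup.map_mono hC
      _ = Subgroup.zpowers (φ g) := by
        rw [Subgroup.map_sup, MonoidHom.map_zpowers, hKmap, bot_sup_eq]
  have : IsCyclic (C.map φ) := Subgroup.isCyclic_of_le h1
  obtain ⟨⟨d, hd⟩, hgen⟩ := IsCyclic.exists_generator (α := C.map φ)
  obtain ⟨c, hcC, rfl⟩ := hd
  refine ⟨c, hcC, le_antisymm ?_ ?_⟩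
  · intro x hx
    have hxm : φ x ∈ C.map φ := Subgroup.mem_map_of_mem _ hx
    obtain ⟨k, hk⟩ := Subgroup.mem_zpowers_iff.mp (hgen ⟨φ x, hxm⟩)
    have hk' : φ c ^ k = φ x := congrArg Subtype.val hk
    have hmem : x * (c ^ k)⁻¹ ∈ K := by
      rw [← QuotientGroup.ker_mk' K, MonoidHom.mem_ker, map_mul, map_inv, map_zpow, hk']
      exact mul_inv_cancel _
    have hx' : x = (x * (c ^ k)⁻¹) * c ^ k := by group
    rw [hx']
    exact Subgroup.mul_mem _
      (Subgroup.mem_sup_left ⟨hmem, C.mul_mem hx (C.inv_mem (C.zpow_mem hcC k))⟩)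
      (Subgroup.mem_sup_right (Subgroup.zpow_mem_zpowers c k))
  · exact sup_le inf_le_right (Subgroup.zpowers_le.mpr hcC)

/-- Chains restrict to subgroups. -/
theorem SSReach.subgroupOf {K : Subgroup G} (h : SSReach K) (H : Subgroup G) :
    SSReach (K.subgroupOf H) := by
  induction h with
  | bot => rw [Subgroup.bot_subgroupOf]; exact SSReach.bot
  | step K g _ hKn hK'n ih =>
    obtain ⟨c, hc, hC⟩ := exists_eq_inf_sup_zpowers K g ((K ⊔ Subgroup.zpowers g) ⊓ H) inf_le_left
    have hcH : c ∈ H := hc.2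
    have hKC : K ⊓ ((K ⊔ Subgroup.zpowers g) ⊓ H) = K ⊓ H := by
      rw [← inf_assoc, inf_of_le_left (le_sup_left : K ≤ K ⊔ Subgroup.zpowers g)]
    rw [hKC] at hC
    have e : (K ⊔ Subgroup.zpowers g).subgroupOf H =
        K.subgroupOf H ⊔ Subgroup.zpowers (⟨c, hcH⟩ : H) := by
      rw [← Subgroup.inf_subgroupOf_right (K ⊔ Subgroup.zpowers g) H, hC,
        Subgroup.subgroupOf_sup inf_le_right (Subgroup.zpowers_le.mpr hcH),
        Subgroup.inf_subgroupOf_right]
      congr 1
      ext ⟨x, hx⟩
      rw [Subgroup.mem_subgroupOf, Subgroup.mem_zpowers_iff, Subgroup.mem_zpowers_iff]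
      constructor
      · rintro ⟨k, hk⟩; exact ⟨k, Subtype.ext (by simpa using hk)⟩
      · rintro ⟨k, hk⟩; exact ⟨k, by simpa using congrArg Subtype.val hk⟩
    rw [e]
    refine SSReach.step _ _ ih inferInstance ?_
    rw [← e]; infer_instance


theorem map_inl_eq_prod_bot (K : Subgroup G) :
    K.map (MonoidHom.inl G G') = K.prod (⊥ : Subgroup G') := by
  ext ⟨a, b⟩
  simp only [Subgroup.mem_map, MonoidHom.inl_apply, Prod.mk.injEq, Subgroup.mem_prod,
    Subgroup.mem_bot]
  constructor
  · rintro ⟨x, hx, rfl, rfl⟩; exact ⟨hx, rfl⟩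
  · rintro ⟨ha, rfl⟩; exact ⟨a, ha, rfl, rfl⟩

theorem SSReach.map_inl {K : Subgroup G} (h : SSReach K) :
    SSReach (K.map (MonoidHom.inl G G')) := by
  induction h with
  | bot => rw [Subgroup.map_bot]; exact SSReach.bot
  | step K g _ hKn hK'n ih =>
    have e : (K ⊔ Subgroup.zpowers g).map (MonoidHom.inl G G') =
        K.map (MonoidHom.inl G G') ⊔ Subgroup.zpowers ((MonoidHom.inl G G') g) := by
      rw [Subgroup.map_sup, MonoidHom.map_zpowers]
    have n1 : (K.map (MonoidHom.inl G G')).Normal := by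
      rw [map_inl_eq_prod_bot]; infer_instance
    have n2 : ((K ⊔ Subgroup.zpowers g).map (MonoidHom.inl G G')).Normal := by
      rw [map_inl_eq_prod_bot]; infer_instance
    rw [e]
    exact SSReach.step _ _ ih n1 (e ▸ n2)

/-! ### Statements in terms of `Cfsg.IsSupersolvable` -/

theorem isSupersolvable_subgroup (hG : Cfsg.IsSupersolvable G) (H : Subgroup G) :
    Cfsg.IsSupersolvable H := by
  rw [isSupersolvable_iff_ssReach] at hG ⊢
  have := hG.subgroupOf H
  rwa [Subgroup.top_subgroupOf] at this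

theorem isSupersolvable_of_surjective (hG : Cfsg.IsSupersolvable G) (f : G →* G')
    (hf : Function.Surjective f) : Cfsg.IsSupersolvable G' := by
  rw [isSupersolvable_iff_ssReach] at hG ⊢
  have := hG.map f hf
  rwa [← MonoidHom.range_eq_map, MonoidHom.range_eq_top.mpr hf] at this

theorem isSupersolvable_quotient (hG : Cfsg.IsSupersolvable G) (N : Subgroup G) [N.Normal] :
    Cfsg.IsSupersolvable (G ⧸ N) :=
  isSupersolvable_of_surjective hG (QuotientGroup.mk' N) (QuotientGroup.mk'_surjective N)

theorem isSupersolvable_of_mulEquiv (hG : Cfsg.IsSupersolvable G) (e : G ≃* G') :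
    Cfsg.IsSupersolvable G' :=
  isSupersolvable_of_surjective hG e.toMonoidHom e.surjective

/-- Extension: if the kernel of a surjection has a `G`-normal chain with cyclic steps and the image
is supersolvable, then so is `G`. -/
theorem isSupersolvable_of_ssReach_ker (f : G →* G') (hf : Function.Surjective f)
    (hker : SSReach f.ker) (hG' : Cfsg.IsSupersolvable G') : Cfsg.IsSupersolvable G := by
  rw [isSupersolvable_iff_ssReach] at hG' ⊢
  have := hG'.comap f hf hker
  rwa [Subgroup.comap_top] at this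

theorem ssReach_of_isCyclic_normal (N : Subgroup G) [hN : N.Normal] [hc : IsCyclic N] :
    SSReach N := by
  obtain ⟨⟨g, hgN⟩, hg⟩ := hc.exists_generator
  have e : N = ⊥ ⊔ Subgroup.zpowers g := by
    rw [bot_sup_eq]
    apply le_antisymm
    · intro x hx
      obtain ⟨k, hk⟩ := Subgroup.mem_zpowers_iff.mp (hg ⟨x, hx⟩)
      rw [Subgroup.mem_zpowers_iff]
      exact ⟨k, by simpa using congrArg Subtype.val hk⟩
    · exact Subgroup.zpowers_le.mpr hgN
  have h := SSReach.step ⊥ g SSReach.bot inferInstance (e ▸ hN)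
  rwa [← e] at h

theorem isSupersolvable_of_cyclic_normal_of_quotient (N : Subgroup G) [N.Normal] [IsCyclic N]
    (h : Cfsg.IsSupersolvable (G ⧸ N)) : Cfsg.IsSupersolvable G := by
  apply isSupersolvable_of_ssReach_ker (QuotientGroup.mk' N) (QuotientGroup.mk'_surjective N) _ h
  rw [QuotientGroup.ker_mk']
  exact ssReach_of_isCyclic_normal N

theorem isSupersolvable_prod (hG : Cfsg.IsSupersolvable G) (hG' : Cfsg.IsSupersolvable G') :
    Cfsg.IsSupersolvable (G × G') := by
  apply isSupersolvable_of_ssReach_ker (MonoidHom.snd G G') (fun b => ⟨(1, b), rfl⟩) _ hG'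
  rw [MonoidHom.ker_snd, ← map_inl_eq_prod_bot]
  rw [isSupersolvable_iff_ssReach] at hG
  exact hG.map_inl

theorem isSupersolvable_of_isCyclic [hc : IsCyclic G] : Cfsg.IsSupersolvable G := by
  rw [isSupersolvable_iff_ssReach]
  have : IsCyclic (⊤ : Subgroup G) := by
    exact (Subgroup.topEquiv (G := G)).isCyclic.mpr hc
  exact ssReach_of_isCyclic_normal ⊤

theorem isSupersolvable_of_subsingleton [Subsingleton G] : Cfsg.IsSupersolvable G := by
  rw [isSupersolvable_iff_ssReach, Subsingleton.elim (⊤ : Subgroup G) ⊥]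
  exact SSReach.bot

end Cfsg.Agent.Helper3
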