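import Mathlib
import Cfsg.Agent.Lib.Helper3.Supersolvable

set_option autoImplicit false

/-! Supersolvable groups, part 2: normal subgroups of prime order, commutator subgroup,
maximal subgroups. -/

namespace Cfsg.Agent.Helper3

open scoped commutatorElement

universe u

variable {G : Type u} [Group G]

/-- A subgroup of a cyclic normal subgroup is normal. -/
theorem normal_of_le_zpowers (g : G) (hn : (Subgroup.zpowers g).Normal) (D : Subgroup G)
    (hD : D ≤ Subgroup.zpowers g) : D.Normal := by
  constructor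
  intro d hd x
  obtain ⟨k, rfl⟩ := Subgroup.mem_zpowers_iff.mp (hD hd)
  obtain ⟨a, ha⟩ := Subgroup.mem_zpowers_iff.mp (hn.conj_mem g (Subgroup.mem_zpowers g) x)
  have : x * g ^ k * x⁻¹ = (g ^ k) ^ a := by
    rw [← conj_zpow, ← ha, ← zpow_mul, ← zpow_mul, mul_comm]
  rw [this]; exact D.zpow_mem hd a

theorem SSReach.exists_normal_zpowers {K : Subgroup G} (h : SSReach K) (hK : K ≠ ⊥) :
    ∃ g : G, g ≠ 1 ∧ (Subgroup.zpowers g).Normal ∧ Subgroup.zpowers g ≤ K := by
  induction h with
  | bot => exact absurd rfl hK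
  | step K g _ hKn hK'n ih =>
    by_cases hKb : K = ⊥
    · subst hKb
      rw [bot_sup_eq] at hK hK'n ⊢
      refine ⟨g, ?_, hK'n, le_rfl⟩
      intro h1; exact hK (by rw [h1]; exact Subgroup.zpowers_one_eq_bot)
    · obtain ⟨g', h1, h2, h3⟩ := ih hKb
      exact ⟨g', h1, h2, h3.trans le_sup_left⟩

/-- A nontrivial finite supersolvable group has a normal subgroup of prime order. -/
theorem exists_normal_prime_card [Finite G] [Nontrivial G] (hG : Cfsg.IsSupersolvable G) :
    ∃ N : Subgroup G, N.Normal ∧ IsCyclic N ∧ (Nat.card N).Prime := by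
  rw [isSupersolvable_iff_ssReach] at hG
  obtain ⟨g, hg1, hgn, -⟩ := hG.exists_normal_zpowers top_ne_bot
  have hn1 : orderOf g ≠ 1 := fun h => hg1 (orderOf_eq_one_iff.mp h)
  have hn0 : orderOf g ≠ 0 := (orderOf_pos g).ne'
  set p := (orderOf g).minFac with hp
  have hpp : p.Prime := Nat.minFac_prime hn1
  have hpd : p ∣ orderOf g := Nat.minFac_dvd _
  obtain ⟨m, hm⟩ := hpd
  have hm0 : m ≠ 0 := by rintro rfl; rw [mul_zero] at hm; exact hn0 hm
  have hord : orderOf (g ^ m) = p := by
    rw [orderOf_pow_of_dvd hm0 ⟨p, by rw [hm, mul_comm]⟩, hm]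
    exact Nat.mul_div_cancel _ (Nat.pos_of_ne_zero hm0)
  refine ⟨Subgroup.zpowers (g ^ m), ?_, inferInstance, ?_⟩
  · apply normal_of_le_zpowers g hgn
    exact Subgroup.zpowers_le.mpr (Subgroup.npow_mem_zpowers g m)
  · rw [Nat.card_zpowers, hord]; exact hpp


/-- If `⟨g⟩` is normal then every commutator centralizes `g` (automorphisms of a cyclic group
commute). -/
theorem commute_commutatorElement_of_zpowers_normal (g : G) (hn : (Subgroup.zpowers g).Normal)
    (x y : G) : Commute ⁅x, y⁆ g := by
  have key : ∀ u v : G, Commute ((v * u)⁻¹ * (u * v)) g := by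
    intro u v
    obtain ⟨a, ha⟩ := Subgroup.mem_zpowers_iff.mp (hn.conj_mem g (Subgroup.mem_zpowers g) u)
    obtain ⟨b, hb⟩ := Subgroup.mem_zpowers_iff.mp (hn.conj_mem g (Subgroup.mem_zpowers g) v)
    have su : SemiconjBy u g (g ^ a) := by
      unfold SemiconjBy; rw [ha]; group
    have sv : SemiconjBy v g (g ^ b) := by
      unfold SemiconjBy; rw [hb]; group
    have suv : SemiconjBy (u * v) g (g ^ (a * b)) := by
      have := (su.zpow_right b).mul_left sv
      rwa [← zpow_mul] at this
    have svu : SemiconjBy (v * u) g (g ^ (a * b)) := by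
      have := (sv.zpow_right a).mul_left su
      rwa [← zpow_mul, mul_comm b a] at this
    exact svu.inv_symm_left.mul_left suv
  have e : ⁅x, y⁆ = (y⁻¹ * x⁻¹)⁻¹ * (x⁻¹ * y⁻¹) := by
    rw [commutatorElement_def]; group
  rw [e]
  exact key x⁻¹ y⁻¹

/-- If `⟨g⟩` is normal then the commutator subgroup centralizes it. -/
theorem commutator_le_centralizer_zpowers (g : G) (hn : (Subgroup.zpowers g).Normal) :
    commutator G ≤ Subgroup.centralizer (Subgroup.zpowers g : Set G) := by
  rw [commutator_eq_closure, Subgroup.closure_le]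
  rintro _ ⟨x, y, rfl⟩
  rw [SetLike.mem_coe, Subgroup.mem_centralizer_iff]
  intro h hh
  obtain ⟨k, rfl⟩ := Subgroup.mem_zpowers_iff.mp hh
  exact ((commute_commutatorElement_of_zpowers_normal g hn x y).zpow_right k).eq.symm

/-- `[G', K ⊔ ⟨g⟩] ≤ K` when both `K` and `K ⊔ ⟨g⟩` are normal. -/
theorem commutatorElement_mem_of_sup_zpowers (K : Subgroup G) [hK : K.Normal] (g : G)
    (hK' : (K ⊔ Subgroup.zpowers g).Normal) (c : G) (hc : c ∈ commutator G) (b : G)
    (hb : b ∈ K ⊔ Subgroup.zpowers g) : ⁅c, b⁆ ∈ K := by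
  set φ := QuotientGroup.mk' K with hφ
  have hφs : Function.Surjective φ := QuotientGroup.mk'_surjective K
  have hmap : (K ⊔ Subgroup.zpowers g).map φ = Subgroup.zpowers (φ g) := by
    rw [Subgroup.map_sup, MonoidHom.map_zpowers, QuotientGroup.map_mk'_self, bot_sup_eq]
  have hn : (Subgroup.zpowers (φ g)).Normal := hmap ▸ hK'.map φ hφs
  have hc' : φ c ∈ commutator (G ⧸ K) := by
    have h1 : φ c ∈ (commutator G).map φ := Subgroup.mem_map_of_mem _ hc
    rw [commutator_def, Subgroup.map_commutator] at h1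
    rw [commutator_def]
    exact Subgroup.commutator_mono le_top le_top h1
  have hb' : φ b ∈ Subgroup.zpowers (φ g) := by
    rw [← hmap]; exact Subgroup.mem_map_of_mem _ hb
  have hcomm := Subgroup.mem_centralizer_iff.mp
    (commutator_le_centralizer_zpowers (φ g) hn hc') (φ b) hb'
  rw [← QuotientGroup.ker_mk' K, MonoidHom.mem_ker, map_commutatorElement,
    commutatorElement_eq_one_iff_mul_comm]
  exact hcomm.symm

theorem SSReach.exists_le_upperCentralSeries {K : Subgroup G} (h : SSReach K) :
    ∃ n : ℕ, K.subgroupOf (commutator G) ≤ Subgroup.upperCentralSeries (commutator G) n := by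
  induction h with
  | bot => exact ⟨0, by rw [Subgroup.bot_subgroupOf]; exact bot_le⟩
  | step K g _ hKn hK'n ih =>
    obtain ⟨n, hn⟩ := ih
    refine ⟨n + 1, ?_⟩
    intro x hx
    rw [Subgroup.mem_upperCentralSeries_succ_iff]
    intro y
    apply hn
    rw [Subgroup.mem_subgroupOf] at hx ⊢
    have h1 := commutatorElement_mem_of_sup_zpowers K g hK'n (y : G) y.2 (x : G) hx
    have e : ((⁅x, y⁆ : commutator G) : G) = (⁅(y : G), (x : G)⁆)⁻¹ := by
      rw [commutatorElement_inv]; rfl
    rw [e]; exact K.inv_mem h1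

/-- The commutator subgroup of a supersolvable group is nilpotent. -/
theorem isNilpotent_commutator_of_isSupersolvable (hG : Cfsg.IsSupersolvable G) :
    Group.IsNilpotent (commutator G) := by
  rw [isSupersolvable_iff_ssReach] at hG
  obtain ⟨n, hn⟩ := hG.exists_le_upperCentralSeries
  rw [Group.isNilpotent_iff]
  refine ⟨n, ?_⟩
  rw [Subgroup.top_subgroupOf] at hn
  exact top_le_iff.mp hn


/-- Image of a maximal subgroup containing `N` in the quotient by `N` is maximal. -/
theorem isCoatom_map_mk' (N : Subgroup G) [N.Normal] (M : Subgroup G) (hM : IsCoatom M)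
    (hNM : N ≤ M) : IsCoatom (M.map (QuotientGroup.mk' N)) := by
  have hs : Function.Surjective (QuotientGroup.mk' N) := QuotientGroup.mk'_surjective N
  have hcm : (M.map (QuotientGroup.mk' N)).comap (QuotientGroup.mk' N) = M := by
    rw [Subgroup.comap_map_eq, QuotientGroup.ker_mk', sup_of_le_left hNM]
  constructor
  · intro h
    apply hM.1
    rw [← hcm, h, Subgroup.comap_top]
  · intro L hL
    have h1 : M ≤ L.comap (QuotientGroup.mk' N) := by
      rw [← hcm]; exact Subgroup.comap_mono hL.le
    have h2 : M ≠ L.comap (QuotientGroup.mk' N) := by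
      intro h
      apply hL.ne
      rw [h, Subgroup.map_comap_eq_self_of_surjective hs]
    have h3 := hM.2 _ (lt_of_le_of_ne h1 h2)
    rw [← Subgroup.map_comap_eq_self_of_surjective hs L, h3, ← MonoidHom.range_eq_map,
      MonoidHom.range_eq_top.mpr hs]

theorem index_map_mk' (N : Subgroup G) [N.Normal] (M : Subgroup G) (hNM : N ≤ M) :
    (M.map (QuotientGroup.mk' N)).index = M.index := by
  rw [Subgroup.index_map, QuotientGroup.ker_mk', sup_of_le_left hNM,
    MonoidHom.range_eq_top.mpr (QuotientGroup.mk'_surjective N), Subgroup.index_top, mul_one]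

theorem card_quotient_lt [Finite G] (N : Subgroup G) (hN : 1 < Nat.card N) :
    Nat.card (G ⧸ N) < Nat.card G := by
  rw [Subgroup.card_eq_card_quotient_mul_card_subgroup N]
  have : 0 < Nat.card (G ⧸ N) := Nat.card_pos
  nlinarith

/-- Maximal subgroups of finite supersolvable groups have prime index. -/
theorem index_prime_of_isCoatom_aux (n : ℕ) : ∀ (G : Type u) [Group G] [Finite G],
    Nat.card G = n → Cfsg.IsSupersolvable G → ∀ M : Subgroup G, IsCoatom M → M.index.Prime := by
  induction n using Nat.strong_induction_on with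
  | _ n ih =>
  intro G _ _ hcard hG M hM
  have hnt : Nontrivial G := by
    by_contra h
    rw [not_nontrivial_iff_subsingleton] at h
    exact hM.1 (Subsingleton.elim _ _)
  obtain ⟨N, hNn, hNc, hNp⟩ := exists_normal_prime_card hG
  by_cases hNM : N ≤ M
  · have hlt : Nat.card (G ⧸ N) < n := hcard ▸ card_quotient_lt N hNp.one_lt
    have := ih _ hlt (G ⧸ N) rfl (isSupersolvable_quotient hG N) _ (isCoatom_map_mk' N M hM hNM)
    rwa [index_map_mk' N M hNM] at this
  · have hsup : N ⊔ M = ⊤ := by
      apply hM.2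
      exact lt_of_le_of_ne le_sup_right (fun h => hNM (h ▸ le_sup_left))
    have hinf : N ⊓ M = ⊥ := by
      have hdvd : Nat.card (N ⊓ M : Subgroup G) ∣ Nat.card N := Subgroup.card_dvd_of_le inf_le_left
      rcases (Nat.dvd_prime hNp).mp hdvd with h1 | h1
      · exact Subgroup.card_eq_one.mp h1
      · exfalso
        apply hNM
        have : N ⊓ M = N := Subgroup.eq_of_le_of_card_ge inf_le_left h1.ge
        rw [← this]; exact inf_le_right
    have hcompl : Subgroup.IsComplement' N M := by
      apply Subgroup.isComplement'_of_disjoint_and_mul_eq_univ (disjoint_iff.mpr hinf)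
      rw [← Subgroup.normal_mul, hsup, Subgroup.coe_top]
    rw [hcompl.index_eq_card]
    exact hNp

theorem index_prime_of_isCoatom [Finite G] (hG : Cfsg.IsSupersolvable G) (M : Subgroup G)
    (hM : IsCoatom M) : M.index.Prime :=
  index_prime_of_isCoatom_aux _ G rfl hG M hM

end Cfsg.Agent.Helper3
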