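import Mathlib
import Cfsg.Agent.Lib.Helper3.Supersolvable2

set_option autoImplicit false

/-! Supersolvable groups, part 3: converse of Lagrange, ordered chief series. -/

namespace Cfsg.Agent.Helper3

universe u

variable {G : Type u} [Group G]

theorem card_comap_mk' [Finite G] (N : Subgroup G) [N.Normal] (K : Subgroup (G ⧸ N)) :
    Nat.card (K.comap (QuotientGroup.mk' N)) = Nat.card K * Nat.card N := by
  have h1 : (K.comap (QuotientGroup.mk' N)).index = K.index :=
    Subgroup.index_comap_of_surjective K (QuotientGroup.mk'_surjective N)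
  have h2 := Subgroup.card_mul_index (K.comap (QuotientGroup.mk' N))
  have h3 := Subgroup.card_mul_index K
  have h4 := Subgroup.card_eq_card_quotient_mul_card_subgroup N
  have hpos : 0 < K.index := Nat.pos_of_ne_zero Subgroup.index_ne_zero_of_finite
  rw [h1] at h2
  have : Nat.card (K.comap (QuotientGroup.mk' N)) * K.index =
      (Nat.card K * Nat.card N) * K.index := by
    rw [h2, h4, ← h3]; ring
  exact Nat.eq_of_mul_eq_mul_right hpos this

/-- A finite supersolvable group has a subgroup of every order dividing its order. -/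
theorem exists_subgroup_card_aux (n : ℕ) : ∀ (G : Type u) [Group G] [Finite G],
    Nat.card G = n → Cfsg.IsSupersolvable G → ∀ d : ℕ, d ∣ n → ∃ H : Subgroup G, Nat.card H = d := by
  induction n using Nat.strong_induction_on with
  | _ n ih =>
  intro G _ _ hcard hG d hd
  by_cases hnt : Nontrivial G
  · obtain ⟨N, hNn, hNc, hNp⟩ := exists_normal_prime_card hG
    set p := Nat.card N with hp
    have hlt : Nat.card (G ⧸ N) < n := hcard ▸ card_quotient_lt N hNp.one_lt
    have hmul : n = Nat.card (G ⧸ N) * p := by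
      rw [← hcard]; exact Subgroup.card_eq_card_quotient_mul_card_subgroup N
    have hQ := isSupersolvable_quotient hG N
    by_cases hpd : p ∣ d
    · obtain ⟨d', rfl⟩ := hpd
      have hd' : d' ∣ Nat.card (G ⧸ N) := by
        rw [hmul, mul_comm p d'] at hd
        exact Nat.dvd_of_mul_dvd_mul_right hNp.pos hd
      obtain ⟨K, hK⟩ := ih _ hlt (G ⧸ N) rfl hQ d' hd'
      refine ⟨K.comap (QuotientGroup.mk' N), ?_⟩
      rw [card_comap_mk', hK, mul_comm]
    · have hcop : Nat.Coprime d p := (Nat.Coprime.symm ((Nat.Prime.coprime_iff_not_dvd hNp).mpr hpd))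
      have hd' : d ∣ Nat.card (G ⧸ N) := by
        rw [hmul] at hd
        exact hcop.dvd_of_dvd_mul_right hd
      obtain ⟨K, hK⟩ := ih _ hlt (G ⧸ N) rfl hQ d hd'
      set L := K.comap (QuotientGroup.mk' N) with hL
      have hLcard : Nat.card L = d * p := by rw [hL, card_comap_mk', hK]
      have hNL : N ≤ L := by
        have := Subgroup.ker_le_comap (QuotientGroup.mk' N) K
        rwa [QuotientGroup.ker_mk'] at this
      have hN'card : Nat.card (N.subgroupOf L) = p :=
        Nat.card_congr (Subgroup.subgroupOfEquivOfLe hNL).toEquiv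
      have hidx : (N.subgroupOf L).index = d := by
        have := Subgroup.card_mul_index (N.subgroupOf L)
        rw [hN'card, hLcard, mul_comm d p] at this
        exact Nat.eq_of_mul_eq_mul_left hNp.pos this
      have hcop' : Nat.Coprime (Nat.card (N.subgroupOf L)) (N.subgroupOf L).index := by
        rw [hN'card, hidx]; exact hcop.symm
      obtain ⟨H', hH'⟩ := Subgroup.exists_right_complement'_of_coprime hcop'
      refine ⟨H'.map L.subtype, ?_⟩
      rw [Subgroup.card_map_of_injective (Subgroup.subtype_injective L)]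
      have := hH'.card_mul
      rw [hN'card, hLcard, mul_comm d p] at this
      exact Nat.eq_of_mul_eq_mul_left hNp.pos this
  · rw [not_nontrivial_iff_subsingleton] at hnt
    have h1 : n = 1 := by rw [← hcard]; exact Nat.card_eq_one_iff_unique.mpr ⟨hnt, ⟨1⟩⟩
    rw [h1, Nat.dvd_one] at hd
    exact ⟨⊥, by rw [hd]; exact Subgroup.card_bot⟩

theorem hasSubgroupOfEveryOrder_of_isSupersolvable [Finite G] (hG : Cfsg.IsSupersolvable G) :
    Cfsg.HasSubgroupOfEveryOrder G :=
  fun d hd => exists_subgroup_card_aux _ G rfl hG d hd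


/-- In a group of order `p * r` with `r < p` primes, the Sylow `p`-subgroup is characteristic of
order `p`. Stated for a normal subgroup `K` of `G`: it contains a normal subgroup of `G` of
order `p`. -/
theorem exists_normal_card_eq_of_card_eq_mul [Finite G] (K : Subgroup G) [K.Normal] (p r : ℕ)
    (hp : p.Prime) (hr : r.Prime) (hrp : r < p) (hK : Nat.card K = p * r) :
    ∃ N : Subgroup G, N.Normal ∧ Nat.card N = p := by
  have : Fact p.Prime := ⟨hp⟩
  obtain ⟨P⟩ : Nonempty (Sylow p K) := inferInstance
  have hfac : (Nat.card K).factorization p = 1 := by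
    rw [hK, Nat.factorization_mul hp.ne_zero hr.ne_zero]
    have h1 : r.factorization p = 0 := by
      apply Nat.factorization_eq_zero_of_not_dvd
      intro hdvd
      have := (Nat.prime_dvd_prime_iff_eq hp hr).mp hdvd
      omega
    simp [hp.factorization_self, h1]
  have hPcard : Nat.card (P : Subgroup K) = p := by
    rw [P.card_eq_multiplicity, hfac, pow_one]
  have hidx : (P : Subgroup K).index = r := by
    have := Subgroup.card_mul_index (P : Subgroup K)
    rw [hPcard, hK] at this
    exact Nat.eq_of_mul_eq_mul_left hp.pos this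
  have hdvd : Nat.card (Sylow p K) ∣ r := hidx ▸ P.card_dvd_index
  have hmod : Nat.card (Sylow p K) ≡ 1 [MOD p] := card_sylow_modEq_one p K
  have hle : Nat.card (Sylow p K) ≤ r := Nat.le_of_dvd hr.pos hdvd
  have hone : Nat.card (Sylow p K) = 1 := by
    have h1 : Nat.card (Sylow p K) % p = 1 % p := hmod
    rw [Nat.mod_eq_of_lt (by omega), Nat.mod_eq_of_lt hp.one_lt] at h1
    exact h1
  have hsub : Subsingleton (Sylow p K) := (Nat.card_eq_one_iff_unique.mp hone).1
  have hchar : (P : Subgroup K).Characteristic := Sylow.characteristic_of_subsingleton P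
  refine ⟨(P : Subgroup K).map K.subtype, ConjAct.normal_of_characteristic_of_normal, ?_⟩
  rw [Subgroup.card_map_of_injective (Subgroup.subtype_injective K), hPcard]

/-- A nontrivial finite supersolvable group has a normal subgroup of order `p`, where `p` is the
largest prime dividing the group order. -/
theorem exists_normal_card_eq_max_prime_aux (n : ℕ) : ∀ (G : Type u) [Group G] [Finite G],
    Nat.card G = n → Cfsg.IsSupersolvable G → ∀ p : ℕ, p.Prime → p ∣ n →
    (∀ q : ℕ, q.Prime → q ∣ n → q ≤ p) → ∃ N : Subgroup G, N.Normal ∧ Nat.card N = p := by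
  induction n using Nat.strong_induction_on with
  | _ n ih =>
  intro G _ _ hcard hG p hp hpn hmax
  have hnt : Nontrivial G := by
    by_contra h
    rw [not_nontrivial_iff_subsingleton] at h
    have h1 : n = 1 := by rw [← hcard]; exact Nat.card_eq_one_iff_unique.mpr ⟨h, ⟨1⟩⟩
    rw [h1, Nat.dvd_one] at hpn
    exact hp.one_lt.ne' hpn
  obtain ⟨N₀, hNn, hNc, hNp⟩ := exists_normal_prime_card hG
  set r := Nat.card N₀ with hr
  by_cases hrp : r = p
  · exact ⟨N₀, hNn, hrp⟩
  have hlt : Nat.card (G ⧸ N₀) < n := hcard ▸ card_quotient_lt N₀ hNp.one_lt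
  have hmul : n = Nat.card (G ⧸ N₀) * r := by
    rw [← hcard]; exact Subgroup.card_eq_card_quotient_mul_card_subgroup N₀
  have hrn : r ∣ n := hmul ▸ Dvd.intro_left _ rfl
  have hrlt : r < p := lt_of_le_of_ne (hmax r hNp hrn) hrp
  have hpQ : p ∣ Nat.card (G ⧸ N₀) := by
    rw [hmul] at hpn
    rcases (Nat.Prime.dvd_mul hp).mp hpn with h | h
    · exact h
    · exact absurd ((Nat.prime_dvd_prime_iff_eq hp hNp).mp h) (Ne.symm hrp)
  have hmaxQ : ∀ q : ℕ, q.Prime → q ∣ Nat.card (G ⧸ N₀) → q ≤ p := by
    intro q hq hqd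
    exact hmax q hq (hmul ▸ Dvd.dvd.mul_right hqd r)
  obtain ⟨K, hKn, hKcard⟩ := ih _ hlt (G ⧸ N₀) rfl (isSupersolvable_quotient hG N₀) p hp hpQ hmaxQ
  have hcard' : Nat.card (K.comap (QuotientGroup.mk' N₀)) = p * r := by
    rw [card_comap_mk', hKcard]
  have : (K.comap (QuotientGroup.mk' N₀)).Normal := hKn.comap _
  exact exists_normal_card_eq_of_card_eq_mul (K.comap (QuotientGroup.mk' N₀)) p r hp hNp hrlt hcard'


theorem relIndex_comap_comap_mk' (N : Subgroup G) [N.Normal] (A B : Subgroup (G ⧸ N)) :
    (A.comap (QuotientGroup.mk' N)).relIndex (B.comap (QuotientGroup.mk' N)) = A.relIndex B := by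
  rw [Subgroup.relIndex_comap,
    Subgroup.map_comap_eq_self_of_surjective (QuotientGroup.mk'_surjective N)]

/-- A finite supersolvable group has a chain of normal subgroups with prime indices which do not
increase going up. -/
theorem exists_ordered_chain_aux (n : ℕ) : ∀ (G : Type u) [Group G] [Finite G],
    Nat.card G = n → Cfsg.IsSupersolvable G →
    ∃ (m : ℕ) (H : Fin (m + 1) → Subgroup G), H 0 = ⊥ ∧ H (Fin.last m) = ⊤ ∧
      (∀ i, (H i).Normal) ∧
      (∀ i : Fin m, H i.castSucc ≤ H i.succ ∧ ((H i.castSucc).relIndex (H i.succ)).Prime) ∧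
      ∀ i j : Fin m, i ≤ j →
        (H j.castSucc).relIndex (H j.succ) ≤ (H i.castSucc).relIndex (H i.succ) := by
  induction n using Nat.strong_induction_on with
  | _ n ih =>
  intro G _ _ hcard hG
  by_cases hnt : Nontrivial G
  · -- the largest prime divisor
    have hn1 : n ≠ 1 := by
      intro h1
      rw [h1] at hcard
      exact not_subsingleton G (Nat.card_eq_one_iff_unique.mp hcard).1
    have hn0 : n ≠ 0 := by rw [← hcard]; exact Nat.card_pos.ne'
    have hne : n.primeFactors.Nonempty := by
      refine ⟨n.minFac, Nat.mem_primeFactors.mpr ⟨Nat.minFac_prime hn1, Nat.minFac_dvd n, hn0⟩⟩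
    set p := n.primeFactors.max' hne with hp
    have hpmem := Finset.max'_mem n.primeFactors hne
    rw [← hp, Nat.mem_primeFactors] at hpmem
    obtain ⟨hpp, hpn, -⟩ := hpmem
    have hmax : ∀ q : ℕ, q.Prime → q ∣ n → q ≤ p := fun q hq hqn =>
      Finset.le_max' _ _ (Nat.mem_primeFactors.mpr ⟨hq, hqn, hn0⟩)
    obtain ⟨N, hNn, hNcard⟩ := exists_normal_card_eq_max_prime_aux n G hcard hG p hpp hpn hmax
    have hlt : Nat.card (G ⧸ N) < n := hcard ▸ card_quotient_lt N (hNcard ▸ hpp.one_lt)
    obtain ⟨m, H, h0, hlast, hnorm, hstep, hord⟩ :=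
      ih _ hlt (G ⧸ N) rfl (isSupersolvable_quotient hG N)
    let H' : Fin (m + 1 + 1) → Subgroup G :=
      Fin.cons (α := fun _ => Subgroup G) ⊥ (fun i => (H i).comap (QuotientGroup.mk' N))
    have hH'0 : H' 0 = ⊥ := rfl
    have hH's : ∀ i : Fin (m + 1), H' i.succ = (H i).comap (QuotientGroup.mk' N) := fun i => rfl
    have hH'1 : H' (Fin.succ 0) = N := by
      rw [hH's, h0, MonoidHom.comap_bot, QuotientGroup.ker_mk']
    -- relIndex of the steps
    have hr0 : (H' (Fin.castSucc 0)).relIndex (H' (Fin.succ 0)) = p := by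
      rw [Fin.castSucc_zero, hH'0, hH'1, Subgroup.relIndex_bot_left, hNcard]
    have hrs : ∀ j : Fin m, (H' j.succ.castSucc).relIndex (H' j.succ.succ) =
        (H j.castSucc).relIndex (H j.succ) := by
      intro j
      rw [← Fin.succ_castSucc, hH's, hH's, relIndex_comap_comap_mk']
    have hstep' : ∀ i : Fin (m + 1), H' i.castSucc ≤ H' i.succ ∧
        ((H' i.castSucc).relIndex (H' i.succ)).Prime := by
      intro i
      refine Fin.cases ?_ (fun j => ?_) i
      · refine ⟨?_, ?_⟩
        · rw [Fin.castSucc_zero, hH'0]; exact bot_le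
        · rw [hr0]; exact hpp
      · refine ⟨?_, ?_⟩
        · rw [← Fin.succ_castSucc, hH's, hH's]
          exact Subgroup.comap_mono (hstep j).1
        · rw [hrs]; exact (hstep j).2
    refine ⟨m + 1, H', hH'0, ?_, ?_, hstep', ?_⟩
    · rw [← Fin.succ_last, hH's, hlast, Subgroup.comap_top]
    · intro i
      refine Fin.cases ?_ (fun j => ?_) i
      · rw [hH'0]; infer_instance
      · rw [hH's]; exact (hnorm j).comap _
    · intro i j
      refine Fin.cases ?_ (fun i' => ?_) i
      · intro _
        rw [hr0]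
        apply hmax _ (hstep' j).2
        rw [← hcard]
        exact (Subgroup.relIndex_dvd_card _ _).trans (Subgroup.card_subgroup_dvd_card _)
      · refine Fin.cases ?_ (fun j' => ?_) j
        · intro hle
          exact absurd hle (by simp [Fin.succ_ne_zero])
        · intro hle
          rw [hrs, hrs]
          exact hord i' j' (Fin.succ_le_succ_iff.mp hle)
  · rw [not_nontrivial_iff_subsingleton] at hnt
    refine ⟨0, fun _ => ⊥, rfl, Subsingleton.elim _ _, fun _ => inferInstance,
      fun i => i.elim0, fun i => i.elim0⟩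

end Cfsg.Agent.Helper3
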