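import Mathlib
import Cfsg.Agent.Lib.Helper3.PrimSolv
import Cfsg.Agent.Lib.Helper3.Supersolvable3

set_option autoImplicit false

/-! Existence of Hall subgroups in finite solvable groups. -/

namespace Cfsg.Agent.Helper3

universe u

/-- A nontrivial finite group has a minimal normal subgroup. -/
theorem exists_minimal_normal {G : Type u} [Group G] [Finite G] [Nontrivial G] :
    ∃ N : Subgroup G, N.Normal ∧ N ≠ ⊥ ∧
      ∀ K : Subgroup G, K.Normal → K ≤ N → K = ⊥ ∨ K = N := by
  have htop : (⊤ : Subgroup G).Normal ∧ (⊤ : Subgroup G) ≠ ⊥ := ⟨inferInstance, top_ne_bot⟩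
  obtain ⟨N, -, hN⟩ := Finite.exists_le_minimal (p := fun K : Subgroup G => K.Normal ∧ K ≠ ⊥) htop
  refine ⟨N, hN.prop.1, hN.prop.2, ?_⟩
  intro K hKn hKN
  by_cases hK : K = ⊥
  · exact Or.inl hK
  · exact Or.inr (le_antisymm hKN (hN.le_of_le ⟨hKn, hK⟩ hKN))

/-- **Hall's theorem** (existence): a finite solvable group of order `a * b` with `a`, `b` coprime
has a subgroup of order `a`. -/
theorem exists_hall_subgroup_aux (n : ℕ) : ∀ (G : Type u) [Group G] [Finite G]
    [Group.IsSolvable G] (a b : ℕ), Nat.card G = n → n = a * b → a.Coprime b →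
    ∃ H : Subgroup G, Nat.card H = a := by
  induction n using Nat.strong_induction_on with
  | _ n ih =>
  intro G _ _ _ a b hcard hab hcop
  by_cases hnt : Nontrivial G
  · obtain ⟨N, hNn, hNbot, hNmin⟩ := exists_minimal_normal (G := G)
    have hc := commute_of_minimal_normal N hNbot hNmin
    obtain ⟨p, k, hp, hk, hNcard, -⟩ := card_eq_prime_pow_of_minimal_normal N hNbot hNmin hc
    have hlt : Nat.card (G ⧸ N) < n := by
      rw [← hcard]
      apply card_quotient_lt
      rw [hNcard]
      exact Nat.one_lt_pow hk.ne' hp.one_lt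
    have hmul : a * b = Nat.card (G ⧸ N) * p ^ k := by
      rw [← hab, ← hcard, ← hNcard]; exact Subgroup.card_eq_card_quotient_mul_card_subgroup N
    have hpk : p ^ k ∣ a * b := ⟨Nat.card (G ⧸ N), by rw [hmul, mul_comm]⟩
    by_cases hpa : p ∣ a
    · -- p^k divides a
      have hpb : Nat.Coprime (p ^ k) b := by
        apply Nat.Coprime.pow_left
        exact Nat.Coprime.coprime_dvd_left hpa hcop
      have hpka : p ^ k ∣ a := by
        rw [mul_comm] at hpk
        exact hpb.dvd_of_dvd_mul_left hpk
      obtain ⟨a', rfl⟩ := hpka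
      have hQ : Nat.card (G ⧸ N) = a' * b := by
        have : (a' * b) * p ^ k = Nat.card (G ⧸ N) * p ^ k := by rw [← hmul]; ring
        exact (Nat.eq_of_mul_eq_mul_right (pow_pos hp.pos k) this).symm
      have hcop' : Nat.Coprime a' b := Nat.Coprime.coprime_dvd_left ⟨p ^ k, mul_comm _ _⟩ hcop
      obtain ⟨K, hK⟩ := ih _ hlt (G ⧸ N) a' b rfl hQ hcop'
      refine ⟨K.comap (QuotientGroup.mk' N), ?_⟩
      rw [card_comap_mk', hK, hNcard, mul_comm]
    · -- p^k divides b
      have hpa' : Nat.Coprime (p ^ k) a := by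
        apply Nat.Coprime.pow_left
        exact (Nat.Prime.coprime_iff_not_dvd hp).mpr hpa
      have hpkb : p ^ k ∣ b := hpa'.dvd_of_dvd_mul_left hpk
      obtain ⟨b', rfl⟩ := hpkb
      have hQ : Nat.card (G ⧸ N) = a * b' := by
        have : (a * b') * p ^ k = Nat.card (G ⧸ N) * p ^ k := by rw [← hmul]; ring
        exact (Nat.eq_of_mul_eq_mul_right (pow_pos hp.pos k) this).symm
      have hcop' : Nat.Coprime a b' := Nat.Coprime.coprime_dvd_right ⟨p ^ k, mul_comm _ _⟩ hcop
      obtain ⟨K, hK⟩ := ih _ hlt (G ⧸ N) a b' rfl hQ hcop'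
      set L := K.comap (QuotientGroup.mk' N) with hL
      have hLcard : Nat.card L = a * p ^ k := by rw [hL, card_comap_mk', hK, hNcard]
      have hNL : N ≤ L := by
        have := Subgroup.ker_le_comap (QuotientGroup.mk' N) K
        rwa [QuotientGroup.ker_mk'] at this
      have hN'card : Nat.card (N.subgroupOf L) = p ^ k :=
        (Nat.card_congr (Subgroup.subgroupOfEquivOfLe hNL).toEquiv).trans hNcard
      have hidx : (N.subgroupOf L).index = a := by
        have := Subgroup.card_mul_index (N.subgroupOf L)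
        rw [hN'card, hLcard, mul_comm a (p ^ k)] at this
        exact Nat.eq_of_mul_eq_mul_left (pow_pos hp.pos k) this
      have hcop'' : Nat.Coprime (Nat.card (N.subgroupOf L)) (N.subgroupOf L).index := by
        rw [hN'card, hidx]; exact hpa'
      obtain ⟨H', hH'⟩ := Subgroup.exists_right_complement'_of_coprime hcop''
      refine ⟨H'.map L.subtype, ?_⟩
      rw [Subgroup.card_map_of_injective (Subgroup.subtype_injective L)]
      have := hH'.card_mul
      rw [hN'card, hLcard, mul_comm a (p ^ k)] at this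
      exact Nat.eq_of_mul_eq_mul_left (pow_pos hp.pos k) this
  · rw [not_nontrivial_iff_subsingleton] at hnt
    have h1 : n = 1 := by rw [← hcard]; exact Nat.card_eq_one_iff_unique.mpr ⟨hnt, ⟨1⟩⟩
    have ha : a = 1 := by
      rw [h1] at hab
      exact Nat.eq_one_of_mul_eq_one_right hab.symm
    exact ⟨⊥, by rw [ha]; exact Subgroup.card_bot⟩

theorem exists_hall_subgroup {G : Type u} [Group G] [Finite G] [Group.IsSolvable G] (a b : ℕ)
    (hab : Nat.card G = a * b) (hcop : a.Coprime b) : ∃ H : Subgroup G, Nat.card H = a :=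
  exists_hall_subgroup_aux _ G a b rfl hab hcop

end Cfsg.Agent.Helper3
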