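import Mathlib
import Cfsg.Agent.Lib.Helper3.Hall
import Cfsg.Agent.Lib.Helper3.CLT

set_option autoImplicit false

/-! Abelian groups satisfy the converse of Lagrange; products `G × A` with `G` solvable. -/

namespace Cfsg.Agent.Helper3

universe u v

/-- Finite abelian groups are supersolvable. -/
theorem isSupersolvable_of_commGroup_aux (n : ℕ) : ∀ (A : Type u) [CommGroup A] [Finite A],
    Nat.card A = n → Cfsg.IsSupersolvable A := by
  induction n using Nat.strong_induction_on with
  | _ n ih =>
  intro A _ _ hcard
  by_cases hnt : Nontrivial A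
  · obtain ⟨g, hg⟩ := exists_ne (1 : A)
    have hlt : Nat.card (A ⧸ Subgroup.zpowers g) < n := by
      rw [← hcard]
      apply card_quotient_lt
      rw [Nat.card_zpowers]
      have := orderOf_pos g
      have : orderOf g ≠ 1 := fun h => hg (orderOf_eq_one_iff.mp h)
      omega
    have := ih _ hlt (A ⧸ Subgroup.zpowers g) rfl
    exact isSupersolvable_of_cyclic_normal_of_quotient (Subgroup.zpowers g) this
  · rw [not_nontrivial_iff_subsingleton] at hnt
    exact isSupersolvable_of_subsingleton

theorem hasSubgroupOfEveryOrder_of_commGroup {A : Type u} [CommGroup A] [Finite A] :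
    Cfsg.HasSubgroupOfEveryOrder A :=
  hasSubgroupOfEveryOrder_of_isSupersolvable (isSupersolvable_of_commGroup_aux _ A rfl)

theorem hasSubgroupOfEveryOrder_prod {G : Type u} {A : Type v} [Group G] [CommGroup A] [Finite G]
    [Finite A] [Group.IsSolvable G]
    (hA : ∀ p : ℕ, p.Prime → p ∣ Nat.card A → p ∣ Nat.card G)
    (hexp : ∀ p : ℕ, p.Prime → p ∣ Nat.card G →
      (Nat.card A).factorization p + 1 = (Nat.card G).factorization p) :
    Cfsg.HasSubgroupOfEveryOrder (G × A) := by
  classical
  intro d hd
  rw [Nat.card_prod] at hd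
  set g := Nat.card G with hg
  set α := Nat.card A with hα
  have hg0 : g ≠ 0 := Nat.card_pos.ne'
  have hα0 : α ≠ 0 := Nat.card_pos.ne'
  have hd0 : d ≠ 0 := by
    rintro rfl
    rw [zero_dvd_iff] at hd
    exact (mul_ne_zero hg0 hα0) hd
  set f := g.factorization with hf
  set S := f.filter (fun p => f p ≤ d.factorization p) with hS
  set a := S.prod (fun x1 x2 => x1 ^ x2) with ha
  have hSprime : ∀ p ∈ S.support, Nat.Prime p := by
    intro p hp
    rw [hS, Finsupp.support_filter, Finset.mem_filter, hf, Nat.support_factorization] at hp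
    exact Nat.prime_of_mem_primeFactors hp.1
  have hafac : a.factorization = S := Nat.prod_pow_factorization_eq_self hSprime
  have ha0 : a ≠ 0 := by
    rw [ha, Finsupp.prod_ne_zero_iff]
    intro p hp
    exact pow_ne_zero _ (hSprime p hp).ne_zero
  have hSapp : ∀ p, S p = if f p ≤ d.factorization p then f p else 0 := by
    intro p; rw [hS, Finsupp.filter_apply]
  have hag : a ∣ g := by
    rw [← Nat.factorization_le_iff_dvd ha0 hg0, hafac]
    intro p
    rw [hSapp]
    split_ifs <;> simp [hf]
  have had : a ∣ d := by
    rw [← Nat.factorization_le_iff_dvd ha0 hd0, hafac]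
    intro p
    rw [hSapp]
    split_ifs with h
    · exact h
    · exact Nat.zero_le _
  have hb0 : g / a ≠ 0 := by
    intro h
    have := Nat.div_mul_cancel hag
    rw [h, zero_mul] at this
    exact hg0 this.symm
  have hcop : Nat.Coprime a (g / a) := by
    apply Nat.coprime_of_dvd
    intro q hq hqa hqb
    have h1 : 1 ≤ a.factorization q := (hq.dvd_iff_one_le_factorization ha0).mp hqa
    have h2 : 1 ≤ (g / a).factorization q := (hq.dvd_iff_one_le_factorization hb0).mp hqb
    rw [Nat.factorization_div hag, hafac] at h2
    rw [hafac] at h1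
    rw [Finsupp.tsub_apply] at h2
    rw [hSapp] at h1 h2
    split_ifs at h1 h2 with h
    · simp [hf] at h2
    · omega
  have hgab : g = a * (g / a) := (Nat.mul_div_cancel' hag).symm
  obtain ⟨H, hH⟩ := exists_hall_subgroup (G := G) a (g / a) hgab hcop
  -- the part in A
  have hda0 : d / a ≠ 0 := by
    intro h
    have := Nat.div_mul_cancel had
    rw [h, zero_mul] at this
    exact hd0 this.symm
  have hdα : d / a ∣ α := by
    rw [← Nat.factorization_prime_le_iff_dvd hda0 hα0]
    intro q hq
    rw [Nat.factorization_div had, hafac, Finsupp.tsub_apply, hSapp]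
    have hdq : d.factorization q ≤ f q + α.factorization q := by
      have := (Nat.factorization_le_iff_dvd hd0 (mul_ne_zero hg0 hα0)).mpr hd q
      rwa [Nat.factorization_mul hg0 hα0, Finsupp.add_apply] at this
    by_cases hqg : q ∣ g
    · have := hexp q hq hqg
      split_ifs with h
      · omega
      · omega
    · have hfq : f q = 0 := Nat.factorization_eq_zero_of_not_dvd hqg
      have hαq : α.factorization q = 0 := by
        apply Nat.factorization_eq_zero_of_not_dvd
        intro h; exact hqg (hA q hq h)
      split_ifs with h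
      · omega
      · omega
  obtain ⟨B, hB⟩ := hasSubgroupOfEveryOrder_of_commGroup (A := A) (d / a) hdα
  refine ⟨H.prod B, ?_⟩
  rw [Nat.card_congr (Subgroup.prodEquiv H B).toEquiv, Nat.card_prod, hH, hB]
  exact Nat.mul_div_cancel' had

end Cfsg.Agent.Helper3
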