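import Mathlib
import Cfsg.Agent.Lib.Helper3.Basic
import Cfsg.Agent.Lib.Helper3.CLT2
import Cfsg.Agent.Lib.Helper3.Supersolvable2
import Cfsg.Agent.Lib.Helper1.SylowNumeric
import Cfsg.Agent.S0035

set_option autoImplicit false

/-! Groups all of whose proper subgroups are nilpotent are solvable (Schmidt, Iwasawa). -/

namespace Cfsg.Agent.Helper3

open scoped Pointwise

universe u

variable {G : Type u} [Group G]

/-- A finite nontrivial solvable group has a normal subgroup of prime index. -/
theorem exists_normal_index_prime [Finite G] [Group.IsSolvable G] [Nontrivial G] :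
    ∃ (M : Subgroup G) (p : ℕ), M.Normal ∧ p.Prime ∧ M.index = p := by
  have hlt : commutator G < ⊤ := IsSolvable.commutator_lt_top_of_nontrivial G
  have hcard : Nat.card (Abelianization G) ≠ 1 := by
    intro h
    have h1 : (commutator G).index = 1 := h
    exact hlt.ne (Subgroup.index_eq_one.mp h1)
  set p := (Nat.card (Abelianization G)).minFac with hp
  have hpp : p.Prime := Nat.minFac_prime hcard
  have hdvd : p ∣ Nat.card (Abelianization G) := Nat.minFac_dvd _
  obtain ⟨H, hH⟩ := hasSubgroupOfEveryOrder_of_commGroup (A := Abelianization G)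
    (Nat.card (Abelianization G) / p) (Nat.div_dvd_of_dvd hdvd)
  have hidx : H.index = p := by
    have h1 := Subgroup.card_mul_index H
    rw [hH] at h1
    have h2 : Nat.card (Abelianization G) / p * p = Nat.card (Abelianization G) :=
      Nat.div_mul_cancel hdvd
    have hpos : 0 < Nat.card (Abelianization G) / p := by
      apply Nat.div_pos (Nat.le_of_dvd Nat.card_pos hdvd) hpp.pos
    exact Nat.eq_of_mul_eq_mul_left hpos (h1.trans h2.symm)
  refine ⟨H.comap Abelianization.of, p, ?_, hpp, ?_⟩
  · exact (Subgroup.normal_of_comm H).comap _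
  · have hs : Function.Surjective (Abelianization.of : G →* Abelianization G) :=
      QuotientGroup.mk'_surjective _
    rw [Subgroup.index_comap_of_surjective _ hs]
    exact hidx

theorem conj_smul_top' (g : G) : MulAut.conj g • (⊤ : Subgroup G) = ⊤ := by
  ext x
  simp

theorem isCoatom_conj_smul {M : Subgroup G} (hM : IsCoatom M) (g : G) :
    IsCoatom (MulAut.conj g • M) := by
  constructor
  · intro h
    apply hM.1
    have : MulAut.conj g⁻¹ • MulAut.conj g • M = MulAut.conj g⁻¹ • ⊤ := by rw [h]
    rwa [← mul_smul, ← map_mul, inv_mul_cancel, map_one, one_smul, conj_smul_top'] at this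
  · intro K hK
    have h1 : M < MulAut.conj g⁻¹ • K := by
      constructor
      · intro x hx
        rw [mem_conj_smul_iff]
        apply hK.le
        rw [mem_conj_smul_iff]
        simpa [mul_assoc] using hx
      · intro hle
        apply hK.not_ge
        intro x hx
        rw [mem_conj_smul_iff]
        have := hle (show g⁻¹ * x * g ∈ MulAut.conj g⁻¹ • K by
          rw [mem_conj_smul_iff]; simpa [mul_assoc] using hx)
        exact this
    have h2 := hM.2 _ h1
    have : MulAut.conj g • MulAut.conj g⁻¹ • K = MulAut.conj g • ⊤ := by rw [h2]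
    rwa [← mul_smul, ← map_mul, mul_inv_cancel, map_one, one_smul, conj_smul_top'] at this

/-- In a finite simple group all of whose proper subgroups are nilpotent, distinct maximal
subgroups intersect trivially. -/
theorem inf_eq_bot_of_isCoatom_of_proper_nilpotent [Finite G] [IsSimpleGroup G]
    (h : ∀ H : Subgroup G, H ≠ ⊤ → Group.IsNilpotent H) :
    ∀ M₁ M₂ : Subgroup G, IsCoatom M₁ → IsCoatom M₂ → M₁ ≠ M₂ → M₁ ⊓ M₂ = ⊥ := by
  classical
  by_contra hcon
  push Not at hcon
  obtain ⟨A, B, hA, hB, hAB, hne⟩ := hcon
  set Pairs : Set (Subgroup G × Subgroup G) :=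
    {p | IsCoatom p.1 ∧ IsCoatom p.2 ∧ p.1 ≠ p.2} with hPairs
  obtain ⟨⟨M₁, M₂⟩, ⟨hM₁, hM₂, hM₁₂⟩, hbest⟩ :=
    Set.exists_max_image Pairs (fun p => Nat.card (p.1 ⊓ p.2 : Subgroup G)) (Set.toFinite _)
      ⟨(A, B), hA, hB, hAB⟩
  simp only at hM₁ hM₂ hM₁₂ hbest
  set D := M₁ ⊓ M₂ with hD
  have hDbot : D ≠ ⊥ := by
    intro hbot
    have h1 := hbest (A, B) ⟨hA, hB, hAB⟩
    simp only at h1
    rw [hbot, Subgroup.card_bot] at h1
    exact hne ((Subgroup.card_le_one_iff_eq_bot _).mp h1)
  have hDtop : D ≠ ⊤ := fun ht => hM₁.1 (top_le_iff.mp (ht ▸ inf_le_left))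
  have hNtop : Subgroup.normalizer (D : Set G) ≠ ⊤ := by
    intro ht
    have hn : D.Normal := Subgroup.normalizer_eq_top_iff.mp ht
    rcases hn.eq_bot_or_eq_top with h1 | h1
    exacts [hDbot h1, hDtop h1]
  obtain ⟨M, hM, hNM⟩ := (eq_top_or_exists_le_coatom _).resolve_left hNtop
  have key : ∀ X Y : Subgroup G, IsCoatom X → IsCoatom Y → X ≠ Y → X ⊓ Y = D → M = X := by
    intro X Y hX hY hXY hXYD
    by_contra hMX
    have hDX : D ≤ X := hXYD ▸ inf_le_left
    have hnil : Group.IsNilpotent X := h X hX.1
    have hnc := Group.normalizerCondition_of_isNilpotent (G := X)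
    have hD'top : D.subgroupOf X ≠ ⊤ := by
      intro ht
      rw [Subgroup.subgroupOf_eq_top] at ht
      have hXY' : X ≤ Y := ht.trans (hXYD ▸ inf_le_right)
      rcases hXY'.lt_or_eq with hlt | heq
      · exact hY.1 (hX.2 Y hlt)
      · exact hXY heq
    have hlt := hnc (D.subgroupOf X) (lt_top_iff_ne_top.mpr hD'top)
    rw [Cfsg.Agent.Helper1.normalizer_subgroupOf hDX] at hlt
    obtain ⟨y, hyN, hyD⟩ := SetLike.exists_of_lt hlt
    rw [Subgroup.mem_subgroupOf] at hyN hyD
    have hlt2 : D < M ⊓ X := by
      refine lt_of_le_of_ne (le_inf (Subgroup.le_normalizer.trans hNM) hDX) ?_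
      intro heq
      apply hyD
      rw [heq]
      exact ⟨hNM hyN, y.2⟩
    have h1 := hbest (M, X) ⟨hM, hX, hMX⟩
    simp only at h1
    have h2 : Nat.card D < Nat.card (M ⊓ X : Subgroup G) := by
      have h3 : Nat.card D ≤ Nat.card (M ⊓ X : Subgroup G) :=
        Subgroup.card_le_of_le hlt2.le
      rcases h3.lt_or_eq with h4 | h4
      · exact h4
      · exfalso
        exact hlt2.ne (Subgroup.eq_of_le_of_card_ge hlt2.le h4.ge)
    omega
  have e1 := key M₁ M₂ hM₁ hM₂ hM₁₂ rfl
  have e2 := key M₂ M₁ hM₂ hM₁ hM₁₂.symm (inf_comm _ _)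
  exact hM₁₂ (e1.symm.trans e2)

/-- A finite group all of whose proper subgroups are nilpotent is solvable. -/
theorem isSolvable_of_proper_nilpotent_aux (n : ℕ) : ∀ (G : Type u) [Group G] [Finite G],
    Nat.card G = n → (∀ H : Subgroup G, H ≠ ⊤ → Group.IsNilpotent H) → Group.IsSolvable G := by
  induction n using Nat.strong_induction_on with
  | _ n ih =>
  intro G _ _ hcard h
  by_cases hN : ∃ N : Subgroup G, N.Normal ∧ N ≠ ⊥ ∧ N ≠ ⊤
  · obtain ⟨N, hNn, hNbot, hNtop⟩ := hN
    have hnil : Group.IsNilpotent N := h N hNtop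
    have hsN : Group.IsSolvable N := inferInstance
    have hq : Group.IsSolvable (G ⧸ N) := by
      apply ih (Nat.card (G ⧸ N)) _ (G ⧸ N) rfl
      · intro H' hH'
        have hc : H'.comap (QuotientGroup.mk' N) ≠ ⊤ := by
          intro ht
          apply hH'
          rw [eq_top_iff]
          intro y _
          obtain ⟨x, rfl⟩ := QuotientGroup.mk'_surjective N y
          have : x ∈ H'.comap (QuotientGroup.mk' N) := by rw [ht]; exact Subgroup.mem_top x
          exact this
        have hn := h _ hc
        exact Group.nilpotent_of_surjective ((QuotientGroup.mk' N).subgroupComap H')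
          ((QuotientGroup.mk' N).subgroupComap_surjective_of_surjective H'
            (QuotientGroup.mk'_surjective N))
      · rw [← hcard]
        apply card_quotient_lt
        rw [Subgroup.one_lt_card_iff_ne_bot]
        exact hNbot
    exact Group.isSolvable_of_ker_le_range N.subtype (QuotientGroup.mk' N) (by simp)
  · push Not at hN
    by_cases hsub : Subsingleton G
    · exact Group.isSolvable_of_comm (fun a b => Subsingleton.elim _ _)
    · have hnt : Nontrivial G := not_subsingleton_iff_nontrivial.mp hsub
      have hsimple : IsSimpleGroup G := by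
        refine ⟨fun N hN' => ?_⟩
        by_contra hc
        push Not at hc
        exact hc.2 (hN N hN' hc.1)
      by_cases hcomm : ∀ a b : G, a * b = b * a
      · exact Group.isSolvable_of_comm hcomm
      · exfalso
        push Not at hcomm
        obtain ⟨a, b, hab⟩ := hcomm
        obtain ⟨M, hM, -⟩ := (eq_top_or_exists_le_coatom (⊥ : Subgroup G)).resolve_left bot_ne_top
        have hMbot : M ≠ ⊥ := by
          intro hMb
          have ha1 : Subgroup.zpowers a ≠ ⊥ := by
            intro h0
            rw [Subgroup.zpowers_eq_bot] at h0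
            apply hab; rw [h0]; simp
          have htop : Subgroup.zpowers a = ⊤ := hM.2 _ (hMb ▸ bot_lt_iff_ne_bot.mpr ha1)
          have hb : b ∈ Subgroup.zpowers a := htop ▸ Subgroup.mem_top b
          obtain ⟨k, rfl⟩ := Subgroup.mem_zpowers_iff.mp hb
          exact hab ((Commute.self_zpow a k).eq)
        have hNM : Subgroup.normalizer (M : Set G) = M := by
          have hle : M ≤ Subgroup.normalizer (M : Set G) := Subgroup.le_normalizer
          rcases hle.lt_or_eq with hlt | heq
          · exfalso
            have ht := hM.2 _ hlt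
            have hn : M.Normal := Subgroup.normalizer_eq_top_iff.mp ht
            rcases hn.eq_bot_or_eq_top with h1 | h1
            exacts [hMbot h1, hM.1 h1]
          · exact heq.symm
        have hF : Cfsg.IsFrobeniusComplement M := by
          refine ⟨hMbot, hM.1, fun g hg => ?_⟩
          apply inf_eq_bot_of_isCoatom_of_proper_nilpotent h M _ hM (isCoatom_conj_smul hM g)
          intro heq
          apply hg
          rw [← hNM]
          exact mem_normalizer_of_conj_smul_eq heq.symm
        obtain ⟨N, -, hNn, hcompl⟩ := Cfsg.Agent.S0035.result M hF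
        have hcc := hcompl.card_mul_card
        rcases hNn.eq_bot_or_eq_top with h1 | h1
        · rw [h1, Subgroup.card_bot, one_mul] at hcc
          exact hM.1 ((Subgroup.card_eq_iff_eq_top _).mp hcc)
        · rw [h1, Subgroup.card_top] at hcc
          have : Nat.card M = 1 := by
            have hpos : 0 < Nat.card G := Nat.card_pos
            nlinarith
          exact hMbot (Subgroup.card_eq_one.mp this)

theorem isSolvable_of_proper_nilpotent [Finite G]
    (h : ∀ H : Subgroup G, H ≠ ⊤ → Group.IsNilpotent H) : Group.IsSolvable G :=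
  isSolvable_of_proper_nilpotent_aux _ G rfl h

end Cfsg.Agent.Helper3
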