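import Mathlib
import Cfsg.Agent.Lib.Helper3.NilpotentCoprime
import Cfsg.Agent.Lib.Helper3.Schmidt

set_option autoImplicit false

/-! Wielandt's theorem: a finite group with a nilpotent Hall `π`-subgroup `H` has every
`π`-subgroup inside a conjugate of `H`. -/

namespace Cfsg.Agent.Helper3

open scoped Pointwise

universe u

variable {G : Type u} [Group G]

/-- A normal subgroup of `q`-power index contains every element of order prime to `q`. -/
theorem mem_of_coprime_orderOf_of_index_pow [Finite G] {q : ℕ} (L : Subgroup G) [L.Normal] {k : ℕ}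
    (hL : L.index = q ^ k) {x : G} (hx : (orderOf x).Coprime q) : x ∈ L := by
  have h1 : x ^ (q ^ k) ∈ L := by
    rw [← hL]; exact Subgroup.pow_index_mem L x
  obtain ⟨m, hm⟩ := exists_pow_eq_self_of_coprime (x := x) (n := q ^ k)
    (Nat.Coprime.pow_left _ hx.symm)
  rw [← hm]; exact pow_mem h1 m

/-- A finite nilpotent group has a normal `q`-complement. -/
theorem exists_normal_compl_of_isNilpotent [Finite G] (hG : Group.IsNilpotent G) (q : ℕ)
    [hq : Fact q.Prime] :
    ∃ L : Subgroup G, L.Normal ∧ (Nat.card L).Coprime q ∧ ∃ k, L.index = q ^ k := by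
  let Q : Sylow q G := default
  have hQn : (Q : Subgroup G).Normal :=
    ((Group.isNilpotent_of_finite_tfae (G := G)).out 0 3 rfl rfl).mp hG q hq Q
  obtain ⟨L, hL⟩ := Subgroup.exists_right_complement'_of_coprime (Sylow.card_coprime_index Q)
  have hLcop : (Nat.card L).Coprime q := by
    rw [← hL.symm.index_eq_card]
    exact ((Nat.Prime.coprime_iff_not_dvd hq.out).mpr Q.not_dvd_index).symm
  refine ⟨L, ⟨?_⟩, hLcop, _, hL.index_eq_card.trans (Sylow.card_eq_multiplicity Q)⟩
  intro n hn g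
  obtain ⟨⟨x, l⟩, hxl⟩ := hL.2 g
  simp only at hxl
  have hl : (l : G) * n * (l : G)⁻¹ ∈ L := L.mul_mem (L.mul_mem l.2 hn) (L.inv_mem l.2)
  have hcomm : (x : G) * ((l : G) * n * (l : G)⁻¹) = ((l : G) * n * (l : G)⁻¹) * (x : G) := by
    have : Group.IsNilpotent (⊤ : Subgroup G) :=
      Group.nilpotent_of_mulEquiv Subgroup.topEquiv.symm
    apply mul_comm_of_mem_isNilpotent_of_coprime this (Subgroup.mem_top _) (Subgroup.mem_top _)
    obtain ⟨j, hj⟩ := (IsPGroup.iff_orderOf.mp Q.isPGroup') x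
    rw [Subgroup.orderOf_coe, hj]
    apply Nat.Coprime.pow_left
    have h2 : orderOf ((l : G) * n * (l : G)⁻¹) ∣ Nat.card L := by
      have := orderOf_dvd_natCard (⟨_, hl⟩ : L)
      rwa [Subgroup.orderOf_mk] at this
    exact (hLcop.coprime_dvd_left h2).symm
  have : g * n * g⁻¹ = (x : G) * ((l : G) * n * (l : G)⁻¹) * (x : G)⁻¹ := by
    rw [← hxl]; group
  rw [this, hcomm, mul_assoc, mul_inv_cancel, mul_one]
  exact hl

/-- A nontrivial finite group all of whose proper subgroups are nilpotent has a proper normal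
subgroup of `q`-power index and order prime to `q`, for some prime `q`. -/
theorem exists_normal_compl_of_proper_nilpotent [Finite G] [Nontrivial G]
    (h : ∀ H : Subgroup G, H ≠ ⊤ → Group.IsNilpotent H) :
    ∃ (q : ℕ) (_ : q.Prime) (L : Subgroup G), L.Normal ∧ L ≠ ⊤ ∧ (Nat.card L).Coprime q ∧
      ∃ k, L.index = q ^ k := by
  have : Group.IsSolvable G := isSolvable_of_proper_nilpotent h
  obtain ⟨M, q, hMn, hq, hMidx⟩ := exists_normal_index_prime (G := G)
  have : Fact q.Prime := ⟨hq⟩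
  have hMtop : M ≠ ⊤ := by
    intro h1
    rw [h1, Subgroup.index_top] at hMidx
    exact hq.one_lt.ne hMidx
  obtain ⟨L₀, hL₀n, hL₀cop, k, hL₀idx⟩ := exists_normal_compl_of_isNilpotent (h M hMtop) q
  have hidx : (L₀.map M.subtype).index = q ^ (k + 1) := by
    rw [Subgroup.index_map_subtype, hL₀idx, hMidx, pow_succ]
  refine ⟨q, hq, L₀.map M.subtype, ⟨?_⟩, ?_, ?_, k + 1, hidx⟩
  · rintro n ⟨n₀, hn₀, rfl⟩ g
    have hmem : g * (n₀ : G) * g⁻¹ ∈ M := hMn.conj_mem _ n₀.2 g
    refine ⟨⟨_, hmem⟩, ?_, rfl⟩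
    apply mem_of_coprime_orderOf_of_index_pow L₀ hL₀idx
    rw [Subgroup.orderOf_mk, ← MulAut.conj_apply, MulEquiv.orderOf_eq]
    have h2 : orderOf (n₀ : G) ∣ Nat.card L₀ := by
      have := orderOf_dvd_natCard (⟨n₀, hn₀⟩ : L₀)
      rw [Subgroup.orderOf_mk] at this
      rwa [Subgroup.orderOf_coe]
    exact hL₀cop.coprime_dvd_left h2
  · intro h1
    rw [h1, Subgroup.index_top] at hidx
    exact (Nat.one_lt_pow (Nat.succ_ne_zero k) hq.one_lt).ne hidx
  · rw [Subgroup.card_map_of_injective M.subtype_injective]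
    exact hL₀cop

/-- Key step of Wielandt's theorem. -/
theorem wielandt_step [Finite G] (H : Subgroup G) (hH : Group.IsNilpotent H)
    (hHall : (Nat.card H).Coprime H.index) (K L : Subgroup G) (hLK : L ≤ K)
    (hKN : K ≤ Subgroup.normalizer (L : Set G)) {q : ℕ} [hq : Fact q.Prime] (hqH : q ∣ Nat.card H)
    (hcop : (Nat.card L).Coprime q) {k : ℕ} (hidx : L.relIndex K = q ^ k) (hLH : L ≤ H) :
    ∃ x : G, K ≤ MulAut.conj x • H := by
  -- a Sylow `q`-subgroup of `G` inside `H`
  let S₀ : Sylow q H := default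
  have hfac : (Nat.card G).factorization q = (Nat.card H).factorization q := by
    rw [← Subgroup.card_mul_index H, Nat.factorization_mul (Nat.card_pos (α := H)).ne'
      Subgroup.index_ne_zero_of_finite, Finsupp.add_apply]
    have : ¬ q ∣ H.index := fun h => by
      have := Nat.dvd_gcd hqH h
      rw [hHall.gcd_eq_one] at this
      exact hq.out.one_lt.ne' (Nat.dvd_one.mp this)
    rw [Nat.factorization_eq_zero_of_not_dvd this, add_zero]
  have hS₁card : Nat.card ((S₀ : Subgroup H).map H.subtype) = q ^ (Nat.card G).factorization q := by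
    rw [Subgroup.card_map_of_injective H.subtype_injective, hfac, Sylow.card_eq_multiplicity]
  let S : Sylow q G := Sylow.ofCard _ hS₁card
  have hSH : (S : Subgroup G) ≤ H := by
    rw [Sylow.coe_ofCard]; exact Subgroup.map_subtype_le _
  have hordS : ∀ r ∈ (S : Subgroup G), ∃ j, orderOf r = q ^ j := by
    intro r hr
    obtain ⟨j, hj⟩ := (IsPGroup.iff_orderOf.mp S.isPGroup') ⟨r, hr⟩
    exact ⟨j, by rw [← hj, Subgroup.orderOf_mk]⟩
  have hSC : (S : Subgroup G) ≤ Subgroup.centralizer (L : Set G) := by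
    intro s hs l hl
    obtain ⟨j, hj⟩ := hordS s hs
    apply mul_comm_of_mem_isNilpotent_of_coprime hH (hLH hl) (hSH hs)
    rw [hj]
    apply Nat.Coprime.pow_right
    have h2 : orderOf l ∣ Nat.card L := by
      have := orderOf_dvd_natCard (⟨l, hl⟩ : L)
      rwa [Subgroup.orderOf_mk] at this
    exact hcop.coprime_dvd_left h2
  have hSN : (S : Subgroup G) ≤ Subgroup.normalizer (L : Set G) :=
    hSC.trans (Subgroup.centralizer_le_normalizer _)
  -- a Sylow `q`-subgroup of `K`
  let Q₀ : Sylow q K := default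
  set Q₁ : Subgroup G := (Q₀ : Subgroup K).map K.subtype with hQ₁
  have hQ₁K : Q₁ ≤ K := Subgroup.map_subtype_le _
  have hQ₁p : IsPGroup q Q₁ := Q₀.isPGroup'.map _
  set N := Subgroup.normalizer (L : Set G) with hN
  obtain ⟨Q', hQ'⟩ := (hQ₁p.comap_subtype (K := N)).exists_le_sylow
  obtain ⟨n, hn⟩ := MulAction.exists_smul_eq N (S.subtype hSN) Q'
  rw [Sylow.smul_subtype] at hn
  have hQ₁S : Q₁ ≤ ↑((n : G) • S) := by
    intro x hx
    have hxN : x ∈ N := hKN (hQ₁K hx)
    have h1 : (⟨x, hxN⟩ : N) ∈ Q' := hQ' (by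
      change (⟨x, hxN⟩ : N) ∈ Q₁.subgroupOf N
      rw [Subgroup.mem_subgroupOf]; exact hx)
    rw [← hn] at h1
    have h2 : (⟨x, hxN⟩ : N) ∈ ((n • S : Sylow q G) : Subgroup G).subgroupOf N := h1
    rw [Subgroup.mem_subgroupOf] at h2
    exact h2
  -- `K = Q₁ L`
  have hKle : K ≤ Q₁ ⊔ L := by
    rw [← Subgroup.relIndex_eq_one]
    have h1 : (Q₁ ⊔ L).relIndex K ∣ q ^ k := by
      rw [← hidx]; exact Subgroup.relIndex_dvd_of_le_left K le_sup_right
    have h2 : (Q₁ ⊔ L).relIndex K ∣ Q₁.relIndex K :=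
      Subgroup.relIndex_dvd_of_le_left K le_sup_left
    have h3 : ¬ q ∣ Q₁.relIndex K := by
      have : Q₁.subgroupOf K = Q₀ := by
        rw [hQ₁, Subgroup.subgroupOf, Subgroup.comap_map_eq_self_of_injective K.subtype_injective]
      rw [Subgroup.relIndex, this]
      exact Q₀.not_dvd_index
    have h4 : ((Q₁ ⊔ L).relIndex K).Coprime (q ^ k) := by
      apply Nat.Coprime.pow_right
      exact (((Nat.Prime.coprime_iff_not_dvd hq.out).mpr h3).coprime_dvd_right h2).symm
    exact Nat.Coprime.eq_one_of_dvd h4 h1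
  refine ⟨(n : G), hKle.trans (sup_le ?_ ?_)⟩
  · refine hQ₁S.trans ?_
    rintro x ⟨s, hs, rfl⟩
    exact ⟨s, hSH hs, rfl⟩
  · intro l hl
    rw [Subgroup.mem_pointwise_smul_iff_inv_smul_mem]
    have h1 := (Subgroup.mem_normalizer_iff.mp (inv_mem n.2) l).mp hl
    rw [inv_inv] at h1
    rw [← map_inv, MulAut.smul_def, MulAut.conj_apply, inv_inv]
    exact hLH h1

theorem wielandt_nilpotent_hall_aux [Finite G] (H : Subgroup G) (hH : Group.IsNilpotent H)
    (hHall : (Nat.card H).Coprime H.index) (n : ℕ) : ∀ K : Subgroup G, Nat.card K = n →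
    (∀ p : ℕ, p.Prime → p ∣ Nat.card K → p ∣ Nat.card H) →
    ∃ x : G, K ≤ MulAut.conj x • H := by
  induction n using Nat.strong_induction_on with
  | _ n ih =>
  intro K hKn hKpi
  by_cases hKbot : K = ⊥
  · exact ⟨1, by rw [hKbot]; exact bot_le⟩
  have hnt : Nontrivial K := (Subgroup.nontrivial_iff_ne_bot K).mpr hKbot
  have hsmall : ∀ K₁ : Subgroup G, K₁ ≤ K → K₁ ≠ K → ∃ x : G, K₁ ≤ MulAut.conj x • H := by
    intro K₁ hle hne
    have hlt : Nat.card K₁ < n := by
      rw [← hKn]
      by_contra hcon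
      exact hne (Subgroup.eq_of_le_of_card_ge hle (not_lt.mp hcon))
    apply ih _ hlt K₁ rfl
    intro p hp hpd
    exact hKpi p hp (hpd.trans (Subgroup.card_dvd_of_le hle))
  have hconjnil : ∀ x : G, Group.IsNilpotent ↥(MulAut.conj x • H) := fun x =>
    Group.nilpotent_of_mulEquiv (Subgroup.equivSMul (MulAut.conj x) H)
  have hprop : ∀ K₀ : Subgroup K, K₀ ≠ ⊤ → Group.IsNilpotent K₀ := by
    intro K₀ hK₀
    obtain ⟨x, hx⟩ := hsmall (K₀.map K.subtype) (Subgroup.map_subtype_le _) (by
      intro h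
      apply hK₀
      rw [eq_top_iff]
      intro y _
      have hy : (y : G) ∈ K₀.map K.subtype := by rw [h]; exact y.2
      obtain ⟨z, hz, hzy⟩ := hy
      rwa [← Subtype.ext hzy])
    have h1 : Group.IsNilpotent ↥(K₀.map K.subtype) := by
      have := hconjnil x
      exact Subgroup.isNilpotent_of_ker_le_center (Subgroup.inclusion hx)
        (by rw [Subgroup.ker_inclusion]; exact bot_le)
    exact Group.nilpotent_of_mulEquiv (K₀.equivMapOfInjective K.subtype K.subtype_injective).symm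
  obtain ⟨q, hq, L₀, hL₀n, hL₀top, hL₀cop, k, hL₀idx⟩ :=
    exists_normal_compl_of_proper_nilpotent hprop
  have : Fact q.Prime := ⟨hq⟩
  set L : Subgroup G := L₀.map K.subtype with hL
  have hLK : L ≤ K := Subgroup.map_subtype_le _
  have hLne : L ≠ K := by
    intro h
    apply hL₀top
    rw [eq_top_iff]
    intro y _
    have hy : (y : G) ∈ L₀.map K.subtype := by rw [← hL, h]; exact y.2
    obtain ⟨z, hz, hzy⟩ := hy
    rwa [← Subtype.ext hzy]
  obtain ⟨y, hy⟩ := hsmall L hLK hLne
  have hKN : K ≤ Subgroup.normalizer (L : Set G) := by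
    have h1 := Subgroup.le_normalizer_map (H := L₀) K.subtype
    rw [Subgroup.normalizer_eq_top, ← MonoidHom.range_eq_map, Subgroup.range_subtype] at h1
    exact h1
  have hqK : q ∣ Nat.card K := by
    have hk : k ≠ 0 := by
      rintro rfl
      rw [pow_zero, Subgroup.index_eq_one] at hL₀idx
      exact hL₀top hL₀idx
    have h1 : q ∣ L₀.index := by rw [hL₀idx]; exact dvd_pow_self q hk
    exact h1.trans (Subgroup.index_dvd_card L₀)
  have hcardconj : Nat.card ↥(MulAut.conj y • H) = Nat.card H :=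
    (Nat.card_congr (Subgroup.equivSMul (MulAut.conj y) H).toEquiv).symm
  have hidxconj : (MulAut.conj y • H).index = H.index := by
    rw [Subgroup.pointwise_smul_def]
    exact Subgroup.index_map_equiv H (MulAut.conj y)
  have hrel : L.relIndex K = q ^ k := by
    rw [Subgroup.relIndex, hL, Subgroup.subgroupOf,
      Subgroup.comap_map_eq_self_of_injective K.subtype_injective, hL₀idx]
  obtain ⟨x, hx⟩ := wielandt_step (MulAut.conj y • H) (hconjnil y)
    (by rw [hcardconj, hidxconj]; exact hHall) K L hLK hKN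
    (by rw [hcardconj]; exact hKpi q hq hqK)
    (by rw [hL, Subgroup.card_map_of_injective K.subtype_injective]; exact hL₀cop) hrel hy
  refine ⟨x * y, ?_⟩
  rw [map_mul, mul_smul]
  exact hx

/-- **Wielandt's theorem** on nilpotent Hall subgroups. -/
theorem wielandt_nilpotent_hall [Finite G] (H K : Subgroup G) (hH : Group.IsNilpotent H)
    (hHall : (Nat.card H).Coprime H.index)
    (hK : ∀ p : ℕ, p.Prime → p ∣ Nat.card K → p ∣ Nat.card H) :
    ∃ x : G, K ≤ MulAut.conj x • H :=
  wielandt_nilpotent_hall_aux H hH hHall _ K rfl hK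

end Cfsg.Agent.Helper3
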