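import Mathlib
import Cfsg.Agent.Lib.Helper18.BTDefs
import Cfsg.Agent.Lib.Helper6.ChevLLevi

/-!
# S2154 (Borel–Tits) piece BT-RAD, core (helper3)

`y ∈ P_J` with `y - 1` strictly raising the level, `U_J` strictly raising and `L_J` keeping the level
imply `y ∈ U_J` (`P_J = U_J L_J`, `U_J` normalised by `P_J`).  The statements of BT-STAB (`y ∈ P_J`) and
BT-RADGEN enter as hypotheses.
-/

set_option autoImplicit false
set_option linter.unusedSectionVars false
set_option linter.unusedVariables false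

namespace Cfsg.Agent.Helper18.BT

open Cfsg Cfsg.Lie Cfsg.Agent.Lead.Chev Cfsg.Agent.Helper6.ChevL

section abstract

variable {ι : Type*} [Fintype ι] [DecidableEq ι] {K : Type*} [Field K]

theorem bt_rad_sr_mul_sub_one {l : ι → ℝ} {A B : Matrix ι ι K} (hA : SR l (A - 1)) (hB : SR l (B - 1)) :
    SR l (A * B - 1) := by
  intro a b hab
  have e : A * B - 1 = (A - 1) * (B - 1) + (A - 1) + (B - 1) := by noncomm_ring
  rw [e] at hab
  by_cases h1 : ((A - 1) * (B - 1)) a b = 0
  · by_cases h2 : (A - 1) a b = 0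
    · by_cases h3 : (B - 1) a b = 0
      · exfalso
        apply hab
        rw [Matrix.add_apply, Matrix.add_apply, h1, h2, h3]
        simp
      · exact hB a b h3
    · exact hA a b h2
  · rw [Matrix.mul_apply] at h1
    obtain ⟨c, -, hc⟩ := Finset.exists_ne_zero_of_sum_ne_zero h1
    have hc1 : (A - 1) a c ≠ 0 := left_ne_zero_of_mul hc
    have hc2 : (B - 1) c b ≠ 0 := right_ne_zero_of_mul hc
    exact lt_trans (hB c b hc2) (hA a c hc1)

theorem bt_rad_eq_one_of_sr_kp {l : ι → ℝ} (g : GL ι K) (h1 : SR l ((g : Matrix ι ι K) - 1))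
    (h2 : KP l (g : Matrix ι ι K)) : g = 1 := by
  apply Units.ext
  rw [← sub_eq_zero]
  ext a b
  by_contra hab
  have hab' : ((g : Matrix ι ι K) - 1) a b ≠ 0 := hab
  have hlt := h1 a b hab'
  by_cases hne : a = b
  · subst hne
    exact lt_irrefl _ hlt
  · have hg : (g : Matrix ι ι K) a b ≠ 0 := by
      intro h0
      apply hab'
      rw [Matrix.sub_apply, h0, Matrix.one_apply_ne hne, sub_zero]
    have := h2 a b hg
    rw [this] at hlt
    exact lt_irrefl _ hlt

theorem bt_rad_sr_of_sh {l : ι → ℝ} {A : Matrix ι ι K} (h : Sh l l 1 A) : SR l A := by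
  intro a b hab
  have := h a b hab
  linarith

end abstract

variable {F : Type*} [Field F] {D : ChevalleyDatum}

/-- core of BT-RAD -/
theorem bt_rad_core (hF : ChevFacts D F) (hP : ParFacts D) (hC : CommJ D)
    (lam : Fin D.rank → ℝ) (y : GL D.Idx F)
    (hpar : y ∈ D.parabolicSubgroup F (Jof D lam))
    (hrad : (∀ u ∈ D.unipotentRadical F (Jof D lam),
        SR (LvR D (Lof D lam)) ((u : Matrix D.Idx D.Idx F) - 1)) ∧
      (∀ l ∈ D.leviSubgroup F (Jof D lam), KP (LvR D (Lof D lam)) (l : Matrix D.Idx D.Idx F)))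
    (hsh : Sh (LvR D (Lof D lam)) (LvR D (Lof D lam)) 1 ((y : Matrix D.Idx D.Idx F) - 1)) :
    y ∈ D.unipotentRadical F (Jof D lam) := by
  classical
  have hsup := radical_sup_levi hF hP (Jof D lam)
  have hnorm := parabolic_le_normalizer hF hP hC (Jof D lam)
  have hlevi : D.leviSubgroup F (Jof D lam) ≤
      Subgroup.normalizer (D.unipotentRadical F (Jof D lam) : Set (GL D.Idx F)) := by
    refine le_trans ?_ hnorm
    rw [← hsup]
    exact le_sup_right
  have hy : y ∈ ((D.unipotentRadical F (Jof D lam) ⊔ D.leviSubgroup F (Jof D lam) :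
      Subgroup (GL D.Idx F)) : Set (GL D.Idx F)) := by
    rw [hsup]
    exact hpar
  rw [Subgroup.coe_mul_of_right_le_normalizer_left _ _ hlevi] at hy
  obtain ⟨u, hu, l, hl, hul⟩ := hy
  have hul : u * l = y := hul
  have hu' : u ∈ D.unipotentRadical F (Jof D lam) := hu
  have hl' : l ∈ D.leviSubgroup F (Jof D lam) := hl
  have hleq : l = u⁻¹ * y := by
    rw [← hul]
    group
  have h1 : SR (LvR D (Lof D lam)) ((l : Matrix D.Idx D.Idx F) - 1) := by
    rw [hleq, Units.val_mul]
    exact bt_rad_sr_mul_sub_one (hrad.1 _ (inv_mem hu')) (bt_rad_sr_of_sh hsh)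
  have h2 := hrad.2 l hl'
  have hl1 : l = 1 := bt_rad_eq_one_of_sr_kp l h1 h2
  have : y = u := by
    rw [← hul, hl1, mul_one]
  rw [this]
  exact hu'

end Cfsg.Agent.Helper18.BT
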