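import Mathlib
import Cfsg.Agent.Lib.Helper5.TLRDefs

set_option autoImplicit false

/-!
# PIECE LOC-R of the S4442 farm-out: `unit_or_nilp` over a complete discrete valuation ring

In the commutant of a lattice with only the trivial idempotents every element is a unit or
nilpotent modulo `p`.  Proof: Cayley-Hamilton, a Bezout identity for the characteristic polynomial
modulo `p`, Newton iteration `x ↦ 3x² - 2x³` on polynomials in `lam`, entrywise `p`-adic limit.
-/

namespace Cfsg.Agent.Helper5.TLR

open Polynomial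

section LocAux

variable (p : ℕ) [Fact p.Prime] {R : Type*} [CommRing R] [IsDomain R] [IsDiscreteValuationRing R]
  [PUnif R p]

/-- an element divisible by all powers of `p` is zero. -/
theorem locr_eq_zero_of_forall_pow_dvd {x : R} (h : ∀ n : ℕ, (p : R) ^ n ∣ x) : x = 0 := by
  by_contra hx
  obtain ⟨c, k, hck⟩ := exists_unit_mul_pow p hx
  obtain ⟨d, hd⟩ := h (k + 1)
  have hpk : (p : R) ^ k ≠ 0 := pow_ne_zero _ (p_ne_zero p)
  have h1 : (c : R) = (p : R) * d := by
    have : (p : R) ^ k * (c : R) = (p : R) ^ k * ((p : R) * d) := by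
      rw [mul_comm, ← hck, hd, pow_succ]; ring
    exact mul_left_cancel₀ hpk this
  exact not_dvd_of_isUnit p c.isUnit ⟨d, h1⟩

omit [Fact p.Prime] [IsDomain R] [IsDiscreteValuationRing R] [PUnif R p] in
/-- precompleteness of `R`, in divisibility form. -/
theorem locr_exists_limit [IsAdicComplete (Ideal.span {(p : R)}) R] (f : ℕ → R)
    (hf : ∀ m n, m ≤ n → (p : R) ^ m ∣ f n - f m) : ∃ L : R, ∀ n, (p : R) ^ n ∣ L - f n := by
  have hmem : ∀ (n : ℕ) (x : R), x ∈ (Ideal.span {(p : R)} ^ n • (⊤ : Submodule R R)) ↔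
      (p : R) ^ n ∣ x := by
    intro n x
    rw [smul_eq_mul, Ideal.mul_top, Ideal.span_singleton_pow, Ideal.mem_span_singleton]
  obtain ⟨L, hL⟩ := IsPrecomplete.prec' (I := Ideal.span {(p : R)}) f (by
    intro m n hmn
    rw [SModEq.sub_mem, hmem]
    have := hf m n hmn
    rw [← neg_sub]
    exact (dvd_neg).2 this)
  refine ⟨L, fun n => ?_⟩
  have := hL n
  rw [SModEq.sub_mem, hmem] at this
  rw [← neg_sub]
  exact (dvd_neg).2 this

/-- polynomials killed by reduction mod `p` are multiples of `p`. -/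
theorem locr_exists_of_map_eq_zero (P : R[X]) (h : P.map (IsLocalRing.residue R) = 0) :
    ∃ H : R[X], P = C (p : R) * H := by
  have h1 : P ∈ RingHom.ker (mapRingHom (IsLocalRing.residue R)) := by
    rw [RingHom.mem_ker, coe_mapRingHom]; exact h
  rw [ker_mapRingHom, IsLocalRing.ker_residue, maximalIdeal_eq_span_p p, Ideal.map_span,
    Set.image_singleton, Ideal.mem_span_singleton] at h1
  exact h1

/-- the polynomial identities behind Fitting's lemma. -/
theorem locr_poly_setup (chi : R[X]) (hm : chi.Monic) :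
    ∃ (a : ℕ) (U V G H₁ H₂ : R[X]), chi = X ^ a * G + C (p : R) * H₁ ∧
      U * X ^ a + V * G = 1 + C (p : R) * H₂ ∧ IsUnit (G.coeff 0) := by
  classical
  set res := IsLocalRing.residue R with hres
  have hsurj : Function.Surjective res := IsLocalRing.residue_surjective
  have hchi0 : chi.map res ≠ 0 := (hm.map res).ne_zero
  obtain ⟨g, hg1, hg2⟩ := exists_eq_pow_rootMultiplicity_mul_and_not_dvd (chi.map res) hchi0 0
  rw [C_0, sub_zero] at hg1 hg2
  set a := rootMultiplicity 0 (chi.map res) with ha
  have hcop : IsCoprime (X ^ a) g :=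
    ((irreducible_X (R := kk R)).coprime_iff_not_dvd.2 hg2).pow_left
  obtain ⟨u, v, huv⟩ := hcop
  obtain ⟨U, hU⟩ := map_surjective res hsurj u
  obtain ⟨V, hV⟩ := map_surjective res hsurj v
  obtain ⟨G, hG⟩ := map_surjective res hsurj g
  obtain ⟨H₁, hH₁⟩ := locr_exists_of_map_eq_zero p (chi - X ^ a * G) (by
    rw [Polynomial.map_sub, Polynomial.map_mul, Polynomial.map_pow, map_X, hG, ← hg1, sub_self])
  obtain ⟨H₂, hH₂⟩ := locr_exists_of_map_eq_zero p (U * X ^ a + V * G - 1) (by
    rw [Polynomial.map_sub, Polynomial.map_add, Polynomial.map_mul, Polynomial.map_mul,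
      Polynomial.map_pow, map_X, hG, hU, hV, Polynomial.map_one, huv, sub_self])
  refine ⟨a, U, V, G, H₁, H₂, ?_, ?_, ?_⟩
  · rw [← hH₁]; ring
  · rw [← hH₂]; ring
  · have hg0 : g.coeff 0 ≠ 0 := fun h0 => hg2 (X_dvd_iff.2 h0)
    have : res (G.coeff 0) ≠ 0 := by
      rw [← coeff_map, hG]; exact hg0
    by_contra hnu
    exact this ((IsLocalRing.residue_eq_zero_iff _).2 ((IsLocalRing.mem_maximalIdeal _).2 hnu))

omit [IsDomain R] [IsDiscreteValuationRing R] in
/-- polynomials in `a` commute with everything commuting with `a`. -/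
theorem locr_commute_aeval {A : Type*} [Ring A] [Algebra R A] {x a : A} (h : Commute x a)
    (Q : R[X]) : Commute x (aeval a Q) := by
  induction Q using Polynomial.induction_on' with
  | add P Q hP hQ => rw [map_add]; exact hP.add_right hQ
  | monomial n r =>
    rw [aeval_monomial]
    exact (Algebra.commute_algebraMap_right r x).mul_right (h.pow_right n)

variable {M : Type*} [AddCommGroup M] [Module R M] [Module.Free R M] [Module.Finite R M]

/-- `End(M)` is `p`-adically separated. -/
theorem locr_end_eq_zero (Y : Module.End R M)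
    (h : ∀ n : ℕ, ∃ c : Module.End R M, Y = (p : R) ^ n • c) : Y = 0 := by
  classical
  set b := Module.finBasis R M with hb
  apply (LinearMap.toMatrix b b).injective
  rw [map_zero]
  ext j k
  rw [Matrix.zero_apply]
  apply locr_eq_zero_of_forall_pow_dvd p
  intro n
  obtain ⟨c, hc⟩ := h n
  refine ⟨LinearMap.toMatrix b b c j k, ?_⟩
  rw [hc, map_smul, Matrix.smul_apply, smul_eq_mul]

omit [Fact p.Prime] [PUnif R p] in
/-- `End(M)` is `p`-adically precomplete. -/
theorem locr_exists_limit_end [IsAdicComplete (Ideal.span {(p : R)}) R] (F : ℕ → Module.End R M)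
    (hF : ∀ m n, m ≤ n → ∃ c : Module.End R M, F n - F m = (p : R) ^ m • c) :
    ∃ e : Module.End R M, ∀ n, ∃ c : Module.End R M, e - F n = (p : R) ^ n • c := by
  classical
  set b := Module.finBasis R M with hb
  have hlim : ∀ j k, ∃ L : R, ∀ n, (p : R) ^ n ∣ L - LinearMap.toMatrix b b (F n) j k := by
    intro j k
    apply locr_exists_limit p (fun n => LinearMap.toMatrix b b (F n) j k)
    intro m n hmn
    obtain ⟨c, hc⟩ := hF m n hmn
    refine ⟨LinearMap.toMatrix b b c j k, ?_⟩
    have : LinearMap.toMatrix b b (F n) - LinearMap.toMatrix b b (F m) =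
        (p : R) ^ m • LinearMap.toMatrix b b c := by
      rw [← map_sub, hc, map_smul]
    have h2 := congrFun (congrFun this j) k
    rw [Matrix.sub_apply, Matrix.smul_apply, smul_eq_mul] at h2
    exact h2
  choose L hL using hlim
  refine ⟨Matrix.toLin b b (Matrix.of L), fun n => ?_⟩
  have hdiv : ∀ j k, ∃ d : R, L j k - LinearMap.toMatrix b b (F n) j k = (p : R) ^ n * d :=
    fun j k => hL j k n
  choose D hD using hdiv
  refine ⟨Matrix.toLin b b (Matrix.of D), ?_⟩
  apply (LinearMap.toMatrix b b).injective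
  rw [map_sub, map_smul, LinearMap.toMatrix_toLin, LinearMap.toMatrix_toLin]
  ext j k
  rw [Matrix.sub_apply, Matrix.smul_apply, smul_eq_mul, Matrix.of_apply, Matrix.of_apply]
  exact hD j k

/-- `1 + p N` is invertible. -/
theorem locr_isUnit_one_add (N : Module.End R M) : IsUnit (1 + (p : R) • N) := by
  classical
  set b := Module.finBasis R M with hb
  set Φ := LinearMap.toMatrixAlgEquiv b with hΦ
  have h1 : Φ (1 + (p : R) • N) = 1 + (p : R) • Φ N := by
    rw [map_add, map_one, map_smul]
  have h2 : IsUnit (Φ (1 + (p : R) • N)) := by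
    rw [h1, Matrix.isUnit_iff_isUnit_det, Matrix.det_one_add_smul]
    set w : R := (Φ N).trace + eval (p : R) (1 + (X : R[X]) • (Φ N).map ⇑C).det.divX.divX * (p : R)
      with hw
    have : (1 : R) + (Φ N).trace * (p : R) +
        eval (p : R) (1 + (X : R[X]) • (Φ N).map ⇑C).det.divX.divX * (p : R) ^ 2 =
        1 - (-((p : R) * w)) := by
      rw [hw]; ring
    rw [this]
    apply IsLocalRing.isUnit_one_sub_self_of_mem_nonunits
    rw [mem_nonunits_iff]
    intro hu
    have hp : IsUnit ((p : R) * w) := by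
      have := hu.neg
      rwa [neg_neg] at this
    exact (irreducible_p p (R := R)).not_isUnit (isUnit_of_mul_isUnit_left hp)
  have h3 := h2.map Φ.symm
  rwa [AlgEquiv.symm_apply_apply] at h3

/-- the Newton iteration `x ↦ 3x² - 2x³` on polynomials. -/
noncomputable def locrSeq (Q₀ : R[X]) : ℕ → R[X]
  | 0 => Q₀
  | (i + 1) => 3 * (locrSeq Q₀ i) ^ 2 - 2 * (locrSeq Q₀ i) ^ 3

omit [IsDomain R] [IsDiscreteValuationRing R] in
theorem locrSeq_succ_sub (Q₀ : R[X]) (i : ℕ) :
    locrSeq Q₀ (i + 1) - locrSeq Q₀ i =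
      ((locrSeq Q₀ i) ^ 2 - locrSeq Q₀ i) * (1 - 2 * locrSeq Q₀ i) := by
  simp only [locrSeq]; ring

omit [Fact p.Prime] [PUnif R p] [IsDomain R] [IsDiscreteValuationRing R] in
theorem locrSeq_inv (chi Q₀ α₀ β₀ : R[X])
    (h0 : Q₀ ^ 2 - Q₀ = α₀ * chi + C (p : R) * β₀) (i : ℕ) :
    ∃ α β : R[X], (locrSeq Q₀ i) ^ 2 - locrSeq Q₀ i = α * chi + C (p : R) ^ (i + 1) * β := by
  induction i with
  | zero => exact ⟨α₀, β₀, by simpa [locrSeq] using h0⟩
  | succ i ih =>
    obtain ⟨α, β, h⟩ := ih
    set x := locrSeq Q₀ i with hx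
    have hid : (locrSeq Q₀ (i + 1)) ^ 2 - locrSeq Q₀ (i + 1) =
        (x ^ 2 - x) ^ 2 * (4 * x ^ 2 - 4 * x - 3) := by
      simp only [locrSeq, ← hx]; ring
    refine ⟨α * (α * chi + 2 * C (p : R) ^ (i + 1) * β) * (4 * x ^ 2 - 4 * x - 3),
      C (p : R) ^ i * β ^ 2 * (4 * x ^ 2 - 4 * x - 3), ?_⟩
    rw [hid, h]
    ring

end LocAux

section Main

variable (p : ℕ) [Fact p.Prime] {R : Type*} [CommRing R] [IsDomain R] [IsDiscreteValuationRing R]
  [CharZero R] [PUnif R p]

variable {G : Type*} [Group G] [Finite G]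
variable {M : Type*} [AddCommGroup M] [Module R M] [Module.Free R M] [Module.Finite R M]

/-- PIECE LOC-R: in the commutant of an "irreducible" lattice every element is a unit or nilpotent
mod `p`. -/
theorem unit_or_nilp [IsAdicComplete (Ideal.span {(p : R)}) R] (ρ : Representation R G M)
    (hirr : ∀ ε : Module.End R M, (∀ g, Commute ε (ρ g)) → ε * ε = ε → ε = 0 ∨ ε = 1)
    (lam : Module.End R M) (hlam : ∀ g, Commute lam (ρ g)) :
    (∃ mu : Module.End R M, (∀ g, Commute mu (ρ g)) ∧ lam * mu = 1 ∧ mu * lam = 1) ∨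
    (∃ (k : ℕ) (nu : Module.End R M), lam ^ k = (p : R) • nu) := by
  classical
  -- the unit case
  have hunit : IsUnit lam →
      ∃ mu : Module.End R M, (∀ g, Commute mu (ρ g)) ∧ lam * mu = 1 ∧ mu * lam = 1 := by
    rintro ⟨u, hu⟩
    refine ⟨((u⁻¹ : (Module.End R M)ˣ) : Module.End R M), fun g => ?_, ?_, ?_⟩
    · have : Commute (u : Module.End R M) (ρ g) := by rw [hu]; exact hlam g
      exact this.units_inv_left
    · rw [← hu]; exact u.mul_inv
    · rw [← hu]; exact u.inv_mul
  have hpoly : ∀ Q : R[X], ∀ g, Commute (aeval lam Q) (ρ g) := fun Q g =>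
    (locr_commute_aeval ((hlam g).symm) Q).symm
  have hCp : ∀ (i : ℕ) (β : R[X]), aeval lam (C (p : R) ^ i * β) = (p : R) ^ i • aeval lam β := by
    intro i β
    rw [← C_pow, map_mul, aeval_C, Algebra.algebraMap_eq_smul_one, smul_mul_assoc, one_mul]
  have hCH : aeval lam lam.charpoly = 0 := LinearMap.aeval_self_charpoly lam
  obtain ⟨a, U, V, Gp, H₁, H₂, hchi, hbez, hG0⟩ :=
    locr_poly_setup p lam.charpoly (LinearMap.charpoly_monic lam)
  have hchi' : lam ^ a * aeval lam Gp = -((p : R) • aeval lam H₁) := by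
    have := congrArg (aeval lam) hchi
    rw [hCH, map_add, map_mul, map_pow, aeval_X] at this
    have h2 := hCp 1 H₁
    rw [pow_one, pow_one] at h2
    rw [h2] at this
    exact eq_neg_of_add_eq_zero_left this.symm
  have hbez' : aeval lam U * lam ^ a + aeval lam V * aeval lam Gp =
      1 + (p : R) • aeval lam H₂ := by
    have := congrArg (aeval lam) hbez
    rw [map_add, map_mul, map_mul, map_pow, aeval_X, map_add, map_one] at this
    have h2 := hCp 1 H₂
    rw [pow_one, pow_one] at h2
    rw [h2] at this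
    exact this
  rcases Nat.eq_zero_or_pos a with ha | ha
  · -- constant term of the characteristic polynomial is a unit: `lam` is a unit
    left
    apply hunit
    subst ha
    rw [pow_zero, one_mul] at hchi
    set c₀ := lam.charpoly.coeff 0 with hc₀
    have hc₀u : IsUnit c₀ := by
      apply isUnit_of_not_dvd p
      intro hdvd
      have h1 : c₀ = Gp.coeff 0 + (p : R) * H₁.coeff 0 := by
        rw [hc₀, hchi, coeff_add, coeff_C_mul]
      have h2 : (p : R) ∣ Gp.coeff 0 := by
        have : Gp.coeff 0 = c₀ - (p : R) * H₁.coeff 0 := by rw [h1]; ring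
        rw [this]
        exact dvd_sub hdvd (dvd_mul_right _ _)
      exact not_dvd_of_isUnit p hG0 h2
    obtain ⟨c, hc⟩ := hc₀u
    have hdec : aeval lam lam.charpoly.divX * lam + c₀ • (1 : Module.End R M) = 0 := by
      have := congrArg (aeval lam) (divX_mul_X_add lam.charpoly)
      rw [hCH, map_add, map_mul, aeval_X, aeval_C, Algebra.algebraMap_eq_smul_one] at this
      exact this
    have hcomm : Commute (aeval lam lam.charpoly.divX) lam :=
      (locr_commute_aeval (Commute.refl lam) _).symm
    set S := aeval lam lam.charpoly.divX with hS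
    have hS1 : S * lam = -(c₀ • (1 : Module.End R M)) := eq_neg_of_add_eq_zero_left hdec
    have hcinv : ((c⁻¹ : Rˣ) : R) * c₀ = 1 := by rw [← hc]; exact c.inv_mul
    refine ⟨⟨lam, -(((c⁻¹ : Rˣ) : R) • S), ?_, ?_⟩, rfl⟩
    · rw [mul_neg, mul_smul_comm, ← hcomm.eq, hS1, smul_neg, neg_neg, smul_smul, hcinv, one_smul]
    · rw [neg_mul, smul_mul_assoc, hS1, smul_neg, neg_neg, smul_smul, hcinv, one_smul]
  · -- Newton iteration
    set Q₀ : R[X] := U * X ^ a with hQ₀
    have h0 : Q₀ ^ 2 - Q₀ = (-(U * V)) * lam.charpoly + C (p : R) * (U * V * H₁ + Q₀ * H₂) := by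
      have e1 : Q₀ - 1 = -(V * Gp) + C (p : R) * H₂ := by
        rw [hQ₀]
        have := hbez
        linear_combination this
      have e2 : Q₀ ^ 2 - Q₀ = Q₀ * (Q₀ - 1) := by ring
      rw [e2, e1, hchi, hQ₀]
      ring
    set F : ℕ → Module.End R M := fun i => aeval lam (locrSeq Q₀ i) with hF
    have hFcomm : ∀ i g, Commute (F i) (ρ g) := fun i g => hpoly _ g
    have hFsq : ∀ i, ∃ c : Module.End R M, F i * F i - F i = (p : R) ^ (i + 1) • c := by
      intro i
      obtain ⟨α, β, h⟩ := locrSeq_inv p lam.charpoly Q₀ _ _ h0 i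
      refine ⟨aeval lam β, ?_⟩
      have := congrArg (aeval lam) h
      rw [map_sub, map_pow, map_add, map_mul, hCH, mul_zero, zero_add, hCp] at this
      rw [← this, pow_two]
    have hFstep : ∀ i, ∃ c : Module.End R M, F (i + 1) - F i = (p : R) ^ (i + 1) • c := by
      intro i
      obtain ⟨c, hc⟩ := hFsq i
      refine ⟨c * aeval lam (1 - 2 * locrSeq Q₀ i), ?_⟩
      have := congrArg (aeval lam) (locrSeq_succ_sub Q₀ i)
      rw [map_sub, map_mul, map_sub, map_pow] at this
      rw [hF]
      simp only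
      rw [this, pow_two, ← smul_mul_assoc, ← hc]
    have hFcauchy : ∀ m n, m ≤ n → ∃ c : Module.End R M, F n - F m = (p : R) ^ m • c := by
      intro m n hmn
      induction n, hmn using Nat.le_induction with
      | base => exact ⟨0, by simp⟩
      | succ n hmn ih =>
        obtain ⟨c, hc⟩ := ih
        obtain ⟨c', hc'⟩ := hFstep n
        refine ⟨(p : R) ^ (n + 1 - m) • c' + c, ?_⟩
        have hpow : (p : R) ^ (n + 1) = (p : R) ^ m * (p : R) ^ (n + 1 - m) := by
          rw [← pow_add]; congr 1; omega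
        have : F (n + 1) - F m = (F (n + 1) - F n) + (F n - F m) := by abel
        rw [this, hc, hc', hpow, smul_add, smul_smul]
    obtain ⟨e, he⟩ := locr_exists_limit_end p F hFcauchy
    -- `e` is an idempotent of the commutant
    have hecomm : ∀ g, Commute e (ρ g) := by
      intro g
      have : e * ρ g - ρ g * e = 0 := by
        apply locr_end_eq_zero p
        intro n
        obtain ⟨c, hc⟩ := he n
        refine ⟨c * ρ g - ρ g * c, ?_⟩
        have h1 : e = F n + (p : R) ^ n • c := by rw [← hc]; abel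
        rw [h1, add_mul, mul_add, (hFcomm n g).eq, smul_mul_assoc, mul_smul_comm, smul_sub]
        abel
      exact sub_eq_zero.1 this
    have heidem : e * e = e := by
      have : e * e - e = 0 := by
        apply locr_end_eq_zero p
        intro n
        obtain ⟨c, hc⟩ := he n
        obtain ⟨c', hc'⟩ := hFsq n
        refine ⟨(p : R) • c' + F n * c + c * F n + (p : R) ^ n • (c * c) - c, ?_⟩
        have h1 : e = F n + (p : R) ^ n • c := by rw [← hc]; abel
        have h2 : ∀ Fn d : Module.End R M, (Fn + d) * (Fn + d) - (Fn + d) =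
            (Fn * Fn - Fn) + (Fn * d + d * Fn + d * d - d) := by
          intro Fn d; noncomm_ring
        rw [h1, h2, hc']
        simp only [smul_add, smul_sub, smul_smul, mul_smul_comm, smul_mul_assoc, pow_succ]
        abel
      exact sub_eq_zero.1 this
    -- `e ≡ F 0 mod p`
    have he0 : ∃ w : Module.End R M, e - aeval lam Q₀ = (p : R) • w := by
      obtain ⟨c, hc⟩ := he 1
      obtain ⟨c', hc'⟩ := hFstep 0
      refine ⟨c + c', ?_⟩
      have : e - aeval lam Q₀ = (e - F 1) + (F 1 - F 0) := by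
        simp only [hF, locrSeq]; abel
      rw [this, hc, hc']
      simp only [pow_one, zero_add, smul_add]
    obtain ⟨w, hw⟩ := he0
    have hQ₀lam : aeval lam Q₀ = aeval lam U * lam ^ a := by
      rw [hQ₀, map_mul, map_pow, aeval_X]
    have hUcomm : Commute (aeval lam U) (lam ^ a) :=
      ((locr_commute_aeval (Commute.refl lam) U).symm).pow_right a
    rcases hirr e hecomm heidem with h | h
    · -- `e = 0`: `lam ^ a` is divisible by `p`
      right
      rw [h, zero_sub] at hw
      have hVG : aeval lam V * aeval lam Gp = 1 + (p : R) • (aeval lam H₂ + w) := by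
        have : aeval lam V * aeval lam Gp =
            1 + (p : R) • aeval lam H₂ - aeval lam U * lam ^ a := by
          rw [← hbez']; abel
        rw [this, ← hQ₀lam, smul_add, ← hw]; abel
      have hVGu : IsUnit (aeval lam V * aeval lam Gp) := by
        rw [hVG]; exact locr_isUnit_one_add p _
      have hVGcomm : Commute (aeval lam V) (aeval lam Gp) :=
        locr_commute_aeval ((locr_commute_aeval (Commute.refl lam) V).symm) Gp
      obtain ⟨gu, hgu⟩ := ((hVGcomm.isUnit_mul_iff).1 hVGu).2
      refine ⟨a, -(aeval lam H₁ * ((gu⁻¹ : (Module.End R M)ˣ) : Module.End R M)), ?_⟩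
      have : lam ^ a = lam ^ a * aeval lam Gp * ((gu⁻¹ : (Module.End R M)ˣ) : Module.End R M) := by
        rw [← hgu, mul_assoc, gu.mul_inv, mul_one]
      rw [this, hchi', neg_mul, smul_mul_assoc, smul_neg]
    · -- `e = 1`: `lam` is a unit
      left
      apply hunit
      have hu : IsUnit (aeval lam U * lam ^ a) := by
        rw [← hQ₀lam]
        have : aeval lam Q₀ = 1 + (p : R) • (-w) := by
          rw [smul_neg, ← hw, h]; abel
        rw [this]
        exact locr_isUnit_one_add p _
      exact (isUnit_pow_iff (Nat.pos_iff_ne_zero.1 ha)).1 ((hUcomm.isUnit_mul_iff).1 hu).2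

end Main

end Cfsg.Agent.Helper5.TLR
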