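import Mathlib

set_option autoImplicit false

/-! An automorphism of a finite Z-group of odd order (all Sylow subgroups cyclic) that, up to inner
automorphisms, inverts every Sylow subgroup having a normal complement, inverts the whole group,
which is then cyclic. -/

namespace Cfsg.Agent.Helper3.ZGroupInv

/-- A subgroup containing every Sylow subgroup is the whole group. -/
theorem eq_top_of_sylow_le {H : Type*} [Group H] [Finite H] (D : Subgroup H)
    (hD : ∀ (q : ℕ) [Fact q.Prime] (Q : Sylow q H), (Q : Subgroup H) ≤ D) : D = ⊤ := by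
  apply Subgroup.eq_top_of_card_eq
  apply Nat.dvd_antisymm (Subgroup.card_subgroup_dvd_card D)
  rw [← Nat.factorization_prime_le_iff_dvd Nat.card_pos.ne' Nat.card_pos.ne']
  intro p hp
  haveI : Fact p.Prime := ⟨hp⟩
  obtain ⟨Q⟩ : Nonempty (Sylow p H) := inferInstance
  have h1 : Nat.card Q = p ^ (Nat.card H).factorization p := Q.card_eq_multiplicity
  have h2 : Nat.card Q ∣ Nat.card D := Subgroup.card_dvd_of_le (hD p Q)
  rw [h1] at h2
  exact (hp.pow_dvd_iff_le_factorization Nat.card_pos.ne').mp h2

/-- If `k * k ≡ 1` and `k ^ N ≡ 1` modulo `o` with `N` odd, then `k ≡ 1`. -/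
theorem modEq_one_of_sq_of_odd_pow {k N o : ℕ} (h2 : k * k ≡ 1 [MOD o]) (hN : k ^ N ≡ 1 [MOD o])
    (hodd : Odd N) : k ≡ 1 [MOD o] := by
  obtain ⟨u, rfl⟩ := hodd
  have h3 : k ^ (2 * u + 1) ≡ k [MOD o] := by
    rw [pow_succ, pow_mul, pow_two]
    calc (k * k) ^ u * k ≡ 1 ^ u * k [MOD o] := Nat.ModEq.mul_right _ (h2.pow u)
      _ = k := by rw [one_pow, one_mul]
  exact h3.symm.trans hN

theorem zgroup_inverted {H : Type*} [Group H] [Finite H] [IsZGroup H] (hodd : Odd (Nat.card H))
    (τ : MulAut H)
    (hkey : ∀ (q : ℕ) [Fact q.Prime] (Q : Sylow q H),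
      Subgroup.normalizer ((Q : Subgroup H) : Set H) ≤ Subgroup.centralizer ((Q : Subgroup H) : Set H) →
      ∃ h : H, ∀ w ∈ (Q : Subgroup H), τ (h * w * h⁻¹) = w⁻¹) :
    (∀ h : H, τ h = h⁻¹) ∧ IsCyclic H := by
  classical
  -- commutator subgroup is invariant under τ
  have hchar : ∀ c ∈ commutator H, τ c ∈ commutator H := by
    intro c hc
    have hch : (commutator H).Characteristic := by
      rw [commutator_def]; infer_instance
    have := hch.fixed τ
    have h' : c ∈ (commutator H).comap τ.toMonoidHom := by rw [this]; exact hc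
    exact h'
  have hof : ∀ h : H, Abelianization.of h = 1 ↔ h ∈ commutator H := by
    intro h
    rw [← MonoidHom.mem_ker, Abelianization.ker_of]
  let φ : H →* Abelianization H := (Abelianization.of.comp τ.toMonoidHom) * Abelianization.of
  have hφ : ∀ h : H, φ h = Abelianization.of (τ h) * Abelianization.of h := fun h => rfl
  -- every Sylow subgroup lies in the kernel of φ
  have hsyl : ∀ (q : ℕ) [Fact q.Prime] (Q : Sylow q H), (Q : Subgroup H) ≤ φ.ker := by
    intro q _ Q
    rcases Sylow.normalizer_le_centralizer_or_le_commutator Q with hN | hC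
    · obtain ⟨h₀, hh₀⟩ := hkey q Q hN
      intro w hw
      rw [MonoidHom.mem_ker, hφ]
      have e := hh₀ w hw
      have e1 : τ h₀ * τ w * (τ h₀)⁻¹ = w⁻¹ := by
        rw [← e]; simp
      have e2 := congrArg Abelianization.of e1
      simp only [map_mul, map_inv] at e2
      rw [mul_comm (Abelianization.of (τ h₀)), mul_assoc, mul_inv_cancel, mul_one] at e2
      rw [e2, inv_mul_cancel]
    · intro w hw
      rw [MonoidHom.mem_ker, hφ]
      have h1 : w ∈ commutator H := hC hw
      rw [(hof w).mpr h1, (hof _).mpr (hchar w h1), one_mul]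
  have hker : φ.ker = ⊤ := eq_top_of_sylow_le _ hsyl
  have hD : ∀ h : H, τ h * h ∈ commutator H := by
    intro h
    have : h ∈ φ.ker := hker ▸ Subgroup.mem_top h
    rw [MonoidHom.mem_ker, hφ, ← map_mul, hof] at this
    exact this
  -- the commutator subgroup is central
  haveI : IsCyclic (commutator H) := IsZGroup.isCyclic_commutator H
  obtain ⟨⟨y, hyc⟩, hy⟩ := IsCyclic.exists_generator (α := commutator H)
  have hpow : ∀ c ∈ commutator H, ∃ j : ℕ, c = y ^ j := by
    intro c hc
    have h1 := hy ⟨c, hc⟩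
    rw [← mem_powers_iff_mem_zpowers] at h1
    obtain ⟨j, hj⟩ := h1
    refine ⟨j, ?_⟩
    have := congrArg Subtype.val hj
    simpa using this.symm
  have hcomm' : ∀ c₁ ∈ commutator H, ∀ c₂ ∈ commutator H, c₁ * c₂ = c₂ * c₁ := by
    intro c₁ h1 c₂ h2
    obtain ⟨i, rfl⟩ := hpow c₁ h1
    obtain ⟨j, rfl⟩ := hpow c₂ h2
    rw [← pow_add, ← pow_add, add_comm]
  have hnorm : ∀ (h : H), ∀ c ∈ commutator H, h * c * h⁻¹ ∈ commutator H := by
    intro h c hc
    have hn : (commutator H).Normal := by rw [commutator_def]; infer_instance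
    exact hn.conj_mem c hc h
  have hcentral : ∀ (h : H), h * y = y * h := by
    intro h
    obtain ⟨k, hk⟩ := hpow (h * y * h⁻¹) (hnorm h y hyc)
    have hconj : ∀ c ∈ commutator H, h * c * h⁻¹ = c ^ k := by
      intro c hc
      obtain ⟨j, rfl⟩ := hpow c hc
      rw [← conj_pow, hk, ← pow_mul, ← pow_mul, mul_comm]
    set y' := τ y with hy'
    have hy'c : y' ∈ commutator H := hchar y hyc
    have E1 : h * y' * h⁻¹ = y' ^ k := hconj y' hy'c
    -- apply τ to the relation
    have hτrel : τ h * y' * (τ h)⁻¹ = y' ^ k := by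
      have := congrArg τ hk
      rw [map_mul, map_mul, map_inv, map_pow] at this
      exact this
    set c₁ := τ h * h with hc₁
    have hc₁c : c₁ ∈ commutator H := hD h
    have hτh : τ h = c₁ * h⁻¹ := by rw [hc₁]; group
    have E2 : h⁻¹ * y' * h = y' ^ k := by
      have hz : h⁻¹ * y' * h ∈ commutator H := by
        have := hnorm h⁻¹ y' hy'c
        rwa [inv_inv] at this
      have h1 : c₁ * (h⁻¹ * y' * h) * c₁⁻¹ = y' ^ k := by
        rw [← hτrel, hτh]; group
      have h2 : c₁ * (h⁻¹ * y' * h) * c₁⁻¹ = h⁻¹ * y' * h := by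
        rw [hcomm' c₁ hc₁c _ hz, mul_assoc, mul_inv_cancel, mul_one]
      rw [← h2, h1]
    have E3 : y' ^ (k * k) = y' ^ 1 := by
      have h1 : y' = h * (h⁻¹ * y' * h) * h⁻¹ := by group
      rw [pow_one]
      conv_rhs => rw [h1, E2, ← conj_pow, E1, ← pow_mul]
    have E4 : ∀ j : ℕ, h ^ j * y' * (h ^ j)⁻¹ = y' ^ (k ^ j) := by
      intro j
      induction j with
      | zero => simp
      | succ j ih =>
        have h1 : h ^ (j + 1) * y' * (h ^ (j + 1))⁻¹ = h * (h ^ j * y' * (h ^ j)⁻¹) * h⁻¹ := by
          rw [pow_succ']; group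
        rw [h1, ih, hconj _ (Subgroup.pow_mem _ hy'c _), ← pow_mul, pow_succ]
    have E5 : y' ^ (k ^ orderOf h) = y' ^ 1 := by
      rw [← E4, pow_orderOf_eq_one]; simp
    have ho : orderOf y' = orderOf y := MulEquiv.orderOf_eq τ y
    have m1 : k * k ≡ 1 [MOD orderOf y'] := pow_eq_pow_iff_modEq.mp E3
    have m2 : k ^ orderOf h ≡ 1 [MOD orderOf y'] := pow_eq_pow_iff_modEq.mp E5
    have hoddh : Odd (orderOf h) := by
      have hdvd := orderOf_dvd_natCard h
      by_contra hne
      rw [Nat.not_odd_iff_even] at hne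
      have : Even (Nat.card H) := (hne.two_dvd.trans hdvd) |> even_iff_two_dvd.mpr
      exact (Nat.not_even_iff_odd.mpr hodd) this
    have m3 := modEq_one_of_sq_of_odd_pow m1 m2 hoddh
    rw [ho] at m3
    have : y ^ k = y ^ 1 := pow_eq_pow_iff_modEq.mpr m3
    rw [pow_one] at this
    rw [this] at hk
    have := congrArg (fun z => z * h) hk
    simpa using this
  have hle : (Abelianization.of : H →* Abelianization H).ker ≤ Subgroup.center H := by
    rw [Abelianization.ker_of]
    intro c hc
    rw [Subgroup.mem_center_iff]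
    intro h
    obtain ⟨j, rfl⟩ := hpow c hc
    exact ((Commute.pow_right (hcentral h) j)).eq
  have hcommH : ∀ a b : H, a * b = b * a :=
    commutative_of_cyclic_center_quotient (Abelianization.of : H →* Abelianization H) hle
  have hbot : commutator H = ⊥ := by
    rw [commutator_def, Subgroup.commutator_eq_bot_iff_le_centralizer]
    intro a _
    rw [Subgroup.mem_centralizer_iff]
    intro b _
    exact hcommH b a
  constructor
  · intro h
    have := hD h
    rw [hbot, Subgroup.mem_bot] at this
    exact eq_inv_of_mul_eq_one_left this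
  · have hinj : Function.Injective (Abelianization.of : H →* Abelianization H) := by
      rw [← MonoidHom.ker_eq_bot_iff, Abelianization.ker_of, hbot]
    exact isCyclic_of_injective _ hinj

end Cfsg.Agent.Helper3.ZGroupInv
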