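import Mathlib

set_option autoImplicit false

namespace Cfsg.Agent.Helper3

open DihedralGroup

section lift

variable {M : Type*} [Group M] {n : ℕ} [NeZero n]

/-- powers of an element of order dividing `n`, indexed by `ZMod n`. -/
def zmodPow (x : M) (i : ZMod n) : M := x ^ i.val

theorem zmodPow_add {x : M} (hx : x ^ n = 1) (i j : ZMod n) :
    zmodPow x (i + j) = zmodPow x i * zmodPow x j := by
  unfold zmodPow
  rw [← pow_add, ZMod.val_add]
  conv_rhs => rw [← Nat.mod_add_div (i.val + j.val) n, pow_add, pow_mul, hx, one_pow, mul_one]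

theorem zmodPow_zero (x : M) : zmodPow x (0 : ZMod n) = 1 := by
  unfold zmodPow
  rw [ZMod.val_zero, pow_zero]

theorem zmodPow_neg {x : M} (hx : x ^ n = 1) (i : ZMod n) :
    zmodPow x (-i) = (zmodPow x i)⁻¹ := by
  apply eq_inv_of_mul_eq_one_left
  rw [← zmodPow_add hx, neg_add_cancel, zmodPow_zero]

theorem zmodPow_sub {x : M} (hx : x ^ n = 1) (i j : ZMod n) :
    zmodPow x (i - j) = zmodPow x i * (zmodPow x j)⁻¹ := by
  rw [sub_eq_add_neg, zmodPow_add hx, zmodPow_neg hx]

theorem refl_mul_zmodPow {x s : M} (hs : s * s = 1) (hsx : s * x * s = x⁻¹) (i : ZMod n) :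
    s * zmodPow x i = (zmodPow x i)⁻¹ * s := by
  unfold zmodPow
  have hsinv : s⁻¹ = s := inv_eq_of_mul_eq_one_left hs
  have h1 : s * x ^ i.val * s⁻¹ = (x ^ i.val)⁻¹ := by
    rw [← conj_pow, hsinv, hsx, inv_pow]
  exact mul_inv_eq_iff_eq_mul.mp h1

/-- The universal property of the dihedral group. -/
def dihedralLift (x s : M) (hx : x ^ n = 1) (hs : s * s = 1) (hsx : s * x * s = x⁻¹) :
    DihedralGroup n →* M where
  toFun
    | r i => zmodPow x i
    | sr i => s * zmodPow x i
  map_one' := by
    show zmodPow x (0 : ZMod n) = 1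
    exact zmodPow_zero x
  map_mul' := by
    rintro (i | i) (j | j)
    · show zmodPow x (i + j) = zmodPow x i * zmodPow x j
      exact zmodPow_add hx i j
    · show s * zmodPow x (j - i) = zmodPow x i * (s * zmodPow x j)
      rw [zmodPow_sub hx, ← mul_assoc, ← mul_assoc]
      have := refl_mul_zmodPow hs hsx i
      have h2 : zmodPow x i * s = s * (zmodPow x i)⁻¹ := by
        have h3 : s * (s * zmodPow x i) * s = s * ((zmodPow x i)⁻¹ * s) * s := by rw [this]
        have h4 : s * (s * zmodPow x i) * s = zmodPow x i * s := by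
          rw [← mul_assoc, hs, one_mul]
        have h5 : s * ((zmodPow x i)⁻¹ * s) * s = s * (zmodPow x i)⁻¹ := by
          rw [mul_assoc, mul_assoc, hs, mul_one]
        rw [← h4, h3, h5]
      rw [h2, mul_assoc, mul_assoc]
      congr 1
      have hc : Commute (zmodPow x j) (zmodPow x i)⁻¹ := by
        unfold zmodPow
        exact ((Commute.refl x).pow_pow _ _).inv_right
      exact hc.eq
    · show s * zmodPow x (i + j) = s * zmodPow x i * zmodPow x j
      rw [zmodPow_add hx, mul_assoc]
    · show zmodPow x (j - i) = s * zmodPow x i * (s * zmodPow x j)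
      rw [refl_mul_zmodPow hs hsx i, mul_assoc, ← mul_assoc s s, hs, one_mul, zmodPow_sub hx]
      have hc : Commute (zmodPow x j) (zmodPow x i)⁻¹ := by
        unfold zmodPow
        exact ((Commute.refl x).pow_pow _ _).inv_right
      exact hc.eq

@[simp] theorem dihedralLift_r (x s : M) (hx : x ^ n = 1) (hs : s * s = 1) (hsx : s * x * s = x⁻¹)
    (i : ZMod n) : dihedralLift x s hx hs hsx (r i) = zmodPow x i := rfl

@[simp] theorem dihedralLift_sr (x s : M) (hx : x ^ n = 1) (hs : s * s = 1)
    (hsx : s * x * s = x⁻¹) (i : ZMod n) :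
    dihedralLift x s hx hs hsx (sr i) = s * zmodPow x i := rfl

end lift

end Cfsg.Agent.Helper3
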