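import Mathlib

set_option autoImplicit false

/-! A counting lemma: a finite group fixing a point `a`, in which every non-identity element fixes
at most one further point and all point stabilizers (of points `≠ a`) are non-trivial of the same
order, is transitive on the points different from `a`. -/

namespace Cfsg.Agent.Helper3.ZassCount

open MulAction

variable {A Ω : Type*} [Group A] [MulAction A Ω]

theorem trans_of_count [Finite A] [Finite Ω] (a : Ω) (ha : ∀ g : A, g • a = a)
    (h3 : ∀ g : A, g ≠ 1 → ∀ x y : Ω, x ≠ a → y ≠ a → g • x = x → g • y = y → x = y)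
    (e : ℕ) (he : 2 ≤ e) (hstab : ∀ x : Ω, x ≠ a → Nat.card (stabilizer A x) = e)
    (x y : Ω) (hx : x ≠ a) (hy : y ≠ a) : ∃ g : A, g • x = y := by
  classical
  haveI : Fintype A := Fintype.ofFinite A
  haveI : Fintype Ω := Fintype.ofFinite Ω
  by_contra hne
  -- orbit sizes
  have horb : ∀ z : Ω, z ≠ a → (orbit A z).ncard * e = Nat.card A := by
    intro z hz
    rw [← MulAction.index_stabilizer, ← hstab z hz, mul_comm]
    exact Subgroup.card_mul_index _
  set m := (orbit A x).ncard with hm
  have hmx := horb x hx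
  have hmy := horb y hy
  have hmy' : (orbit A y).ncard = m := by
    have : (orbit A y).ncard * e = m * e := by rw [hmy, hmx]
    exact Nat.eq_of_mul_eq_mul_right (by omega) this
  -- orbits disjoint and inside the complement of a
  have hdisj : Disjoint (orbit A x) (orbit A y) := by
    rw [Set.disjoint_left]
    rintro z ⟨g1, rfl⟩ ⟨g2, h2⟩
    apply hne
    refine ⟨g2⁻¹ * g1, ?_⟩
    have h2' : g2 • y = g1 • x := h2
    rw [mul_smul, ← h2', inv_smul_smul]
  have hsub : orbit A x ∪ orbit A y ⊆ {z : Ω | z ≠ a} := by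
    rintro z (⟨g, rfl⟩ | ⟨g, rfl⟩)
    · intro h
      apply hx
      have := congrArg (fun w => g⁻¹ • w) h
      simpa [ha] using this
    · intro h
      apply hy
      have := congrArg (fun w => g⁻¹ • w) h
      simpa [ha] using this
  have hcardX : ({z : Ω | z ≠ a}).ncard = Fintype.card Ω - 1 := by
    rw [Set.ncard_eq_toFinset_card', Set.toFinset_setOf]
    rw [Finset.filter_ne' Finset.univ a, Finset.card_erase_of_mem (Finset.mem_univ a),
      Finset.card_univ]
  have h2m : 2 * m ≤ Fintype.card Ω - 1 := by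
    have := Set.ncard_le_ncard hsub (Set.toFinite _)
    rw [Set.ncard_union_eq hdisj (Set.toFinite _) (Set.toFinite _), hmy', hcardX] at this
    omega
  -- double counting
  set X : Finset Ω := Finset.univ.erase a with hX
  set A1 : Finset A := Finset.univ.erase 1 with hA1
  have hdc := Finset.sum_card_bipartiteAbove_eq_sum_card_bipartiteBelow (s := X) (t := A1)
    (fun (z : Ω) (g : A) => g • z = z)
  have hleft : ∀ z ∈ X, (A1.bipartiteAbove (fun (z : Ω) (g : A) => g • z = z) z).card = e - 1 := by
    intro z hz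
    have hz' : z ≠ a := (Finset.mem_erase.mp hz).1
    have h1 : A1.bipartiteAbove (fun (z : Ω) (g : A) => g • z = z) z
        = (Finset.univ.filter (fun g : A => g • z = z)).erase 1 := by
      ext g
      simp only [Finset.mem_bipartiteAbove, hA1, Finset.mem_erase, Finset.mem_univ, and_true,
        Finset.mem_filter, true_and]
    have h2 : (Finset.univ.filter (fun g : A => g • z = z)).card = e := by
      rw [← hstab z hz', Nat.card_eq_fintype_card, Fintype.card_subtype]
      rfl
    rw [h1, Finset.card_erase_of_mem (by simp), h2]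
  have hright : ∀ g ∈ A1, (X.bipartiteBelow (fun (z : Ω) (g : A) => g • z = z) g).card ≤ 1 := by
    intro g hg
    have hg' : g ≠ 1 := (Finset.mem_erase.mp hg).1
    rw [Finset.card_le_one]
    intro z hz w hw
    rw [Finset.mem_bipartiteBelow] at hz hw
    exact h3 g hg' z w (Finset.mem_erase.mp hz.1).1 (Finset.mem_erase.mp hw.1).1 hz.2 hw.2
  have hsumL : ∑ z ∈ X, (A1.bipartiteAbove (fun (z : Ω) (g : A) => g • z = z) z).card
      = (Fintype.card Ω - 1) * (e - 1) := by
    rw [Finset.sum_congr rfl hleft, Finset.sum_const, smul_eq_mul, hX,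
      Finset.card_erase_of_mem (Finset.mem_univ a), Finset.card_univ]
  have hsumR : ∑ g ∈ A1, (X.bipartiteBelow (fun (z : Ω) (g : A) => g • z = z) g).card
      ≤ Nat.card A - 1 := by
    calc ∑ g ∈ A1, (X.bipartiteBelow (fun (z : Ω) (g : A) => g • z = z) g).card
        ≤ ∑ g ∈ A1, 1 := Finset.sum_le_sum hright
      _ = Nat.card A - 1 := by
        rw [Finset.sum_const, smul_eq_mul, mul_one, hA1,
          Finset.card_erase_of_mem (Finset.mem_univ 1), Finset.card_univ, Nat.card_eq_fintype_card]
  rw [hsumL] at hdc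
  rw [← hdc] at hsumR
  -- arithmetic
  have hmpos : 0 < m := by
    rw [hm, Set.ncard_pos (Set.toFinite _)]
    exact ⟨x, mem_orbit_self x⟩
  obtain ⟨E1, rfl⟩ : ∃ E1, e = E1 + 2 := ⟨e - 2, by omega⟩
  have h5 : (Fintype.card Ω - 1) * (E1 + 2 - 1) ≤ m * (E1 + 2) - 1 := by rw [hmx]; exact hsumR
  have h6 : (2 * m) * (E1 + 1) ≤ (Fintype.card Ω - 1) * (E1 + 2 - 1) := by
    have : E1 + 2 - 1 = E1 + 1 := by omega
    rw [this]
    exact Nat.mul_le_mul_right _ h2m
  have h7 : 1 ≤ m * (E1 + 2) := by nlinarith
  have h8 : (2 * m) * (E1 + 1) + 1 ≤ m * (E1 + 2) := by omega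
  nlinarith

end Cfsg.Agent.Helper3.ZassCount
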