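import Mathlib
import Cfsg.Prelude.Def_FusionSystem
import Cfsg.Agent.Lib.Helper25.KNorm3
import Cfsg.Agent.Lib.Helper25.FusionAlperin2

set_option autoImplicit false

/-!
Definitions and classwise versions of the standard saturation lemmas for the proof that a fusion system
which is generated by, and saturated on, a conjugation-invariant family catching the centric subgroups
is saturated.
-/

namespace Cfsg.Agent.Helper3.Bcglo

open Cfsg Cfsg.FusionSystem Cfsg.Agent.Helper25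

variable {Ω : Type*} [Group Ω] {S : Subgroup Ω}

/-- The conjugacy class of `R` in the system contains a fully automized receptive member. -/
def Good (F : FusionSystem S) (p : ℕ) (R : Subgroup Ω) : Prop :=
  ∃ Q, F.IsConj R Q ∧ F.IsFullyAutomized p Q ∧ F.IsReceptive Q

theorem Good.of_isConj {F : FusionSystem S} {p : ℕ} {R R' : Subgroup Ω} (h : Good F p R)
    (hc : F.IsConj R R') : Good F p R' := by
  obtain ⟨Q, hQ, h1, h2⟩ := h
  exact ⟨Q, isConj_trans F (isConj_symm F hc) hQ, h1, h2⟩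

/-- The working context: all subgroups of `S` of order larger than `P` have good classes, the system is
generated by the maps whose source is not conjugate to `P`, and the centric condition holds for the
class of `P`. -/
structure Ctx (F : FusionSystem S) (p : ℕ) (P : Subgroup Ω) : Prop where
  hS : IsPGroup p S
  hP : P ≤ S
  hbig : ∀ R : Subgroup Ω, R ≤ S → Nat.card P < Nat.card R → Good F p R
  hgen : ∀ E : FusionSystem S, (∀ A : Subgroup Ω, ¬ F.IsConj P A → F.Hom A ⊆ E.Hom A) → F ≤ E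
  hstar : F.IsCentric P → ∃ Q, F.IsConj P Q ∧
      ¬ (autInducedBy S Q ⊓ (pCore p ↥(F.autGroup Q)).map (F.autGroup Q).subtype ≤ Inn Q)

/-- The automorphisms of `P` that extend to an automorphism of `U` belonging to the system. -/
def extSub (F : FusionSystem S) {P U : Subgroup Ω} (hPU : P ≤ U) : Subgroup (MulAut P) where
  carrier := {γ | ∃ β ∈ F.autGroup U, ∀ x : P,
    β (Subgroup.inclusion hPU x) = Subgroup.inclusion hPU (γ x)}
  one_mem' := ⟨1, Subgroup.one_mem _, fun x => rfl⟩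
  mul_mem' := by
    rintro a b ⟨β₁, h₁, e₁⟩ ⟨β₂, h₂, e₂⟩
    refine ⟨β₁ * β₂, Subgroup.mul_mem _ h₁ h₂, fun x => ?_⟩
    rw [MulAut.mul_apply, MulAut.mul_apply, e₂, e₁]
  inv_mem' := by
    rintro a ⟨β, h, e⟩
    refine ⟨β⁻¹, Subgroup.inv_mem _ h, fun x => ?_⟩
    have := e (a⁻¹ x)
    rw [MulAut.apply_inv_self] at this
    rw [← this, MulAut.inv_apply_self]

theorem mem_extSub (F : FusionSystem S) {P U : Subgroup Ω} (hPU : P ≤ U) (γ : MulAut P) :
    γ ∈ extSub F hPU ↔ ∃ β ∈ F.autGroup U, ∀ x : P,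
      β (Subgroup.inclusion hPU x) = Subgroup.inclusion hPU (γ x) := Iff.rfl

/-- The automorphisms of `U` in the system that stabilize `P`. -/
def stabAut (F : FusionSystem S) {P U : Subgroup Ω} (hPU : P ≤ U) : Subgroup (MulAut U) :=
  F.autGroup U ⊓ KP (⊤ : Subgroup (MulAut P)) P U hPU

/-- `P'` admits a map of the system `N_S(P') → N_S(P)` carrying `P'` onto `P`. -/
def HasNMap (F : FusionSystem S) (P P' : Subgroup Ω) : Prop :=
  ∃ σ ∈ F.Hom (normalizerIn S P'), (∀ x, σ x ∈ normalizerIn S P) ∧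
    (P'.subgroupOf (normalizerIn S P')).map σ = P

/-- Every conjugate of `P` admits a map of normalizers onto `P`. -/
def GoalA (F : FusionSystem S) (P : Subgroup Ω) : Prop :=
  ∀ P' : Subgroup Ω, F.IsConj P P' → HasNMap F P P'

/-- A crossing configuration: a conjugate `P'` of `P` without a map of normalizers onto `P`, together with
a map `θ` of the system defined on a subgroup `R'` of `N_S(P')` strictly containing `P'` and carrying `P'`
onto `P`. -/
structure IsCross (F : FusionSystem S) (P P' R' : Subgroup Ω) (θ : R' →* Ω) : Prop where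
  conj : F.IsConj P P'
  not_map : ¬ HasNMap F P P'
  le : P' ≤ R'
  le_norm : R' ≤ normalizerIn S P'
  card_lt : Nat.card P' < Nat.card R'
  mem : θ ∈ F.Hom R'
  map_eq : (P'.subgroupOf R').map θ = P

/-- `O_p(Aut_F(P))` as a subgroup of `Aut(P)`. -/
def OpAut (F : FusionSystem S) (p : ℕ) (P : Subgroup Ω) : Subgroup (MulAut P) :=
  (pCore p ↥(F.autGroup P)).map (F.autGroup P).subtype

/-- Classwise version of: fully centralized subgroups are receptive. -/
theorem isReceptive_of_good [Finite S] (p : ℕ) [Fact p.Prime] (hS : IsPGroup p S)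
    (F : FusionSystem S) {P : Subgroup Ω} (hg : Good F p P) (hP : F.IsFullyCentralized P) :
    F.IsReceptive P := by
  obtain ⟨Q, hPQ, hQfa, hQrec⟩ := hg
  obtain ⟨φ, hφ, hφN, hφQ, hφimg⟩ := exists_normalizer_map p hS F Q P hQfa hQrec hPQ
  have hPS : P ≤ S := hP.1
  have hQS : Q ≤ S := hQrec.1
  have hPN : P ≤ normalizerIn S P := le_normalizerIn hPS
  have hφinj := F.injective_of_mem hφ
  have hφS := (F.le_of_mem hφ).2
  -- C_S(Q) is the image of C_S(P)
  haveI : Finite (centralizerIn S Q) := finite_of_le_finite centralizerIn_le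
  have hCsurj : ∀ d ∈ centralizerIn S Q, ∃ (c : Ω) (hc : c ∈ centralizerIn S P),
      φ ⟨c, centralizerIn_le_normalizerIn hc⟩ = d := by
    have hle : ((centralizerIn S P).subgroupOf (normalizerIn S P)).map φ ≤ centralizerIn S Q := by
      rintro _ ⟨x, hx, rfl⟩
      exact map_centralizerIn_mem F hφ hφimg x (Subgroup.mem_subgroupOf.mp hx)
    have hcard : Nat.card (centralizerIn S Q) ≤
        Nat.card (((centralizerIn S P).subgroupOf (normalizerIn S P)).map φ) := by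
      rw [card_map_centralizerIn F hφ]
      exact hP.2 Q hPQ
    have heq := Subgroup.eq_of_le_of_card_ge hle hcard
    intro d hd
    rw [← heq] at hd
    obtain ⟨x, hx, rfl⟩ := hd
    exact ⟨x, Subgroup.mem_subgroupOf.mp hx, rfl⟩
  refine ⟨hPS, fun R ψ hψ hrange => ?_⟩
  have hRS : R ≤ S := (F.le_of_mem hψ).1
  have hψP : ∀ x : R, ψ x ∈ P := fun x => hrange ▸ ⟨x, rfl⟩
  have hval : ∀ x : R, ψ x ∈ normalizerIn S P := fun x => hPN (hψP x)
  set ψ₂ : R →* Ω := φ.comp (ψ.codRestrict (normalizerIn S P) hval) with hψ₂def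
  have hψ₂ : ψ₂ ∈ F.Hom R := F.comp_mem hψ hφ hval
  have hψ₂apply : ∀ x : R, ψ₂ x = φ ⟨ψ x, hval x⟩ := fun x => rfl
  have hψ₂range : ψ₂.range = Q := by
    rw [← hφimg]
    ext y
    rw [mem_map_subgroupOf]
    constructor
    · rintro ⟨x, rfl⟩
      exact ⟨ψ x, hval x, hψP x, rfl⟩
    · rintro ⟨z, hzN, hzP, rfl⟩
      rw [← hrange] at hzP
      obtain ⟨x, rfl⟩ := hzP
      exact ⟨x, rfl⟩
  -- N_ψ ≤ N_ψ₂, with explicit witnesses
  have hkey : ∀ g ∈ extender S R ψ, ∃ (h : Ω) (hh : h ∈ normalizerIn S P),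
      ∀ (x : R) (hx : g * (x : Ω) * g⁻¹ ∈ R), ψ ⟨g * x * g⁻¹, hx⟩ = h * ψ x * h⁻¹ := by
    intro g hg
    obtain ⟨hgS, hgN, h, hhS, hh⟩ := (mem_extender_iff ψ g).mp hg
    have hgR : ∀ x : R, g * (x : Ω) * g⁻¹ ∈ R := fun x =>
      (Subgroup.mem_normalizer_iff.mp hgN x).mp x.2
    have hgR' : ∀ x : R, g⁻¹ * (x : Ω) * g ∈ R := fun x => by
      have := (Subgroup.mem_normalizer_iff.mp (Subgroup.inv_mem _ hgN) x).mp x.2
      simpa using this
    refine ⟨h, ⟨hhS, ?_⟩, hh⟩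
    apply mem_normalizer_of_forall
    · intro y hy
      rw [← hrange] at hy
      obtain ⟨x, rfl⟩ := hy
      rw [← hh x (hgR x)]
      exact hψP _
    · intro y hy
      rw [← hrange] at hy
      obtain ⟨x, rfl⟩ := hy
      have := hh ⟨g⁻¹ * (x : Ω) * g, hgR' x⟩ (by simp [mul_assoc])
      have e : (⟨g * ((⟨g⁻¹ * (x : Ω) * g, hgR' x⟩ : R) : Ω) * g⁻¹, by simp [mul_assoc]⟩ : R) = x :=
        Subtype.ext (by simp [mul_assoc])
      rw [e] at this
      rw [this]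
      have : h⁻¹ * (h * ψ ⟨g⁻¹ * (x : Ω) * g, hgR' x⟩ * h⁻¹) * h = ψ ⟨g⁻¹ * (x : Ω) * g, hgR' x⟩ := by
        group
      rw [this]
      exact hψP _
  have hle : extender S R ψ ≤ extender S R ψ₂ := by
    intro g hg
    obtain ⟨h, hhN, hh⟩ := hkey g hg
    obtain ⟨hgS, hgN, -⟩ := (mem_extender_iff ψ g).mp hg
    rw [mem_extender_iff]
    refine ⟨hgS, hgN, φ ⟨h, hhN⟩, hφS _, fun x hx => ?_⟩
    rw [hψ₂apply, hψ₂apply]
    have e : (⟨ψ ⟨g * x * g⁻¹, hx⟩, hval _⟩ : ↥(normalizerIn S P)) =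
        ⟨h, hhN⟩ * ⟨ψ x, hval x⟩ * ⟨h, hhN⟩⁻¹ := Subtype.ext (hh x hx)
    rw [e, map_mul, map_mul, map_inv]
  obtain ⟨χ, hχ, hχext⟩ := hQrec.2 R ψ₂ hψ₂ hψ₂range
  have hRN₂ : R ≤ extender S R ψ₂ := le_extender F hψ₂
  have hχS := (F.le_of_mem hχ).2
  -- χ maps N_ψ into the range of φ
  have hmem : ∀ g : ↥(extender S R ψ), (χ.comp (Subgroup.inclusion hle)) g ∈ φ.range := by
    intro g
    obtain ⟨h, hhN, hh⟩ := hkey g g.2
    obtain ⟨hgS, hgN, -⟩ := (mem_extender_iff ψ g).mp g.2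
    have hgR : ∀ x : R, (g : Ω) * (x : Ω) * (g : Ω)⁻¹ ∈ R := fun x =>
      (Subgroup.mem_normalizer_iff.mp hgN x).mp x.2
    set k := φ ⟨h, hhN⟩ with hk
    set cg := χ ⟨g, hle g.2⟩ with hcg
    -- d := k⁻¹ * χ(g) centralizes Q
    have hd : k⁻¹ * cg ∈ centralizerIn S Q := by
      rw [mem_centralizerIn]
      refine ⟨S.mul_mem (S.inv_mem (hφS _)) (hχS _), fun y hy => ?_⟩
      rw [← hψ₂range] at hy
      obtain ⟨x, rfl⟩ := hy
      -- χ(g) ψ₂(x) χ(g)⁻¹ = ψ₂(g x g⁻¹) = k ψ₂(x) k⁻¹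
      have e1 : cg * ψ₂ x * cg⁻¹ = ψ₂ ⟨g * x * (g : Ω)⁻¹, hgR x⟩ := by
        rw [← hχext x x.2 (hRN₂ x.2), ← hχext _ (hgR x) (hRN₂ (hgR x)), hcg, ← map_inv, ← map_mul,
          ← map_mul]
        rfl
      have e2 : ψ₂ ⟨g * x * (g : Ω)⁻¹, hgR x⟩ = k * ψ₂ x * k⁻¹ := by
        rw [hψ₂apply, hψ₂apply]
        have e : (⟨ψ ⟨g * x * (g : Ω)⁻¹, hgR x⟩, hval _⟩ : ↥(normalizerIn S P)) =
            ⟨h, hhN⟩ * ⟨ψ x, hval x⟩ * ⟨h, hhN⟩⁻¹ := Subtype.ext (hh x (hgR x))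
        rw [e, map_mul, map_mul, map_inv]
      have e3 : cg * ψ₂ x * cg⁻¹ = k * ψ₂ x * k⁻¹ := e1.trans e2
      calc ψ₂ x * (k⁻¹ * cg) = k⁻¹ * (k * ψ₂ x * k⁻¹) * cg := by group
        _ = k⁻¹ * (cg * ψ₂ x * cg⁻¹) * cg := by rw [e3]
        _ = k⁻¹ * cg * ψ₂ x := by group
    obtain ⟨c, hc, hcd⟩ := hCsurj _ hd
    refine ⟨⟨h, hhN⟩ * ⟨c, centralizerIn_le_normalizerIn hc⟩, ?_⟩
    rw [map_mul, hcd]
    show k * (k⁻¹ * cg) = _
    rw [mul_inv_cancel_left]
    rfl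
  obtain ⟨θ, hθ, hθinv, -⟩ := exists_inv F hφ rfl
  have hχ' : χ.comp (Subgroup.inclusion hle) ∈ F.Hom (extender S R ψ) := restrict_mem F hle hχ
  refine ⟨θ.comp ((χ.comp (Subgroup.inclusion hle)).codRestrict φ.range hmem),
    F.comp_mem hχ' hθ hmem, fun x hxR hxN => ?_⟩
  show θ ⟨χ ⟨x, hle hxN⟩, _⟩ = ψ ⟨x, hxR⟩
  have e1 : χ ⟨x, hle hxN⟩ = φ ⟨ψ ⟨x, hxR⟩, hval _⟩ := by
    rw [hχext x hxR (hle hxN)]; rfl
  have := hθinv ⟨ψ ⟨x, hxR⟩, hval _⟩ ⟨_, rfl⟩
  refine Eq.trans ?_ this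
  congr 1
  exact Subtype.ext e1


end Cfsg.Agent.Helper3.Bcglo
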