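import Mathlib
import Cfsg.Prelude.Def_FusionSystem
import Cfsg.Agent.Lib.Helper3.BcgloDefs
import Cfsg.Agent.Lib.Helper25.FusionInner

set_option autoImplicit false

namespace Cfsg.Agent.Helper3.Bcglo

open Cfsg Cfsg.FusionSystem Cfsg.Agent.Helper25

variable {Ω : Type*} [Group Ω] {S : Subgroup Ω}

section

variable [Finite S] (p : ℕ) [Fact p.Prime] (hS : IsPGroup p S) (F : FusionSystem S)
include hS

/-- Classwise existence of good maps. -/
theorem exists_kgood {Q : Subgroup Ω} (hg : Good F p Q) (hQ : Q ≤ S) {M : Subgroup (MulAut Q)}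
    (hM : M ≤ F.autGroup Q) : ∃ φ, IsKGood F p M φ := by
  haveI : Finite Q := finite_of_le_finite hQ
  obtain ⟨Q', ⟨φ₀, hφ₀, rfl⟩, hfa, hrec⟩ := hg
  have hL := TK_top_isSylowIn F p hφ₀ hfa
  obtain ⟨T, hT, -⟩ := exists_isSylowIn_ge (p := p) (bot_le : (⊥ : Subgroup (MulAut Q)) ≤ M)
    IsPGroup.of_bot
  obtain ⟨a, ha, hle⟩ := hL.exists_conj_le (hT.1.trans hM) hT.2.1
  have hφ : φ₀.comp a.toMonoidHom ∈ F.Hom Q := comp_aut_mem F hφ₀ ha
  refine ⟨φ₀.comp a.toMonoidHom, hφ, ?_, ?_⟩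
  · rw [range_comp_aut]
    exact isFullyCentralized_of_receptive F hrec
  · have hTle : T ≤ TK S M (φ₀.comp a.toMonoidHom) := by
      intro τ hτ
      have h1 : a * τ * a⁻¹ ∈ Cfsg.conjBy T a := by
        rw [mem_conjBy]
        simpa [mul_assoc] using hτ
      obtain ⟨-, g, hg, hgτ⟩ := hle h1
      refine ⟨hT.1 hτ, g, hg, fun x => ?_⟩
      show g * φ₀ (a x) * g⁻¹ = φ₀ (a (τ x))
      rw [hgτ]
      simp [MulAut.mul_apply]
    have := hT.2.2 _ (TK_le M _) (isPGroup_TK hS M (F.injective_of_mem hφ)) hTle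
    rw [this]
    exact hT

/-- Classwise extension lemma: a good map `φ` receives, up to an automorphism in `M`, an extension of
`φ ψ⁻¹` to `N_S^M(ψ(Q)) ψ(Q)`. -/
theorem exists_extension_of_kgood {Q : Subgroup Ω} (hg : Good F p Q) {M : Subgroup (MulAut Q)}
    (hM : M ≤ F.autGroup Q) {φ : Q →* Ω} (hφ : IsKGood F p M φ) {ψ : Q →* Ω} (hψ : ψ ∈ F.Hom Q) :
    ∃ κ ∈ M, ∃ θ ∈ F.Hom (NK S M ψ ⊔ ψ.range),
      ∀ (x : Q) (h : ψ x ∈ NK S M ψ ⊔ ψ.range), θ ⟨ψ x, h⟩ = φ (κ x) := by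
  have hQS : Q ≤ S := (F.le_of_mem hψ).1
  haveI : Finite Q := finite_of_le_finite hQS
  obtain ⟨κ, hκ, hle⟩ := hφ.2.2.exists_conj_le (TK_le M ψ)
    (isPGroup_TK hS M (F.injective_of_mem hψ))
  have hχ : φ.comp κ.toMonoidHom ∈ F.Hom Q := comp_aut_mem F hφ.1 (hM hκ)
  obtain ⟨μ, hμ, hμv, hμr⟩ := exists_comp_inv F hψ hχ
  rw [range_comp_aut] at hμr
  have hg' : Good F p φ.range := hg.of_isConj ⟨φ, hφ.1, rfl⟩
  have hrec := isReceptive_of_good p hS F hg' hφ.2.1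
  obtain ⟨θ₀, hθ₀, hext⟩ := hrec.2 ψ.range μ hμ hμr
  have hle' : NK S M ψ ⊔ ψ.range ≤ extender S ψ.range μ := by
    refine sup_le ?_ (le_extender F hμ)
    intro g hg
    obtain ⟨hgS, τ, hτM, hgτ⟩ := hg
    have hτ : τ ∈ TK S M ψ := ⟨hτM, g, hgS, hgτ⟩
    have h1 : κ * τ * κ⁻¹ ∈ Cfsg.conjBy (TK S M ψ) κ := by
      rw [mem_conjBy]
      simpa [mul_assoc] using hτ
    obtain ⟨-, h, hh, hhτ⟩ := hle h1
    rw [mem_extender_iff]
    refine ⟨hgS, NK_le_normalizer M ψ ⟨hgS, τ, hτM, hgτ⟩, h, hh, ?_⟩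
    rintro ⟨_, x, rfl⟩ hy
    have e : (⟨g * ψ x * g⁻¹, hy⟩ : ψ.range) = ⟨ψ (τ x), ⟨_, rfl⟩⟩ := Subtype.ext (hgτ x)
    rw [e, hμv, hμv]
    show φ (κ (τ x)) = h * φ (κ x) * h⁻¹
    rw [hhτ]
    simp [MulAut.mul_apply]
  refine ⟨κ, hκ, θ₀.comp (Subgroup.inclusion hle'), restrict_mem F hle' hθ₀, fun x h => ?_⟩
  show θ₀ ⟨ψ x, hle' h⟩ = φ (κ x)
  rw [hext (ψ x) ⟨x, rfl⟩ (hle' h), hμv]
  rfl

end

/-- The context only depends on the conjugacy class. -/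
theorem Ctx.of_isConj {F : FusionSystem S} {p : ℕ} {P P' : Subgroup Ω} (h : Ctx F p P)
    (hc : F.IsConj P P') : Ctx F p P' := by
  have hcard : Nat.card P' = Nat.card P := by
    obtain ⟨φ, hφ, rfl⟩ := hc
    exact (Nat.card_congr (homEquiv F hφ).toEquiv).symm
  refine ⟨h.hS, isConj_le_right F hc, fun R hR hlt => h.hbig R hR (hcard ▸ hlt), fun E hE => ?_,
    fun hcen => ?_⟩
  · apply h.hgen E
    intro A hA
    apply hE A
    intro hA'
    exact hA (isConj_trans F hc hA')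
  · have hcenP : F.IsCentric P :=
      ⟨h.hP, fun Q hQ => hcen.2 Q (isConj_trans F (isConj_symm F hc) hQ)⟩
    obtain ⟨Q, hQ, hn⟩ := h.hstar hcenP
    exact ⟨Q, isConj_trans F (isConj_symm F hc) hQ, hn⟩

/-- In the working context `P` is a proper subgroup of `S`. -/
theorem Ctx.ne_top [Finite S] {F : FusionSystem S} {p : ℕ} {P : Subgroup Ω} (h : Ctx F p P) :
    P ≠ S := by
  rintro rfl
  have hconjS : ∀ Q, F.IsConj P Q → Q = P := by
    rintro Q ⟨φ, hφ, rfl⟩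
    apply Subgroup.eq_of_le_of_card_ge (range_le F hφ)
    rw [← Nat.card_congr (homEquiv F hφ).toEquiv]
  have hcen : F.IsCentric P := by
    refine ⟨le_rfl, fun Q hQ => ?_⟩
    rw [hconjS Q hQ]
    exact centralizerIn_le
  obtain ⟨Q, hQ, hn⟩ := h.hstar hcen
  obtain rfl := hconjS Q hQ
  apply hn
  intro α hα
  obtain ⟨g, hg, hgα⟩ := (mem_autInducedBy_iff α).mp hα.1
  refine ⟨⟨g, hg⟩, ?_⟩
  ext x
  rw [hgα x]
  rfl

/-- In the working context, every conjugate of `P` is properly contained in its normalizer in `S`. -/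
theorem Ctx.exists_normalizer_not_mem [Finite S] {F : FusionSystem S} {p : ℕ} [Fact p.Prime]
    {P P' : Subgroup Ω} (h : Ctx F p P) (hc : F.IsConj P P') : ∃ g ∈ normalizerIn S P', g ∉ P' :=
  exists_mem_normalizerIn_not_mem h.hS (isConj_le_right F hc) (h.of_isConj hc).ne_top

/-- Induction principle: a predicate on the maps of the system that holds for conjugations by elements of
`S`, is stable under composition and inverses, and holds for every map whose source is not conjugate to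
`P`, holds for all maps of the system. -/
theorem Ctx.induction {F : FusionSystem S} {p : ℕ} {P : Subgroup Ω} (h : Ctx F p P)
    (Pr : ∀ A : Subgroup Ω, (A →* Ω) → Prop)
    (hconj : ∀ {A : Subgroup Ω} {g : Ω}, A ≤ S → g ∈ S → Pr A (conjHom A g))
    (hcomp : ∀ {A B : Subgroup Ω} {φ : A →* Ω} {ψ : B →* Ω}, φ ∈ F.Hom A → ψ ∈ F.Hom B → Pr A φ →
      Pr B ψ → ∀ h : ∀ x : A, φ x ∈ B, Pr A (ψ.comp (φ.codRestrict B h)))
    (hinv : ∀ {A : Subgroup Ω} {φ : A →* Ω}, φ ∈ F.Hom A → Pr A φ → ∀ ψ ∈ F.Hom φ.range,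
      (∀ x : A, ψ ⟨φ x, ⟨x, rfl⟩⟩ = (x : Ω)) → Pr φ.range ψ)
    (hbase : ∀ (A : Subgroup Ω) (φ : A →* Ω), φ ∈ F.Hom A → ¬ F.IsConj P A → Pr A φ)
    {A : Subgroup Ω} {φ : A →* Ω} (hφ : φ ∈ F.Hom A) : Pr A φ := by
  have hle : F ≤ predSub F Pr hconj hcomp hinv := by
    apply h.hgen
    intro A hA φ hφ
    exact ⟨hφ, hbase A φ hφ hA⟩
  exact (hle A hφ).2

end Cfsg.Agent.Helper3.Bcglo
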