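import Mathlib
import Cfsg.Prelude.Def_FusionSystem
import Cfsg.Agent.Lib.Helper3.BcgloBasic

set_option autoImplicit false

namespace Cfsg.Agent.Helper3.Bcglo

open Cfsg Cfsg.FusionSystem Cfsg.Agent.Helper25

variable {Ω : Type*} [Group Ω] {S : Subgroup Ω}

/-- If every conjugate of `P` maps onto `P` by a map of normalizers, `P` is fully centralized. -/
theorem isFullyCentralized_of_goalA [Finite S] {F : FusionSystem S} {P : Subgroup Ω} (hP : P ≤ S)
    (hA : GoalA F P) : F.IsFullyCentralized P := by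
  refine ⟨hP, fun Q hQ => ?_⟩
  obtain ⟨σ, hσ, -, hσimg⟩ := hA Q hQ
  haveI : Finite (centralizerIn S P) := finite_of_le_finite centralizerIn_le
  rw [← card_map_centralizerIn F hσ]
  apply Subgroup.card_le_of_le
  rintro _ ⟨x, hx, rfl⟩
  exact map_centralizerIn_mem F hσ hσimg x (Subgroup.mem_subgroupOf.mp hx)

/-- A map of the system defined on `U = N_S^K(P)` (with `K` normalized by `Aut_F(P)`) that maps `P` into
itself maps `U` onto itself. -/
theorem range_eq_of_NK [Finite S] {F : FusionSystem S} {P : Subgroup Ω} (hP : P ≤ S)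
    (K : Subgroup (MulAut P)) (hKn : ∀ γ ∈ F.autGroup P, ∀ k ∈ K, γ * k * γ⁻¹ ∈ K)
    (hPU : P ≤ NK S K P.subtype) (ψ : ↥(NK S K P.subtype) →* Ω) (hψ : ψ ∈ F.Hom (NK S K P.subtype))
    (hψP : ∀ x : P, ψ (Subgroup.inclusion hPU x) ∈ P) : ψ.range = NK S K P.subtype := by
  have hUS : NK S K P.subtype ≤ S := NK_le _ _
  haveI : Finite ↥(NK S K P.subtype) := finite_of_le_finite hUS
  haveI : Finite P := finite_of_le_finite hP
  have hinj := F.injective_of_mem hψ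
  set γ₀ : P →* P := (ψ.comp (Subgroup.inclusion hPU)).codRestrict P hψP with hγ₀
  have hγ₀v : ∀ x : P, ((γ₀ x : P) : Ω) = ψ (Subgroup.inclusion hPU x) := fun x => rfl
  have hγ₀inj : Function.Injective γ₀ := by
    intro a b hab
    have h1 : ψ (Subgroup.inclusion hPU a) = ψ (Subgroup.inclusion hPU b) := by
      rw [← hγ₀v, ← hγ₀v, hab]
    exact Subgroup.inclusion_injective hPU (hinj h1)
  set γ : MulAut P := MulEquiv.ofBijective γ₀ ⟨hγ₀inj, Finite.surjective_of_injective hγ₀inj⟩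
    with hγdef
  have hγv : ∀ x : P, ((γ x : P) : Ω) = ψ (Subgroup.inclusion hPU x) := fun x => rfl
  have hγ : γ ∈ F.autGroup P := by
    rw [mem_autGroup_iff F hP]
    have h2 := restrict_mem F hPU hψ
    convert h2 using 1
    ext x
    rfl
  apply Subgroup.eq_of_le_of_card_ge
  · rintro _ ⟨u, rfl⟩
    obtain ⟨huS, κ, hκ, hκx⟩ := u.2
    refine ⟨(F.le_of_mem hψ).2 u, γ * κ * γ⁻¹, hKn γ hγ κ hκ, fun y => ?_⟩
    obtain ⟨z, rfl⟩ : ∃ z, γ z = y := ⟨γ⁻¹ y, by simp⟩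
    have e1 : (γ * κ * γ⁻¹) (γ z) = γ (κ z) := by simp [MulAut.mul_apply]
    rw [e1]
    show ψ u * ((γ z : P) : Ω) * (ψ u)⁻¹ = ((γ (κ z) : P) : Ω)
    rw [hγv, hγv, ← map_inv, ← map_mul, ← map_mul]
    congr 1
    apply Subtype.ext
    exact hκx z
  · rw [← Nat.card_congr (MonoidHom.ofInjective hinj).toEquiv]

/-- Automorphisms extending to `U` belong to `Aut_F(P)`. -/
theorem extSub_le_autGroup {F : FusionSystem S} {P U : Subgroup Ω} (hPU : P ≤ U) (hUS : U ≤ S) :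
    extSub F hPU ≤ F.autGroup P := by
  rintro γ ⟨β, hβ, hβγ⟩
  rw [mem_autGroup_iff F (hPU.trans hUS)]
  have h1 := (mem_autGroup_iff F hUS β).mp hβ
  have h2 := restrict_mem F hPU h1
  convert h2 using 1
  ext x
  show ((γ x : P) : Ω) = ((β (Subgroup.inclusion hPU x) : U) : Ω)
  rw [hβγ x]
  rfl

/-- The automorphisms of `P` in `K` induced by `S` extend to `U = N_S^K(P)`. -/
theorem inf_le_extSub {F : FusionSystem S} {P : Subgroup Ω} (hP : P ≤ S)
    (K : Subgroup (MulAut P)) (hPU : P ≤ NK S K P.subtype) :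
    K ⊓ autInducedBy S P ≤ extSub F hPU := by
  rintro κ ⟨hκK, hκS⟩
  obtain ⟨g, hg, hgκ⟩ := (mem_autInducedBy_iff κ).mp hκS
  have hUS : NK S K P.subtype ≤ S := NK_le _ _
  have hgU : g ∈ NK S K P.subtype := ⟨hg, κ, hκK, fun x => (hgκ x).symm⟩
  refine ⟨MulAut.conj (⟨g, hgU⟩ : ↥(NK S K P.subtype)), ?_, fun x => ?_⟩
  · rw [mem_autGroup_iff F hUS]
    have := F.conj_mem (P := NK S K P.subtype) hUS hg
    convert this using 1
    ext y
    rfl
  · apply Subtype.ext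
    show g * (x : Ω) * g⁻¹ = ((κ x : P) : Ω)
    exact (hgκ x).symm

/-- The automorphisms extending to `U = N_S^K(P)` normalize `K ∩ Aut_S(P)`. -/
theorem extSub_normalizes {F : FusionSystem S} {P : Subgroup Ω} (hP : P ≤ S)
    (K : Subgroup (MulAut P)) (hKn : ∀ γ ∈ F.autGroup P, ∀ k ∈ K, γ * k * γ⁻¹ ∈ K)
    (hPU : P ≤ NK S K P.subtype) (d : MulAut P) (hd : d ∈ extSub F hPU) (x : MulAut P)
    (hx : x ∈ K ⊓ autInducedBy S P) : d * x * d⁻¹ ∈ K ⊓ autInducedBy S P := by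
  have hUS : NK S K P.subtype ≤ S := NK_le _ _
  refine ⟨hKn d (extSub_le_autGroup hPU hUS hd) x hx.1, ?_⟩
  obtain ⟨β, hβ, hβd⟩ := hd
  obtain ⟨g, hg, hgx⟩ := (mem_autInducedBy_iff x).mp hx.2
  have hgU : g ∈ NK S K P.subtype := ⟨hg, x, hx.1, fun y => (hgx y).symm⟩
  refine (mem_autInducedBy_iff _).mpr
    ⟨((β ⟨g, hgU⟩ : ↥(NK S K P.subtype)) : Ω), hUS (β ⟨g, hgU⟩).2, fun y => ?_⟩
  obtain ⟨z, rfl⟩ : ∃ z, d z = y := ⟨d⁻¹ y, by simp⟩
  have e1 : (d * x * d⁻¹) (d z) = d (x z) := by simp [MulAut.mul_apply]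
  rw [e1]
  have e2 : Subgroup.inclusion hPU (x z) =
      (⟨g, hgU⟩ : ↥(NK S K P.subtype)) * Subgroup.inclusion hPU z *
        (⟨g, hgU⟩ : ↥(NK S K P.subtype))⁻¹ := Subtype.ext (hgx z)
  have e3 := hβd (x z)
  rw [e2, map_mul, map_mul, map_inv, hβd z] at e3
  have := congrArg (Subtype.val : ↥(NK S K P.subtype) → Ω) e3
  simpa using this.symm

end Cfsg.Agent.Helper3.Bcglo
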