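import Mathlib
import Cfsg.Prelude.Def_FusionSystem
import Cfsg.Agent.Lib.Helper3.BcgloAux
import Cfsg.Agent.Lib.Helper25.FusionSylow2
import Cfsg.Agent.Lib.Helper25.FusionNormal3

set_option autoImplicit false

namespace Cfsg.Agent.Helper3.Bcglo

open Cfsg Cfsg.FusionSystem Cfsg.Agent.Helper25

variable {Ω : Type*} [Group Ω] {S : Subgroup Ω}

/-- A map of the system defined on `D ≥ P` and mapping `P` into itself restricts to an automorphism of
`P` belonging to the system. -/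
theorem exists_restrict_aut [Finite S] {F : FusionSystem S} {P D : Subgroup Ω} (hPD : P ≤ D)
    {φ : D →* Ω} (hφ : φ ∈ F.Hom D) (hφP : ∀ x : P, φ (Subgroup.inclusion hPD x) ∈ P) :
    ∃ α : MulAut P, α ∈ F.autGroup P ∧ ∀ x : P, φ (Subgroup.inclusion hPD x) = ((α x : P) : Ω) := by
  have hDS : D ≤ S := (F.le_of_mem hφ).1
  have hP : P ≤ S := hPD.trans hDS
  haveI : Finite P := finite_of_le_finite hP
  have hinj := F.injective_of_mem hφ
  set γ₀ : P →* P := (φ.comp (Subgroup.inclusion hPD)).codRestrict P hφP with hγ₀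
  have hγ₀v : ∀ x : P, ((γ₀ x : P) : Ω) = φ (Subgroup.inclusion hPD x) := fun x => rfl
  have hγ₀inj : Function.Injective γ₀ := by
    intro a b hab
    have h1 : φ (Subgroup.inclusion hPD a) = φ (Subgroup.inclusion hPD b) := by
      rw [← hγ₀v, ← hγ₀v, hab]
    exact Subgroup.inclusion_injective hPD (hinj h1)
  refine ⟨MulEquiv.ofBijective γ₀ ⟨hγ₀inj, Finite.surjective_of_injective hγ₀inj⟩, ?_,
    fun x => rfl⟩
  rw [mem_autGroup_iff F hP]
  have h2 := restrict_mem F hPD hφ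
  convert h2 using 1
  ext x
  rfl

/-- An automorphism of `R ≥ P` restricting on `P` to an automorphism in `L` lies in `KP L P R`. -/
theorem mem_KP_of_restrict {P R : Subgroup Ω} (hPR : P ≤ R) {L : Subgroup (MulAut P)}
    {κ : MulAut R} {l : MulAut P} (hl : l ∈ L)
    (hκ : ∀ x : P, κ (Subgroup.inclusion hPR x) = Subgroup.inclusion hPR (l x)) :
    κ ∈ KP L P R hPR := by
  refine ⟨fun x hx => ?_, fun x hx => ?_, l, hl, fun x => ?_⟩
  · have := hκ ⟨x, hx⟩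
    have e : Subgroup.inclusion hPR ⟨(x : Ω), hx⟩ = x := Subtype.ext rfl
    rw [e] at this
    rw [this]
    exact (l ⟨x, hx⟩).2
  · have := hκ (l⁻¹ ⟨x, hx⟩)
    rw [MulAut.apply_inv_self] at this
    have e : Subgroup.inclusion hPR ⟨(x : Ω), hx⟩ = x := Subtype.ext rfl
    rw [e] at this
    rw [← this, MulAut.inv_apply_self]
    exact (l⁻¹ ⟨x, hx⟩).2
  · rw [hκ x]
    rfl

/-- Elements of `KP L P R` restrict to an element of `L` on `P`, in `inclusion` form. -/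
theorem exists_restrict_of_mem_KP {P R : Subgroup Ω} (hPR : P ≤ R) {L : Subgroup (MulAut P)}
    {κ : MulAut R} (hκ : κ ∈ KP L P R hPR) :
    ∃ l ∈ L, ∀ x : P, κ (Subgroup.inclusion hPR x) = Subgroup.inclusion hPR (l x) := by
  obtain ⟨-, -, l, hl, hlκ⟩ := hκ
  exact ⟨l, hl, fun x => Subtype.ext (hlκ x)⟩

/-- `U = N_S^L(P)` is normalized by `N_S(P)` when `L` is normalized by `Aut_F(P)`. -/
theorem NK_conj_mem {F : FusionSystem S} {P : Subgroup Ω} (hP : P ≤ S) (L : Subgroup (MulAut P))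
    (hLn : ∀ γ ∈ F.autGroup P, ∀ l ∈ L, γ * l * γ⁻¹ ∈ L) :
    ∀ g ∈ normalizerIn S P, ∀ v ∈ NK S L P.subtype, g⁻¹ * v * g ∈ NK S L P.subtype := by
  intro g hg v hv
  obtain ⟨hvS, l, hl, hlv⟩ := hv
  set γ : MulAut P := P.normalizerMonoidHom ⟨g, hg.2⟩ with hγ
  have hγv : ∀ x : P, ((γ x : P) : Ω) = g * x * g⁻¹ := fun x => rfl
  have hγF : γ ∈ F.autGroup P :=
    autInducedBy_le_autGroup F hP ((mem_autInducedBy_iff γ).mpr ⟨g, hg.1, hγv⟩)
  have h1 := hLn γ⁻¹ (Subgroup.inv_mem _ hγF) l hl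
  rw [inv_inv] at h1
  refine ⟨S.mul_mem (S.mul_mem (S.inv_mem hg.1) hvS) hg.1, γ⁻¹ * l * γ, h1, fun x => ?_⟩
  have e1 : ((γ⁻¹ * l * γ) x) = γ⁻¹ (l (γ x)) := rfl
  rw [e1]
  have e2 : ((γ (γ⁻¹ (l (γ x))) : P) : Ω) = g * ((γ⁻¹ (l (γ x)) : P) : Ω) * g⁻¹ := hγv _
  rw [MulAut.apply_inv_self] at e2
  have e3 := hlv (γ x)
  simp only [Subgroup.coe_subtype] at e3 ⊢
  rw [hγv] at e3
  have : ((γ⁻¹ (l (γ x)) : P) : Ω) = g⁻¹ * ((l (γ x) : P) : Ω) * g := by
    rw [e2]; group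
  rw [this, ← e3]
  group

end Cfsg.Agent.Helper3.Bcglo
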