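import Mathlib

/-!
# Finite `G`-sets and their marks

`fix E X` is the set of points of the `G`-set `X` fixed by the subgroup `E`.  Two finite `G`-sets with
the same number of `E`-fixed points for every subgroup `E` are isomorphic (`exists_equiv_of_marks`).
A congruence for numbers of fixed points coming from Burnside's lemma (`card_fix_modEq`).
-/

set_option autoImplicit false
set_option linter.style.haveILetI false
set_option linter.unusedSectionVars false

namespace Cfsg.Agent.Helper3.Biset

open MulAction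

section Fix

variable {G : Type*} [Group G]

/-- Points of the `G`-set `X` fixed by the subgroup `E`. -/
def fix (E : Subgroup G) (X : Type*) [MulAction G X] : Set X := {x | E ≤ stabilizer G x}

theorem mem_fix {E : Subgroup G} {X : Type*} [MulAction G X] {x : X} :
    x ∈ fix E X ↔ ∀ g ∈ E, g • x = x := Iff.rfl

theorem mem_fix' {E : Subgroup G} {X : Type*} [MulAction G X] {x : X} :
    x ∈ fix E X ↔ E ≤ stabilizer G x := Iff.rfl

theorem fix_bot (X : Type*) [MulAction G X] : fix (⊥ : Subgroup G) X = Set.univ := by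
  ext x; simp [mem_fix']

theorem fix_anti {E E' : Subgroup G} (h : E ≤ E') (X : Type*) [MulAction G X] :
    fix E' X ⊆ fix E X := fun _ hx => le_trans h hx

theorem smul_mem_fix_conj {E : Subgroup G} {X : Type*} [MulAction G X] (g : G) {x : X} :
    g • x ∈ fix (E.map (MulAut.conj g).toMonoidHom) X ↔ x ∈ fix E X := by
  rw [mem_fix', mem_fix', stabilizer_smul_eq_stabilizer_map_conj]
  exact Subgroup.map_le_map_iff_of_injective (MulAut.conj g).injective

/-- Conjugate subgroups have the same number of fixed points. -/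
theorem card_fix_conj (E : Subgroup G) (X : Type*) [MulAction G X] (g : G) :
    Nat.card (fix (E.map (MulAut.conj g).toMonoidHom) X) = Nat.card (fix E X) := by
  symm
  refine Nat.card_congr ⟨fun x => ⟨g • x.1, (smul_mem_fix_conj g).2 x.2⟩,
    fun y => ⟨g⁻¹ • y.1, ?_⟩, fun x => ?_, fun y => ?_⟩
  · rw [← smul_mem_fix_conj (E := E) g, smul_inv_smul]; exact y.2
  · apply Subtype.ext; simp
  · apply Subtype.ext; simp

end Fix

section Marks

open Classical in
theorem marks_aux {G : Type*} [Group G] [Finite G] {X : Type*} {X' : Type*} [MulAction G X]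
    [MulAction G X'] [Nonempty X'] :
    ∀ (n : ℕ) (W : Set X) (W' : Set X'), W.Finite → W'.Finite → W.ncard = n →
      (∀ (g : G) (x : X), x ∈ W → g • x ∈ W) → (∀ (g : G) (x : X'), x ∈ W' → g • x ∈ W') →
      (∀ E : Subgroup G, (W ∩ fix E X).ncard = (W' ∩ fix E X').ncard) →
      ∃ f : X → X', Set.BijOn f W W' ∧ ∀ (g : G), ∀ x ∈ W, f (g • x) = g • f x := by
  intro n
  induction n using Nat.strong_induction_on with
  | _ n ih =>
  intro W W' hW hW' hn hinv hinv' hm
  by_cases hWe : W = ∅
  · have h0 := hm ⊥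
    rw [fix_bot, fix_bot, Set.inter_univ, Set.inter_univ, hWe, Set.ncard_empty] at h0
    have hW'e : W' = ∅ := (Set.ncard_eq_zero hW').1 h0.symm
    refine ⟨fun _ => Classical.arbitrary X', ?_, ?_⟩
    · rw [hWe, hW'e]; exact Set.bijOn_empty _
    · intro g x hx; rw [hWe] at hx; exact (Set.notMem_empty x hx).elim
  · -- choose a subgroup of maximal order with a fixed point in W
    have hne : W.Nonempty := Set.nonempty_iff_ne_empty.2 hWe
    have hSne : ({E : Subgroup G | (W ∩ fix E X).Nonempty}).Nonempty := by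
      obtain ⟨x, hx⟩ := hne
      exact ⟨⊥, x, hx, by rw [fix_bot]; trivial⟩
    obtain ⟨E, hE, hEmax⟩ := Set.exists_max_image _ (fun E : Subgroup G => Nat.card E)
      (Set.toFinite _) hSne
    obtain ⟨x, hxW, hxE⟩ := hE
    have hpos : ∀ K : Subgroup G, (W ∩ fix K X).Nonempty ↔ (W' ∩ fix K X').Nonempty := by
      intro K
      rw [← Set.ncard_pos (hW.subset Set.inter_subset_left),
        ← Set.ncard_pos (hW'.subset Set.inter_subset_left), hm K]
    obtain ⟨x', hx'W, hx'E⟩ := (hpos E).1 ⟨x, hxW, hxE⟩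
    have hstab : stabilizer G x = E := by
      symm
      apply Subgroup.eq_of_le_of_card_ge hxE
      exact hEmax (stabilizer G x) ⟨x, hxW, mem_fix'.2 le_rfl⟩
    have hstab' : stabilizer G x' = E := by
      symm
      apply Subgroup.eq_of_le_of_card_ge hx'E
      exact hEmax (stabilizer G x') ((hpos _).2 ⟨x', hx'W, mem_fix'.2 le_rfl⟩)
    have hOW : orbit G x ⊆ W := by
      rintro _ ⟨g, rfl⟩; exact hinv g x hxW
    have hOW' : orbit G x' ⊆ W' := by
      rintro _ ⟨g, rfl⟩; exact hinv' g x' hx'W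
    -- the map on the orbit
    let f₀ : X → X' := fun y =>
      if h : y ∈ orbit G x then (Classical.choose (mem_orbit_iff.1 h)) • x' else x'
    have hf₀ : ∀ g : G, f₀ (g • x) = g • x' := by
      intro g
      have h : g • x ∈ orbit G x := mem_orbit x g
      have hc := Classical.choose_spec (mem_orbit_iff.1 h)
      show (if h : g • x ∈ orbit G x then (Classical.choose (mem_orbit_iff.1 h)) • x' else x') = _
      rw [dif_pos h]
      set g' := Classical.choose (mem_orbit_iff.1 h)
      have h1 : g⁻¹ * g' ∈ stabilizer G x := by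
        rw [mem_stabilizer_iff, mul_smul, hc, inv_smul_smul]
      rw [hstab, ← hstab', mem_stabilizer_iff, mul_smul, inv_smul_eq_iff] at h1
      exact h1
    have hstabeq : ∀ g : G, stabilizer G (g • x) = stabilizer G (g • x') := by
      intro g
      rw [stabilizer_smul_eq_stabilizer_map_conj, stabilizer_smul_eq_stabilizer_map_conj, hstab,
        hstab']
    have hf₀inj : Set.InjOn f₀ (orbit G x) := by
      rintro _ ⟨g, rfl⟩ _ ⟨h, rfl⟩ he
      have he' : f₀ (g • x) = f₀ (h • x) := he
      rw [hf₀, hf₀] at he'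
      have h1 : h⁻¹ * g ∈ stabilizer G x' := by
        rw [mem_stabilizer_iff, mul_smul, he', inv_smul_smul]
      rw [hstab', ← hstab, mem_stabilizer_iff, mul_smul, inv_smul_eq_iff] at h1
      exact h1
    have hf₀bij : ∀ K : Subgroup G,
        Set.BijOn f₀ (orbit G x ∩ fix K X) (orbit G x' ∩ fix K X') := by
      intro K
      refine ⟨?_, hf₀inj.mono Set.inter_subset_left, ?_⟩
      · rintro _ ⟨⟨g, rfl⟩, hK⟩
        have hK' : g • x ∈ fix K X := hK
        show f₀ (g • x) ∈ _
        rw [hf₀]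
        refine ⟨mem_orbit x' g, ?_⟩
        rw [mem_fix', ← hstabeq]; exact hK'
      · rintro _ ⟨⟨g, rfl⟩, hK⟩
        have hK' : g • x' ∈ fix K X' := hK
        refine ⟨g • x, ⟨mem_orbit x g, ?_⟩, hf₀ g⟩
        rw [mem_fix', hstabeq]; exact hK'
    -- the complements
    have hW₁inv : ∀ (g : G) (y : X), y ∈ W \ orbit G x → g • y ∈ W \ orbit G x := by
      rintro g y ⟨hy, hyO⟩
      refine ⟨hinv g y hy, fun h => hyO ?_⟩
      rwa [← orbit_eq_iff, orbit_smul, orbit_eq_iff] at h
    have hW₁inv' : ∀ (g : G) (y : X'), y ∈ W' \ orbit G x' → g • y ∈ W' \ orbit G x' := by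
      rintro g y ⟨hy, hyO⟩
      refine ⟨hinv' g y hy, fun h => hyO ?_⟩
      rwa [← orbit_eq_iff, orbit_smul, orbit_eq_iff] at h
    have hOpos : 0 < (orbit G x).ncard :=
      (Set.ncard_pos (hW.subset hOW)).2 ⟨x, mem_orbit_self x⟩
    have hlt : (W \ orbit G x).ncard < n := by
      rw [Set.ncard_sdiff hOW (hW.subset hOW), hn]
      have : (orbit G x).ncard ≤ n := hn ▸ Set.ncard_le_ncard hOW hW
      omega
    have hm₁ : ∀ K : Subgroup G, ((W \ orbit G x) ∩ fix K X).ncard =
        ((W' \ orbit G x') ∩ fix K X').ncard := by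
      intro K
      have e1 : (W \ orbit G x) ∩ fix K X = (W ∩ fix K X) \ (orbit G x ∩ fix K X) := by
        ext y; simp only [Set.mem_inter_iff, Set.mem_sdiff]; tauto
      have e2 : (W' \ orbit G x') ∩ fix K X' = (W' ∩ fix K X') \ (orbit G x' ∩ fix K X') := by
        ext y; simp only [Set.mem_inter_iff, Set.mem_sdiff]; tauto
      have hfin1 : (orbit G x ∩ fix K X).Finite := hW.subset (Set.inter_subset_left.trans hOW)
      have hfin2 : (orbit G x' ∩ fix K X').Finite :=
        hW'.subset (Set.inter_subset_left.trans hOW')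
      rw [e1, e2, Set.ncard_sdiff (Set.inter_subset_inter_left _ hOW) hfin1,
        Set.ncard_sdiff (Set.inter_subset_inter_left _ hOW') hfin2, hm K]
      congr 1
      rw [← (hf₀bij K).image_eq, (hf₀bij K).injOn.ncard_image]
    obtain ⟨f₁, hf₁bij, hf₁eq⟩ := ih _ hlt (W \ orbit G x) (W' \ orbit G x')
      (hW.subset Set.sdiff_subset) (hW'.subset Set.sdiff_subset) rfl hW₁inv hW₁inv' hm₁
    have hf₀O := hf₀bij ⊥
    rw [fix_bot, fix_bot, Set.inter_univ, Set.inter_univ] at hf₀O
    refine ⟨fun y => if y ∈ orbit G x then f₀ y else f₁ y, ⟨?_, ?_, ?_⟩, ?_⟩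
    · intro y hy
      by_cases hyO : y ∈ orbit G x
      · simp only [hyO, if_true]; exact hOW' (hf₀O.mapsTo hyO)
      · simp only [hyO, if_false]; exact (hf₁bij.mapsTo ⟨hy, hyO⟩).1
    · intro y hy y' hy' he
      by_cases hyO : y ∈ orbit G x <;> by_cases hyO' : y' ∈ orbit G x
      · simp only [hyO, hyO', if_true] at he; exact hf₀O.injOn hyO hyO' he
      · simp only [hyO, hyO', if_true, if_false] at he
        exact ((hf₁bij.mapsTo ⟨hy', hyO'⟩).2 (he ▸ hf₀O.mapsTo hyO)).elim
      · simp only [hyO, hyO', if_true, if_false] at he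
        exact ((hf₁bij.mapsTo ⟨hy, hyO⟩).2 (he ▸ hf₀O.mapsTo hyO')).elim
      · simp only [hyO, hyO', if_false] at he
        exact hf₁bij.injOn ⟨hy, hyO⟩ ⟨hy', hyO'⟩ he
    · intro y' hy'
      by_cases hyO' : y' ∈ orbit G x'
      · obtain ⟨y, hy, rfl⟩ := hf₀O.surjOn hyO'
        exact ⟨y, hOW hy, by simp only [hy, if_true]⟩
      · obtain ⟨y, hy, rfl⟩ := hf₁bij.surjOn ⟨hy', hyO'⟩
        exact ⟨y, hy.1, by simp only [hy.2, if_false]⟩
    · intro g y hy
      by_cases hyO : y ∈ orbit G x
      · have hgy : g • y ∈ orbit G x := by rwa [← orbit_eq_iff, orbit_smul, orbit_eq_iff]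
        simp only [hyO, hgy, if_true]
        obtain ⟨h, rfl⟩ := hyO
        show f₀ (g • h • x) = g • f₀ (h • x)
        rw [← mul_smul, hf₀, hf₀, mul_smul]
      · have hgy : g • y ∉ orbit G x := by rwa [← orbit_eq_iff, orbit_smul, orbit_eq_iff]
        simp only [hyO, hgy, if_false]
        exact hf₁eq g y ⟨hy, hyO⟩

/-- Two finite `G`-sets with the same marks are isomorphic. -/
theorem exists_equiv_of_marks {G : Type*} [Group G] [Finite G] {X : Type*} {X' : Type*}
    [MulAction G X] [MulAction G X'] [Finite X] [Finite X']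
    (h : ∀ E : Subgroup G, Nat.card (fix E X) = Nat.card (fix E X')) :
    ∃ f : X ≃ X', ∀ (g : G) (x : X), f (g • x) = g • f x := by
  by_cases hX' : Nonempty X'
  · obtain ⟨f, hf, hfe⟩ := marks_aux (G := G) (X := X) (X' := X') _ Set.univ Set.univ
      Set.finite_univ Set.finite_univ rfl (fun _ _ _ => trivial) (fun _ _ _ => trivial)
      (fun E => by
        rw [Set.univ_inter, Set.univ_inter, ← Nat.card_coe_set_eq, ← Nat.card_coe_set_eq]
        exact h E)
    have hbij : Function.Bijective f := Set.bijOn_univ.1 hf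
    exact ⟨Equiv.ofBijective f hbij, fun g x => hfe g x trivial⟩
  · rw [not_nonempty_iff] at hX'
    have h0 := h ⊥
    rw [fix_bot, fix_bot, Nat.card_congr (Equiv.Set.univ X), Nat.card_congr (Equiv.Set.univ X'),
      Nat.card_of_isEmpty (α := X')] at h0
    haveI : IsEmpty X := (Nat.card_eq_zero.1 h0).resolve_right (not_infinite_iff_finite.2 ‹_›)
    exact ⟨Equiv.equivOfIsEmpty X X', fun g x => isEmptyElim x⟩

end Marks

section Burnside

variable {N : Type*} [Group N] [Finite N]

theorem smul_mem_fix_of_normal (D : Subgroup N) [D.Normal] {Y : Type*} [MulAction N Y] (n : N)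
    {y : Y} (hy : y ∈ fix D Y) : n • y ∈ fix D Y := by
  rw [mem_fix] at hy ⊢
  intro d hd
  have h1 : n⁻¹ * d * n ∈ D := by
    have := ‹D.Normal›.conj_mem d hd n⁻¹
    simpa using this
  have h2 := hy _ h1
  calc d • n • y = n • (n⁻¹ * d * n) • y := by simp only [← mul_smul]; group
    _ = n • y := by rw [h2]

theorem mem_fix_sup_zpowers {D : Subgroup N} {Y : Type*} [MulAction N Y] {n : N} {y : Y} :
    y ∈ fix (D ⊔ Subgroup.zpowers n) Y ↔ y ∈ fix D Y ∧ n • y = y := by
  rw [mem_fix', mem_fix', sup_le_iff, Subgroup.zpowers_le, mem_stabilizer_iff]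

/-- Burnside's lemma for the action of `N` on the fixed points of a normal subgroup `D`. -/
theorem burnside_fix (D : Subgroup N) [D.Normal] (Y : Type*) [MulAction N Y] [Finite Y] :
    ∃ k : ℕ, ∑ᶠ n : N, Nat.card (fix (D ⊔ Subgroup.zpowers n) Y) = k * Nat.card N := by
  classical
  let W : SubMulAction N Y :=
    { carrier := fix D Y
      smul_mem' := fun n _ hy => smul_mem_fix_of_normal D n hy }
  haveI : Fintype N := Fintype.ofFinite N
  haveI : Fintype (orbitRel.Quotient N W) := Fintype.ofFinite _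
  haveI : ∀ n : N, Fintype (fixedBy W n) := fun n => Fintype.ofFinite _
  have hB := sum_card_fixedBy_eq_card_orbits_mul_card_group N W
  refine ⟨Fintype.card (orbitRel.Quotient N W), ?_⟩
  rw [finsum_eq_sum_of_fintype, Nat.card_eq_fintype_card, ← hB]
  refine Finset.sum_congr rfl fun n _ => ?_
  rw [← Nat.card_eq_fintype_card]
  refine Nat.card_congr ⟨fun y => ⟨⟨y.1, (mem_fix_sup_zpowers.1 y.2).1⟩, ?_⟩,
    fun w => ⟨w.1.1, mem_fix_sup_zpowers.2 ⟨w.1.2, ?_⟩⟩, fun y => rfl, fun w => rfl⟩
  · rw [mem_fixedBy]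
    apply Subtype.ext
    exact (mem_fix_sup_zpowers.1 y.2).2
  · have := w.2
    rw [mem_fixedBy] at this
    exact congrArg Subtype.val this

open Classical in
theorem burnside_fix' (D : Subgroup N) [D.Normal] (Z : Type*) [MulAction N Z] [Finite Z]
    [Fintype N] :
    ∃ k : ℕ, Nat.card D * Nat.card (fix D Z) +
      (∑ n : N, if n ∈ D then 0 else Nat.card (fix (D ⊔ Subgroup.zpowers n) Z)) =
        k * Nat.card N := by
  obtain ⟨k, hk⟩ := burnside_fix D Z
  rw [finsum_eq_sum_of_fintype] at hk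
  refine ⟨k, ?_⟩
  rw [← hk]
  have h1 : ∀ n : N, Nat.card (fix (D ⊔ Subgroup.zpowers n) Z) =
      (if n ∈ D then Nat.card (fix D Z) else 0) +
        (if n ∈ D then 0 else Nat.card (fix (D ⊔ Subgroup.zpowers n) Z)) := by
    intro n
    by_cases hn : n ∈ D
    · simp only [hn, if_true, add_zero]
      rw [sup_eq_left.2 ((Subgroup.zpowers_le).2 hn)]
    · simp only [hn, if_false, zero_add]
  rw [Finset.sum_congr rfl fun n _ => h1 n, Finset.sum_add_distrib]
  congr 1
  rw [← Finset.sum_filter, Finset.sum_const, smul_eq_mul]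
  congr 1
  rw [Nat.card_eq_fintype_card, Fintype.card_subtype]

/-- If two finite `N`-sets have the same number of `⟨D, n⟩`-fixed points for every `n ∉ D`, then
their numbers of `D`-fixed points are congruent modulo `|N : D|`. -/
theorem card_fix_modEq (D : Subgroup N) [D.Normal] {Y : Type*} {Y' : Type*} [MulAction N Y]
    [MulAction N Y'] [Finite Y] [Finite Y']
    (h : ∀ n : N, n ∉ D → Nat.card (fix (D ⊔ Subgroup.zpowers n) Y) =
      Nat.card (fix (D ⊔ Subgroup.zpowers n) Y')) :
    Nat.card (fix D Y) ≡ Nat.card (fix D Y') [MOD D.index] := by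
  classical
  haveI : Fintype N := Fintype.ofFinite N
  obtain ⟨k, hk⟩ := burnside_fix' D Y
  obtain ⟨k', hk'⟩ := burnside_fix' D Y'
  have hR : (∑ n : N, if n ∈ D then 0 else Nat.card (fix (D ⊔ Subgroup.zpowers n) Y)) =
      ∑ n : N, if n ∈ D then 0 else Nat.card (fix (D ⊔ Subgroup.zpowers n) Y') := by
    refine Finset.sum_congr rfl fun n _ => ?_
    by_cases hn : n ∈ D
    · simp only [hn, if_true]
    · simp only [hn, if_false]; exact h n hn
  rw [hR] at hk
  have h1 : Nat.card D * Nat.card (fix D Y) ≡ Nat.card D * Nat.card (fix D Y')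
      [MOD Nat.card D * D.index] := by
    rw [Subgroup.card_mul_index]
    have e1 : Nat.card D * Nat.card (fix D Y) + (∑ n : N, if n ∈ D then 0 else
        Nat.card (fix (D ⊔ Subgroup.zpowers n) Y')) ≡ Nat.card D * Nat.card (fix D Y') +
        (∑ n : N, if n ∈ D then 0 else Nat.card (fix (D ⊔ Subgroup.zpowers n) Y'))
        [MOD Nat.card N] := by
      rw [hk, hk']
      exact (Nat.modEq_zero_iff_dvd.2 (dvd_mul_left _ _)).trans
        (Nat.modEq_zero_iff_dvd.2 (dvd_mul_left _ _)).symm
    exact Nat.ModEq.add_right_cancel' _ e1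
  exact Nat.ModEq.mul_left_cancel' (Nat.card_pos.ne') h1

end Burnside

section Pull

/-- The `G`-set `Y` viewed as an `H`-set along `f : H →* G`. -/
def Pull {H : Type*} {G : Type*} [Monoid H] [Monoid G] (_f : H →* G) (Y : Type*) : Type _ := Y

instance Pull.instMulAction {H : Type*} {G : Type*} [Monoid H] [Monoid G] (f : H →* G) (Y : Type*)
    [MulAction G Y] : MulAction H (Pull f Y) := MulAction.compHom Y f

instance Pull.instFinite {H : Type*} {G : Type*} [Monoid H] [Monoid G] (f : H →* G) (Y : Type*)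
    [Finite Y] : Finite (Pull f Y) := ‹Finite Y›

theorem Pull.smul_def {H : Type*} {G : Type*} [Monoid H] [Monoid G] (f : H →* G) {Y : Type*}
    [MulAction G Y] (h : H) (y : Pull f Y) : h • y = (f h • (show Y from y) : Y) := rfl

theorem card_fix_pull {H : Type*} {G : Type*} [Group H] [Group G] (f : H →* G) (E : Subgroup H)
    (Y : Type*) [MulAction G Y] :
    Nat.card (fix E (Pull f Y)) = Nat.card (fix (E.map f) Y) := by
  refine Nat.card_congr (Equiv.subtypeEquivRight (α := Y) fun y => ?_)
  show (∀ h ∈ E, (f h • y : Y) = y) ↔ ∀ g ∈ E.map f, g • y = y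
  constructor
  · rintro h _ ⟨e, he, rfl⟩; exact h e he
  · intro h e he; exact h _ ⟨e, he, rfl⟩

end Pull

section Coset

variable {G : Type*} [Group G]

theorem mem_fix_quotient {D E : Subgroup G} {g : G} :
    (g : G ⧸ D) ∈ fix E (G ⧸ D) ↔ ∀ e ∈ E, g⁻¹ * e * g ∈ D := by
  rw [mem_fix]
  constructor
  · intro h e he
    have h1 := h e⁻¹ (E.inv_mem he)
    rw [MulAction.Quotient.smul_coe, QuotientGroup.eq] at h1
    simpa [mul_assoc] using h1
  · intro h e he
    have h1 := h e⁻¹ (E.inv_mem he)
    rw [MulAction.Quotient.smul_coe, QuotientGroup.eq]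
    simpa [mul_assoc] using h1

theorem fix_quotient_nonempty_iff {D E : Subgroup G} :
    (fix E (G ⧸ D)).Nonempty ↔ ∃ g : G, E ≤ D.map (MulAut.conj g).toMonoidHom := by
  constructor
  · rintro ⟨x, hx⟩
    obtain ⟨g, rfl⟩ := QuotientGroup.mk_surjective x
    rw [mem_fix_quotient] at hx
    refine ⟨g, fun e he => ⟨g⁻¹ * e * g, hx e he, ?_⟩⟩
    simp [mul_assoc]
  · rintro ⟨g, hg⟩
    refine ⟨(g : G ⧸ D), mem_fix_quotient.2 fun e he => ?_⟩
    obtain ⟨d, hd, rfl⟩ := hg he
    simpa [mul_assoc] using hd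

theorem fix_quotient_eq_empty_of_card_lt [Finite G] {D E : Subgroup G}
    (h : Nat.card D < Nat.card E) : fix E (G ⧸ D) = ∅ := by
  by_contra hne
  obtain ⟨g, hg⟩ := fix_quotient_nonempty_iff.1 (Set.nonempty_iff_ne_empty.2 hne)
  have h1 := Subgroup.card_le_of_le hg
  have h2 : Nat.card (D.map (MulAut.conj g).toMonoidHom) = Nat.card D :=
    Subgroup.card_map_of_injective (MulAut.conj g).injective
  omega

theorem exists_conj_of_fix_nonempty [Finite G] {D E : Subgroup G}
    (hc : Nat.card E = Nat.card D) (h : (fix E (G ⧸ D)).Nonempty) :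
    ∃ g : G, E = D.map (MulAut.conj g).toMonoidHom := by
  obtain ⟨g, hg⟩ := fix_quotient_nonempty_iff.1 h
  refine ⟨g, Subgroup.eq_of_le_of_card_ge hg ?_⟩
  rw [Subgroup.card_map_of_injective (MulAut.conj g).injective, hc]

theorem mem_normalizer_of_conj_le [Finite G] {D : Subgroup G} {g : G}
    (h : ∀ d ∈ D, g⁻¹ * d * g ∈ D) : g ∈ Subgroup.normalizer (D : Set G) := by
  have hinj : Function.Injective (fun d : D => (⟨g⁻¹ * d * g, h d d.2⟩ : D)) := by
    intro a b hab
    have := congrArg Subtype.val hab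
    simp only [mul_left_inj, mul_right_inj] at this
    exact Subtype.ext this
  have hsurj := Finite.surjective_of_injective hinj
  have hinv : g⁻¹ ∈ Subgroup.normalizer (D : Set G) := by
    rw [Subgroup.mem_normalizer_iff]
    intro x
    constructor
    · intro hx; simpa using h x hx
    · intro hx
      obtain ⟨d, hd⟩ := hsurj ⟨g⁻¹ * x * g⁻¹⁻¹, hx⟩
      have := congrArg Subtype.val hd
      simp only [inv_inv, mul_left_inj, mul_right_inj] at this
      rw [← this]; exact d.2
  simpa using (Subgroup.normalizer (D : Set G)).inv_mem hinv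

/-- The mark of `D` on `G ⧸ D` is `|N(D) : D|`. -/
theorem card_fix_self [Finite G] (D : Subgroup G) :
    Nat.card (fix D (G ⧸ D)) * Nat.card D = Nat.card (Subgroup.normalizer (D : Set G)) := by
  have e := QuotientGroup.preimageMkEquivSubgroupProdSet D (fix D (G ⧸ D))
  have hset : (QuotientGroup.mk ⁻¹' (fix D (G ⧸ D)) : Set G) =
      (Subgroup.normalizer (D : Set G) : Set G) := by
    ext g
    rw [Set.mem_preimage, mem_fix_quotient]
    constructor
    · exact mem_normalizer_of_conj_le
    · intro hg d hd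
      have hg' := (Subgroup.normalizer (D : Set G)).inv_mem hg
      rw [Subgroup.mem_normalizer_iff] at hg'
      simpa using (hg' d).1 hd
  rw [mul_comm, ← Nat.card_prod, ← Nat.card_congr e, hset]
  rfl

theorem card_fix_of_conj [Finite G] (D : Subgroup G) (g : G) :
    Nat.card (fix (D.map (MulAut.conj g).toMonoidHom) (G ⧸ D)) * Nat.card D =
      Nat.card (Subgroup.normalizer (D : Set G)) := by
  rw [card_fix_conj, card_fix_self]

end Coset

section Sigma

variable {G : Type*} [Group G]

theorem card_fix_sigma {ι : Type*} [Fintype ι] (X : ι → Type*) [∀ i, MulAction G (X i)]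
    [∀ i, Finite (X i)] (E : Subgroup G) :
    Nat.card (fix E (Σ i, X i)) = ∑ i, Nat.card (fix E (X i)) := by
  rw [← Nat.card_sigma]
  refine Nat.card_congr ⟨fun x => ⟨x.1.1, ⟨x.1.2, ?_⟩⟩, fun y => ⟨⟨y.1, y.2.1⟩, ?_⟩,
    fun x => rfl, fun y => rfl⟩
  · have hx := x.2
    rw [mem_fix] at hx ⊢
    intro g hg
    have := hx g hg
    obtain ⟨⟨i, a⟩, _⟩ := x
    rw [Sigma.smul_mk] at this
    simpa using this
  · have hy := y.2.2
    rw [mem_fix] at hy ⊢
    intro g hg
    obtain ⟨i, a, ha⟩ := y
    rw [Sigma.smul_mk, hy g hg]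

end Sigma

end Cfsg.Agent.Helper3.Biset
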