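import Mathlib
import Cfsg.Agent.Lib.Helper3.BisetMarks

/-!
# Finite `G`-sets given by orbit multiplicities, and the construction of stable `G`-sets

`Om c` is the `G`-set having `c D` orbits of type `G ⧸ D` for every subgroup `D`; `marks c E` is its
number of `E`-fixed points.  `StabSys.extend` is the downward induction of Broto-Levi-Oliver that
produces a `G`-set whose marks are constant on the classes of a given relation.
-/

set_option autoImplicit false
set_option linter.style.haveILetI false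
set_option linter.unusedSectionVars false

namespace Cfsg.Agent.Helper3.Biset

open MulAction

universe u

section Om

variable {G : Type u} [Group G]

/-- The `G`-set with `c D` orbits of type `G ⧸ D`. -/
def Om (c : Subgroup G → ℕ) : Type u := Σ i : (Σ D : Subgroup G, Fin (c D)), G ⧸ i.1

instance Om.instMulAction (c : Subgroup G → ℕ) : MulAction G (Om c) :=
  inferInstanceAs (MulAction G (Σ i : (Σ D : Subgroup G, Fin (c D)), G ⧸ i.1))

instance Om.instFinite [Finite G] (c : Subgroup G → ℕ) : Finite (Om c) :=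
  inferInstanceAs (Finite (Σ i : (Σ D : Subgroup G, Fin (c D)), G ⧸ i.1))

theorem Om.smul_mk (c : Subgroup G → ℕ) (g : G) (i : Σ D : Subgroup G, Fin (c D)) (x : G ⧸ i.1) :
    g • (⟨i, x⟩ : Om c) = ⟨i, g • x⟩ := rfl

/-- The number of `E`-fixed points of `Om c`. -/
noncomputable def marks (c : Subgroup G → ℕ) (E : Subgroup G) : ℕ := Nat.card (fix E (Om c))

variable [Finite G]

theorem marks_eq (c : Subgroup G → ℕ) (E : Subgroup G) :
    marks c E = ∑ᶠ D : Subgroup G, c D * Nat.card (fix E (G ⧸ D)) := by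
  classical
  haveI : Fintype (Subgroup G) := Fintype.ofFinite _
  unfold marks
  have h1 := card_fix_sigma (G := G) (ι := Σ D : Subgroup G, Fin (c D)) (fun i => G ⧸ i.1) E
  rw [finsum_eq_sum_of_fintype]
  refine h1.trans ?_
  rw [Fintype.sum_sigma]
  refine Finset.sum_congr rfl fun D _ => ?_
  show ∑ _y : Fin (c D), Nat.card (fix E (G ⧸ D)) = _
  rw [Finset.sum_const, Finset.card_univ, Fintype.card_fin, smul_eq_mul]

theorem marks_add (c c' : Subgroup G → ℕ) (E : Subgroup G) :
    marks (c + c') E = marks c E + marks c' E := by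
  rw [marks_eq, marks_eq, marks_eq, ← finsum_add_distrib (Set.toFinite _) (Set.toFinite _)]
  refine finsum_congr fun D => ?_
  rw [Pi.add_apply, add_mul]

theorem marks_conj (c : Subgroup G → ℕ) (E : Subgroup G) (g : G) :
    marks c (E.map (MulAut.conj g).toMonoidHom) = marks c E := card_fix_conj E (Om c) g

theorem marks_le_card (c : Subgroup G → ℕ) (E : Subgroup G) : marks c E ≤ Nat.card (Om c) :=
  Nat.card_le_card_of_injective _ Subtype.val_injective

theorem card_Om (c : Subgroup G → ℕ) :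
    Nat.card (Om c) = ∑ᶠ D : Subgroup G, c D * (Nat.card G / Nat.card D) := by
  classical
  haveI : Fintype (Subgroup G) := Fintype.ofFinite _
  unfold Om
  rw [Nat.card_sigma, finsum_eq_sum_of_fintype, Fintype.sum_sigma]
  refine Finset.sum_congr rfl fun D _ => ?_
  show ∑ _y : Fin (c D), Nat.card (G ⧸ D) = _
  rw [Finset.sum_const, Finset.card_univ, Fintype.card_fin, smul_eq_mul]
  congr 1
  rw [← Subgroup.index_eq_card, ← Subgroup.card_mul_index D, Nat.mul_div_cancel_left _ Nat.card_pos]

/-- If no subgroup in the support of `c` contains a conjugate of `E`, then `E` has no fixed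
points. -/
theorem marks_eq_zero (c : Subgroup G → ℕ) (E : Subgroup G)
    (h : ∀ D, c D ≠ 0 → ∀ g : G, ¬ E ≤ D.map (MulAut.conj g).toMonoidHom) : marks c E = 0 := by
  rw [marks_eq]
  refine finsum_eq_zero_of_forall_eq_zero fun D => ?_
  by_cases hD : c D = 0
  · rw [hD, zero_mul]
  · have : fix E (G ⧸ D) = ∅ := by
      by_contra hne
      obtain ⟨g, hg⟩ := fix_quotient_nonempty_iff.1 (Set.nonempty_iff_ne_empty.2 hne)
      exact h D hD g hg
    rw [this]; simp

end Om

section Conj

variable {G : Type u} [Group G]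

theorem map_conj_one (D : Subgroup G) : D.map (MulAut.conj (1 : G)).toMonoidHom = D := by
  ext x; simp

theorem map_conj_mul (D : Subgroup G) (g h : G) :
    (D.map (MulAut.conj g).toMonoidHom).map (MulAut.conj h).toMonoidHom =
      D.map (MulAut.conj (h * g)).toMonoidHom := by
  rw [Subgroup.map_map]
  congr 1
  ext x; simp [mul_assoc]

/-- Conjugacy of subgroups. -/
def conjSetoid (G : Type u) [Group G] : Setoid (Subgroup G) where
  r D D' := ∃ g : G, D' = D.map (MulAut.conj g).toMonoidHom
  iseqv := by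
    refine ⟨fun D => ⟨1, (map_conj_one D).symm⟩, ?_, ?_⟩
    · rintro D D' ⟨g, rfl⟩
      exact ⟨g⁻¹, by rw [map_conj_mul, inv_mul_cancel, map_conj_one]⟩
    · rintro D D' D'' ⟨g, rfl⟩ ⟨h, rfl⟩
      exact ⟨h * g, map_conj_mul D g h⟩

/-- A representative of the conjugacy class of `D`. -/
noncomputable def crep (D : Subgroup G) : Subgroup G := (Quotient.mk (conjSetoid G) D).out

theorem crep_spec (D : Subgroup G) : ∃ g : G, crep D = D.map (MulAut.conj g).toMonoidHom := by
  have h : (conjSetoid G).r D (crep D) := (conjSetoid G).symm (Quotient.mk_out (s := conjSetoid G) D)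
  exact h

theorem crep_conj (D : Subgroup G) (g : G) : crep (D.map (MulAut.conj g).toMonoidHom) = crep D := by
  unfold crep
  congr 1
  exact Quotient.sound ((conjSetoid G).symm ⟨g, rfl⟩)

theorem crep_crep (D : Subgroup G) : crep (crep D) = crep D := by
  obtain ⟨g, hg⟩ := crep_spec D
  conv_lhs => rw [hg]
  exact crep_conj D g

theorem card_map_conj (D : Subgroup G) (g : G) :
    Nat.card (D.map (MulAut.conj g).toMonoidHom) = Nat.card D :=
  Subgroup.card_map_of_injective (MulAut.conj g).injective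

theorem card_normalizer_map_conj (D : Subgroup G) (g : G) :
    Nat.card (Subgroup.normalizer ((D.map (MulAut.conj g).toMonoidHom : Subgroup G) : Set G)) =
      Nat.card (Subgroup.normalizer (D : Set G)) := by
  have := Subgroup.map_equiv_normalizer_eq D (MulAut.conj g)
  have h2 : Subgroup.normalizer ((D.map (MulAut.conj g).toMonoidHom : Subgroup G) : Set G) =
      (Subgroup.normalizer (D : Set G)).map (MulAut.conj g).toMonoidHom := by
    rw [this]
  rw [h2, card_map_conj]

end Conj

section ConjClass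

variable {G : Type u} [Group G]

theorem mem_normalizer_iff_map_conj (D : Subgroup G) (n : G) :
    n ∈ Subgroup.normalizer (D : Set G) ↔ D.map (MulAut.conj n).toMonoidHom = D := by
  constructor
  · intro hn
    ext x
    constructor
    · rintro ⟨d, hd, rfl⟩
      exact (Subgroup.mem_normalizer_iff.1 hn d).1 hd
    · intro hx
      refine ⟨n⁻¹ * x * n, ?_, by simp [mul_assoc]⟩
      have hn' := Subgroup.inv_mem _ hn
      have := (Subgroup.mem_normalizer_iff.1 hn' x).1 hx
      simpa using this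
  · intro h
    rw [Subgroup.mem_normalizer_iff]
    intro d
    constructor
    · intro hd
      rw [← h]
      exact ⟨d, hd, rfl⟩
    · intro hd
      rw [← h] at hd
      obtain ⟨d', hd', e⟩ := hd
      have : d' = d := by
        have e' : n * d' * n⁻¹ = n * d * n⁻¹ := e
        exact mul_left_cancel (mul_right_cancel e')
      rw [← this]; exact hd'

theorem map_conj_eq_iff (D : Subgroup G) (g h : G) :
    D.map (MulAut.conj g).toMonoidHom = D.map (MulAut.conj h).toMonoidHom ↔
      g⁻¹ * h ∈ Subgroup.normalizer (D : Set G) := by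
  rw [mem_normalizer_iff_map_conj]
  have e : D.map (MulAut.conj h).toMonoidHom =
      (D.map (MulAut.conj (g⁻¹ * h)).toMonoidHom).map (MulAut.conj g).toMonoidHom := by
    rw [map_conj_mul, mul_inv_cancel_left]
  rw [e]
  constructor
  · intro h1
    exact (Subgroup.map_injective (MulAut.conj g).injective h1).symm
  · intro h1
    rw [h1]

/-- The conjugacy class of a subgroup has `|G : N(D)|` elements. -/
theorem card_conjClass [Finite G] (D₀ : Subgroup G) :
    Nat.card {D : Subgroup G // ∃ g : G, D = D₀.map (MulAut.conj g).toMonoidHom} *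
      Nat.card (Subgroup.normalizer (D₀ : Set G)) = Nat.card G := by
  rw [Subgroup.card_eq_card_quotient_mul_card_subgroup (Subgroup.normalizer (D₀ : Set G))]
  congr 1
  symm
  refine Nat.card_congr (Equiv.ofBijective (Quotient.lift
    (fun g : G => (⟨D₀.map (MulAut.conj g).toMonoidHom, g, rfl⟩ :
      {D : Subgroup G // ∃ g : G, D = D₀.map (MulAut.conj g).toMonoidHom})) ?_) ⟨?_, ?_⟩)
  · intro a b hab
    apply Subtype.ext
    show D₀.map (MulAut.conj a).toMonoidHom = D₀.map (MulAut.conj b).toMonoidHom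
    rw [map_conj_eq_iff]
    exact QuotientGroup.leftRel_apply.1 hab
  · intro x y
    induction x using Quotient.inductionOn with
    | _ a =>
      induction y using Quotient.inductionOn with
      | _ b =>
        intro h
        have h' : D₀.map (MulAut.conj a).toMonoidHom = D₀.map (MulAut.conj b).toMonoidHom :=
          congrArg Subtype.val h
        rw [map_conj_eq_iff] at h'
        exact Quotient.sound (QuotientGroup.leftRel_apply.2 h')
  · rintro ⟨D, g, rfl⟩
    exact ⟨Quotient.mk _ g, rfl⟩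

/-- Counting a conjugation-invariant set of subgroups whose normalizers all have order `ν`, by
conjugacy classes. -/
theorem card_mul_eq_card_reps_mul [Finite G] (𝒟 : Set (Subgroup G))
    (hconj : ∀ D ∈ 𝒟, ∀ g : G, D.map (MulAut.conj g).toMonoidHom ∈ 𝒟) (ν : ℕ)
    (hν : ∀ D ∈ 𝒟, Nat.card (Subgroup.normalizer (D : Set G)) = ν) :
    Nat.card 𝒟 * ν = Nat.card {D : Subgroup G // D ∈ 𝒟 ∧ crep D = D} * Nat.card G := by
  classical
  haveI : Fintype {D : Subgroup G // D ∈ 𝒟 ∧ crep D = D} := Fintype.ofFinite _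
  have hcrep : ∀ D ∈ 𝒟, crep D ∈ 𝒟 := by
    intro D hD
    obtain ⟨g, hg⟩ := crep_spec D
    rw [hg]; exact hconj D hD g
  have e : 𝒟 ≃ Σ D₀ : {D : Subgroup G // D ∈ 𝒟 ∧ crep D = D},
      {D : Subgroup G // ∃ g : G, D = (D₀ : Subgroup G).map (MulAut.conj g).toMonoidHom} :=
    { toFun := fun D => ⟨⟨crep D.1, hcrep D.1 D.2, crep_crep D.1⟩, ⟨D.1, by
        obtain ⟨g, hg⟩ := crep_spec D.1
        refine ⟨g⁻¹, ?_⟩
        show D.1 = (crep D.1).map (MulAut.conj g⁻¹).toMonoidHom
        rw [hg, map_conj_mul, inv_mul_cancel, map_conj_one]⟩⟩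
      invFun := fun x => ⟨x.2.1, by
        obtain ⟨g, hg⟩ := x.2.2
        rw [hg]; exact hconj _ x.1.2.1 g⟩
      left_inv := fun D => rfl
      right_inv := by
        rintro ⟨⟨D₀, hD₀, hrep⟩, ⟨D, g, hg⟩⟩
        have h1 : crep D = D₀ := by rw [hg, crep_conj, hrep]
        subst h1
        rfl }
  rw [Nat.card_congr e, Nat.card_sigma, Finset.sum_mul]
  have : ∀ D₀ : {D : Subgroup G // D ∈ 𝒟 ∧ crep D = D},
      Nat.card {D : Subgroup G // ∃ g : G, D = (D₀ : Subgroup G).map
        (MulAut.conj g).toMonoidHom} * ν = Nat.card G := by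
    intro D₀
    rw [← hν D₀.1 D₀.2.1]
    exact card_conjClass D₀.1
  rw [Finset.sum_congr rfl fun D₀ _ => this D₀, Finset.sum_const, Finset.card_univ, smul_eq_mul,
    ← Nat.card_eq_fintype_card]

end ConjClass

section Extend

variable {G : Type u} [Group G]

/-- Data for the construction of stable `G`-sets: a family `TT` of subgroups closed under taking
subgroups, a relation `R` containing conjugation and preserving orders and `TT`, a choice `star`
of a preferred representative constant on `R`-classes, and for each `D ∈ TT` a map from `N(D)` that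
carries `D` onto `star D` and every subgroup of `N(D)` onto an `R`-related one. -/
structure StabSys (G : Type u) [Group G] where
  TT : Set (Subgroup G)
  R : Subgroup G → Subgroup G → Prop
  star : Subgroup G → Subgroup G
  R_card : ∀ {E E' : Subgroup G}, R E E' → Nat.card E = Nat.card E'
  R_mem : ∀ {E E' : Subgroup G}, R E E' → (E ∈ TT ↔ E' ∈ TT)
  R_conj : ∀ (E : Subgroup G) (g : G), R E (E.map (MulAut.conj g).toMonoidHom)
  TT_le : ∀ {E D : Subgroup G}, E ≤ D → D ∈ TT → E ∈ TT
  star_eq : ∀ {E E' : Subgroup G}, R E E' → star E = star E'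
  chi : ∀ D ∈ TT, ∃ χ : ↥(Subgroup.normalizer (D : Set G)) →* G,
      (D.subgroupOf (Subgroup.normalizer (D : Set G))).map χ = star D ∧
      ∀ E' : Subgroup ↥(Subgroup.normalizer (D : Set G)),
        R (E'.map (Subgroup.normalizer (D : Set G)).subtype) (E'.map χ)

namespace StabSys

variable (𝔖 : StabSys G)

theorem TT_conj {D : Subgroup G} (hD : D ∈ 𝔖.TT) (g : G) :
    D.map (MulAut.conj g).toMonoidHom ∈ 𝔖.TT := (𝔖.R_mem (𝔖.R_conj D g)).1 hD

/-- Stability of the marks of `Om c` on subgroups of order at least `k`. -/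
def Stable (c : Subgroup G → ℕ) (k : ℕ) : Prop :=
  ∀ E E' : Subgroup G, 𝔖.R E E' → k ≤ Nat.card E → marks c E = marks c E'

/-- The support of `c` lies in `TT`. -/
def Supp (c : Subgroup G → ℕ) : Prop := ∀ D, c D ≠ 0 → D ∈ 𝔖.TT

variable [Finite G]

theorem marks_eq_zero_of_notMem {c : Subgroup G → ℕ} (hc : 𝔖.Supp c) {E : Subgroup G}
    (hE : E ∉ 𝔖.TT) : marks c E = 0 :=
  marks_eq_zero c E fun D hD g hle => hE (𝔖.TT_le hle (𝔖.TT_conj (hc D hD) g))

/-- The index `|N(D) : D|`. -/
noncomputable def idx (D : Subgroup G) : ℕ :=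
  Nat.card (Subgroup.normalizer (D : Set G)) / Nat.card D

theorem idx_mul_card (D : Subgroup G) :
    idx D * Nat.card D = Nat.card (Subgroup.normalizer (D : Set G)) :=
  Nat.div_mul_cancel (Subgroup.card_dvd_of_le Subgroup.le_normalizer)

theorem idx_dvd_card (D : Subgroup G) : idx D ∣ Nat.card G :=
  (Dvd.intro _ (idx_mul_card D)).trans (Subgroup.card_subgroup_dvd_card _)

theorem idx_conj (D : Subgroup G) (g : G) : idx (D.map (MulAut.conj g).toMonoidHom) = idx D := by
  unfold idx
  rw [card_normalizer_map_conj, card_map_conj]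

theorem card_fix_eq_idx (D : Subgroup G) (g : G) :
    Nat.card (fix (D.map (MulAut.conj g).toMonoidHom) (G ⧸ D)) = idx D := by
  have h := card_fix_of_conj D g
  unfold idx
  rw [← h, Nat.mul_div_cancel _ Nat.card_pos]

/-- The key congruence. -/
theorem marks_modEq {c : Subgroup G → ℕ} {k : ℕ} (hΦ : 𝔖.Stable c (k + 1)) {D : Subgroup G}
    (hD : D ∈ 𝔖.TT) (hk : Nat.card D = k) : marks c D ≡ marks c (𝔖.star D) [MOD idx D] := by
  obtain ⟨χ, hχD, hχR⟩ := 𝔖.chi D hD
  haveI : (D.subgroupOf (Subgroup.normalizer (D : Set G))).Normal := Subgroup.normal_in_normalizer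
  have hDN : D ≤ Subgroup.normalizer (D : Set G) := Subgroup.le_normalizer
  have hmapD : (D.subgroupOf (Subgroup.normalizer (D : Set G))).map
      (Subgroup.normalizer (D : Set G)).subtype = D := by
    rw [Subgroup.subgroupOf_map_subtype, inf_eq_left.2 hDN]
  have hcardD' : Nat.card (D.subgroupOf (Subgroup.normalizer (D : Set G))) = Nat.card D := by
    conv_rhs => rw [← hmapD]
    rw [Subgroup.card_map_of_injective (Subgroup.subtype_injective _)]
  have hidx : (D.subgroupOf (Subgroup.normalizer (D : Set G))).index = idx D := by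
    have h1 := Subgroup.card_mul_index (D.subgroupOf (Subgroup.normalizer (D : Set G)))
    unfold idx
    rw [← h1, hcardD', Nat.mul_div_cancel_left _ Nat.card_pos]
  have key := card_fix_modEq (D.subgroupOf (Subgroup.normalizer (D : Set G)))
    (Y := Pull (Subgroup.normalizer (D : Set G)).subtype (Om c)) (Y' := Pull χ (Om c)) ?_
  · rw [card_fix_pull, card_fix_pull, hmapD, hχD, hidx] at key
    exact key
  · intro n hn
    rw [card_fix_pull, card_fix_pull]
    apply hΦ _ _ (hχR _)
    rw [Subgroup.card_map_of_injective (Subgroup.subtype_injective _), ← hk, ← hcardD']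
    have hlt : D.subgroupOf (Subgroup.normalizer (D : Set G)) <
        D.subgroupOf (Subgroup.normalizer (D : Set G)) ⊔ Subgroup.zpowers n := by
      refine lt_of_le_of_ne le_sup_left fun h => hn ?_
      rw [h]
      exact le_sup_right (a := D.subgroupOf (Subgroup.normalizer (D : Set G)))
        (Subgroup.mem_zpowers n)
    exact Nat.succ_le_of_lt (Set.ncard_lt_ncard hlt (Set.toFinite _))

open Classical in
/-- The multiplicities added at level `k`. -/
noncomputable def cAdd (c : Subgroup G → ℕ) (k : ℕ) (D : Subgroup G) : ℕ :=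
  if D ∈ 𝔖.TT ∧ Nat.card D = k ∧ crep D = D then
    (marks c (𝔖.star D) + Nat.card (Om c) * Nat.card G - marks c D) / idx D
  else 0

theorem cAdd_ne_zero {c : Subgroup G → ℕ} {k : ℕ} {D : Subgroup G} (h : 𝔖.cAdd c k D ≠ 0) :
    D ∈ 𝔖.TT ∧ Nat.card D = k ∧ crep D = D := by
  classical
  by_contra hcon
  exact h (by unfold cAdd; rw [if_neg hcon])

theorem cAdd_mul_idx {c : Subgroup G → ℕ} {k : ℕ} (hΦ : 𝔖.Stable c (k + 1)) {D : Subgroup G}
    (hD : D ∈ 𝔖.TT) (hk : Nat.card D = k) (hrep : crep D = D) :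
    𝔖.cAdd c k D * idx D =
      marks c (𝔖.star D) + Nat.card (Om c) * Nat.card G - marks c D := by
  classical
  unfold cAdd
  rw [if_pos ⟨hD, hk, hrep⟩]
  apply Nat.div_mul_cancel
  have hle : marks c D ≤ marks c (𝔖.star D) + Nat.card (Om c) * Nat.card G := by
    have h1 := marks_le_card c D
    have h2 : Nat.card (Om c) ≤ Nat.card (Om c) * Nat.card G :=
      Nat.le_mul_of_pos_right _ Nat.card_pos
    omega
  rw [← Nat.modEq_iff_dvd' hle]
  have h1 := 𝔖.marks_modEq hΦ hD hk
  have h2 : Nat.card (Om c) * Nat.card G ≡ 0 [MOD idx D] :=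
    Nat.modEq_zero_iff_dvd.2 (Dvd.dvd.mul_left (idx_dvd_card D) _)
  have h3 := h1.add h2.symm
  rwa [add_zero] at h3

theorem marks_cAdd_of_lt (c : Subgroup G → ℕ) {k : ℕ} {E : Subgroup G} (hE : k < Nat.card E) :
    marks (𝔖.cAdd c k) E = 0 := by
  apply marks_eq_zero
  intro D hD g hle
  obtain ⟨-, hk, -⟩ := 𝔖.cAdd_ne_zero hD
  have h1 := Subgroup.card_le_of_le hle
  rw [card_map_conj, hk] at h1
  omega

theorem marks_cAdd_of_notMem (c : Subgroup G → ℕ) (k : ℕ) {E : Subgroup G} (hE : E ∉ 𝔖.TT) :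
    marks (𝔖.cAdd c k) E = 0 := by
  apply marks_eq_zero
  intro D hD g hle
  obtain ⟨hT, -, -⟩ := 𝔖.cAdd_ne_zero hD
  exact hE (𝔖.TT_le hle (𝔖.TT_conj hT g))

theorem marks_cAdd_of_mem {c : Subgroup G → ℕ} {k : ℕ} (hΦ : 𝔖.Stable c (k + 1))
    {E : Subgroup G} (hE : E ∈ 𝔖.TT) (hk : Nat.card E = k) :
    marks (𝔖.cAdd c k) E =
      marks c (𝔖.star E) + Nat.card (Om c) * Nat.card G - marks c E := by
  rw [marks_eq, finsum_eq_single _ (crep E)]
  · obtain ⟨g, hg⟩ := crep_spec E
    have hE' : E = (crep E).map (MulAut.conj g⁻¹).toMonoidHom := by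
      rw [hg, map_conj_mul, inv_mul_cancel, map_conj_one]
    have hT : crep E ∈ 𝔖.TT := hg ▸ 𝔖.TT_conj hE g
    have hk' : Nat.card (crep E) = k := by rw [hg, card_map_conj, hk]
    have h1 : Nat.card (fix E (G ⧸ crep E)) = idx (crep E) := by
      have h0 : fix E (G ⧸ crep E) =
          fix ((crep E).map (MulAut.conj g⁻¹).toMonoidHom) (G ⧸ crep E) := by rw [← hE']
      rw [h0]
      exact card_fix_eq_idx (crep E) g⁻¹
    rw [h1, 𝔖.cAdd_mul_idx hΦ hT hk' (crep_crep E)]
    have h2 : 𝔖.star (crep E) = 𝔖.star E := by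
      rw [hg]; exact (𝔖.star_eq (𝔖.R_conj E g)).symm
    have h3 : marks c (crep E) = marks c E := by rw [hg, marks_conj]
    rw [h2, h3]
  · intro D hD
    by_cases hc : 𝔖.cAdd c k D = 0
    · rw [hc, zero_mul]
    · obtain ⟨-, hkD, hrep⟩ := 𝔖.cAdd_ne_zero hc
      have hempty : fix E (G ⧸ D) = ∅ := by
        by_contra hne
        obtain ⟨g, hg⟩ := exists_conj_of_fix_nonempty (hk.trans hkD.symm)
          (Set.nonempty_iff_ne_empty.2 hne)
        apply hD
        rw [hg, crep_conj, hrep]
      rw [hempty]; simp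

/-- One step of the downward induction. -/
theorem step {c : Subgroup G → ℕ} {k : ℕ} (hc : 𝔖.Supp c) (hΦ : 𝔖.Stable c (k + 1)) :
    ∃ c' : Subgroup G → ℕ, 𝔖.Supp c' ∧ (∀ D : Subgroup G, Nat.card D ≠ k → c' D = c D) ∧ 𝔖.Stable c' k := by
  refine ⟨c + 𝔖.cAdd c k, ?_, ?_, ?_⟩
  · intro D hD
    by_cases h : c D = 0
    · have : 𝔖.cAdd c k D ≠ 0 := by
        intro h0; apply hD; rw [Pi.add_apply, h, h0]
      exact (𝔖.cAdd_ne_zero this).1
    · exact hc D h
  · intro D hD
    have : 𝔖.cAdd c k D = 0 := by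
      by_contra h0
      exact hD (𝔖.cAdd_ne_zero h0).2.1
    rw [Pi.add_apply, this, add_zero]
  · intro E E' hR hk
    have hcard := 𝔖.R_card hR
    rw [marks_add, marks_add]
    rcases Nat.lt_or_ge k (Nat.card E) with hlt | hge
    · rw [𝔖.marks_cAdd_of_lt c hlt, 𝔖.marks_cAdd_of_lt c (hcard ▸ hlt), add_zero, add_zero]
      exact hΦ E E' hR hlt
    · have hkE : Nat.card E = k := le_antisymm hge hk
      by_cases hE : E ∈ 𝔖.TT
      · have hE' : E' ∈ 𝔖.TT := (𝔖.R_mem hR).1 hE
        rw [𝔖.marks_cAdd_of_mem hΦ hE hkE, 𝔖.marks_cAdd_of_mem hΦ hE' (hcard ▸ hkE),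
          𝔖.star_eq hR]
        have h1 := marks_le_card c E
        have h2 := marks_le_card c E'
        have h3 : Nat.card (Om c) ≤ Nat.card (Om c) * Nat.card G :=
          Nat.le_mul_of_pos_right _ Nat.card_pos
        omega
      · have hE' : E' ∉ 𝔖.TT := fun h => hE ((𝔖.R_mem hR).2 h)
        rw [𝔖.marks_cAdd_of_notMem c k hE, 𝔖.marks_cAdd_of_notMem c k hE',
          𝔖.marks_eq_zero_of_notMem hc hE, 𝔖.marks_eq_zero_of_notMem hc hE']

/-- **Construction of stable sets.**  A multiplicity function supported in `TT` whose marks are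
stable on subgroups of order at least `k₀` can be modified on subgroups of order less than `k₀`
so as to become stable everywhere. -/
theorem extend {c₀ : Subgroup G → ℕ} {k₀ : ℕ} (hc : 𝔖.Supp c₀) (hΦ : 𝔖.Stable c₀ k₀) :
    ∃ c : Subgroup G → ℕ, 𝔖.Supp c ∧ (∀ D : Subgroup G, k₀ ≤ Nat.card D → c D = c₀ D) ∧ 𝔖.Stable c 0 := by
  have key : ∀ j : ℕ, j ≤ k₀ → ∃ c : Subgroup G → ℕ, 𝔖.Supp c ∧
      (∀ D : Subgroup G, k₀ ≤ Nat.card D → c D = c₀ D) ∧ 𝔖.Stable c (k₀ - j) := by
    intro j
    induction j with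
    | zero => intro _; exact ⟨c₀, hc, fun _ _ => rfl, hΦ⟩
    | succ j ih =>
      intro hj
      obtain ⟨c, hc1, hc2, hc3⟩ := ih (by omega)
      have e : k₀ - j = (k₀ - (j + 1)) + 1 := by omega
      rw [e] at hc3
      obtain ⟨c', h1, h2, h3⟩ := 𝔖.step hc1 hc3
      refine ⟨c', h1, fun D hD => ?_, h3⟩
      rw [h2 D (by omega), hc2 D hD]
  obtain ⟨c, h1, h2, h3⟩ := key k₀ le_rfl
  rw [Nat.sub_self] at h3
  exact ⟨c, h1, h2, h3⟩

end StabSys

end Extend

end Cfsg.Agent.Helper3.Biset
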