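import Mathlib
import Cfsg.Prelude.Def_FusionSystem
import Cfsg.Agent.Lib.Helper25.Fusion
import Cfsg.Agent.Lib.Helper25.FusionRecept
import Cfsg.Agent.Lib.Helper25.FusionSat4
import Cfsg.Agent.Lib.Helper3.BisetExtend

/-!
# Twisted diagonal subgroups for a fusion system on a group `T`

For a fusion system `F` on the top subgroup of a finite `p`-group `T`, the twisted diagonal
subgroups `graph P φ ≤ T × T` (`φ` a map of `F`), their images under products of maps of `F`, and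
the verification of the hypotheses of `StabSys` when `F` is saturated.
-/

set_option autoImplicit false
set_option linter.style.haveILetI false
set_option linter.unusedSectionVars false

namespace Cfsg.Agent.Helper3.Biset

open Cfsg Cfsg.FusionSystem Cfsg.Agent.Helper25

universe u

section Graph

variable {T : Type u} [Group T]

/-- The graph of a homomorphism defined on a subgroup. -/
def graph (P : Subgroup T) (φ : P →* T) : Subgroup (T × T) := (P.subtype.prod φ).range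

theorem mem_graph {P : Subgroup T} {φ : P →* T} {x : T × T} :
    x ∈ graph P φ ↔ ∃ h : x.1 ∈ P, φ ⟨x.1, h⟩ = x.2 := by
  constructor
  · rintro ⟨u, rfl⟩
    exact ⟨u.2, rfl⟩
  · rintro ⟨h, hx⟩
    exact ⟨⟨x.1, h⟩, Prod.ext rfl hx⟩

theorem mk_mem_graph {P : Subgroup T} {φ : P →* T} (u : P) : ((u : T), φ u) ∈ graph P φ :=
  ⟨u, rfl⟩

theorem map_fst_graph (P : Subgroup T) (φ : P →* T) :
    (graph P φ).map (MonoidHom.fst T T) = P := by
  ext a
  constructor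
  · rintro ⟨x, hx, rfl⟩
    obtain ⟨h, -⟩ := mem_graph.1 hx
    exact h
  · intro ha
    exact ⟨((⟨a, ha⟩ : P), φ ⟨a, ha⟩), mk_mem_graph _, rfl⟩

theorem card_graph (P : Subgroup T) (φ : P →* T) : Nat.card (graph P φ) = Nat.card P := by
  have hinj : Function.Injective (P.subtype.prod φ) := by
    intro a b hab
    have := congrArg Prod.fst hab
    exact Subtype.ext this
  exact Nat.card_congr (MonoidHom.ofInjective hinj).symm.toEquiv

/-- The product of two homomorphisms defined on subgroups. -/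
def prodMapSub {A₁ A₂ : Subgroup T} (α : A₁ →* T) (β : A₂ →* T) : ↥(A₁.prod A₂) →* T × T where
  toFun x := (α ⟨x.1.1, (Subgroup.mem_prod.1 x.2).1⟩, β ⟨x.1.2, (Subgroup.mem_prod.1 x.2).2⟩)
  map_one' := by
    apply Prod.ext
    · exact α.map_one
    · exact β.map_one
  map_mul' x y := by
    apply Prod.ext
    · exact α.map_mul ⟨x.1.1, _⟩ ⟨y.1.1, _⟩
    · exact β.map_mul ⟨x.1.2, _⟩ ⟨y.1.2, _⟩

theorem prodMapSub_apply {A₁ A₂ : Subgroup T} (α : A₁ →* T) (β : A₂ →* T) (x : ↥(A₁.prod A₂)) :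
    prodMapSub α β x =
      (α ⟨x.1.1, (Subgroup.mem_prod.1 x.2).1⟩, β ⟨x.1.2, (Subgroup.mem_prod.1 x.2).2⟩) := rfl

theorem prodMapSub_injective {A₁ A₂ : Subgroup T} {α : A₁ →* T} {β : A₂ →* T}
    (hα : Function.Injective α) (hβ : Function.Injective β) :
    Function.Injective (prodMapSub α β) := by
  intro x y hxy
  rw [prodMapSub_apply, prodMapSub_apply, Prod.mk.injEq] at hxy
  have h1 := congrArg Subtype.val (hα hxy.1)
  have h2 := congrArg Subtype.val (hβ hxy.2)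
  exact Subtype.ext (Prod.ext h1 h2)

/-- The image of a subgroup of `T × T` under a product of homomorphisms. -/
def ffimg {A₁ A₂ : Subgroup T} (α : A₁ →* T) (β : A₂ →* T) (E : Subgroup (T × T)) :
    Subgroup (T × T) := (E.subgroupOf (A₁.prod A₂)).map (prodMapSub α β)

theorem mem_ffimg {A₁ A₂ : Subgroup T} {α : A₁ →* T} {β : A₂ →* T} {E : Subgroup (T × T)}
    {x' : T × T} : x' ∈ ffimg α β E ↔
      ∃ x ∈ E, ∃ (h₁ : x.1 ∈ A₁) (h₂ : x.2 ∈ A₂), α ⟨x.1, h₁⟩ = x'.1 ∧ β ⟨x.2, h₂⟩ = x'.2 := by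
  constructor
  · rintro ⟨x, hx, rfl⟩
    exact ⟨x.1, hx, (Subgroup.mem_prod.1 x.2).1, (Subgroup.mem_prod.1 x.2).2, rfl, rfl⟩
  · rintro ⟨x, hx, h₁, h₂, e₁, e₂⟩
    exact ⟨⟨x, Subgroup.mem_prod.2 ⟨h₁, h₂⟩⟩, hx, Prod.ext e₁ e₂⟩

theorem card_ffimg {A₁ A₂ : Subgroup T} {α : A₁ →* T} {β : A₂ →* T}
    (hα : Function.Injective α) (hβ : Function.Injective β) {E : Subgroup (T × T)}
    (hE : E ≤ A₁.prod A₂) : Nat.card (ffimg α β E) = Nat.card E := by
  unfold ffimg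
  rw [Subgroup.card_map_of_injective (prodMapSub_injective hα hβ)]
  exact Nat.card_congr (Subgroup.subgroupOfEquivOfLe hE).toEquiv

theorem map_fst_ffimg {A₁ A₂ : Subgroup T} (α : A₁ →* T) (β : A₂ →* T) {E : Subgroup (T × T)}
    (hE : E ≤ A₁.prod A₂) :
    (ffimg α β E).map (MonoidHom.fst T T) =
      ((E.map (MonoidHom.fst T T)).subgroupOf A₁).map α := by
  ext a
  constructor
  · rintro ⟨x', hx', rfl⟩
    obtain ⟨x, hx, h₁, h₂, e₁, e₂⟩ := mem_ffimg.1 hx'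
    exact ⟨⟨x.1, h₁⟩, ⟨x, hx, rfl⟩, e₁⟩
  · rintro ⟨⟨a₀, ha₀⟩, ⟨x, hx, hxa⟩, rfl⟩
    have hxa' : x.1 = a₀ := hxa
    have hx2 := (Subgroup.mem_prod.1 (hE hx)).2
    refine ⟨(α ⟨a₀, ha₀⟩, β ⟨x.2, hx2⟩), mem_ffimg.2 ⟨x, hx, hxa' ▸ ha₀, hx2, ?_, rfl⟩, rfl⟩
    subst hxa'
    rfl

end Graph

section Fus

variable {T : Type u} [Group T] (F : FusionSystem (⊤ : Subgroup T))

/-- The twisted diagonal subgroups of `T × T` attached to the fusion system. -/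
def TD : Set (Subgroup (T × T)) :=
  {D | ∃ (P : Subgroup T) (φ : P →* T), φ ∈ F.Hom P ∧ D = graph P φ}

/-- `E'` is the image of `E` under a product of two maps of the system. -/
def FFConj (E E' : Subgroup (T × T)) : Prop :=
  ∃ (A₁ A₂ : Subgroup T) (α : A₁ →* T) (β : A₂ →* T),
    α ∈ F.Hom A₁ ∧ β ∈ F.Hom A₂ ∧ E ≤ A₁.prod A₂ ∧ E' = ffimg α β E

variable {F}

theorem FFConj.card_eq {E E' : Subgroup (T × T)} (h : FFConj F E E') :
    Nat.card E = Nat.card E' := by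
  obtain ⟨A₁, A₂, α, β, hα, hβ, hE, rfl⟩ := h
  exact (card_ffimg (F.injective_of_mem hα) (F.injective_of_mem hβ) hE).symm

theorem FFConj.symm {E E' : Subgroup (T × T)} (h : FFConj F E E') : FFConj F E' E := by
  obtain ⟨A₁, A₂, α, β, hα, hβ, hE, rfl⟩ := h
  obtain ⟨α', hα', hαinv, -⟩ := exists_inv F hα rfl
  obtain ⟨β', hβ', hβinv, -⟩ := exists_inv F hβ rfl
  refine ⟨α.range, β.range, α', β', hα', hβ', ?_, ?_⟩
  · intro x' hx'
    obtain ⟨x, -, h₁, h₂, e₁, e₂⟩ := mem_ffimg.1 hx'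
    exact Subgroup.mem_prod.2 ⟨⟨_, e₁⟩, ⟨_, e₂⟩⟩
  · ext x
    constructor
    · intro hx
      have h₁ := (Subgroup.mem_prod.1 (hE hx)).1
      have h₂ := (Subgroup.mem_prod.1 (hE hx)).2
      refine mem_ffimg.2 ⟨(α ⟨x.1, h₁⟩, β ⟨x.2, h₂⟩), mem_ffimg.2 ⟨x, hx, h₁, h₂, rfl, rfl⟩,
        ⟨_, rfl⟩, ⟨_, rfl⟩, hαinv _ _, hβinv _ _⟩
    · intro hx
      obtain ⟨x', hx', h₁', h₂', e₁', e₂'⟩ := mem_ffimg.1 hx
      obtain ⟨y, hy, h₁, h₂, e₁, e₂⟩ := mem_ffimg.1 hx'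
      have e1 : x.1 = y.1 := by
        rw [← e₁']
        have : (⟨x'.1, h₁'⟩ : α.range) = ⟨α ⟨y.1, h₁⟩, MonoidHom.mem_range.2 ⟨_, rfl⟩⟩ :=
          Subtype.ext e₁.symm
        rw [this]; exact hαinv _ _
      have e2 : x.2 = y.2 := by
        rw [← e₂']
        have : (⟨x'.2, h₂'⟩ : β.range) = ⟨β ⟨y.2, h₂⟩, MonoidHom.mem_range.2 ⟨_, rfl⟩⟩ :=
          Subtype.ext e₂.symm
        rw [this]; exact hβinv _ _
      have : x = y := Prod.ext e1 e2
      rw [this]; exact hy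

theorem ffimg_graph_mem_TD {A₁ A₂ : Subgroup T} {α : A₁ →* T} {β : A₂ →* T} (hα : α ∈ F.Hom A₁)
    (hβ : β ∈ F.Hom A₂) {P : Subgroup T} {φ : P →* T} (hφ : φ ∈ F.Hom P)
    (hE : graph P φ ≤ A₁.prod A₂) : ffimg α β (graph P φ) ∈ TD F := by
  have hPA₁ : P ≤ A₁ := fun u hu =>
    (Subgroup.mem_prod.1 (hE (mk_mem_graph (φ := φ) ⟨u, hu⟩))).1
  have hφA₂ : ∀ u : P, φ u ∈ A₂ := fun u => (Subgroup.mem_prod.1 (hE (mk_mem_graph u))).2
  have hα₀ := restrict_mem F hPA₁ hα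
  set α₀ : P →* T := α.comp (Subgroup.inclusion hPA₁) with hα₀def
  obtain ⟨α', hα', hαinv, hα'range⟩ := exists_inv F hα₀ rfl
  have h₁ : ∀ y : α₀.range, α' y ∈ P := fun y => by
    have : α' y ∈ α'.range := MonoidHom.mem_range.2 ⟨y, rfl⟩
    exact hα'range.le this
  have hχ₁ := F.comp_mem hα' hφ h₁
  set χ₁ : α₀.range →* T := φ.comp (α'.codRestrict P h₁) with hχ₁def
  have h₂ : ∀ y : α₀.range, χ₁ y ∈ A₂ := fun y => hφA₂ _
  have hχ₂ := F.comp_mem hχ₁ hβ h₂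
  refine ⟨α₀.range, _, hχ₂, ?_⟩
  ext x'
  rw [mem_ffimg, mem_graph]
  constructor
  · rintro ⟨x, hx, h₁', h₂', e₁, e₂⟩
    obtain ⟨hxP, hxφ⟩ := mem_graph.1 hx
    have hx1 : x'.1 = α₀ ⟨x.1, hxP⟩ := e₁.symm
    refine ⟨⟨_, hx1.symm⟩, ?_⟩
    have : (⟨x'.1, ⟨_, hx1.symm⟩⟩ : α₀.range) = ⟨α₀ ⟨x.1, hxP⟩, ⟨_, rfl⟩⟩ := Subtype.ext hx1
    rw [this, ← e₂]
    show β ⟨φ ⟨α' ⟨α₀ ⟨x.1, hxP⟩, _⟩, _⟩, _⟩ = β ⟨x.2, h₂'⟩
    congr 1
    apply Subtype.ext
    show φ ⟨α' ⟨α₀ ⟨x.1, hxP⟩, _⟩, _⟩ = x.2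
    rw [← hxφ]
    congr 1
    apply Subtype.ext
    exact hαinv _ _
  · rintro ⟨⟨u, hu⟩, hx2⟩
    refine ⟨((u : T), φ u), mk_mem_graph u, hPA₁ u.2, hφA₂ u, hu, ?_⟩
    rw [← hx2]
    have : (⟨x'.1, ⟨u, hu⟩⟩ : α₀.range) = ⟨α₀ u, ⟨_, rfl⟩⟩ := Subtype.ext hu.symm
    rw [this]
    show β ⟨φ u, _⟩ = β ⟨φ ⟨α' ⟨α₀ u, _⟩, _⟩, _⟩
    congr 1
    apply Subtype.ext
    show φ u = φ ⟨α' ⟨α₀ u, _⟩, _⟩
    congr 1
    apply Subtype.ext
    exact (hαinv _ _).symm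

theorem FFConj.mem_TD {E E' : Subgroup (T × T)} (h : FFConj F E E') (hE : E ∈ TD F) :
    E' ∈ TD F := by
  obtain ⟨A₁, A₂, α, β, hα, hβ, hle, rfl⟩ := h
  obtain ⟨P, φ, hφ, rfl⟩ := hE
  exact ffimg_graph_mem_TD hα hβ hφ hle

theorem FFConj.mem_TD_iff {E E' : Subgroup (T × T)} (h : FFConj F E E') :
    E ∈ TD F ↔ E' ∈ TD F := ⟨h.mem_TD, h.symm.mem_TD⟩

theorem TD_of_le {E D : Subgroup (T × T)} (hED : E ≤ D) (hD : D ∈ TD F) : E ∈ TD F := by
  obtain ⟨P, φ, hφ, rfl⟩ := hD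
  have hle : E.map (MonoidHom.fst T T) ≤ P := by
    rw [← map_fst_graph P φ]; exact Subgroup.map_mono hED
  refine ⟨E.map (MonoidHom.fst T T), _, restrict_mem F hle hφ, ?_⟩
  ext x
  rw [mem_graph]
  constructor
  · intro hx
    obtain ⟨h, hxφ⟩ := mem_graph.1 (hED hx)
    exact ⟨⟨x, hx, rfl⟩, hxφ⟩
  · rintro ⟨⟨y, hy, hy1⟩, hxφ⟩
    have hy1' : y.1 = x.1 := hy1
    obtain ⟨h, hyφ⟩ := mem_graph.1 (hED hy)
    have : y = x := by
      refine Prod.ext hy1' ?_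
      rw [← hyφ, ← hxφ]
      show φ ⟨y.1, h⟩ = φ ⟨x.1, _⟩
      congr 1
      exact Subtype.ext hy1'
    rw [← this]; exact hy

theorem FFConj.conj (E : Subgroup (T × T)) (g : T × T) :
    FFConj F E (E.map (MulAut.conj g).toMonoidHom) := by
  refine ⟨⊤, ⊤, conjHom ⊤ g.1, conjHom ⊤ g.2, F.conj_mem le_rfl (Subgroup.mem_top _),
    F.conj_mem le_rfl (Subgroup.mem_top _), ?_, ?_⟩
  · intro x _; exact Subgroup.mem_prod.2 ⟨Subgroup.mem_top _, Subgroup.mem_top _⟩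
  · ext x'
    rw [mem_ffimg]
    constructor
    · rintro ⟨x, hx, rfl⟩
      exact ⟨x, hx, Subgroup.mem_top _, Subgroup.mem_top _, rfl, rfl⟩
    · rintro ⟨x, hx, h₁, h₂, e₁, e₂⟩
      refine ⟨x, hx, Prod.ext ?_ ?_⟩
      · rw [← e₁]; rfl
      · rw [← e₂]; rfl

theorem FFConj.isConj_fst {E E' : Subgroup (T × T)} (h : FFConj F E E') :
    F.IsConj (E.map (MonoidHom.fst T T)) (E'.map (MonoidHom.fst T T)) := by
  obtain ⟨A₁, A₂, α, β, hα, hβ, hle, rfl⟩ := h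
  have hle₁ : E.map (MonoidHom.fst T T) ≤ A₁ := by
    rintro _ ⟨x, hx, rfl⟩
    exact (Subgroup.mem_prod.1 (hle hx)).1
  refine ⟨_, restrict_mem F hle₁ hα, ?_⟩
  rw [map_fst_ffimg α β hle]
  ext a
  constructor
  · rintro ⟨u, rfl⟩
    exact ⟨⟨u.1, hle₁ u.2⟩, u.2, rfl⟩
  · rintro ⟨u, hu, rfl⟩
    exact ⟨⟨u.1, hu⟩, rfl⟩

end Fus

section Sat

variable {T : Type u} [Group T] {p : ℕ} {F : FusionSystem (⊤ : Subgroup T)}

/-- Conjugacy in the system, as a setoid on all subgroups of `T`. -/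
def fconjSetoid (F : FusionSystem (⊤ : Subgroup T)) : Setoid (Subgroup T) where
  r P Q := F.IsConj P Q
  iseqv := ⟨fun _ => isConj_refl F le_top, fun h => isConj_symm F h,
    fun h₁ h₂ => isConj_trans F h₁ h₂⟩

/-- A fully automized and receptive representative of the class of `P`, depending only on the
class. -/
noncomputable def frepQ (hF : F.IsSaturated p) (q : Quotient (fconjSetoid F)) : Subgroup T :=
  Classical.choose (hF (Quotient.out q) le_top)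

/-- A fully automized and receptive representative of the class of `P`, depending only on the
class. -/
noncomputable def frep (hF : F.IsSaturated p) (P : Subgroup T) : Subgroup T :=
  frepQ hF (Quotient.mk (fconjSetoid F) P)

theorem frep_spec (hF : F.IsSaturated p) (P : Subgroup T) :
    F.IsConj P (frep hF P) ∧ F.IsFullyAutomized p (frep hF P) ∧ F.IsReceptive (frep hF P) := by
  have h := Classical.choose_spec (hF (Quotient.out (Quotient.mk (fconjSetoid F) P)) le_top)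
  refine ⟨isConj_trans F ?_ h.1, h.2⟩
  exact (fconjSetoid F).symm (Quotient.mk_out (s := fconjSetoid F) P)

theorem frep_eq (hF : F.IsSaturated p) {P Q : Subgroup T} (h : F.IsConj P Q) :
    frep hF P = frep hF Q := by
  have e : Quotient.mk (fconjSetoid F) P = Quotient.mk (fconjSetoid F) Q := Quotient.sound h
  unfold frep
  rw [e]

/-- The preferred representative of the class of a twisted diagonal subgroup. -/
noncomputable def starOf (hF : F.IsSaturated p) (E : Subgroup (T × T)) : Subgroup (T × T) :=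
  graph (frep hF (E.map (MonoidHom.fst T T))) (Subgroup.subtype _)

theorem starOf_eq (hF : F.IsSaturated p) {E E' : Subgroup (T × T)} (h : FFConj F E E') :
    starOf hF E = starOf hF E' := by
  unfold starOf
  rw [frep_eq hF h.isConj_fst]

theorem normalizer_graph_spec {P : Subgroup T} {φ : P →* T} {x : T × T}
    (hx : x ∈ Subgroup.normalizer ((graph P φ : Subgroup (T × T)) : Set (T × T))) (u : P) :
    ∃ h : x.1 * u * x.1⁻¹ ∈ P, φ ⟨x.1 * u * x.1⁻¹, h⟩ = x.2 * φ u * x.2⁻¹ := by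
  have h1 := (Subgroup.mem_normalizer_iff.1 hx ((u : T), φ u)).1 (mk_mem_graph u)
  exact mem_graph.1 h1

end Sat

section Chi

variable {T : Type u} [Group T] [Finite T] {p : ℕ} [Fact p.Prime] {F : FusionSystem (⊤ : Subgroup T)}

theorem exists_chi (hT : IsPGroup p T) (hF : F.IsSaturated p) {D : Subgroup (T × T)}
    (hD : D ∈ TD F) :
    ∃ χ : ↥(Subgroup.normalizer (D : Set (T × T))) →* T × T,
      (D.subgroupOf (Subgroup.normalizer (D : Set (T × T)))).map χ = starOf hF D ∧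
      ∀ E' : Subgroup ↥(Subgroup.normalizer (D : Set (T × T))),
        FFConj F (E'.map (Subgroup.normalizer (D : Set (T × T))).subtype) (E'.map χ) := by
  obtain ⟨P, φ, hφ, rfl⟩ := hD
  have hS : IsPGroup p ↥(⊤ : Subgroup T) := hT.to_subgroup ⊤
  obtain ⟨hconj, hfa, hrec⟩ := frep_spec hF P
  have hstar : starOf hF (graph P φ) = graph (frep hF P) (Subgroup.subtype _) := by
    unfold starOf; rw [map_fst_graph]
  rw [hstar]
  obtain ⟨α₀, hα₀, -, hα₀P, hα₀img⟩ := exists_normalizer_map p hS F (frep hF P) P hfa hrec hconj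
  have hNinv : ∀ {x : T × T},
      x ∈ Subgroup.normalizer ((graph P φ : Subgroup (T × T)) : Set (T × T)) →
      x⁻¹ ∈ Subgroup.normalizer ((graph P φ : Subgroup (T × T)) : Set (T × T)) :=
    fun hx => Subgroup.inv_mem _ hx
  -- the first projection of the normalizer normalizes `P`
  have hA₁ : (Subgroup.normalizer ((graph P φ : Subgroup (T × T)) : Set (T × T))).map
      (MonoidHom.fst T T) ≤ normalizerIn ⊤ P := by
    rintro _ ⟨x, hx, rfl⟩
    refine mem_normalizerIn.2 ⟨Subgroup.mem_top _, mem_normalizer_of_forall ?_ ?_⟩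
    · intro y hy
      exact (normalizer_graph_spec hx ⟨y, hy⟩).1
    · intro y hy
      have := (normalizer_graph_spec (hNinv hx) ⟨y, hy⟩).1
      simpa using this
  have hα := restrict_mem F hA₁ hα₀
  -- the inverse of `φ`
  obtain ⟨ψ, hψ, hψinv, hψrange⟩ := exists_inv F hφ rfl
  have hPN : P ≤ normalizerIn ⊤ P := le_normalizerIn le_top
  have hψP : ∀ y : φ.range, ψ y ∈ P := fun y => by
    have : ψ y ∈ ψ.range := MonoidHom.mem_range.2 ⟨y, rfl⟩
    exact hψrange.le this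
  have hψN : ∀ y : φ.range, ψ y ∈ normalizerIn ⊤ P := fun y => hPN (hψP y)
  have hθ := F.comp_mem hψ hα₀ hψN
  set θ : φ.range →* T := α₀.comp (ψ.codRestrict (normalizerIn ⊤ P) hψN) with hθdef
  have hθφ : ∀ (u : P) (h : φ u ∈ φ.range), θ ⟨φ u, h⟩ = α₀ ⟨u, hPN u.2⟩ := by
    intro u h
    show α₀ ⟨ψ ⟨φ u, h⟩, _⟩ = α₀ ⟨u, _⟩
    congr 1
    exact Subtype.ext (hψinv u h)
  have hθrange : θ.range = frep hF P := by
    ext t
    constructor
    · rintro ⟨y, rfl⟩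
      exact hα₀P _ (hψP y) _
    · intro ht
      rw [← hα₀img] at ht
      obtain ⟨w, hw, rfl⟩ := ht
      have hwP : (w : T) ∈ P := hw
      refine ⟨⟨φ ⟨w, hwP⟩, MonoidHom.mem_range.2 ⟨_, rfl⟩⟩, ?_⟩
      rw [hθφ]
  obtain ⟨θ', hθ', hθ'ext⟩ := hrec.2 φ.range θ hθ hθrange
  -- the second projection of the normalizer lies in the extender
  have hA₂ : (Subgroup.normalizer ((graph P φ : Subgroup (T × T)) : Set (T × T))).map
      (MonoidHom.snd T T) ≤ extender ⊤ φ.range θ := by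
    rintro _ ⟨x, hx, rfl⟩
    rw [mem_extender_iff]
    refine ⟨Subgroup.mem_top _, mem_normalizer_of_forall ?_ ?_, ?_⟩
    · rintro _ ⟨u, rfl⟩
      obtain ⟨h, e⟩ := normalizer_graph_spec hx u
      exact MonoidHom.mem_range.2 ⟨_, e⟩
    · rintro _ ⟨u, rfl⟩
      obtain ⟨h, e⟩ := normalizer_graph_spec (hNinv hx) u
      refine MonoidHom.mem_range.2 ⟨_, e.trans ?_⟩
      simp
    · have hx1 : x.1 ∈ normalizerIn ⊤ P := hA₁ ⟨x, hx, rfl⟩
      refine ⟨α₀ ⟨x.1, hx1⟩, Subgroup.mem_top _, ?_⟩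
      have aux : ∀ (u : P) (hy : x.2 * φ u * x.2⁻¹ ∈ φ.range),
          θ ⟨x.2 * φ u * x.2⁻¹, hy⟩ = α₀ ⟨x.1, hx1⟩ *
            θ ⟨φ u, MonoidHom.mem_range.2 ⟨u, rfl⟩⟩ * (α₀ ⟨x.1, hx1⟩)⁻¹ := by
        intro u hy
        obtain ⟨h, e⟩ := normalizer_graph_spec hx u
        have e1 : (⟨x.2 * φ u * x.2⁻¹, hy⟩ : φ.range) =
            ⟨φ ⟨x.1 * u * x.1⁻¹, h⟩, MonoidHom.mem_range.2 ⟨_, rfl⟩⟩ := Subtype.ext e.symm
        rw [e1, hθφ, hθφ]
        have e2 : (⟨x.1 * u * x.1⁻¹, hPN h⟩ : normalizerIn ⊤ P) =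
            ⟨x.1, hx1⟩ * ⟨u, hPN u.2⟩ * ⟨x.1, hx1⟩⁻¹ := Subtype.ext rfl
        rw [e2, map_mul, map_mul, map_inv]
      rintro ⟨_, u, rfl⟩ hy
      exact aux u hy
  have hβ := restrict_mem F hA₂ hθ'
  have hNle : Subgroup.normalizer ((graph P φ : Subgroup (T × T)) : Set (T × T)) ≤
      ((Subgroup.normalizer ((graph P φ : Subgroup (T × T)) : Set (T × T))).map
        (MonoidHom.fst T T)).prod
      ((Subgroup.normalizer ((graph P φ : Subgroup (T × T)) : Set (T × T))).map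
        (MonoidHom.snd T T)) :=
    fun x hx => Subgroup.mem_prod.2 ⟨⟨x, hx, rfl⟩, ⟨x, hx, rfl⟩⟩
  refine ⟨(prodMapSub (α₀.comp (Subgroup.inclusion hA₁)) (θ'.comp (Subgroup.inclusion hA₂))).comp
    (Subgroup.inclusion hNle), ?_, ?_⟩
  · ext x'
    rw [mem_graph]
    constructor
    · rintro ⟨e, he, rfl⟩
      have he' : (e : T × T) ∈ graph P φ := he
      obtain ⟨h1, h2⟩ := mem_graph.1 he'
      have hfst : α₀ ⟨(e : T × T).1, hA₁ ⟨e, e.2, rfl⟩⟩ ∈ frep hF P := hα₀P _ h1 _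
      refine ⟨hfst, ?_⟩
      show α₀ ⟨(e : T × T).1, _⟩ = θ' ⟨(e : T × T).2, _⟩
      have hr : (e : T × T).2 ∈ φ.range := MonoidHom.mem_range.2 ⟨_, h2⟩
      refine Eq.trans ?_ (hθ'ext _ hr _).symm
      have e3 : (⟨(e : T × T).2, hr⟩ : φ.range) = ⟨φ ⟨(e : T × T).1, h1⟩,
          MonoidHom.mem_range.2 ⟨_, rfl⟩⟩ := Subtype.ext h2.symm
      rw [e3, hθφ]
    · rintro ⟨h1, h2⟩
      have h2' : x'.1 = x'.2 := h2
      rw [← hα₀img] at h1
      obtain ⟨w, hw, hwx⟩ := h1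
      have hwP : (w : T) ∈ P := hw
      have hgN : ((w : T), φ ⟨w, hwP⟩) ∈
          Subgroup.normalizer ((graph P φ : Subgroup (T × T)) : Set (T × T)) :=
        Subgroup.le_normalizer (mk_mem_graph (φ := φ) ⟨w, hwP⟩)
      refine ⟨⟨((w : T), φ ⟨w, hwP⟩), hgN⟩, mk_mem_graph (φ := φ) ⟨w, hwP⟩, ?_⟩
      refine Prod.ext ?_ ?_
      · show α₀ ⟨(w : T), _⟩ = x'.1
        rw [← hwx]
      · show θ' ⟨φ ⟨w, hwP⟩, _⟩ = x'.2
        refine (hθ'ext _ (MonoidHom.mem_range.2 ⟨_, rfl⟩) _).trans ?_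
        rw [hθφ, ← h2', ← hwx]
  · intro E'
    refine ⟨_, _, _, _, hα, hβ, ?_, ?_⟩
    · rintro _ ⟨e, -, rfl⟩
      exact hNle e.2
    · ext x'
      rw [mem_ffimg]
      constructor
      · rintro ⟨e, he, rfl⟩
        exact ⟨e, ⟨e, he, rfl⟩, (Subgroup.mem_prod.1 (hNle e.2)).1,
          (Subgroup.mem_prod.1 (hNle e.2)).2, rfl, rfl⟩
      · rintro ⟨_, ⟨e, he, rfl⟩, h₁, h₂, e₁, e₂⟩
        exact ⟨e, he, Prod.ext e₁ e₂⟩

end Chi

end Cfsg.Agent.Helper3.Biset
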