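import Mathlib
import Cfsg.Agent.Lib.Helper3.BisetTwisted

/-!
# The top level of the characteristic biset

The twisted diagonal subgroups of order `|T|`, their normalizers, and the count of their
conjugacy classes.
-/

set_option autoImplicit false
set_option linter.style.haveILetI false
set_option linter.unusedSectionVars false

namespace Cfsg.Agent.Helper3.Biset

open Cfsg Cfsg.FusionSystem Cfsg.Agent.Helper25

universe u

section Normalizer

variable {T : Type u} [Group T] [Finite T]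

theorem surjective_of_injective_top {φ : ↥(⊤ : Subgroup T) →* T} (hφ : Function.Injective φ) :
    Function.Surjective φ := by
  have hcard : Nat.card T ≤ Nat.card ↥(⊤ : Subgroup T) := by
    rw [Subgroup.card_top]
  exact (Function.Injective.bijective_of_nat_card_le hφ hcard).2

/-- The normalizer of the graph of an automorphism of `T` has order `|T| |Z(T)|`. -/
theorem card_normalizer_graph_top {φ : ↥(⊤ : Subgroup T) →* T} (hφ : Function.Injective φ) :
    Nat.card (Subgroup.normalizer ((graph ⊤ φ : Subgroup (T × T)) : Set (T × T))) =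
      Nat.card T * Nat.card (Subgroup.center T) := by
  have hsurj := surjective_of_injective_top hφ
  rw [← Nat.card_prod]
  symm
  have hmem : ∀ (a : T) (z : Subgroup.center T),
      (a, φ ⟨a, Subgroup.mem_top a⟩ * (z : T)) ∈
        Subgroup.normalizer ((graph ⊤ φ : Subgroup (T × T)) : Set (T × T)) := by
    intro a z
    apply mem_normalizer_of_conj_le
    intro d hd
    obtain ⟨h1, h2⟩ := mem_graph.1 hd
    rw [mem_graph]
    refine ⟨Subgroup.mem_top _, ?_⟩
    have hz : ∀ t : T, t * (z : T) = (z : T) * t := fun t => (Subgroup.mem_center_iff.1 z.2 t)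
    have e1 : (⟨((a, φ ⟨a, Subgroup.mem_top a⟩ * (z : T))⁻¹ * d *
        (a, φ ⟨a, Subgroup.mem_top a⟩ * (z : T))).1, Subgroup.mem_top _⟩ : ↥(⊤ : Subgroup T)) =
        (⟨a, Subgroup.mem_top a⟩)⁻¹ * ⟨d.1, h1⟩ * ⟨a, Subgroup.mem_top a⟩ := Subtype.ext rfl
    rw [e1, map_mul, map_mul, map_inv, h2]
    show _ = (φ ⟨a, Subgroup.mem_top a⟩ * (z : T))⁻¹ * d.2 * (φ ⟨a, Subgroup.mem_top a⟩ * (z : T))
    rw [mul_inv_rev]
    have := hz ((φ ⟨a, Subgroup.mem_top a⟩)⁻¹ * d.2 * φ ⟨a, Subgroup.mem_top a⟩)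
    calc (φ ⟨a, Subgroup.mem_top a⟩)⁻¹ * d.2 * φ ⟨a, Subgroup.mem_top a⟩
        = (z : T)⁻¹ * ((z : T) * ((φ ⟨a, Subgroup.mem_top a⟩)⁻¹ * d.2 *
            φ ⟨a, Subgroup.mem_top a⟩)) := by rw [inv_mul_cancel_left]
      _ = (z : T)⁻¹ * (((φ ⟨a, Subgroup.mem_top a⟩)⁻¹ * d.2 * φ ⟨a, Subgroup.mem_top a⟩) *
            (z : T)) := by rw [this]
      _ = _ := by simp only [mul_assoc]
  refine Nat.card_congr (Equiv.ofBijective (fun x : T × Subgroup.center T =>
    (⟨(x.1, φ ⟨x.1, Subgroup.mem_top _⟩ * (x.2 : T)), hmem x.1 x.2⟩ :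
      Subgroup.normalizer ((graph ⊤ φ : Subgroup (T × T)) : Set (T × T)))) ⟨?_, ?_⟩)
  · rintro ⟨a, z⟩ ⟨a', z'⟩ h
    have h' := congrArg Subtype.val h
    simp only [Prod.mk.injEq] at h'
    obtain ⟨rfl, h2⟩ := h'
    have := mul_left_cancel h2
    exact Prod.ext rfl (Subtype.ext this)
  · rintro ⟨⟨a, b⟩, hab⟩
    have hz : (φ ⟨a, Subgroup.mem_top a⟩)⁻¹ * b ∈ Subgroup.center T := by
      rw [Subgroup.mem_center_iff]
      intro t
      obtain ⟨u, rfl⟩ := hsurj t
      obtain ⟨h, e⟩ := normalizer_graph_spec hab u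
      have e1 : (⟨a * (u : T) * a⁻¹, h⟩ : ↥(⊤ : Subgroup T)) =
          ⟨a, Subgroup.mem_top a⟩ * u * (⟨a, Subgroup.mem_top a⟩)⁻¹ := Subtype.ext rfl
      have e' : φ ⟨a, Subgroup.mem_top a⟩ * φ u * (φ ⟨a, Subgroup.mem_top a⟩)⁻¹ =
          b * φ u * b⁻¹ := by
        rw [← map_inv, ← map_mul, ← map_mul, ← e1]; exact e
      have e2 : φ u = (φ ⟨a, Subgroup.mem_top a⟩)⁻¹ * (b * φ u * b⁻¹) *
          φ ⟨a, Subgroup.mem_top a⟩ := by
        rw [← e']; simp only [mul_assoc, inv_mul_cancel_left, inv_mul_cancel, mul_one]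
      calc φ u * ((φ ⟨a, Subgroup.mem_top a⟩)⁻¹ * b)
          = ((φ ⟨a, Subgroup.mem_top a⟩)⁻¹ * (b * φ u * b⁻¹) * φ ⟨a, Subgroup.mem_top a⟩) *
              ((φ ⟨a, Subgroup.mem_top a⟩)⁻¹ * b) := by rw [← e2]
        _ = (φ ⟨a, Subgroup.mem_top a⟩)⁻¹ * b * φ u := by
          simp only [mul_assoc, mul_inv_cancel_left, inv_mul_cancel, mul_one]
    refine ⟨(a, ⟨_, hz⟩), Subtype.ext (Prod.ext rfl ?_)⟩
    show φ ⟨a, Subgroup.mem_top a⟩ * ((φ ⟨a, Subgroup.mem_top a⟩)⁻¹ * b) = b
    rw [mul_inv_cancel_left]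

end Normalizer

section Top

variable {T : Type u} [Group T] [Finite T] {p : ℕ} [Fact p.Prime]
  {F : FusionSystem (⊤ : Subgroup T)}

/-- The data for the construction of stable bisets attached to a saturated fusion system. -/
noncomputable def stabSys (hT : IsPGroup p T) (hF : F.IsSaturated p) : StabSys (T × T) where
  TT := TD F
  R := FFConj F
  star := starOf hF
  R_card := fun h => h.card_eq
  R_mem := fun h => h.mem_TD_iff
  R_conj := FFConj.conj
  TT_le := TD_of_le
  star_eq := starOf_eq hF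
  chi := fun _ hD => exists_chi hT hF hD

variable (F)

/-- The twisted diagonal subgroups of maximal order. -/
def TopTD : Set (Subgroup (T × T)) := {D | D ∈ TD F ∧ Nat.card D = Nat.card T}

variable {F}

theorem card_le_of_mem_TD {D : Subgroup (T × T)} (hD : D ∈ TD F) : Nat.card D ≤ Nat.card T := by
  obtain ⟨P, φ, -, rfl⟩ := hD
  rw [card_graph]
  exact Subgroup.card_le_card_group P

theorem exists_of_mem_TopTD {D : Subgroup (T × T)} (hD : D ∈ TopTD F) :
    ∃ φ : ↥(⊤ : Subgroup T) →* T, φ ∈ F.Hom ⊤ ∧ D = graph ⊤ φ := by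
  obtain ⟨⟨P, φ, hφ, rfl⟩, hc⟩ := hD
  rw [card_graph] at hc
  obtain rfl := (Subgroup.card_eq_iff_eq_top P).1 hc
  exact ⟨φ, hφ, rfl⟩

theorem graph_mem_TopTD {φ : ↥(⊤ : Subgroup T) →* T} (hφ : φ ∈ F.Hom ⊤) :
    graph ⊤ φ ∈ TopTD F :=
  ⟨⟨⊤, φ, hφ, rfl⟩, by rw [card_graph, Subgroup.card_top]⟩

theorem idx_of_mem_TopTD {D : Subgroup (T × T)} (hD : D ∈ TopTD F) :
    StabSys.idx D = Nat.card (Subgroup.center T) := by
  obtain ⟨φ, hφ, rfl⟩ := exists_of_mem_TopTD hD
  unfold StabSys.idx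
  rw [card_normalizer_graph_top (F.injective_of_mem hφ), card_graph, Subgroup.card_top,
    Nat.mul_div_cancel_left _ Nat.card_pos]

theorem conj_mem_TopTD {D : Subgroup (T × T)} (hD : D ∈ TopTD F) (g : T × T) :
    D.map (MulAut.conj g).toMonoidHom ∈ TopTD F :=
  ⟨(FFConj.conj D g).mem_TD hD.1, by rw [card_map_conj, hD.2]⟩

theorem crep_mem_TopTD {D : Subgroup (T × T)} (hD : D ∈ TopTD F) : crep D ∈ TopTD F := by
  obtain ⟨g, hg⟩ := crep_spec D
  rw [hg]; exact conj_mem_TopTD hD g

variable (F)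

open Classical in
/-- The multiplicities at the top level: one orbit for each conjugacy class of twisted diagonal
subgroups of maximal order. -/
noncomputable def cTop (D : Subgroup (T × T)) : ℕ := if D ∈ TopTD F ∧ crep D = D then 1 else 0

variable {F}

theorem cTop_ne_zero {D : Subgroup (T × T)} (h : cTop F D ≠ 0) : D ∈ TopTD F ∧ crep D = D := by
  classical
  by_contra hcon
  exact h (by unfold cTop; rw [if_neg hcon])

theorem cTop_eq_one {D : Subgroup (T × T)} (h : D ∈ TopTD F) (h' : crep D = D) : cTop F D = 1 := by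
  classical
  unfold cTop; rw [if_pos ⟨h, h'⟩]

theorem marks_cTop_of_mem {E : Subgroup (T × T)} (hE : E ∈ TopTD F) :
    marks (cTop F) E = Nat.card (Subgroup.center T) := by
  rw [marks_eq, finsum_eq_single _ (crep E)]
  · obtain ⟨g, hg⟩ := crep_spec E
    have hE' : E = (crep E).map (MulAut.conj g⁻¹).toMonoidHom := by
      rw [hg, map_conj_mul, inv_mul_cancel, map_conj_one]
    have h1 : Nat.card (fix E ((T × T) ⧸ crep E)) = StabSys.idx (crep E) := by
      have h0 : fix E ((T × T) ⧸ crep E) =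
          fix ((crep E).map (MulAut.conj g⁻¹).toMonoidHom) ((T × T) ⧸ crep E) := by rw [← hE']
      rw [h0]
      exact StabSys.card_fix_eq_idx (crep E) g⁻¹
    rw [h1, cTop_eq_one (crep_mem_TopTD hE) (crep_crep E), one_mul,
      idx_of_mem_TopTD (crep_mem_TopTD hE)]
  · intro D hD
    by_cases hc : cTop F D = 0
    · rw [hc, zero_mul]
    · obtain ⟨hDT, hrep⟩ := cTop_ne_zero hc
      have hempty : fix E ((T × T) ⧸ D) = ∅ := by
        by_contra hne
        obtain ⟨g, hg⟩ := exists_conj_of_fix_nonempty (hE.2.trans hDT.2.symm)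
          (Set.nonempty_iff_ne_empty.2 hne)
        apply hD
        rw [hg, crep_conj, hrep]
      rw [hempty]; simp

theorem supp_cTop (hT : IsPGroup p T) (hF : F.IsSaturated p) : (stabSys hT hF).Supp (cTop F) :=
  fun _ hD => (cTop_ne_zero hD).1.1

theorem stable_cTop (hT : IsPGroup p T) (hF : F.IsSaturated p) :
    (stabSys hT hF).Stable (cTop F) (Nat.card T) := by
  intro E E' hR hk
  have hR' : FFConj F E E' := hR
  by_cases hE : E ∈ TD F
  · have hE' : E' ∈ TD F := hR'.mem_TD hE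
    have hEt : E ∈ TopTD F := ⟨hE, le_antisymm (card_le_of_mem_TD hE) hk⟩
    have hEt' : E' ∈ TopTD F := ⟨hE', hR'.card_eq ▸ hEt.2⟩
    rw [marks_cTop_of_mem hEt, marks_cTop_of_mem hEt']
  · have hE' : E' ∉ TD F := fun h => hE (hR'.symm.mem_TD h)
    rw [(stabSys hT hF).marks_eq_zero_of_notMem (supp_cTop hT hF) hE,
      (stabSys hT hF).marks_eq_zero_of_notMem (supp_cTop hT hF) hE']

end Top

section Count

variable {T : Type u} [Group T] [Finite T] {p : ℕ} [Fact p.Prime]
  {F : FusionSystem (⊤ : Subgroup T)}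

theorem graph_injective {P : Subgroup T} {φ φ' : P →* T} (h : graph P φ = graph P φ') :
    φ = φ' := by
  ext u
  have h1 : ((u : T), φ u) ∈ graph P φ' := h ▸ mk_mem_graph u
  obtain ⟨_, h2⟩ := mem_graph.1 h1
  exact h2.symm

/-- The twisted diagonal subgroups of maximal order correspond to the elements of `Aut_F(T)`. -/
theorem card_TopTD : Nat.card (TopTD F) = Nat.card (F.autGroup ⊤) := by
  symm
  refine Nat.card_congr (Equiv.ofBijective (fun α : F.autGroup ⊤ =>
    (⟨graph ⊤ ((⊤ : Subgroup T).subtype.comp (α : MulAut ↥(⊤ : Subgroup T)).toMonoidHom),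
      graph_mem_TopTD ((mem_autGroup_iff F le_rfl α.1).1 α.2)⟩ : TopTD F)) ⟨?_, ?_⟩)
  · intro α α' h
    have h1 := graph_injective (congrArg Subtype.val h)
    apply Subtype.ext
    ext x
    exact congrArg Subtype.val (show (α : MulAut ↥(⊤ : Subgroup T)) x = (α' : MulAut _) x from
      Subtype.ext (DFunLike.congr_fun h1 x))
  · rintro ⟨D, hD⟩
    obtain ⟨φ, hφ, rfl⟩ := exists_of_mem_TopTD hD
    have hinj := F.injective_of_mem hφ
    have hsurj := surjective_of_injective_top hinj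
    let φ' : ↥(⊤ : Subgroup T) →* ↥(⊤ : Subgroup T) :=
      φ.codRestrict ⊤ (fun _ => Subgroup.mem_top _)
    have hbij : Function.Bijective φ' := by
      constructor
      · intro a b hab
        exact hinj (congrArg Subtype.val hab)
      · rintro ⟨t, _⟩
        obtain ⟨u, rfl⟩ := hsurj t
        exact ⟨u, rfl⟩
    let α : MulAut ↥(⊤ : Subgroup T) := MulEquiv.ofBijective φ' hbij
    have hα : (⊤ : Subgroup T).subtype.comp α.toMonoidHom = φ := by
      ext x; rfl
    have hαmem : α ∈ F.autGroup ⊤ := by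
      rw [mem_autGroup_iff F le_rfl, hα]; exact hφ
    refine ⟨⟨α, hαmem⟩, Subtype.ext ?_⟩
    show graph ⊤ ((⊤ : Subgroup T).subtype.comp α.toMonoidHom) = graph ⊤ φ
    rw [hα]

/-- `|Inn(T)| |Z(T)| = |T|`. -/
theorem card_autInducedBy_top :
    Nat.card (autInducedBy (⊤ : Subgroup T) ⊤) * Nat.card (Subgroup.center T) = Nat.card T := by
  let κ : T →* MulAut ↥(⊤ : Subgroup T) :=
    (MulAut.conj).comp (Subgroup.topEquiv (G := T)).symm.toMonoidHom
  have hκ : ∀ (t : T) (x : ↥(⊤ : Subgroup T)), ((κ t x : ↥(⊤ : Subgroup T)) : T) =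
      t * (x : T) * t⁻¹ := fun t x => rfl
  have hrange : κ.range = autInducedBy (⊤ : Subgroup T) ⊤ := by
    ext α
    rw [mem_autInducedBy_iff]
    constructor
    · rintro ⟨t, rfl⟩
      exact ⟨t, Subgroup.mem_top _, fun x => hκ t x⟩
    · rintro ⟨t, -, ht⟩
      refine ⟨t, ?_⟩
      ext x
      rw [hκ, ht]
  have hker : κ.ker = Subgroup.center T := by
    ext t
    rw [MonoidHom.mem_ker, Subgroup.mem_center_iff]
    constructor
    · intro h s
      have := hκ t ⟨s, Subgroup.mem_top s⟩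
      rw [h] at this
      have h2 : s = t * s * t⁻¹ := this
      calc s * t = (t * s * t⁻¹) * t := by rw [← h2]
        _ = t * s := by simp [mul_assoc]
    · intro h
      ext x
      rw [hκ]
      show t * (x : T) * t⁻¹ = x
      rw [← h (x : T), mul_inv_cancel_right]
  rw [← hrange, ← Subgroup.index_ker, hker, mul_comm, Subgroup.card_mul_index]

theorem isFullyAutomized_top (hF : F.IsSaturated p) : F.IsFullyAutomized p ⊤ := by
  obtain ⟨Q, ⟨φ, hφ, hQ⟩, hfa, -⟩ := hF ⊤ le_rfl
  have hsurj := surjective_of_injective_top (F.injective_of_mem hφ)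
  have : Q = ⊤ := by
    rw [← hQ]
    exact MonoidHom.range_eq_top.2 hsurj
  exact this ▸ hfa

/-- The number of conjugacy classes of twisted diagonal subgroups of maximal order is prime to
`p`. -/
theorem not_dvd_card_reps (hF : F.IsSaturated p) :
    ¬ p ∣ Nat.card {D : Subgroup (T × T) // D ∈ TopTD F ∧ crep D = D} := by
  obtain ⟨-, R, hR⟩ := isFullyAutomized_top hF
  have hle : autInducedBy (⊤ : Subgroup T) ⊤ ≤ F.autGroup ⊤ := autInducedBy_le_autGroup F le_rfl
  have hcardR : Nat.card (R : Subgroup (F.autGroup ⊤)) =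
      Nat.card (autInducedBy (⊤ : Subgroup T) ⊤) := by
    rw [hR]
    exact Nat.card_congr (Subgroup.subgroupOfEquivOfLe hle).toEquiv
  have hidx := R.not_dvd_index
  have h1 := Subgroup.card_mul_index (R : Subgroup (F.autGroup ⊤))
  have h2 := card_mul_eq_card_reps_mul (TopTD F) (fun D hD g => conj_mem_TopTD hD g)
    (Nat.card T * Nat.card (Subgroup.center T)) (fun D hD => by
      obtain ⟨φ, hφ, rfl⟩ := exists_of_mem_TopTD hD
      exact card_normalizer_graph_top (F.injective_of_mem hφ))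
  have h3 := card_autInducedBy_top (T := T)
  rw [card_TopTD, ← h1, hcardR, Nat.card_prod] at h2
  -- `I * idx * (T * Z) = r * (T * T)` and `I * Z = T`
  set I := Nat.card (autInducedBy (⊤ : Subgroup T) ⊤) with hI
  set Z := Nat.card (Subgroup.center T) with hZ
  set r := Nat.card {D : Subgroup (T × T) // D ∈ TopTD F ∧ crep D = D} with hr
  set m := (R : Subgroup (F.autGroup ⊤)).index with hm
  have hTpos : 0 < Nat.card T := Nat.card_pos
  have h4 : m * (Nat.card T * Nat.card T) = r * (Nat.card T * Nat.card T) := by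
    rw [← h2]
    calc m * (Nat.card T * Nat.card T) = m * ((I * Z) * Nat.card T) := by rw [h3]
      _ = I * m * (Nat.card T * Z) := by ring
  have h5 : m = r := Nat.eq_of_mul_eq_mul_right (Nat.mul_pos hTpos hTpos) h4
  rw [← h5]
  exact hidx

end Count

end Cfsg.Agent.Helper3.Biset
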