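import Mathlib
import Cfsg.Agent.Lib.Helper3.BisetMarks

/-!
# The transfer of a biset

For an `(A × B)`-set `Y` on which `B` acts freely, with finitely many `B`-orbits, we define the
transfer `A →* Abelianization B` and prove that it does not depend on the choices made, is
invariant under isomorphisms of bisets and compatible with restriction along a homomorphism into
`A`.
-/

set_option autoImplicit false
set_option linter.style.haveILetI false
set_option linter.unusedSectionVars false

namespace Cfsg.Agent.Helper3.Biset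

open MulAction

section Transfer

variable (A : Type*) (B : Type*) [Group A] [Group B] (Y : Type*) [MulAction (A × B) Y]

/-- The right group `B` acts freely on `Y`. -/
def RFree : Prop := ∀ (b : B) (y : Y), ((1 : A), b) • y = y → b = 1

/-- The orbit relation of the right group. -/
def rSetoid : Setoid Y where
  r y y' := ∃ b : B, ((1 : A), b) • y = y'
  iseqv := by
    refine ⟨fun y => ⟨1, ?_⟩, ?_, ?_⟩
    · rw [Prod.mk_one_one, one_smul]
    · rintro y y' ⟨b, rfl⟩
      refine ⟨b⁻¹, ?_⟩
      rw [← mul_smul, Prod.mk_mul_mk, one_mul, inv_mul_cancel, Prod.mk_one_one, one_smul]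
    · rintro y y' y'' ⟨b, rfl⟩ ⟨b', rfl⟩
      refine ⟨b' * b, ?_⟩
      rw [← mul_smul, Prod.mk_mul_mk, one_mul]

/-- The set of orbits of the right group. -/
def RQ : Type _ := Quotient (rSetoid A B Y)

variable {A B Y}

/-- The orbit of a point. -/
def RQ.mk (y : Y) : RQ A B Y := Quotient.mk (rSetoid A B Y) y

/-- A representative of an orbit. -/
noncomputable def RQ.out (z : RQ A B Y) : Y := Quotient.out z

theorem RQ.mk_out (z : RQ A B Y) : RQ.mk z.out = z := Quotient.out_eq z

theorem RQ.mk_eq_mk {y y' : Y} : (RQ.mk y : RQ A B Y) = RQ.mk y' ↔ ∃ b : B, ((1 : A), b) • y = y' :=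
  ⟨fun h => Quotient.exact h, fun h => Quotient.sound h⟩

theorem RQ.mk_smul_right (b : B) (y : Y) : (RQ.mk (((1 : A), b) • y) : RQ A B Y) = RQ.mk y :=
  (RQ.mk_eq_mk.2 ⟨b, rfl⟩).symm

theorem smul_comm_lr (a : A) (b : B) (y : Y) :
    ((a, (1 : B)) : A × B) • ((1 : A), b) • y = ((1 : A), b) • ((a, (1 : B)) : A × B) • y := by
  rw [← mul_smul, ← mul_smul, Prod.mk_mul_mk, Prod.mk_mul_mk, mul_one, one_mul, mul_one, one_mul]

theorem smul_right_mul (b b' : B) (y : Y) :
    ((1 : A), b) • ((1 : A), b') • y = ((1 : A), b * b') • y := by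
  rw [← mul_smul, Prod.mk_mul_mk, one_mul]

theorem smul_left_mul (a a' : A) (y : Y) :
    ((a, (1 : B)) : A × B) • ((a', (1 : B)) : A × B) • y = ((a * a', (1 : B)) : A × B) • y := by
  rw [← mul_smul, Prod.mk_mul_mk, one_mul]

instance RQ.instMulAction : MulAction A (RQ A B Y) where
  smul a := Quotient.map' (fun y => ((a, (1 : B)) : A × B) • y) (by
    rintro y y' ⟨b, rfl⟩
    exact ⟨b, (smul_comm_lr a b y).symm⟩)
  one_smul z := by
    induction z using Quotient.inductionOn with
    | _ y =>
      show Quotient.mk _ (((1 : A), (1 : B)) • y) = Quotient.mk _ y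
      rw [Prod.mk_one_one, one_smul]
  mul_smul a a' z := by
    induction z using Quotient.inductionOn with
    | _ y =>
      show Quotient.mk _ (((a * a', (1 : B)) : A × B) • y) =
        Quotient.mk _ (((a, (1 : B)) : A × B) • ((a', (1 : B)) : A × B) • y)
      rw [smul_left_mul]

theorem RQ.smul_mk (a : A) (y : Y) : a • (RQ.mk y : RQ A B Y) = RQ.mk (((a, (1 : B)) : A × B) • y) :=
  rfl

instance RQ.instFinite [Finite Y] : Finite (RQ A B Y) := Quotient.finite _

theorem RQ.ind {C : RQ A B Y → Prop} (h : ∀ y, C (RQ.mk y)) (z : RQ A B Y) : C z :=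
  Quotient.inductionOn z h

theorem RFree.cancel (hfree : RFree A B Y) {b b' : B} {y : Y}
    (h : ((1 : A), b) • y = ((1 : A), b') • y) : b = b' := by
  have h1 : ((1 : A), b'⁻¹ * b) • y = y := by
    rw [← smul_right_mul, h, smul_right_mul, inv_mul_cancel, Prod.mk_one_one, one_smul]
  have := hfree _ _ h1
  rwa [inv_mul_eq_one, eq_comm] at this

theorem exists_dd (a : A) (z : RQ A B Y) :
    ∃ d : B, ((a, (1 : B)) : A × B) • z.out = ((1 : A), d) • (a • z).out := by
  have h : (RQ.mk (a • z).out : RQ A B Y) = RQ.mk (((a, (1 : B)) : A × B) • z.out) := by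
    rw [RQ.mk_out, ← RQ.smul_mk, RQ.mk_out]
  obtain ⟨b, hb⟩ := RQ.mk_eq_mk.1 h
  exact ⟨b, hb.symm⟩

/-- The cocycle of the biset with respect to the chosen representatives. -/
noncomputable def dd (a : A) (z : RQ A B Y) : B := Classical.choose (exists_dd a z)

theorem dd_spec (a : A) (z : RQ A B Y) :
    ((a, (1 : B)) : A × B) • z.out = ((1 : A), dd a z) • (a • z).out :=
  Classical.choose_spec (exists_dd a z)

theorem dd_unique (hfree : RFree A B Y) {a : A} {z : RQ A B Y} {d : B}
    (h : ((a, (1 : B)) : A × B) • z.out = ((1 : A), d) • (a • z).out) : d = dd a z :=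
  hfree.cancel (h.symm.trans (dd_spec a z))

theorem dd_mul (hfree : RFree A B Y) (a a' : A) (z : RQ A B Y) :
    dd (a * a') z = dd a' z * dd a (a' • z) := by
  symm
  apply dd_unique hfree
  rw [← smul_left_mul, dd_spec a' z, smul_comm_lr, dd_spec a (a' • z), smul_right_mul, mul_smul]

variable (A B Y)

/-- The transfer of the biset `Y`, as a function. -/
noncomputable def transferFun (a : A) : Abelianization B :=
  ∏ᶠ z : RQ A B Y, Abelianization.of (dd a z)

variable {A B Y}

theorem finprod_smul_eq [Finite Y] (a : A) (f : RQ A B Y → Abelianization B) :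
    ∏ᶠ z : RQ A B Y, f (a • z) = ∏ᶠ z : RQ A B Y, f z :=
  finprod_comp_equiv (MulAction.toPerm a) (f := f)

/-- The transfer can be computed from any system of representatives. -/
theorem transferFun_eq_of_section [Finite Y] (hfree : RFree A B Y) (a : A) (σ : RQ A B Y → Y)
    (hσ : ∀ z, RQ.mk (σ z) = z) (e : RQ A B Y → B)
    (he : ∀ z, ((a, (1 : B)) : A × B) • σ z = ((1 : A), e z) • σ (a • z)) :
    transferFun A B Y a = ∏ᶠ z : RQ A B Y, Abelianization.of (e z) := by
  have hc : ∀ z : RQ A B Y, ∃ c : B, ((1 : A), c) • z.out = σ z := by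
    intro z
    have h : (RQ.mk z.out : RQ A B Y) = RQ.mk (σ z) := by rw [RQ.mk_out, hσ]
    exact RQ.mk_eq_mk.1 h
  choose c hc using hc
  have hrel : ∀ z, c z * dd a z = e z * c (a • z) := by
    intro z
    apply hfree.cancel (y := (a • z).out)
    rw [← smul_right_mul, ← dd_spec, ← smul_comm_lr, hc, he, ← hc (a • z), smul_right_mul]
  have h1 : (∏ᶠ z : RQ A B Y, Abelianization.of (c z)) * transferFun A B Y a =
      (∏ᶠ z : RQ A B Y, Abelianization.of (e z)) *
        ∏ᶠ z : RQ A B Y, Abelianization.of (c z) := by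
    unfold transferFun
    calc (∏ᶠ z : RQ A B Y, Abelianization.of (c z)) * ∏ᶠ z : RQ A B Y, Abelianization.of (dd a z)
        = ∏ᶠ z : RQ A B Y, Abelianization.of (c z) * Abelianization.of (dd a z) :=
          (finprod_mul_distrib (Set.toFinite _) (Set.toFinite _)).symm
      _ = ∏ᶠ z : RQ A B Y, Abelianization.of (e z) * Abelianization.of (c (a • z)) := by
          refine finprod_congr fun z => ?_
          rw [← map_mul, ← map_mul, hrel]
      _ = (∏ᶠ z : RQ A B Y, Abelianization.of (e z)) *
            ∏ᶠ z : RQ A B Y, Abelianization.of (c (a • z)) :=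
          finprod_mul_distrib (Set.toFinite _) (Set.toFinite _)
      _ = _ := by rw [finprod_smul_eq a (fun z => Abelianization.of (c z))]
  rw [mul_comm] at h1
  exact mul_right_cancel h1

theorem transferFun_mul [Finite Y] (hfree : RFree A B Y) (a a' : A) :
    transferFun A B Y (a * a') = transferFun A B Y a * transferFun A B Y a' := by
  unfold transferFun
  rw [mul_comm, ← finprod_smul_eq a' (fun z => Abelianization.of (dd a z)),
    ← finprod_mul_distrib (Set.toFinite _) (Set.toFinite _)]
  refine finprod_congr fun z => ?_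
  rw [dd_mul hfree, map_mul]

variable (A B Y)

/-- The transfer of the biset `Y`. -/
noncomputable def transfer [Finite Y] (hfree : RFree A B Y) : A →* Abelianization B :=
  MonoidHom.mk' (transferFun A B Y) (transferFun_mul hfree)

variable {A B Y}

theorem transfer_apply [Finite Y] (hfree : RFree A B Y) (a : A) :
    transfer A B Y hfree a = transferFun A B Y a := rfl

/-- Comparison of the transfers of two bisets related by a bijection compatible with a
homomorphism of the left groups. -/
theorem transfer_comp [Finite Y] {A' : Type*} [Group A'] {Y' : Type*} [MulAction (A' × B) Y']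
    [Finite Y'] (hfree : RFree A B Y) (hfree' : RFree A' B Y') (ψ : A' →* A) (f : Y' ≃ Y)
    (hf : ∀ (a' : A') (b : B) (y' : Y'), f ((a', b) • y') = (ψ a', b) • f y') (a' : A') :
    transfer A' B Y' hfree' a' = transfer A B Y hfree (ψ a') := by
  -- the induced bijection on orbits
  have hrel : ∀ y₁ y₂ : Y', (rSetoid A' B Y').r y₁ y₂ ↔ (rSetoid A B Y).r (f y₁) (f y₂) := by
    intro y₁ y₂
    constructor
    · rintro ⟨b, rfl⟩
      exact ⟨b, by rw [hf, map_one]⟩
    · rintro ⟨b, hb⟩
      refine ⟨b, f.injective ?_⟩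
      rw [hf, map_one, hb]
  let fb : RQ A' B Y' ≃ RQ A B Y := Quotient.congr f hrel
  have hfb : ∀ y' : Y', fb (RQ.mk y') = RQ.mk (f y') := fun y' => rfl
  have hfbsmul : ∀ (z' : RQ A' B Y'), fb (a' • z') = ψ a' • fb z' := by
    intro z'
    induction z' using RQ.ind with
    | _ y' => rw [RQ.smul_mk, hfb, hfb, RQ.smul_mk, hf]
  rw [transfer_apply, transfer_apply]
  rw [transferFun_eq_of_section hfree' a' (fun z' => f.symm (fb z').out) ?_
    (fun z' => dd (ψ a') (fb z')) ?_]
  · exact finprod_comp_equiv fb (f := fun z => Abelianization.of (dd (ψ a') z))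
  · intro z'
    apply fb.injective
    rw [hfb, Equiv.apply_symm_apply, RQ.mk_out]
  · intro z'
    apply f.injective
    rw [hf, hf, map_one, Equiv.apply_symm_apply, Equiv.apply_symm_apply, hfbsmul]
    exact dd_spec (ψ a') (fb z')

/-- If `a` acts on `Y` like the right multiplication by `b`, then the transfer of `a` is a power
of the class of `b`. -/
theorem transfer_eq_pow [Finite Y] (hfree : RFree A B Y) {a : A} {b : B}
    (h : ∀ y : Y, ((a, (1 : B)) : A × B) • y = ((1 : A), b) • y) :
    transfer A B Y hfree a = Abelianization.of b ^ Nat.card (RQ A B Y) := by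
  classical
  haveI : Fintype (RQ A B Y) := Fintype.ofFinite _
  have hfix : ∀ z : RQ A B Y, a • z = z := by
    intro z
    induction z using RQ.ind with
    | _ y => rw [RQ.smul_mk, h, RQ.mk_smul_right]
  have hdd : ∀ z : RQ A B Y, dd a z = b := by
    intro z
    symm
    apply dd_unique hfree
    rw [hfix, h]
  rw [transfer_apply]
  unfold transferFun
  rw [finprod_eq_prod_of_fintype, Finset.prod_congr rfl fun z _ => by rw [hdd z],
    Finset.prod_const, Finset.card_univ, Nat.card_eq_fintype_card]

/-- For a free action of a finite group `B`, `|Y| = |Y/B| |B|`. -/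
theorem card_eq_card_RQ_mul [Finite Y] [Finite B] (hfree : RFree A B Y) :
    Nat.card Y = Nat.card (RQ A B Y) * Nat.card B := by
  rw [← Nat.card_prod]
  have hb : ∀ y : Y, ∃ b : B, ((1 : A), b) • (RQ.mk y : RQ A B Y).out = y := by
    intro y
    have h : (RQ.mk (RQ.mk y : RQ A B Y).out : RQ A B Y) = RQ.mk y := RQ.mk_out _
    exact RQ.mk_eq_mk.1 h
  choose β hβ using hb
  refine Nat.card_congr ⟨fun y => (RQ.mk y, β y), fun p => ((1 : A), p.2) • p.1.out, hβ, ?_⟩
  rintro ⟨z, b⟩
  have h1 : (RQ.mk (((1 : A), b) • z.out) : RQ A B Y) = z := by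
    rw [RQ.mk_smul_right, RQ.mk_out]
  refine Prod.ext h1 ?_
  apply hfree.cancel (y := z.out)
  have h2 := hβ (((1 : A), b) • z.out)
  rw [h1] at h2
  exact h2

end Transfer

end Cfsg.Agent.Helper3.Biset
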