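import Mathlib
import Cfsg.Agent.Lib.Helper3.BisetTop
import Cfsg.Agent.Lib.Helper3.BisetTransfer

/-!
# The characteristic biset of a saturated fusion system and its transfer
-/

set_option autoImplicit false
set_option linter.style.haveILetI false
set_option linter.unusedSectionVars false

namespace Cfsg.Agent.Helper3.Biset

open Cfsg Cfsg.FusionSystem Cfsg.Agent.Helper25

universe u

section Char

variable {T : Type u} [Group T] [Finite T] {p : ℕ} [Fact p.Prime]
  {F : FusionSystem (⊤ : Subgroup T)}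

/-- Existence of a characteristic biset. -/
theorem exists_char (hT : IsPGroup p T) (hF : F.IsSaturated p) :
    ∃ c : Subgroup (T × T) → ℕ, (stabSys hT hF).Supp c ∧
      (∀ D : Subgroup (T × T), Nat.card T ≤ Nat.card D → c D = cTop F D) ∧
      (stabSys hT hF).Stable c 0 :=
  (stabSys hT hF).extend (supp_cTop hT hF) (stable_cTop hT hF)

/-- The right action on a biset with twisted diagonal stabilizers is free. -/
theorem rfree_Om {c : Subgroup (T × T) → ℕ} (hc : ∀ D, c D ≠ 0 → D ∈ TD F) :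
    RFree T T (Om c) := by
  rintro b ⟨⟨D, j⟩, x⟩ h
  have hcD : c D ≠ 0 := by
    intro h0
    rw [h0] at j
    exact j.elim0
  obtain ⟨P, φ, hφ, rfl⟩ := hc D hcD
  obtain ⟨g, rfl⟩ := QuotientGroup.mk_surjective x
  have h' : (⟨⟨graph P φ, j⟩, (((1 : T), b) : T × T) • (g : (T × T) ⧸ graph P φ)⟩ :
      Σ i : (Σ D : Subgroup (T × T), Fin (c D)), (T × T) ⧸ i.1) = ⟨⟨graph P φ, j⟩, ↑g⟩ := h
  have h1 : (((1 : T), b) : T × T) • (g : (T × T) ⧸ graph P φ) = (g : (T × T) ⧸ graph P φ) := by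
    have := Sigma.mk.inj_iff.1 h'
    exact eq_of_heq this.2
  rw [MulAction.Quotient.smul_coe, QuotientGroup.eq] at h1
  obtain ⟨x, hx, hxdef⟩ : ∃ x : T × T, x ∈ graph P φ ∧ x = ((((1 : T), b) : T × T) • g)⁻¹ * g :=
    ⟨_, h1, rfl⟩
  obtain ⟨h2, h3⟩ := mem_graph.1 hx
  have hx1 : x.1 = 1 := by
    rw [hxdef]; simp
  have hx2 : x.2 = g.2⁻¹ * b⁻¹ * g.2 := by
    rw [hxdef]; simp
  have e1 : (⟨x.1, h2⟩ : P) = 1 := Subtype.ext hx1
  rw [e1, map_one, hx2] at h3
  have h6 : b⁻¹ = 1 := by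
    have := congrArg (fun t => g.2 * t * g.2⁻¹) h3
    simpa [mul_assoc] using this.symm
  exact inv_eq_one.1 h6

/-- The transfer of a stable biset is invariant under the maps of the system. -/
theorem transfer_stable {c : Subgroup (T × T) → ℕ}
    (hc : ∀ D, c D ≠ 0 → D ∈ TD F)
    (hstab : ∀ E E' : Subgroup (T × T), FFConj F E E' → marks c E = marks c E')
    {Q : Subgroup T} {ψ : Q →* T} (hψ : ψ ∈ F.Hom Q) (q : Q) :
    transfer T T (Om c) (rfree_Om hc) (ψ q) = transfer T T (Om c) (rfree_Om hc) (q : T) := by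
  have hfree := rfree_Om hc
  set ι₁ : ↥Q × T →* T × T := Q.subtype.prodMap (MonoidHom.id T) with hι₁
  set ι₂ : ↥Q × T →* T × T := ψ.prodMap (MonoidHom.id T) with hι₂
  have hfree₁ : RFree ↥Q T (Pull ι₁ (Om c)) := fun b y h => hfree b y h
  have hfree₂ : RFree ↥Q T (Pull ι₂ (Om c)) := fun b y h => hfree b y (by
    have h' : (ι₂ ((1 : ↥Q), b)) • (show Om c from y) = y := h
    have e : ι₂ ((1 : ↥Q), b) = ((1 : T), b) := by
      rw [hι₂]; simp
    rw [e] at h'
    exact h')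
  -- the two pulled back bisets have the same marks
  have hmarks : ∀ H : Subgroup (↥Q × T), Nat.card (fix H (Pull ι₁ (Om c))) =
      Nat.card (fix H (Pull ι₂ (Om c))) := by
    intro H
    rw [card_fix_pull, card_fix_pull]
    refine hstab _ _ ⟨Q, ⊤, ψ, (⊤ : Subgroup T).subtype, hψ, subtype_mem F le_rfl, ?_, ?_⟩
    · rintro _ ⟨h, -, rfl⟩
      exact Subgroup.mem_prod.2 ⟨h.1.2, Subgroup.mem_top _⟩
    · ext x'
      rw [mem_ffimg]
      constructor
      · rintro ⟨h, hh, rfl⟩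
        exact ⟨ι₁ h, ⟨h, hh, rfl⟩, h.1.2, Subgroup.mem_top _, rfl, rfl⟩
      · rintro ⟨_, ⟨h, hh, rfl⟩, h₁, h₂, e₁, e₂⟩
        exact ⟨h, hh, Prod.ext e₁ e₂⟩
  obtain ⟨f, hf⟩ := exists_equiv_of_marks hmarks
  have e1 : transfer ↥Q T (Pull ι₁ (Om c)) hfree₁ q = transfer T T (Om c) hfree (Q.subtype q) :=
    transfer_comp hfree hfree₁ Q.subtype (Equiv.refl (Om c)) (fun a' b y' => rfl) q
  have e2 : transfer ↥Q T (Pull ι₂ (Om c)) hfree₂ q = transfer T T (Om c) hfree (ψ q) :=
    transfer_comp hfree hfree₂ ψ (Equiv.refl (Om c)) (fun a' b y' => rfl) q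
  have e3 : transfer ↥Q T (Pull ι₁ (Om c)) hfree₁ q =
      transfer ↥Q T (Pull ι₂ (Om c)) hfree₂ ((MonoidHom.id ↥Q) q) :=
    transfer_comp hfree₂ hfree₁ (MonoidHom.id ↥Q) f (fun a' b y' => hf (a', b) y') q
  rw [← e2, ← MonoidHom.id_apply ↥Q q, ← e3, e1]
  rfl

end Char

section Central

variable {T : Type u} [Group T] [Finite T] {p : ℕ} [Fact p.Prime]
  {F : FusionSystem (⊤ : Subgroup T)}

theorem map_eq_of_isCentral {z : T} (hz : F.IsCentral (Subgroup.zpowers z)) {P : Subgroup T}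
    {φ : P →* T} (hφ : φ ∈ F.Hom P) (h : z ∈ P) : φ ⟨z, h⟩ = z := by
  obtain ⟨ψ, -, hext, hfix⟩ := hz.2 P φ hφ
  rw [← hext ⟨z, h⟩]
  exact hfix ⟨z, Subgroup.mem_zpowers z⟩

theorem mem_center_of_isCentral {z : T} (hz : F.IsCentral (Subgroup.zpowers z)) :
    z ∈ Subgroup.center T := by
  rw [Subgroup.mem_center_iff]
  intro g
  have h := map_eq_of_isCentral hz (F.conj_mem (P := ⊤) (g := g) le_rfl (Subgroup.mem_top g))
    (Subgroup.mem_top z)
  rw [conjHom_apply] at h
  have h' : g * z * g⁻¹ = z := h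
  calc g * z = (g * z * g⁻¹) * g := by simp [mul_assoc]
    _ = z * g := by rw [h']

open Classical in
/-- The sub-biset of the orbits whose stabilizers contain `ζ`. -/
noncomputable def cRes (c : Subgroup (T × T) → ℕ) (ζ : T × T) (D : Subgroup (T × T)) : ℕ :=
  if ζ ∈ D then c D else 0

theorem smul_eq_of_mem_center {G : Type*} [Group G] {ζ : G} (hζ : ζ ∈ Subgroup.center G)
    (D : Subgroup G) (g : G) : ζ • (g : G ⧸ D) = (g : G ⧸ D) ↔ ζ ∈ D := by
  rw [MulAction.Quotient.smul_coe, QuotientGroup.eq, smul_eq_mul, mul_inv_rev]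
  have : g⁻¹ * ζ⁻¹ * g = ζ⁻¹ := by
    have h := Subgroup.mem_center_iff.1 (Subgroup.inv_mem _ hζ) g
    rw [mul_assoc, ← h, inv_mul_cancel_left]
  rw [this, inv_mem_iff]

theorem marks_cRes (c : Subgroup (T × T) → ℕ) {ζ : T × T} (hζ : ζ ∈ Subgroup.center (T × T))
    (E : Subgroup (T × T)) : marks (cRes c ζ) E = marks c (E ⊔ Subgroup.zpowers ζ) := by
  classical
  rw [marks_eq, marks_eq]
  refine finsum_congr fun D => ?_
  unfold cRes
  by_cases h : ζ ∈ D
  · rw [if_pos h]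
    have : fix (E ⊔ Subgroup.zpowers ζ) ((T × T) ⧸ D) = fix E ((T × T) ⧸ D) := by
      ext x
      rw [mem_fix_sup_zpowers]
      constructor
      · exact fun hx => hx.1
      · intro hx
        refine ⟨hx, ?_⟩
        obtain ⟨g, rfl⟩ := QuotientGroup.mk_surjective x
        exact (smul_eq_of_mem_center hζ D g).2 h
    rw [this]
  · rw [if_neg h, zero_mul]
    have : fix (E ⊔ Subgroup.zpowers ζ) ((T × T) ⧸ D) = ∅ := by
      ext x
      simp only [Set.mem_empty_iff_false, iff_false]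
      rw [mem_fix_sup_zpowers]
      rintro ⟨-, hx⟩
      obtain ⟨g, rfl⟩ := QuotientGroup.mk_surjective x
      exact h ((smul_eq_of_mem_center hζ D g).1 hx)
    rw [this]; simp

theorem ffimg_sup {A₁ A₂ : Subgroup T} (α : A₁ →* T) (β : A₂ →* T) {E E₂ : Subgroup (T × T)}
    (hE : E ≤ A₁.prod A₂) (hE₂ : E₂ ≤ A₁.prod A₂) :
    ffimg α β (E ⊔ E₂) = ffimg α β E ⊔ ffimg α β E₂ := by
  unfold ffimg
  rw [Subgroup.subgroupOf_sup hE hE₂, Subgroup.map_sup]

theorem FFConj.sup_central {z : T} (hz : F.IsCentral (Subgroup.zpowers z))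
    {E E' : Subgroup (T × T)} (h : FFConj F E E') :
    FFConj F (E ⊔ Subgroup.zpowers (z, z)) (E' ⊔ Subgroup.zpowers (z, z)) := by
  obtain ⟨A₁, A₂, α, β, hα, hβ, hle, rfl⟩ := h
  obtain ⟨α', hα', hαext, hαfix⟩ := hz.2 A₁ α hα
  obtain ⟨β', hβ', hβext, hβfix⟩ := hz.2 A₂ β hβ
  have hle' : E ≤ (A₁ ⊔ Subgroup.zpowers z).prod (A₂ ⊔ Subgroup.zpowers z) :=
    hle.trans (Subgroup.prod_mono le_sup_left le_sup_left)
  have hzle : Subgroup.zpowers ((z, z) : T × T) ≤
      (A₁ ⊔ Subgroup.zpowers z).prod (A₂ ⊔ Subgroup.zpowers z) := by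
    rw [Subgroup.zpowers_le]
    exact Subgroup.mem_prod.2 ⟨le_sup_right (a := A₁) (Subgroup.mem_zpowers z),
      le_sup_right (a := A₂) (Subgroup.mem_zpowers z)⟩
  refine ⟨_, _, α', β', hα', hβ', sup_le hle' hzle, ?_⟩
  rw [ffimg_sup α' β' hle' hzle]
  congr 1
  · ext x'
    rw [mem_ffimg, mem_ffimg]
    constructor
    · rintro ⟨x, hx, h₁, h₂, e₁, e₂⟩
      have h₁' := (Subgroup.mem_prod.1 (hle hx)).1
      have h₂' := (Subgroup.mem_prod.1 (hle hx)).2
      refine ⟨x, hx, le_sup_left (a := A₁) h₁', le_sup_left (a := A₂) h₂', ?_, ?_⟩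
      · rw [← e₁]; exact hαext ⟨x.1, h₁'⟩
      · rw [← e₂]; exact hβext ⟨x.2, h₂'⟩
    · rintro ⟨x, hx, h₁, h₂, e₁, e₂⟩
      have h₁' := (Subgroup.mem_prod.1 (hle hx)).1
      have h₂' := (Subgroup.mem_prod.1 (hle hx)).2
      refine ⟨x, hx, h₁', h₂', ?_, ?_⟩
      · rw [← e₁]; exact (hαext ⟨x.1, h₁'⟩).symm
      · rw [← e₂]; exact (hβext ⟨x.2, h₂'⟩).symm
  · ext x'
    rw [mem_ffimg]
    constructor
    · intro hx'
      refine ⟨x', hx', (Subgroup.mem_prod.1 (hzle hx')).1, (Subgroup.mem_prod.1 (hzle hx')).2, ?_, ?_⟩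
      · obtain ⟨k, rfl⟩ := Subgroup.mem_zpowers_iff.1 hx'
        exact hαfix ⟨((z, z) ^ k : T × T).1, ⟨k, by simp⟩⟩
      · obtain ⟨k, rfl⟩ := Subgroup.mem_zpowers_iff.1 hx'
        exact hβfix ⟨((z, z) ^ k : T × T).2, ⟨k, by simp⟩⟩
    · rintro ⟨x, hx, h₁, h₂, e₁, e₂⟩
      obtain ⟨k, rfl⟩ := Subgroup.mem_zpowers_iff.1 hx
      have e₁' : ((z, z) ^ k : T × T).1 = x'.1 := by
        rw [← e₁]; exact (hαfix ⟨((z, z) ^ k : T × T).1, ⟨k, by simp⟩⟩).symm
      have e₂' : ((z, z) ^ k : T × T).2 = x'.2 := by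
        rw [← e₂]; exact (hβfix ⟨((z, z) ^ k : T × T).2, ⟨k, by simp⟩⟩).symm
      have : x' = (z, z) ^ k := (Prod.ext e₁' e₂').symm
      rw [this]
      exact Subgroup.zpow_mem_zpowers _ k

end Central

section Final

variable {T : Type u} [Group T] [Finite T] {p : ℕ} [Fact p.Prime]
  {F : FusionSystem (⊤ : Subgroup T)}

theorem card_dvd_of_mem_TD {D : Subgroup (T × T)} (hD : D ∈ TD F) : Nat.card D ∣ Nat.card T := by
  obtain ⟨P, φ, -, rfl⟩ := hD
  rw [card_graph]
  exact Subgroup.card_subgroup_dvd_card P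

theorem finsum_cTop :
    ∑ᶠ D : Subgroup (T × T), cTop F D =
      Nat.card {D : Subgroup (T × T) // D ∈ TopTD F ∧ crep D = D} := by
  classical
  haveI : Fintype (Subgroup (T × T)) := Fintype.ofFinite _
  rw [finsum_eq_sum_of_fintype]
  unfold cTop
  rw [Finset.sum_boole, Nat.card_eq_fintype_card, Fintype.card_subtype]
  simp

/-- The number of right orbits of a biset whose multiplicities agree with `cTop` at the top level
is prime to `p`. -/
theorem not_dvd_card_RQ (hT : IsPGroup p T) (hF : F.IsSaturated p) {c : Subgroup (T × T) → ℕ}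
    (hc : ∀ D, c D ≠ 0 → D ∈ TD F)
    (htop : ∀ D : Subgroup (T × T), Nat.card D = Nat.card T → c D = cTop F D) :
    ¬ p ∣ Nat.card (RQ T T (Om c)) := by
  classical
  haveI : Fintype (Subgroup (T × T)) := Fintype.ofFinite _
  have hp : p.Prime := Fact.out
  have h1 := card_eq_card_RQ_mul (rfree_Om hc)
  rw [card_Om, Nat.card_prod] at h1
  have hterm : ∀ D : Subgroup (T × T), c D * (Nat.card T * Nat.card T / Nat.card D) =
      (c D * (Nat.card T / Nat.card D)) * Nat.card T := by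
    intro D
    by_cases h0 : c D = 0
    · rw [h0, zero_mul, zero_mul, zero_mul]
    · rw [Nat.mul_div_assoc _ (card_dvd_of_mem_TD (hc D h0))]
      ring
  rw [finsum_congr hterm, ← finsum_mul] at h1
  have h2 : Nat.card (RQ T T (Om c)) = ∑ᶠ D : Subgroup (T × T), c D * (Nat.card T / Nat.card D) :=
    (Nat.eq_of_mul_eq_mul_right Nat.card_pos h1).symm
  rw [h2, finsum_eq_sum_of_fintype]
  have h3 : ((∑ D : Subgroup (T × T), c D * (Nat.card T / Nat.card D) : ℕ) : ZMod p) =
      ((∑ᶠ D : Subgroup (T × T), cTop F D : ℕ) : ZMod p) := by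
    rw [finsum_eq_sum_of_fintype, Nat.cast_sum, Nat.cast_sum]
    refine Finset.sum_congr rfl fun D _ => ?_
    by_cases hcard : Nat.card D = Nat.card T
    · rw [hcard, Nat.div_self Nat.card_pos, mul_one, htop D hcard]
    · have h0 : cTop F D = 0 := by
        by_contra hne
        exact hcard (cTop_ne_zero hne).1.2
      rw [h0, Nat.cast_zero]
      by_cases hcD : c D = 0
      · rw [hcD, zero_mul, Nat.cast_zero]
      · have hD := hc D hcD
        have hdvd := card_dvd_of_mem_TD hD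
        obtain ⟨k, hk⟩ := hdvd
        have hk1 : k ≠ 1 := by
          rintro rfl
          rw [mul_one] at hk
          exact hcard hk.symm
        have hkdvd : k ∣ Nat.card T := ⟨Nat.card D, by rw [hk, mul_comm]⟩
        obtain ⟨a, ha⟩ := (IsPGroup.iff_card.1 hT)
        rw [ha] at hkdvd
        obtain ⟨j, -, rfl⟩ := (Nat.dvd_prime_pow hp).1 hkdvd
        have hj : j ≠ 0 := by
          rintro rfl
          exact hk1 (pow_zero p)
        have hpk : p ∣ Nat.card T / Nat.card D := by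
          rw [hk, Nat.mul_div_cancel_left _ Nat.card_pos]
          exact dvd_pow_self p hj
        have : ((Nat.card T / Nat.card D : ℕ) : ZMod p) = 0 :=
          (ZMod.natCast_eq_zero_iff _ _).2 hpk
        rw [Nat.cast_mul, this, mul_zero]
  intro hdvd
  have h4 := (ZMod.natCast_eq_zero_iff _ _).2 hdvd
  rw [h3, finsum_cTop] at h4
  exact not_dvd_card_reps hF ((ZMod.natCast_eq_zero_iff _ _).1 h4)

/-- **Theorem.**  In a saturated fusion system on `T`, a central element lying in the focal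
subgroup lies in the derived subgroup of `T`. -/
theorem mem_commutator_of_isCentral_of_mem_focal (hT : IsPGroup p T) (hF : F.IsSaturated p)
    {z : T} (hz : F.IsCentral (Subgroup.zpowers z)) (hfoc : z ∈ F.focalSubgroup) :
    z ∈ commutator T := by
  classical
  obtain ⟨c, hc1, hc2, hc3⟩ := exists_char hT hF
  have hzc := mem_center_of_isCentral hz
  have hζ : ((z, z) : T × T) ∈ Subgroup.center (T × T) := by
    rw [Subgroup.mem_center_iff]
    intro g
    have := Subgroup.mem_center_iff.1 hzc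
    exact Prod.ext (this g.1) (this g.2)
  set c' := cRes c ((z, z) : T × T) with hc'def
  have hc' : ∀ D, c' D ≠ 0 → D ∈ TD F := by
    intro D hD
    apply hc1 D
    intro h0
    apply hD
    unfold c' cRes
    rw [h0]; simp
  have hmem : ∀ D, c' D ≠ 0 → ((z, z) : T × T) ∈ D := by
    intro D hD
    by_contra h
    apply hD
    unfold c' cRes
    rw [if_neg h]
  have hstab : ∀ E E' : Subgroup (T × T), FFConj F E E' → marks c' E = marks c' E' := by
    intro E E' h
    rw [marks_cRes c hζ, marks_cRes c hζ]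
    exact hc3 _ _ (h.sup_central hz) (Nat.zero_le _)
  have htop : ∀ D : Subgroup (T × T), Nat.card D = Nat.card T → c' D = cTop F D := by
    intro D hD
    by_cases h0 : cTop F D = 0
    · rw [h0]
      unfold c' cRes
      rw [hc2 D hD.ge, h0]; simp
    · obtain ⟨φ, hφ, rfl⟩ := exists_of_mem_TopTD (cTop_ne_zero h0).1
      have : ((z, z) : T × T) ∈ graph ⊤ φ := by
        rw [mem_graph]
        exact ⟨Subgroup.mem_top z, map_eq_of_isCentral hz hφ (Subgroup.mem_top z)⟩
      unfold c' cRes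
      rw [if_pos this, hc2 _ hD.ge]
  have hfree := rfree_Om hc'
  -- the transfer kills the focal subgroup
  have hker : F.focalSubgroup ≤ (transfer T T (Om c') hfree).ker := by
    unfold FusionSystem.focalSubgroup
    rw [Subgroup.closure_le]
    rintro _ ⟨P, φ, x, hφ, rfl⟩
    rw [SetLike.mem_coe, MonoidHom.mem_ker, map_mul, map_inv, transfer_stable hc' hstab hφ x,
      inv_mul_cancel]
  have h1 : transfer T T (Om c') hfree z = 1 := hker hfoc
  -- the transfer of `z`
  have h2 : transfer T T (Om c') hfree z =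
      Abelianization.of z⁻¹ ^ Nat.card (RQ T T (Om c')) := by
    apply transfer_eq_pow
    rintro ⟨⟨D, j⟩, x⟩
    have hcD : c' D ≠ 0 := by
      intro h0
      rw [h0] at j
      exact j.elim0
    obtain ⟨g, rfl⟩ := QuotientGroup.mk_surjective x
    show (⟨⟨D, j⟩, ((z, (1 : T)) : T × T) • (g : (T × T) ⧸ D)⟩ :
      Σ i : (Σ D : Subgroup (T × T), Fin (c' D)), (T × T) ⧸ i.1) =
      ⟨⟨D, j⟩, (((1 : T), z⁻¹) : T × T) • (g : (T × T) ⧸ D)⟩
    congr 1
    rw [MulAction.Quotient.smul_coe, MulAction.Quotient.smul_coe, QuotientGroup.eq]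
    have : ((z, (1 : T)) • g)⁻¹ * (((1 : T), z⁻¹) • g) = g⁻¹ * ((z, z) : T × T)⁻¹ * g := by
      simp only [smul_eq_mul, mul_inv_rev, mul_assoc]
      congr 1
      rw [← mul_assoc]
      congr 1
      simp
    rw [this]
    have hinv : ((z, z) : T × T)⁻¹ ∈ Subgroup.center (T × T) := Subgroup.inv_mem _ hζ
    have h3 := Subgroup.mem_center_iff.1 hinv g
    rw [mul_assoc, ← h3, inv_mul_cancel_left]
    exact D.inv_mem (hmem D hcD)
  have h3 : ¬ p ∣ Nat.card (RQ T T (Om c')) := not_dvd_card_RQ hT hF hc' htop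
  rw [h2] at h1
  have h4 : Abelianization.of z⁻¹ = 1 := by
    have hp : p.Prime := Fact.out
    have hpg : IsPGroup p (Abelianization T) := hT.to_quotient _
    obtain ⟨k, hk⟩ := hpg (Abelianization.of z⁻¹)
    have hcop : Nat.Coprime (p ^ k) (Nat.card (RQ T T (Om c'))) :=
      Nat.Coprime.pow_left k ((Nat.Prime.coprime_iff_not_dvd hp).2 h3)
    have := pow_gcd_eq_one.2 ⟨hk, h1⟩
    rwa [hcop, pow_one] at this
  have h5 : z⁻¹ ∈ commutator T := by
    have := (QuotientGroup.eq_one_iff z⁻¹).1 h4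
    exact this
  simpa using (commutator T).inv_mem h5

end Final

end Cfsg.Agent.Helper3.Biset
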