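import Mathlib
import Cfsg.Prelude.Def_FusionSystem
import Cfsg.Prelude.Def_FusionComponents
import Cfsg.Agent.Lib.Helper25.FusionMorph
import Cfsg.Agent.Lib.Helper25.FusionFactor
import Cfsg.Agent.Lib.Helper25.FusionNormal
import Cfsg.Agent.S5134

/-!
# A fusion system on `S ≤ Ω` read as a fusion system on the top subgroup of `↥S`
-/

set_option autoImplicit false
set_option linter.style.haveILetI false
set_option linter.unusedSectionVars false

namespace Cfsg.Agent.Helper3.Biset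

open Cfsg Cfsg.FusionSystem Cfsg.Agent.Helper25

variable {Ω : Type*} [Group Ω] {S : Subgroup Ω}

/-- `E` is the fusion system `F` read on the group `↥S`. -/
def IsTopCopy (F : FusionSystem S) (E : FusionSystem (⊤ : Subgroup ↥S)) : Prop :=
  F.IsFactorSystem ⊥ (MonoidHom.id ↥S) E

theorem stronglyClosed_bot (F : FusionSystem S) : F.StronglyClosed ⊥ := by
  refine ⟨bot_le, fun R hR φ _ x => ?_⟩
  have hx : (x : Ω) = 1 := Subgroup.mem_bot.1 (hR x.2)
  have : x = 1 := Subtype.ext hx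
  rw [this, map_one]
  exact Subgroup.one_mem _

theorem exists_topCopy [Finite S] (F : FusionSystem S) :
    ∃ E : FusionSystem (⊤ : Subgroup ↥S), IsTopCopy F E := by
  refine exists_factorSystem F ⊥ (stronglyClosed_bot F) (MonoidHom.id ↥S) (fun s => ?_) ⊤ ?_
  · rw [Subgroup.mem_bot, MonoidHom.id_apply]
    exact ⟨fun h => by rw [h]; rfl, fun h => Subtype.ext h⟩
  · exact MonoidHom.range_eq_top.2 fun x => ⟨x, rfl⟩

theorem IsTopCopy.isSaturated [Finite S] {p : ℕ} [Fact p.Prime] (hS : IsPGroup p S)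
    {F : FusionSystem S} (hF : F.IsSaturated p) {E : FusionSystem (⊤ : Subgroup ↥S)}
    (h : IsTopCopy F E) : E.IsSaturated p :=
  isSaturated_of_surj hS hF
    (Cfsg.Agent.S5134.result p hS F hF ⊥ (stronglyClosed_bot F) (MonoidHom.id ↥S) E h)

theorem preimageAlong_id (P' : Subgroup ↥S) :
    preimageAlong (MonoidHom.id ↥S) P' = P'.map S.subtype := by
  unfold preimageAlong
  rw [Subgroup.comap_id]

/-- A map of `F` gives a map of its copy. -/
theorem IsTopCopy.mem_of_mem {F : FusionSystem S} {E : FusionSystem (⊤ : Subgroup ↥S)}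
    (h : IsTopCopy F E) {P : Subgroup Ω} {φ : P →* Ω} (hφ : φ ∈ F.Hom P) {P' : Subgroup ↥S}
    (hP' : P'.map S.subtype = P) (φ' : P' →* ↥S)
    (hφ' : ∀ (x : P') (hx : ((x : ↥S) : Ω) ∈ P), ((φ' x : ↥S) : Ω) = φ ⟨x.1.1, hx⟩) :
    φ' ∈ E.Hom P' := by
  have heq : preimageAlong (MonoidHom.id ↥S) P' = P := (preimageAlong_id P').trans hP'
  refine (h.2.2.2 P' φ').2 ⟨le_top, _, hom_transport F heq hφ, ?_⟩
  refine ⟨preimageAlong_le _ _, fun x => (F.le_of_mem hφ).2 _,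
    fun x => map_mem_of_mem_preimageAlong x, fun x => ?_⟩
  apply Subtype.ext
  rw [hφ' _ (heq.le x.2)]
  rfl

/-- A map of the copy comes from a map of `F`. -/
theorem IsTopCopy.exists_of_mem {F : FusionSystem S} {E : FusionSystem (⊤ : Subgroup ↥S)}
    (h : IsTopCopy F E) {P' : Subgroup ↥S} {φ' : P' →* ↥S} (hφ' : φ' ∈ E.Hom P') :
    ∃ φ ∈ F.Hom (P'.map S.subtype), ∀ (x : P') (hx : ((x : ↥S) : Ω) ∈ P'.map S.subtype),
      φ ⟨x.1.1, hx⟩ = ((φ' x : ↥S) : Ω) := by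
  obtain ⟨-, φ₀, hφ₀, hP, hφS, hPP', hind⟩ := (h.2.2.2 P' φ').1 hφ'
  have heq := preimageAlong_id P'
  refine ⟨_, hom_transport F heq.symm hφ₀, fun x hx => ?_⟩
  have := hind ⟨x.1.1, heq.symm.le hx⟩
  have h2 := congrArg Subtype.val this
  exact h2.symm

/-- The focal subgroup of `F` lies in the image of the focal subgroup of its copy. -/
theorem IsTopCopy.focal_le {F : FusionSystem S} {E : FusionSystem (⊤ : Subgroup ↥S)}
    (h : IsTopCopy F E) : F.focalSubgroup ≤ E.focalSubgroup.map S.subtype := by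
  unfold FusionSystem.focalSubgroup
  rw [Subgroup.closure_le]
  rintro _ ⟨P, φ, x, hφ, rfl⟩
  have hPS : P ≤ S := (F.le_of_mem hφ).1
  have hφS := (F.le_of_mem hφ).2
  have hP' : (P.subgroupOf S).map S.subtype = P := by
    rw [Subgroup.subgroupOf_map_subtype, inf_eq_left.2 hPS]
  let φ' : ↥(P.subgroupOf S) →* ↥S :=
    (φ.codRestrict S hφS).comp (Subgroup.subgroupOfEquivOfLe hPS).toMonoidHom
  have hφ' : φ' ∈ E.Hom (P.subgroupOf S) := h.mem_of_mem hφ hP' φ' (fun x hx => rfl)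
  let x' : ↥(P.subgroupOf S) := ⟨⟨x, hPS x.2⟩, x.2⟩
  refine ⟨(x' : ↥S)⁻¹ * φ' x', Subgroup.subset_closure ⟨_, φ', x', hφ', rfl⟩, ?_⟩
  rfl

/-- Central elements of `F` are central in its copy. -/
theorem IsTopCopy.isCentral_zpowers [Finite S] {F : FusionSystem S}
    {E : FusionSystem (⊤ : Subgroup ↥S)} (h : IsTopCopy F E) {z : Ω} (hz : z ∈ F.center)
    (hzS : z ∈ S) : E.IsCentral (Subgroup.zpowers (⟨z, hzS⟩ : ↥S)) := by
  have hcen := isCentral_center F
  refine ⟨le_top, fun P' φ' hφ' => ?_⟩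
  obtain ⟨φ, hφ, hφeq⟩ := h.exists_of_mem hφ'
  obtain ⟨ψ, hψ, hext, hfix⟩ := hcen.2 _ φ hφ
  have hzmap : (Subgroup.zpowers (⟨z, hzS⟩ : ↥S)).map S.subtype = Subgroup.zpowers z := by
    rw [MonoidHom.map_zpowers]; rfl
  have hzle : Subgroup.zpowers z ≤ F.center := Subgroup.zpowers_le.2 hz
  have hle : (P' ⊔ Subgroup.zpowers (⟨z, hzS⟩ : ↥S)).map S.subtype ≤
      P'.map S.subtype ⊔ F.center := by
    rw [Subgroup.map_sup, hzmap]
    exact sup_le_sup_left hzle _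
  have hψ₀ := restrict_mem F hle hψ
  have hψ₀S := (F.le_of_mem hψ₀).2
  let ψ' : ↥(P' ⊔ Subgroup.zpowers (⟨z, hzS⟩ : ↥S)) →* ↥S :=
    ((ψ.comp (Subgroup.inclusion hle)).codRestrict S hψ₀S).comp
      (Subgroup.equivMapOfInjective _ S.subtype S.subtype_injective).toMonoidHom
  have hψ' : ψ' ∈ E.Hom (P' ⊔ Subgroup.zpowers (⟨z, hzS⟩ : ↥S)) :=
    h.mem_of_mem hψ₀ rfl ψ' (fun x hx => rfl)
  refine ⟨ψ', hψ', fun x => ?_, fun x => ?_⟩
  · apply Subtype.ext
    have hx1 : ((x : ↥S) : Ω) ∈ P'.map S.subtype := Subgroup.mem_map_of_mem _ x.2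
    rw [← hφeq x hx1, ← hext ⟨_, hx1⟩]
    rfl
  · apply Subtype.ext
    have hx1 : ((x : ↥S) : Ω) ∈ F.center := by
      apply hzle
      rw [← hzmap]
      exact Subgroup.mem_map_of_mem _ x.2
    have := hfix ⟨_, hx1⟩
    exact this


end Cfsg.Agent.Helper3.Biset
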