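import Mathlib

/-!
# Iterated kernels of an endomorphism of a finite group

`Kf φ i` is the kernel of the `i`-th iterate of `φ`.  For a finite `p`-group, if `Kf φ 2 / Kf φ 1` has order `p`
and `φ` is nilpotent, then all the steps of the chain have order `p` until the chain reaches the top.
-/

set_option autoImplicit false
set_option linter.style.haveILetI false
set_option linter.unusedSectionVars false

namespace Cfsg.Agent.Helper3.OL

section kf

variable {X : Type*} [Group X]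

/-- iterated kernels of an endomorphism -/
def Kf (φ : X →* X) : ℕ → Subgroup X
  | 0 => ⊥
  | (i + 1) => (Kf φ i).comap φ

theorem Kf_zero (φ : X →* X) : Kf φ 0 = ⊥ := rfl

theorem Kf_succ (φ : X →* X) (i : ℕ) : Kf φ (i + 1) = (Kf φ i).comap φ := rfl

theorem mem_Kf_succ {φ : X →* X} {i : ℕ} {a : X} : a ∈ Kf φ (i + 1) ↔ φ a ∈ Kf φ i := Iff.rfl

theorem Kf_one (φ : X →* X) : Kf φ 1 = φ.ker := by
  ext a
  rw [mem_Kf_succ, Kf_zero, Subgroup.mem_bot, MonoidHom.mem_ker]

theorem Kf_mono (φ : X →* X) (i : ℕ) : Kf φ i ≤ Kf φ (i + 1) := by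
  induction i with
  | zero => rw [Kf_zero]; exact bot_le
  | succ i ih =>
    intro a ha
    rw [mem_Kf_succ] at ha ⊢
    exact ih ha

theorem Kf_le_of_le (φ : X →* X) {i j : ℕ} (h : i ≤ j) : Kf φ i ≤ Kf φ j := by
  induction h with
  | refl => exact le_rfl
  | step _ ih => exact le_trans ih (Kf_mono φ _)

theorem mem_Kf_iff {φ : X →* X} {i : ℕ} {a : X} : a ∈ Kf φ i ↔ φ^[i] a = 1 := by
  induction i generalizing a with
  | zero => rw [Kf_zero, Subgroup.mem_bot]; rfl
  | succ i ih => rw [mem_Kf_succ, ih, Function.iterate_succ_apply]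

theorem Kf_stable {φ : X →* X} {i : ℕ} (h : Kf φ (i + 1) = Kf φ i) (j : ℕ) :
    Kf φ (i + j) = Kf φ i := by
  induction j with
  | zero => rfl
  | succ j ih => rw [← add_assoc, Kf_succ, ih, ← Kf_succ, h]

theorem Kf_eq_top_of_stable {φ : X →* X} {i : ℕ} (h : Kf φ (i + 1) = Kf φ i)
    (hn : ∃ n, Kf φ n = ⊤) : Kf φ i = ⊤ := by
  obtain ⟨n, hn⟩ := hn
  have h1 : Kf φ (i + n) = Kf φ i := Kf_stable h n
  rw [← h1]
  apply top_le_iff.mp
  rw [← hn]
  exact Kf_le_of_le φ (Nat.le_add_left n i)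

theorem ker_inf_range (φ : X →* X) : φ.ker ⊓ φ.range = (Kf φ 2).map φ := by
  ext y
  rw [Subgroup.mem_inf, Subgroup.mem_map]
  constructor
  · rintro ⟨hy1, a, rfl⟩
    refine ⟨a, ?_, rfl⟩
    have : a ∈ Kf φ (1 + 1) := by
      rw [mem_Kf_succ, Kf_one]
      exact hy1
    exact this
  · rintro ⟨a, ha, rfl⟩
    have ha' : a ∈ Kf φ (1 + 1) := ha
    rw [mem_Kf_succ, Kf_one] at ha'
    exact ⟨ha', a, rfl⟩

theorem ker_sup_range (φ : X →* X) : φ.ker ⊔ φ.range = (φ.range.map φ).comap φ := by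
  apply le_antisymm
  · apply sup_le
    · intro a ha
      rw [Subgroup.mem_comap, MonoidHom.mem_ker.mp ha]
      exact Subgroup.one_mem _
    · exact Subgroup.le_comap_map φ φ.range
  · intro a ha
    obtain ⟨r, hr, hra⟩ := ha
    have h1 : a * r⁻¹ ∈ φ.ker := by
      rw [MonoidHom.mem_ker, map_mul, map_inv, hra, mul_inv_cancel]
    have h2 : a = (a * r⁻¹) * r := by group
    rw [h2]
    exact Subgroup.mul_mem _ (Subgroup.mem_sup_left h1) (Subgroup.mem_sup_right hr)

end kf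

section finite

variable {X : Type*} [Group X] [Finite X]

theorem relIndex_Kf_le (φ : X →* X) (i : ℕ) :
    (Kf φ (i + 1)).relIndex (Kf φ (i + 2)) ≤ (Kf φ i).relIndex (Kf φ (i + 1)) := by
  have h1 : (Kf φ (i + 1)).relIndex (Kf φ (i + 2)) =
      (Kf φ i).relIndex ((Kf φ (i + 2)).map φ) := by
    rw [Kf_succ φ i, Subgroup.relIndex_comap]
  rw [h1]
  apply Subgroup.relIndex_le_of_le_right
  · rintro _ ⟨a, ha, rfl⟩
    exact mem_Kf_succ.mp ha
  · show ((Kf φ i).subgroupOf (Kf φ (i + 1))).index ≠ 0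
    exact Subgroup.index_ne_zero_of_finite

theorem card_map_Kf_two (φ : X →* X) :
    Nat.card ((Kf φ 2).map φ) = (Kf φ 1).relIndex (Kf φ 2) := by
  rw [Kf_one, Subgroup.relIndex_ker]

theorem index_Kf_one (φ : X →* X) : (Kf φ 1).index = Nat.card φ.range := by
  rw [Kf_one, Subgroup.index_ker]

theorem index_Kf_two (φ : X →* X) : (Kf φ 2).index = Nat.card (φ.range.map φ) := by
  have h1 : Kf φ 2 = (φ.comp φ).ker := by
    ext a
    rw [mem_Kf_succ, Kf_one, MonoidHom.mem_ker, MonoidHom.mem_ker, MonoidHom.comp_apply]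
  have h2 : φ.range.map φ = (φ.comp φ).range := by
    rw [MonoidHom.range_eq_map, MonoidHom.range_eq_map, ← Subgroup.map_map]
  rw [h1, h2, Subgroup.index_ker]

theorem index_ker_sup_range (φ : X →* X) :
    (φ.ker ⊔ φ.range).index = (Kf φ 1).relIndex (Kf φ 2) := by
  rw [ker_sup_range, Subgroup.index_comap]
  have hle : φ.range.map φ ≤ φ.range := by
    rintro _ ⟨a, -, rfl⟩
    exact ⟨a, rfl⟩
  have h1 := Subgroup.relIndex_mul_relIndex ⊥ (φ.range.map φ) φ.range bot_le hle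
  rw [Subgroup.relIndex_bot_left, Subgroup.relIndex_bot_left, ← index_Kf_one, ← index_Kf_two] at h1
  have h2 := Subgroup.relIndex_mul_index (Kf_mono φ 1)
  have h3 : (Kf φ 2).index ≠ 0 := Subgroup.index_ne_zero_of_finite
  have h4 : (Kf φ 2).index * (φ.range.map φ).relIndex φ.range =
      (Kf φ 2).index * (Kf φ 1).relIndex (Kf φ 2) := by
    rw [h1, ← h2, mul_comm]
  exact Nat.eq_of_mul_eq_mul_left (Nat.pos_of_ne_zero h3) h4

variable {p : ℕ} [Fact p.Prime]

theorem relIndex_eq_one_or_prime (hX : IsPGroup p X) {H K : Subgroup X} (h : H.relIndex K ≤ p) :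
    H.relIndex K = 1 ∨ H.relIndex K = p := by
  have hp : p.Prime := Fact.out
  have h1 : H.relIndex K ∣ Nat.card K := Subgroup.relIndex_dvd_card H K
  obtain ⟨n, hn⟩ := (hX.to_subgroup K).exists_card_eq
  rw [hn] at h1
  obtain ⟨k, -, hk⟩ := (Nat.dvd_prime_pow hp).mp h1
  rcases Nat.eq_zero_or_pos k with h0 | h0
  · left
    rw [hk, h0, pow_zero]
  · right
    apply le_antisymm h
    rw [hk]
    calc p = p ^ 1 := (pow_one p).symm
      _ ≤ p ^ k := Nat.pow_le_pow_right hp.pos h0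

/-- the steps of the chain have order at most `p` -/
theorem step_le {φ : X →* X} (h12 : (Kf φ 1).relIndex (Kf φ 2) = p) (i : ℕ) :
    (Kf φ (i + 1)).relIndex (Kf φ (i + 2)) ≤ p := by
  induction i with
  | zero => exact h12.le
  | succ i ih => exact le_trans (relIndex_Kf_le φ (i + 1)) ih

theorem step_eq (hX : IsPGroup p X) {φ : X →* X} (h12 : (Kf φ 1).relIndex (Kf φ 2) = p)
    (hn : ∃ n, Kf φ n = ⊤) {i : ℕ} (hi : Kf φ (i + 1) ≠ ⊤) :
    (Kf φ (i + 1)).relIndex (Kf φ (i + 2)) = p := by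
  rcases relIndex_eq_one_or_prime hX (step_le h12 i) with h | h
  · exfalso
    apply hi
    apply Kf_eq_top_of_stable _ hn
    exact le_antisymm (Subgroup.relIndex_eq_one.mp h) (Kf_mono φ (i + 1))
  · exact h

theorem chain_index (hX : IsPGroup p X) {φ : X →* X} (h12 : (Kf φ 1).relIndex (Kf φ 2) = p)
    (hn : ∃ n, Kf φ n = ⊤) (j : ℕ) :
    (Kf φ 1).relIndex (Kf φ (1 + j)) ≤ p ^ j ∧
      (Kf φ (1 + j) ≠ ⊤ → (Kf φ 1).relIndex (Kf φ (1 + j)) = p ^ j) := by
  induction j with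
  | zero =>
    rw [add_zero, Subgroup.relIndex_self, pow_zero]
    exact ⟨le_rfl, fun _ => rfl⟩
  | succ j ih =>
    have h1 := Subgroup.relIndex_mul_relIndex (Kf φ 1) (Kf φ (1 + j)) (Kf φ (1 + j + 1))
      (Kf_le_of_le φ (Nat.le_add_right 1 j)) (Kf_mono φ _)
    have h2 : (Kf φ (1 + j)).relIndex (Kf φ (1 + j + 1)) ≤ p := by
      have := step_le h12 j (φ := φ)
      rwa [show j + 1 = 1 + j by ring, show j + 2 = 1 + j + 1 by ring] at this
    rw [← add_assoc]
    constructor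
    · rw [← h1, pow_succ]
      exact Nat.mul_le_mul ih.1 h2
    · intro hne
      have hne' : Kf φ (1 + j) ≠ ⊤ := by
        intro h
        apply hne
        apply top_le_iff.mp
        rw [← h]
        exact Kf_mono φ _
      have h3 : (Kf φ (1 + j)).relIndex (Kf φ (1 + j + 1)) = p := by
        have h4 : Kf φ (j + 1) ≠ ⊤ := by rw [add_comm]; exact hne'
        have := step_eq hX h12 hn h4
        rwa [show j + 1 = 1 + j by ring, show j + 2 = 1 + j + 1 by ring] at this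
      rw [← h1, ih.2 hne', h3, pow_succ]

/-- if `Kf φ 1` has index `p ^ k` then `Kf φ k ≠ ⊤` (for `k ≥ 1`) -/
theorem Kf_ne_top (hX : IsPGroup p X) {φ : X →* X} (h12 : (Kf φ 1).relIndex (Kf φ 2) = p)
    (hn : ∃ n, Kf φ n = ⊤) {k : ℕ} (hk : 1 ≤ k) (hidx : (Kf φ 1).index = p ^ k) :
    Kf φ k ≠ ⊤ := by
  have hp : p.Prime := Fact.out
  intro htop
  obtain ⟨j, rfl⟩ : ∃ j, k = 1 + j := ⟨k - 1, by omega⟩
  have h1 := (chain_index hX h12 hn j).1
  rw [htop, Subgroup.relIndex_top_right, hidx] at h1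
  have h2 : p ^ j < p ^ (1 + j) := Nat.pow_lt_pow_right hp.one_lt (by omega)
  omega

end finite

end Cfsg.Agent.Helper3.OL
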