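import Mathlib
import Cfsg.Prelude.Def_FusionSystem
import Cfsg.Prelude.Def_FusionComponents
import Cfsg.Agent.Lib.Helper25.FusionModel2
import Cfsg.Agent.Lib.Helper25.FusionSat4
import Cfsg.Agent.Lib.Helper25.KNorm7
import Cfsg.Agent.Lib.Helper25.FusionMorph
import Cfsg.Agent.S5083
import Cfsg.Agent.S5096

/-!
# Inner fusion systems: basic lemmas for the Kessar–Linckelmann style arguments
-/

set_option autoImplicit false
set_option linter.style.haveILetI false
set_option linter.unusedSectionVars false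

namespace Cfsg.Agent.Helper3.KL

open Cfsg Cfsg.FusionSystem Cfsg.Agent.Helper25

variable {Ω : Type*} [Group Ω] {S : Subgroup Ω}

/-- Every map of the system is conjugation by an element of `S`. -/
def IsInner (F : FusionSystem S) : Prop :=
  ∀ (P : Subgroup Ω) (φ : P →* Ω), φ ∈ F.Hom P → ∃ g ∈ S, ∀ x : P, φ x = g * (x : Ω) * g⁻¹

theorem isInner_iff (F : FusionSystem S) :
    IsInner F ↔ ∀ P : Subgroup Ω, F.Hom P = (innerFusionSystem S).Hom P := by
  constructor
  · intro h P
    ext φ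
    constructor
    · intro hφ
      exact ⟨(F.le_of_mem hφ).1, h P φ hφ⟩
    · rintro ⟨hP, g, hg, hφ⟩
      have : φ = conjHom P g := by ext x; exact hφ x
      rw [this]; exact F.conj_mem hP hg
  · intro h P φ hφ
    rw [h P] at hφ
    exact hφ.2

theorem isInner_of_bot (F : FusionSystem S) (h : S = ⊥) : IsInner F := by
  intro P φ hφ
  refine ⟨1, S.one_mem, fun x => ?_⟩
  have hx : (x : Ω) ∈ S := (F.le_of_mem hφ).1 x.2
  rw [h, Subgroup.mem_bot] at hx
  have hx1 : x = 1 := Subtype.ext hx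
  rw [hx1, map_one]; simp

theorem isInner_of_subset {F E : FusionSystem S} (hE : IsInner E)
    (h : ∀ P : Subgroup Ω, F.Hom P ⊆ E.Hom P) : IsInner F :=
  fun P φ hφ => hE P φ (h P hφ)

theorem aut_pow_conj {P : Subgroup Ω} (α : MulAut P) (g : Ω)
    (h : ∀ x : P, ((α x : P) : Ω) = g * x * g⁻¹) (n : ℕ) (x : P) :
    (((α ^ n) x : P) : Ω) = g ^ n * x * (g ^ n)⁻¹ := by
  induction n generalizing x with
  | zero => simp
  | succ n ih =>
    rw [pow_succ', MulAut.mul_apply, h, ih, pow_succ']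
    simp [mul_assoc]

theorem aut_pow_eq_one_of_conj {p : ℕ} (hS : IsPGroup p S) {P : Subgroup Ω} (α : MulAut P)
    (g : Ω) (hg : g ∈ S) (h : ∀ x : P, ((α x : P) : Ω) = g * x * g⁻¹) :
    ∃ k : ℕ, α ^ p ^ k = 1 := by
  obtain ⟨k, hk⟩ := hS ⟨g, hg⟩
  refine ⟨k, ?_⟩
  have hg1 : g ^ p ^ k = 1 := by
    have := congrArg Subtype.val hk
    simpa using this
  ext x
  rw [aut_pow_conj α g h, hg1]
  simp

/-- In an inner system all automorphism groups are `p`-groups. -/
theorem isPGroup_autGroup_of_isInner {p : ℕ} (hS : IsPGroup p S) (F : FusionSystem S)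
    (hF : IsInner F) {P : Subgroup Ω} (hP : P ≤ S) : IsPGroup p (F.autGroup P) := by
  intro ⟨α, hα⟩
  rw [mem_autGroup_iff F hP] at hα
  obtain ⟨g, hg, hgα⟩ := hF P _ hα
  obtain ⟨k, hk⟩ := aut_pow_eq_one_of_conj hS α g hg (fun x => hgα x)
  exact ⟨k, Subtype.ext hk⟩

/-- A saturated system all of whose automorphism groups are `p`-groups is inner. -/
theorem isInner_of_forall_isPGroup [Finite S] (p : ℕ) [Fact p.Prime] (hS : IsPGroup p S)
    (F : FusionSystem S) (hF : F.IsSaturated p)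
    (h : ∀ P : Subgroup Ω, P ≤ S → IsPGroup p (F.autGroup P)) : IsInner F := by
  have := Cfsg.Agent.S5083.result p hS F hF h
  rw [isInner_iff, this]
  intro P; rfl

/-- A version with elements: every automorphism in the system has `p`-power order. -/
theorem isInner_of_forall_pow [Finite S] (p : ℕ) [Fact p.Prime] (hS : IsPGroup p S)
    (F : FusionSystem S) (hF : F.IsSaturated p)
    (h : ∀ P : Subgroup Ω, P ≤ S → ∀ α : MulAut P, P.subtype.comp α.toMonoidHom ∈ F.Hom P →
      ∃ k : ℕ, α ^ p ^ k = 1) : IsInner F := by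
  apply isInner_of_forall_isPGroup p hS F hF
  intro P hP ⟨α, hα⟩
  rw [mem_autGroup_iff F hP] at hα
  obtain ⟨k, hk⟩ := h P hP α hα
  exact ⟨k, Subtype.ext hk⟩

end Cfsg.Agent.Helper3.KL
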