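import Mathlib
import Cfsg.Agent.Lib.Helper3.KLBasic

/-!
# Local lemmas: normalizer systems of characteristic subgroups
-/

set_option autoImplicit false
set_option linter.style.haveILetI false
set_option linter.unusedSectionVars false

namespace Cfsg.Agent.Helper3.KL

open Cfsg Cfsg.FusionSystem Cfsg.Agent.Helper25

variable {Ω : Type*} [Group Ω] {S : Subgroup Ω}

theorem map_eq_of_forall_mem [Finite S] (F : FusionSystem S) {K X : Subgroup Ω} (hXK : X ≤ K)
    {ψ : K →* Ω} (hψ : ψ ∈ F.Hom K) (hX : ∀ (x : Ω) (hx : x ∈ X), ψ ⟨x, hXK hx⟩ ∈ X) :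
    (X.subgroupOf K).map ψ = X := by
  have hKS : K ≤ S := (F.le_of_mem hψ).1
  haveI : Finite X := finite_of_le_finite (hXK.trans hKS)
  have hle : (X.subgroupOf K).map ψ ≤ X := by
    rintro _ ⟨x, hx, rfl⟩
    exact hX x.1 (Subgroup.mem_subgroupOf.mp hx)
  apply Subgroup.eq_of_le_of_card_ge hle
  have h1 : Nat.card ((X.subgroupOf K).map ψ) = Nat.card (X.subgroupOf K) :=
    Subgroup.card_map_of_injective (F.injective_of_mem hψ)
  rw [h1]
  exact le_of_eq (Nat.card_congr (Subgroup.subgroupOfEquivOfLe hXK).toEquiv).symm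

/-- a map of `F` defined on `K` with `X ≤ K ≤ N_S(X)` which maps `X` into `X` lies in the
normalizer system of `X`. -/
theorem mem_normalizerHom_of_le [Finite S] (F : FusionSystem S) {K X : Subgroup Ω} (hXK : X ≤ K)
    (hK : K ≤ normalizerIn S X) {ψ : K →* Ω} (hψ : ψ ∈ F.Hom K)
    (hX : ∀ (x : Ω) (hx : x ∈ X), ψ ⟨x, hXK hx⟩ ∈ X) : ψ ∈ F.normalizerHom X K := by
  have hmap := map_eq_of_forall_mem F hXK hψ hX
  have hle : K ⊔ X ≤ K := sup_le le_rfl hXK
  have hsurj : ∀ y ∈ X, ∃ (x : Ω) (hx : x ∈ X), ψ ⟨x, hXK hx⟩ = y := by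
    intro y hy
    rw [← hmap] at hy
    obtain ⟨x, hK', hxX, hxy⟩ := (mem_map_subgroupOf ψ).mp hy
    exact ⟨x, hxX, hxy⟩
  refine ⟨hψ, hK, fun x => ?_, ψ.comp (Subgroup.inclusion hle), restrict_mem F hle hψ,
    fun x => ?_, ?_⟩
  · rw [mem_normalizerIn]
    refine ⟨(F.le_of_mem hψ).2 x, ?_⟩
    have key : ∀ z : K, ∀ y ∈ X, ψ z * y * (ψ z)⁻¹ ∈ X := by
      intro z y hy
      obtain ⟨y', hy', rfl⟩ := hsurj y hy
      have hzN := (mem_normalizerIn.mp (hK z.2)).2
      have h1 : (z : Ω) * y' * (z : Ω)⁻¹ ∈ X := (Subgroup.mem_normalizer_iff.mp hzN y').mp hy'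
      have h2 := hX _ h1
      have e : (⟨(z : Ω) * y' * (z : Ω)⁻¹, hXK h1⟩ : K) = z * ⟨y', hXK hy'⟩ * z⁻¹ :=
        Subtype.ext rfl
      rw [e, map_mul, map_mul, map_inv] at h2
      exact h2
    apply mem_normalizer_of_forall
    · intro y hy; exact key x y hy
    · intro y hy
      have := key x⁻¹ y hy
      rwa [map_inv, inv_inv] at this
  · show ψ _ = ψ x
    congr 1
  · ext y
    rw [mem_map_subgroupOf]
    constructor
    · rintro ⟨x, hx, hxX, rfl⟩
      exact hX x hxX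
    · intro hy
      obtain ⟨x, hxX, hxy⟩ := hsurj y hy
      exact ⟨x, le_sup_right (a := K) hxX, hxX, hxy⟩

/-- If the normalizer system of `X` is inner, then maps of `F` normalizing `X` defined on
overgroups of `X` inside `N_S(X)` are conjugations. -/
theorem exists_conj_of_isInner_normalizer [Finite S] (F : FusionSystem S) {X : Subgroup Ω}
    (N : FusionSystem (normalizerIn S X)) (hN : F.IsNormalizerSystem X N) (hNi : IsInner N)
    {K : Subgroup Ω} (hXK : X ≤ K) (hK : K ≤ normalizerIn S X) {ψ : K →* Ω} (hψ : ψ ∈ F.Hom K)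
    (hX : ∀ (x : Ω) (hx : x ∈ X), ψ ⟨x, hXK hx⟩ ∈ X) :
    ∃ g ∈ normalizerIn S X, ∀ x : K, ψ x = g * (x : Ω) * g⁻¹ := by
  apply hNi K ψ
  rw [hN K]
  exact mem_normalizerHom_of_le F hXK hK hψ hX

theorem normalizerIn_eq_of_le {X : Subgroup Ω} (h : S ≤ Subgroup.normalizer (X : Set Ω)) :
    normalizerIn S X = S := by
  unfold normalizerIn
  exact inf_eq_left.mpr h

theorem isFullyNormalized_of_normal [Finite S] (F : FusionSystem S) {X : Subgroup Ω} (hX : X ≤ S)
    (h : S ≤ Subgroup.normalizer (X : Set Ω)) : F.IsFullyNormalized X := by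
  refine ⟨hX, fun Q _ => ?_⟩
  rw [normalizerIn_eq_of_le h]
  exact Subgroup.card_le_of_le normalizerIn_le

/-- the normalizer of `T` normalizes every characteristic subgroup of `T`. -/
theorem normalizer_le_of_char {T X : Subgroup Ω} (hXT : X ≤ T)
    (hc : (X.subgroupOf T).Characteristic) :
    Subgroup.normalizer (T : Set Ω) ≤ Subgroup.normalizer (X : Set Ω) := by
  have key : ∀ g ∈ Subgroup.normalizer (T : Set Ω), ∀ y ∈ X, g * y * g⁻¹ ∈ X := by
    intro g hg y hy
    have hgT : ∀ x : T, g * (x : Ω) * g⁻¹ ∈ T := fun x =>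
      (Subgroup.mem_normalizer_iff.mp hg x).mp x.2
    have hgT' : ∀ x : T, g⁻¹ * (x : Ω) * g ∈ T := fun x => by
      have := (Subgroup.mem_normalizer_iff.mp (Subgroup.inv_mem _ hg) x).mp x.2
      simpa using this
    let e : T ≃* T :=
      { toFun := fun x => ⟨g * x * g⁻¹, hgT x⟩
        invFun := fun x => ⟨g⁻¹ * x * g, hgT' x⟩
        left_inv := fun x => by apply Subtype.ext; simp [mul_assoc]
        right_inv := fun x => by apply Subtype.ext; simp [mul_assoc]
        map_mul' := fun x z => by apply Subtype.ext; simp [mul_assoc] }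
    have h1 := hc.fixed e
    have h2 : (⟨y, hXT hy⟩ : T) ∈ (X.subgroupOf T).comap e.toMonoidHom := by
      rw [h1]; exact Subgroup.mem_subgroupOf.mpr hy
    exact Subgroup.mem_subgroupOf.mp (Subgroup.mem_comap.mp h2)
  intro g hg
  apply mem_normalizer_of_forall
  · exact key g hg
  · intro y hy
    have := key g⁻¹ (Subgroup.inv_mem _ hg) y hy
    rwa [inv_inv] at this

end Cfsg.Agent.Helper3.KL
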