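import Mathlib
import Cfsg.Agent.Lib.Helper3.KLLocal
import Cfsg.Agent.Lib.Helper25.FusionModel
import Cfsg.Agent.S0071
import Cfsg.Prelude.Def_Transfer

/-!
# Group-theoretic bridge: models with normal `p`-complements, normalizers with inner fusion
-/

set_option autoImplicit false
set_option linter.style.haveILetI false
set_option linter.unusedSectionVars false

namespace Cfsg.Agent.Helper3.KL

open Cfsg Cfsg.FusionSystem Cfsg.Agent.Helper25

variable {Ω : Type*} [Group Ω] {S : Subgroup Ω} {G : Type*} [Group G]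

/-- A model with a normal `p`-complement is a `p`-group, so the system is inner. -/
theorem isInner_of_isModel_of_npc (p : ℕ) [Fact p.Prime] (N : FusionSystem S) (ι : S →* G)
    (hm : N.IsModel p G ι) (h : HasNormalPComplement p G) : IsInner N := by
  obtain ⟨hfin, hreal, ⟨T, hT⟩, hcen⟩ := hm
  haveI := hfin
  obtain ⟨P, K, hKn, hKc⟩ := h
  have hUn : (pCore p G).Normal := pCore_normal p G
  have hUp : IsPGroup p (pCore p G) := isPGroup_pCore p G
  have hUP : pCore p G ≤ P := hUp.le_sylow_of_normal P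
  have hdis : Disjoint K (pCore p G) := hKc.disjoint.mono_right hUP
  have hKle : K ≤ Subgroup.centralizer ((pCore p G : Subgroup G) : Set G) := by
    intro k hk
    rw [Subgroup.mem_centralizer_iff]
    intro u hu
    exact (Subgroup.commute_of_normal_of_disjoint K (pCore p G) hKn hUn hdis k u hk hu).eq.symm
  have hK : K = ⊥ := by
    rw [eq_bot_iff]
    intro k hk
    exact (Subgroup.disjoint_def.mp hdis) hk (hcen (hKle hk))
  rw [hK, Subgroup.isComplement'_bot_left] at hKc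
  have hGp : IsPGroup p (⊤ : Subgroup G) := hKc ▸ P.isPGroup'
  have hTtop : (⊤ : Subgroup G) = T := T.is_maximal' hGp le_top
  have hsurj : Function.Surjective ι := by
    rw [← MonoidHom.range_eq_top, ← hT, ← hTtop]
  intro P' φ hφ
  have hP' := (N.le_of_mem hφ).1
  have hφS := (N.le_of_mem hφ).2
  obtain ⟨g, hg⟩ := (hreal.2 P' hP' φ hφS).mp hφ
  obtain ⟨s, rfl⟩ := hsurj g
  refine ⟨s, s.2, fun x => ?_⟩
  have h1 := hg x
  rw [← map_inv, ← map_mul, ← map_mul] at h1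
  exact congrArg Subtype.val (hreal.1 h1)

theorem sup_hom_mem' {P Q : Subgroup Ω} (f : ↥(P ⊔ Q) →* G) (D : Subgroup G)
    (hP : ∀ (a : Ω) (ha : a ∈ P), f ⟨a, (le_sup_left : P ≤ P ⊔ Q) ha⟩ ∈ D)
    (hQ : ∀ (b : Ω) (hb : b ∈ Q), f ⟨b, (le_sup_right : Q ≤ P ⊔ Q) hb⟩ ∈ D) (x : ↥(P ⊔ Q)) :
    f x ∈ D := by
  have h : (⊤ : Subgroup ↥(P ⊔ Q)) ≤ D.comap f := by
    rw [← Subgroup.subgroupOf_self (P ⊔ Q), Subgroup.subgroupOf_sup le_sup_left le_sup_right]
    refine sup_le ?_ ?_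
    · intro y hy
      exact hP y.1 (Subgroup.mem_subgroupOf.mp hy)
    · intro y hy
      exact hQ y.1 (Subgroup.mem_subgroupOf.mp hy)
  exact h (Subgroup.mem_top x)

/-- If all conjugation maps induced by elements of `H ≥ ι(S)` are inner, then `H` has a normal
`p`-complement (Frobenius). -/
theorem npc_of_inner_fusion [Finite G] (p : ℕ) [Fact p.Prime] (hS : IsPGroup p S)
    (N : FusionSystem S) (ι : S →* G) (hreal : N.IsRealizedBy ι) (T : Sylow p G)
    (hT : (T : Subgroup G) = ι.range) (H : Subgroup G) (hTH : ι.range ≤ H)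
    (hin : ∀ g ∈ H, ∀ (P : Subgroup Ω) (hP : P ≤ S) (φ : P →* Ω) (hφS : ∀ x, φ x ∈ S),
      φ ∈ N.Hom P → (∀ x : P, ι ⟨φ x, hφS x⟩ = g * ι ⟨x, hP x.2⟩ * g⁻¹) →
      ∃ s ∈ S, ∀ x : P, φ x = s * (x : Ω) * s⁻¹) :
    HasNormalPComplement p H := by
  have hTH' : (T : Subgroup G) ≤ H := hT ▸ hTH
  refine ⟨T.subtype hTH', ?_⟩
  rw [Cfsg.Agent.S0071.result (T.subtype hTH')]
  intro Q hQ g hgN hgo
  -- the image of Q in G and its preimage in S
  set A : Subgroup G := Q.map H.subtype with hA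
  have hAT : A ≤ ι.range := by
    rintro _ ⟨q, hq, rfl⟩
    have := hQ hq
    rw [Sylow.coe_subtype, Subgroup.mem_subgroupOf] at this
    exact hT ▸ this
  have hgA : ∀ a ∈ A, (g : G) * a * (g : G)⁻¹ ∈ A := by
    rintro _ ⟨q, hq, rfl⟩
    exact ⟨g * q * g⁻¹, (Subgroup.mem_normalizer_iff.mp hgN q).mp hq, rfl⟩
  set P : Subgroup Ω := (A.comap ι).map S.subtype with hPdef
  have hP : P ≤ S := by rintro _ ⟨s, -, rfl⟩; exact s.2
  have hPA : ∀ x : P, ι ⟨x, hP x.2⟩ ∈ A := by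
    rintro ⟨_, s, hs, rfl⟩
    exact hs
  obtain ⟨ψ, hψ, hψS, hιψ⟩ := exists_hom_of_conj N hreal hP (g : G)
    (fun x => hAT (hgA _ (hPA x)))
  obtain ⟨s, hs, hsψ⟩ := hin g g.2 P hP ψ hψS hψ hιψ
  set t := ι ⟨s, hs⟩ with ht
  have hconj : ∀ a ∈ A, (g : G) * a * (g : G)⁻¹ = t * a * t⁻¹ := by
    intro a ha
    obtain ⟨y, rfl⟩ := hAT ha
    have hyP : (y : Ω) ∈ P := ⟨y, ha, rfl⟩
    have h1 := hιψ ⟨y, hyP⟩
    have e1 : (⟨ψ ⟨y, hyP⟩, hψS _⟩ : S) = ⟨s, hs⟩ * y * ⟨s, hs⟩⁻¹ := Subtype.ext (hsψ ⟨y, hyP⟩)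
    rw [e1, map_mul, map_mul, map_inv] at h1
    exact h1.symm
  have hpow : ∀ (n : ℕ), ∀ a ∈ A, (g : G) ^ n * a * ((g : G) ^ n)⁻¹ = t ^ n * a * (t ^ n)⁻¹ ∧
      (g : G) ^ n * a * ((g : G) ^ n)⁻¹ ∈ A := by
    intro n
    induction n with
    | zero => intro a ha; simp [ha]
    | succ n ih =>
      intro a ha
      obtain ⟨h1, h2⟩ := ih a ha
      have e : (g : G) ^ (n + 1) * a * ((g : G) ^ (n + 1))⁻¹ =
          (g : G) * ((g : G) ^ n * a * ((g : G) ^ n)⁻¹) * (g : G)⁻¹ := by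
        rw [pow_succ']; group
      rw [e]
      refine ⟨?_, hgA _ h2⟩
      rw [hconj _ h2, h1, pow_succ']
      group
  obtain ⟨k, hk⟩ := hS ⟨s, hs⟩
  have htk : t ^ p ^ k = 1 := by rw [ht, ← map_pow, hk, map_one]
  have hcomm : ∀ a ∈ A, (g : G) ^ p ^ k * a = a * (g : G) ^ p ^ k := by
    intro a ha
    have := (hpow (p ^ k) a ha).1
    rw [htk] at this
    simp only [one_mul, inv_one, mul_one] at this
    calc (g : G) ^ p ^ k * a = ((g : G) ^ p ^ k * a * ((g : G) ^ p ^ k)⁻¹) * (g : G) ^ p ^ k := by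
          group
      _ = a * (g : G) ^ p ^ k := by rw [this]
  have hcop : (p ^ k).Coprime (orderOf g) := (Nat.Coprime.pow_left k hgo.symm)
  obtain ⟨m, hm⟩ := exists_pow_eq_self_of_coprime hcop
  rw [Subgroup.mem_centralizer_iff]
  intro q hq
  apply Subtype.ext
  have hqA : (q : G) ∈ A := ⟨q, hq, rfl⟩
  have h3 : Commute ((g : G) ^ p ^ k) (q : G) := hcomm _ hqA
  have h4 : Commute (((g : G) ^ p ^ k) ^ m) (q : G) := h3.pow_left m
  have h5 : ((g : G) ^ p ^ k) ^ m = g := by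
    have := congrArg Subtype.val hm
    simpa using this
  rw [h5] at h4
  exact h4.eq.symm


theorem range_le_normalizer_map (ι : S →* G) {W : Subgroup Ω}
    (hWn : S ≤ Subgroup.normalizer (W : Set Ω)) :
    ι.range ≤ Subgroup.normalizer (((W.subgroupOf S).map ι : Subgroup G) : Set G) := by
  have key : ∀ s : S, ∀ y ∈ (W.subgroupOf S).map ι, ι s * y * (ι s)⁻¹ ∈ (W.subgroupOf S).map ι := by
    rintro s _ ⟨w, hw, rfl⟩
    have hw' : (w : Ω) ∈ W := Subgroup.mem_subgroupOf.mp hw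
    refine ⟨s * w * s⁻¹, Subgroup.mem_subgroupOf.mpr ?_, by simp⟩
    exact (Subgroup.mem_normalizer_iff.mp (hWn s.2) w).mp hw'
  rintro _ ⟨s, rfl⟩
  apply mem_normalizer_of_forall
  · exact key s
  · intro y hy
    have := key s⁻¹ y hy
    rwa [map_inv, inv_inv] at this

/-- If the normalizer system of `W ⊴ S` in a realized system is inner, then the normalizer of the
image of `W` has a normal `p`-complement. -/
theorem npc_normalizer_of_inner [Finite S] [Finite G] (p : ℕ) [Fact p.Prime] (hS : IsPGroup p S)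
    (N : FusionSystem S) (ι : S →* G) (hreal : N.IsRealizedBy ι) (T : Sylow p G)
    (hT : (T : Subgroup G) = ι.range) (W : Subgroup Ω) (hWS : W ≤ S)
    (hWn : S ≤ Subgroup.normalizer (W : Set Ω))
    (M : FusionSystem (normalizerIn S W)) (hM : N.IsNormalizerSystem W M) (hMi : IsInner M) :
    HasNormalPComplement p
      (Subgroup.normalizer (((W.subgroupOf S).map ι : Subgroup G) : Set G)) := by
  apply npc_of_inner_fusion p hS N ι hreal T hT _ (range_le_normalizer_map ι hWn)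
  intro g hg P hP φ hφS hφ hιφ
  have hNW : normalizerIn S W = S := normalizerIn_eq_of_le hWn
  have hι := hreal.1
  have hgW : ∀ w : S, (w : Ω) ∈ W → g * ι w * g⁻¹ ∈ (W.subgroupOf S).map ι := by
    intro w hw
    exact (Subgroup.mem_normalizer_iff.mp hg _).mp ⟨w, Subgroup.mem_subgroupOf.mpr hw, rfl⟩
  have hle : P ⊔ W ≤ S := sup_le hP hWS
  have hval : ∀ y : ↥(P ⊔ W), g * ι ⟨y, hle y.2⟩ * g⁻¹ ∈ ι.range := by
    intro y
    have := sup_hom_mem' ((MulAut.conj g).toMonoidHom.comp (ι.comp (Subgroup.inclusion hle)))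
      ι.range ?_ ?_ y
    · exact this
    · intro a ha
      show g * ι ⟨a, _⟩ * g⁻¹ ∈ ι.range
      rw [← hιφ ⟨a, ha⟩]
      exact ⟨_, rfl⟩
    · intro b hb
      show g * ι ⟨b, _⟩ * g⁻¹ ∈ ι.range
      obtain ⟨w', -, hw'⟩ := hgW ⟨b, hWS hb⟩ hb
      exact ⟨w', hw'⟩
  obtain ⟨ψ, hψ, hψS, hιψ⟩ := exists_hom_of_conj N hreal hle g hval
  have hψW : ∀ (x : Ω) (hx : x ∈ W), ψ ⟨x, (le_sup_right : W ≤ P ⊔ W) hx⟩ ∈ W := by
    intro x hx
    obtain ⟨w', hw', hw'e⟩ := hgW ⟨x, hWS hx⟩ hx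
    have h1 := hιψ ⟨x, (le_sup_right : W ≤ P ⊔ W) hx⟩
    have h2 : w' = ⟨ψ ⟨x, (le_sup_right : W ≤ P ⊔ W) hx⟩, hψS _⟩ := hι (hw'e.trans h1.symm)
    have hw'' : (w' : Ω) ∈ W := Subgroup.mem_subgroupOf.mp hw'
    rw [h2] at hw''
    exact hw''
  have hmem : φ ∈ N.normalizerHom W P := by
    refine ⟨hφ, hNW.ge.trans' hP, fun x => hNW.ge (hφS x), ψ, hψ, fun x => ?_,
      map_eq_of_forall_mem N le_sup_right hψ hψW⟩
    have h1 := hιψ (Subgroup.inclusion le_sup_left x)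
    have h2 := hιφ x
    have h3 : (⟨ψ (Subgroup.inclusion le_sup_left x), hψS _⟩ : S) = ⟨φ x, hφS x⟩ :=
      hι (h1.trans h2.symm)
    exact congrArg Subtype.val h3
  rw [← hM P] at hmem
  obtain ⟨s, hs, hsφ⟩ := hMi P φ hmem
  exact ⟨s, normalizerIn_le hs, hsφ⟩

end Cfsg.Agent.Helper3.KL
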