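import Mathlib
import Cfsg.Agent.Lib.Helper3.KLLocal2
import Cfsg.Agent.Lib.Helper25.FusionModel

/-!
# Transporting a realization along a map of the system

`ψ : N_S(U) → N_S(V)` a map of `F` carrying `U` onto `V`, `(L, ιV)` a realization of `N_F(V)`.
Then `j = ιV ∘ ψ` "realizes" the maps of `F` between overgroups of `U` in `N_S(U)` that normalize `U`.
-/

set_option autoImplicit false
set_option linter.style.haveILetI false
set_option linter.unusedSectionVars false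

namespace Cfsg.Agent.Helper3.KL

open Cfsg Cfsg.FusionSystem Cfsg.Agent.Helper25

variable {Ω : Type*} [Group Ω] {S : Subgroup Ω} {L : Type*} [Group L]

section

variable (F : FusionSystem S) {U V : Subgroup Ω} {ψ : ↥(normalizerIn S U) →* Ω}
  (hψ : ψ ∈ F.Hom (normalizerIn S U)) (hψN : ∀ x, ψ x ∈ normalizerIn S V)
  (ιV : ↥(normalizerIn S V) →* L)

/-- the transported embedding -/
def jmap : ↥(normalizerIn S U) →* L := ιV.comp (ψ.codRestrict _ hψN)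

theorem jmap_apply (x : ↥(normalizerIn S U)) : jmap hψN ιV x = ιV ⟨ψ x, hψN x⟩ := rfl

include hψ in
theorem jmap_injective (hι : Function.Injective ιV) : Function.Injective (jmap hψN ιV) := by
  intro a b hab
  have h1 := hι hab
  exact F.injective_of_mem hψ (congrArg Subtype.val h1)

end

/-- Realization, forward direction: a map of `F` on `A ⊇ U` normalizing `U` is induced by an element
of `L`. -/
theorem exists_conj_of_hom [Finite S] (F : FusionSystem S) {U V : Subgroup Ω}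
    {ψ : ↥(normalizerIn S U) →* Ω} (hψ : ψ ∈ F.Hom (normalizerIn S U))
    (hψN : ∀ x, ψ x ∈ normalizerIn S V)
    (hψU : (U.subgroupOf (normalizerIn S U)).map ψ = V)
    (NV : FusionSystem (normalizerIn S V)) (hNV : F.IsNormalizerSystem V NV)
    (ιV : ↥(normalizerIn S V) →* L) (hreal : NV.IsRealizedBy ιV)
    {A : Subgroup Ω} (hUA : U ≤ A) (hA : A ≤ normalizerIn S U) {φ : A →* Ω} (hφ : φ ∈ F.Hom A)
    (hφU : ∀ (x : Ω) (hx : x ∈ U), φ ⟨x, hUA hx⟩ ∈ U) (hφN : ∀ x, φ x ∈ normalizerIn S U) :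
    ∃ l : L, ∀ x : A, jmap hψN ιV ⟨φ x, hφN x⟩ = l * jmap hψN ιV ⟨x, hA x.2⟩ * l⁻¹ := by
  -- ψ restricted to A and its inverse
  have hψA := restrict_mem F hA hψ
  set ψA := ψ.comp (Subgroup.inclusion hA) with hψAdef
  obtain ⟨ρ, hρ, hρinv, hρr⟩ := exists_inv F hψA rfl
  have hρA : ∀ y : ψA.range, ρ y ∈ A := fun y => hρr.le ⟨y, rfl⟩
  -- χ = ψ ∘ φ ∘ ρ
  have h1 : φ.comp (ρ.codRestrict A hρA) ∈ F.Hom ψA.range := F.comp_mem hρ hφ hρA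
  have h2 : ∀ y : ψA.range, (φ.comp (ρ.codRestrict A hρA)) y ∈ normalizerIn S U := fun y => hφN _
  have hχ := F.comp_mem h1 hψ h2
  set χ := ψ.comp ((φ.comp (ρ.codRestrict A hρA)).codRestrict _ h2) with hχdef
  have hχψ : ∀ x : A, χ ⟨ψA x, x, rfl⟩ = ψ ⟨φ x, hφN x⟩ := by
    intro x
    show ψ ⟨φ ⟨ρ ⟨ψA x, x, rfl⟩, _⟩, _⟩ = _
    congr 2
    congr 1
    apply Subtype.ext
    exact hρinv x _
  have hVA' : V ≤ ψA.range := by
    intro v hv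
    rw [← hψU] at hv
    obtain ⟨x, hxN, hxU, rfl⟩ := (mem_map_subgroupOf ψ).mp hv
    exact ⟨⟨x, hUA hxU⟩, rfl⟩
  have hA'N : ψA.range ≤ normalizerIn S V := by
    rintro _ ⟨x, rfl⟩; exact hψN _
  have hχV : ∀ (v : Ω) (hv : v ∈ V), χ ⟨v, hVA' hv⟩ ∈ V := by
    intro v hv
    have hv' := hv
    rw [← hψU] at hv'
    obtain ⟨x, hxN, hxU, hxv⟩ := (mem_map_subgroupOf ψ).mp hv'
    have e : (⟨v, hVA' hv⟩ : ψA.range) = ⟨ψA ⟨x, hUA hxU⟩, _, rfl⟩ := Subtype.ext hxv.symm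
    rw [e, hχψ]
    have h3 := hφU x hxU
    have h0 : ψ ⟨φ ⟨x, hUA hxU⟩, hφN _⟩ ∈ (U.subgroupOf (normalizerIn S U)).map ψ :=
      (mem_map_subgroupOf ψ).mpr ⟨_, hφN _, h3, rfl⟩
    exact hψU.le h0
  have hχN : χ ∈ NV.Hom ψA.range := by
    rw [hNV]
    exact mem_normalizerHom_of_le F hVA' hA'N hχ hχV
  have hχS : ∀ y, χ y ∈ normalizerIn S V := (NV.le_of_mem hχN).2
  obtain ⟨l, hl⟩ := (hreal.2 ψA.range hA'N χ hχS).mp hχN
  refine ⟨l, fun x => ?_⟩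
  have := hl ⟨ψA x, x, rfl⟩
  rw [jmap_apply, jmap_apply]
  refine Eq.trans ?_ this
  congr 1
  apply Subtype.ext
  exact (hχψ x).symm

/-- Realization, backward direction: conjugation by an element of `L` keeping a subgroup inside the
range of `j` is induced by a map of `F`. -/
theorem exists_hom_of_conj_jmap [Finite S] (F : FusionSystem S) {U V : Subgroup Ω}
    {ψ : ↥(normalizerIn S U) →* Ω} (hψ : ψ ∈ F.Hom (normalizerIn S U))
    (hψN : ∀ x, ψ x ∈ normalizerIn S V)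
    (NV : FusionSystem (normalizerIn S V)) (hNV : F.IsNormalizerSystem V NV)
    (ιV : ↥(normalizerIn S V) →* L) (hreal : NV.IsRealizedBy ιV)
    {A : Subgroup Ω} (hA : A ≤ normalizerIn S U) (l : L)
    (hl : ∀ x : A, l * jmap hψN ιV ⟨x, hA x.2⟩ * l⁻¹ ∈ (jmap hψN ιV).range) :
    ∃ φ ∈ F.Hom A, ∃ hφN : ∀ x, φ x ∈ normalizerIn S U,
      ∀ x : A, jmap hψN ιV ⟨φ x, hφN x⟩ = l * jmap hψN ιV ⟨x, hA x.2⟩ * l⁻¹ := by
  have hι := hreal.1
  have hψA := restrict_mem F hA hψ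
  set ψA := ψ.comp (Subgroup.inclusion hA) with hψAdef
  have hA'N : ψA.range ≤ normalizerIn S V := by
    rintro _ ⟨x, rfl⟩; exact hψN _
  have hrange : ∀ y : ψA.range, l * ιV ⟨y, hA'N y.2⟩ * l⁻¹ ∈ ιV.range := by
    rintro ⟨_, x, rfl⟩
    obtain ⟨z, hz⟩ := hl x
    exact ⟨_, hz⟩
  obtain ⟨χ, hχ, hχS, hιχ⟩ := exists_hom_of_conj NV hreal hA'N l hrange
  have hχF : χ ∈ F.Hom ψA.range := by
    rw [hNV] at hχ; exact hχ.1
  -- χ takes values in the range of ψ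
  have hχr : ∀ y : ψA.range, χ y ∈ ψ.range := by
    rintro ⟨_, x, rfl⟩
    obtain ⟨z, hz⟩ := hl x
    have h1 := hιχ ⟨ψA x, x, rfl⟩
    have h2 : ιV ⟨ψ z, hψN z⟩ = ιV ⟨χ ⟨ψA x, x, rfl⟩, hχS _⟩ := by
      rw [h1]; exact hz
    have h3 := congrArg Subtype.val (hι h2)
    exact ⟨z, h3⟩
  obtain ⟨ρ, hρ, hρinv, hρr⟩ := exists_inv F hψ rfl
  have hρN : ∀ y : ψ.range, ρ y ∈ normalizerIn S U := fun y => hρr.le ⟨y, rfl⟩
  have hψAr : ∀ x : A, ψA x ∈ ψA.range := fun x => ⟨x, rfl⟩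
  have h1 : χ.comp (ψA.codRestrict ψA.range hψAr) ∈ F.Hom A := F.comp_mem hψA hχF hψAr
  have h2 : ∀ x : A, (χ.comp (ψA.codRestrict ψA.range hψAr)) x ∈ ψ.range := fun x => hχr _
  have hφ := F.comp_mem h1 hρ h2
  refine ⟨_, hφ, fun x => hρN _, fun x => ?_⟩
  rw [jmap_apply, jmap_apply]
  have h3 := hιχ ⟨ψA x, x, rfl⟩
  refine Eq.trans ?_ h3
  congr 1
  apply Subtype.ext
  show ψ ⟨ρ ⟨χ ⟨ψA x, _⟩, _⟩, _⟩ = χ ⟨ψA x, _⟩
  obtain ⟨z, hz⟩ := hχr ⟨ψA x, x, rfl⟩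
  have e : (⟨χ ⟨ψA x, x, rfl⟩, hχr _⟩ : ψ.range) = ⟨ψ z, z, rfl⟩ := Subtype.ext hz.symm
  have h4 : ρ ⟨χ ⟨ψA x, x, rfl⟩, hχr _⟩ = z := by
    rw [e]; exact hρinv z _
  have h5 : (⟨ρ ⟨χ ⟨ψA x, x, rfl⟩, hχr _⟩, hρN _⟩ : ↥(normalizerIn S U)) = z := Subtype.ext h4
  calc ψ ⟨ρ ⟨χ ⟨ψA x, x, rfl⟩, hχr _⟩, hρN _⟩ = ψ z := by rw [h5]
    _ = χ ⟨ψA x, x, rfl⟩ := hz

end Cfsg.Agent.Helper3.KL
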