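import Mathlib

/-!
# The group-theoretic core of the model theorem

Given a finite group `T`, a normal subgroup `Q`, a group `Γ` of automorphisms of `Q`, a
homomorphism `c : T →* Γ` lifting conjugation whose kernel lies in the centre of `Q`, and a finite
`T × T`-set `X` with a map `π : X → Γ` satisfying suitable compatibility conditions, we build a
finite group `G` with an injection `T →* G` and a homomorphism `G →* Γ` whose kernel is the image
of the kernel of `c`.
-/

set_option autoImplicit false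
set_option linter.style.haveILetI false
set_option linter.unusedSectionVars false

namespace Cfsg.Agent.Helper3.Model

open scoped IsMulCommutative

universe u w

section Counting

/-- A set with a free action of `R` whose orbits are the fibres of a surjection onto `Y`. -/
theorem card_eq_of_free_fib {X : Type*} {Y : Type*} {R : Type*} [Group R] (act : R → X → X)
    (hact : ∀ r r' x, act r (act r' x) = act (r * r') x) (f : X → Y) (hsurj : Function.Surjective f)
    (hfree : ∀ r x, act r x = x → r = 1)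
    (hfib : ∀ x y, f x = f y ↔ ∃ r, y = act r x) :
    Nat.card X = Nat.card Y * Nat.card R := by
  have hone : ∀ x, act 1 x = x := by
    intro x
    obtain ⟨r, hr⟩ := (hfib x x).1 rfl
    have h1 : act r⁻¹ (act r x) = act r⁻¹ x := by rw [← hr]
    rw [hact, inv_mul_cancel] at h1
    have h2 : act r (act r⁻¹ x) = act r (act 1 x) := by rw [h1]
    rw [hact, mul_inv_cancel, hact, mul_one, ← hr] at h2
    exact h2
  choose σ hσ using hsurj
  rw [← Nat.card_prod]
  refine (Nat.card_congr (Equiv.ofBijective (fun yr : Y × R => act yr.2 (σ yr.1)) ⟨?_, ?_⟩)).symm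
  · rintro ⟨y, r⟩ ⟨y', r'⟩ h
    simp only at h
    have h1 : f (act r (σ y)) = y := by
      rw [← (hfib (σ y) (act r (σ y))).2 ⟨r, rfl⟩, hσ]
    have h2 : f (act r' (σ y')) = y' := by
      rw [← (hfib (σ y') (act r' (σ y'))).2 ⟨r', rfl⟩, hσ]
    have hy : y = y' := by rw [← h1, h, h2]
    subst hy
    have h3 : act (r'⁻¹ * r) (σ y) = σ y := by
      rw [← hact, h, hact, inv_mul_cancel, hone]
    have := hfree _ _ h3
    rw [inv_mul_eq_one] at this
    rw [this]
  · intro x
    obtain ⟨r, hr⟩ := (hfib (σ (f x)) x).1 (hσ (f x))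
    exact ⟨(f x, r), hr.symm⟩

end Counting

theorem perm_apply_inv {X : Type*} (a : Equiv.Perm X) (x : X) : a (a⁻¹ x) = x :=
  a.apply_symm_apply x

theorem perm_inv_apply {X : Type*} (a : Equiv.Perm X) (x : X) : a⁻¹ (a x) = x :=
  a.symm_apply_apply x

variable {T : Type u} [Group T] {Q : Subgroup T} {Γ : Subgroup (MulAut Q)}
  {X : Type w} [MulAction (T × T) X]

/-- The hypotheses on the biset `X` and its map to `Γ`. -/
structure IsCore (c : T →* Γ) (π : X → Γ) : Prop where
  conj : ∀ (s : T) (q : Q), (((c s : MulAut Q) q : Q) : T) = s * q * s⁻¹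
  ker : ∀ s : T, c s = 1 → ∃ z : Subgroup.center Q, ((z : Q) : T) = s
  equi : ∀ (s r : T) (x : X), π ((s, r) • x) = c s * π x * (c r)⁻¹
  surj : Function.Surjective π
  free : ∀ (r : T) (x : X), ((1 : T), r) • x = x → r = 1
  fib : ∀ x y : X, π x = π y → ∃ z : T, c z = 1 ∧ y = ((1 : T), z) • x
  twist : ∀ (q : Q) (x : X),
    ((q : T), (1 : T)) • x = ((1 : T), ((((π x)⁻¹ : Γ) : MulAut Q) q : T)⁻¹) • x

/-- The action of an automorphism on the centre. -/
def cmap (γ : MulAut Q) : Subgroup.center Q →* Subgroup.center Q :=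
  ((γ.toMonoidHom).comp (Subgroup.center Q).subtype).codRestrict _ (fun z => by
    rw [Subgroup.mem_center_iff]
    intro g
    obtain ⟨g', rfl⟩ := γ.surjective g
    show γ g' * γ z = γ z * γ g'
    rw [← map_mul, ← map_mul, Subgroup.mem_center_iff.1 z.2 g'])

@[simp] theorem cmap_coe (γ : MulAut Q) (z : Subgroup.center Q) : ((cmap γ z : Subgroup.center Q) : Q) = γ z :=
  rfl

variable (π : X → Γ)

/-- The permutations of `X` commuting with the right action and covering a left translation of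
`Γ`. -/
def Ehat : Subgroup (Equiv.Perm X) where
  carrier := {a | (∀ (r : T) (x : X), a (((1 : T), r) • x) = ((1 : T), r) • a x) ∧
    ∃ γ : Γ, ∀ x, π (a x) = γ * π x}
  mul_mem' := by
    rintro a b ⟨ha, γa, hγa⟩ ⟨hb, γb, hγb⟩
    refine ⟨fun r x => ?_, γa * γb, fun x => ?_⟩
    · rw [Equiv.Perm.mul_apply, hb, ha, Equiv.Perm.mul_apply]
    · rw [Equiv.Perm.mul_apply, hγa, hγb, mul_assoc]
  one_mem' := ⟨fun _ _ => rfl, 1, fun x => by rw [one_mul, Equiv.Perm.one_apply]⟩
  inv_mem' := by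
    rintro a ⟨ha, γa, hγa⟩
    refine ⟨fun r x => ?_, γa⁻¹, fun x => ?_⟩
    · apply a.injective
      rw [ha, perm_apply_inv, perm_apply_inv]
    · have := hγa (a⁻¹ x)
      rw [perm_apply_inv] at this
      rw [this, inv_mul_cancel_left]

variable {π}

theorem mem_Ehat {a : Equiv.Perm X} : a ∈ Ehat π ↔
    (∀ (r : T) (x : X), a (((1 : T), r) • x) = ((1 : T), r) • a x) ∧
      ∃ γ : Γ, ∀ x, π (a x) = γ * π x := Iff.rfl

/-- The element of `Γ` covered by a member of `Ehat`. -/
noncomputable def deg (a : Ehat π) : Γ := a.2.2.choose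

theorem deg_spec (a : Ehat π) (x : X) : π ((a : Equiv.Perm X) x) = deg a * π x :=
  a.2.2.choose_spec x

theorem rcomm (a : Ehat π) (r : T) (x : X) :
    (a : Equiv.Perm X) (((1 : T), r) • x) = ((1 : T), r) • (a : Equiv.Perm X) x := a.2.1 r x

variable {c : T →* Γ}

theorem IsCore.nonempty (h : IsCore c π) : Nonempty X := ⟨(h.surj 1).choose⟩

theorem deg_eq (h : IsCore c π) (a : Ehat π) {γ : Γ}
    (hγ : ∀ x, π ((a : Equiv.Perm X) x) = γ * π x) : deg a = γ := by
  obtain ⟨x⟩ := h.nonempty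
  have := deg_spec a x
  rw [hγ x] at this
  exact (mul_right_cancel this).symm

/-- The degree homomorphism. -/
noncomputable def degHom (h : IsCore c π) : Ehat π →* Γ :=
  MonoidHom.mk' deg (fun a b => deg_eq h _ fun x => by
    rw [Subgroup.coe_mul, Equiv.Perm.mul_apply, deg_spec a, deg_spec b, mul_assoc])

@[simp] theorem degHom_apply (h : IsCore c π) (a : Ehat π) : degHom h a = deg a := rfl

/-- The left action of `T` as a homomorphism into `Ehat`. -/
def jHom (h : IsCore c π) : T →* Ehat π where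
  toFun s := ⟨MulAction.toPerm ((s, (1 : T)) : T × T), by
    refine ⟨fun r x => ?_, c s, fun x => ?_⟩
    · show (s, (1 : T)) • ((1 : T), r) • x = ((1 : T), r) • (s, (1 : T)) • x
      rw [smul_smul, smul_smul, Prod.mk_mul_mk, Prod.mk_mul_mk, mul_one, one_mul, mul_one,
        one_mul]
    · show π ((s, (1 : T)) • x) = c s * π x
      rw [h.equi, map_one, inv_one, mul_one]⟩
  map_one' := by
    apply Subtype.ext
    ext x
    show ((1 : T), (1 : T)) • x = x
    exact one_smul _ x
  map_mul' s t := by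
    apply Subtype.ext
    ext x
    show (s * t, (1 : T)) • x = (s, (1 : T)) • (t, (1 : T)) • x
    rw [smul_smul, Prod.mk_mul_mk, mul_one]

theorem jHom_apply (h : IsCore c π) (s : T) (x : X) :
    ((jHom h s : Ehat π) : Equiv.Perm X) x = (s, (1 : T)) • x := rfl

theorem deg_jHom (h : IsCore c π) (s : T) : deg (jHom h s) = c s :=
  deg_eq h _ fun x => by rw [jHom_apply, h.equi, map_one, inv_one, mul_one]

section Lemmas

theorem coe_inv_apply (γ : Γ) (q : Q) : ((γ⁻¹ : Γ) : MulAut Q) ((γ : MulAut Q) q) = q :=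
  MulAut.inv_apply_self _ _ _

theorem IsCore.lfree (h : IsCore c π) (q : Q) (x : X) (hq : ((q : T), (1 : T)) • x = x) :
    q = 1 := by
  rw [h.twist] at hq
  have h1 := h.free _ _ hq
  rw [inv_eq_one] at h1
  have h2 : (((π x)⁻¹ : Γ) : MulAut Q) q = 1 := Subtype.ext h1
  exact (map_eq_one_iff _ (MulEquiv.injective _)).1 h2

theorem IsCore.c_center (h : IsCore c π) (z : Subgroup.center Q) : c ((z : Q) : T) = 1 := by
  apply Subtype.ext
  ext q
  rw [h.conj]
  have h1 := Subgroup.mem_center_iff.1 z.2 q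
  have h2 : (q : T) * ((z : Q) : T) = ((z : Q) : T) * (q : T) := congrArg Subtype.val h1
  rw [← h2, mul_inv_cancel_right]
  rfl

theorem smul_comm_lr (s r : T) (x : X) :
    (s, (1 : T)) • ((1 : T), r) • x = ((1 : T), r) • (s, (1 : T)) • x := by
  rw [smul_smul, smul_smul, Prod.mk_mul_mk, Prod.mk_mul_mk, mul_one, one_mul, mul_one, one_mul]

theorem IsCore.smul_left (h : IsCore c π) (a : Ehat π) (q : Q) (x : X) :
    (a : Equiv.Perm X) (((q : T), (1 : T)) • x) =
      ((((deg a : Γ) : MulAut Q) q : T), (1 : T)) • (a : Equiv.Perm X) x := by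
  have key : (((deg a * π x)⁻¹ : Γ) : MulAut Q) (((deg a : Γ) : MulAut Q) q) =
      (((π x)⁻¹ : Γ) : MulAut Q) q := by
    rw [mul_inv_rev, Subgroup.coe_mul, MulAut.mul_apply, coe_inv_apply]
  rw [h.twist, rcomm, h.twist, deg_spec a x, key]

theorem IsCore.exists_left (h : IsCore c π) (x y : X) (hxy : π x = π y) :
    ∃ z : Subgroup.center Q, y = ((((z : Q) : T)), (1 : T)) • x := by
  obtain ⟨s, hs, hy⟩ := h.fib x y hxy
  obtain ⟨z', rfl⟩ := h.ker s hs
  refine ⟨cmap (π x : MulAut Q) z'⁻¹, ?_⟩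
  rw [h.twist, hy, cmap_coe, coe_inv_apply]
  simp

variable (Q)

/-- The central element by which `a` moves `x` (on the left). -/
noncomputable def wz (a : Equiv.Perm X) (x : X) : Subgroup.center Q :=
  Classical.epsilon fun z : Subgroup.center Q => a x = ((((z : Q) : T)), (1 : T)) • x

variable {Q}

theorem IsCore.wz_eq (h : IsCore c π) {a : Equiv.Perm X} {x : X} {z : Subgroup.center Q}
    (hz : a x = ((((z : Q) : T)), (1 : T)) • x) : wz Q a x = z := by
  have h1 : a x = (((((wz Q a x : Subgroup.center Q) : Q) : T)), (1 : T)) • x :=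
    Classical.epsilon_spec (p := fun z : Subgroup.center Q => a x = ((((z : Q) : T)), (1 : T)) • x)
      ⟨z, hz⟩
  rw [hz] at h1
  have h2 : (((((z⁻¹ * wz Q a x : Subgroup.center Q) : Q) : T)), (1 : T)) • x = x := by
    have : (((((z⁻¹ * wz Q a x : Subgroup.center Q) : Q) : T)), (1 : T)) =
        ((((z⁻¹ : Subgroup.center Q) : Q) : T), (1 : T)) *
          (((((wz Q a x : Subgroup.center Q) : Q) : T)), (1 : T)) := by
      rw [Prod.mk_mul_mk, mul_one]; rfl
    rw [this, mul_smul, ← h1, smul_smul, Prod.mk_mul_mk, mul_one]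
    have : (((z⁻¹ : Subgroup.center Q) : Q) : T) * ((z : Q) : T) = 1 := by
      rw [← Subgroup.coe_mul, ← Subgroup.coe_mul, inv_mul_cancel]; rfl
    rw [this]
    exact one_smul _ x
  have h3 := h.lfree _ _ h2
  have h4 : z⁻¹ * wz Q a x = 1 := Subtype.ext h3
  exact (inv_mul_eq_one.1 h4).symm

theorem IsCore.wz_spec (h : IsCore c π) (a : Ehat π) (ha : deg a = 1) (x : X) :
    (a : Equiv.Perm X) x =
      ((((wz Q (a : Equiv.Perm X) x : Subgroup.center Q) : Q) : T), (1 : T)) • x := by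
  have h1 : π x = π ((a : Equiv.Perm X) x) := by rw [deg_spec a x, ha, one_mul]
  exact Classical.epsilon_spec (p := fun z : Subgroup.center Q =>
    (a : Equiv.Perm X) x = ((((z : Q) : T)), (1 : T)) • x) (h.exists_left x _ h1)

theorem IsCore.wz_rsmul (h : IsCore c π) (a : Ehat π) (ha : deg a = 1) (r : T) (x : X) :
    wz Q (a : Equiv.Perm X) (((1 : T), r) • x) = wz Q (a : Equiv.Perm X) x := by
  apply h.wz_eq
  rw [rcomm, h.wz_spec a ha x, smul_comm_lr, ← h.wz_spec a ha x]

theorem IsCore.wz_mul (h : IsCore c π) (a b : Ehat π) (ha : deg a = 1) (hb : deg b = 1) (x : X) :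
    wz Q ((a * b : Ehat π) : Equiv.Perm X) x =
      wz Q (a : Equiv.Perm X) x * wz Q (b : Equiv.Perm X) x := by
  apply h.wz_eq
  rw [Subgroup.coe_mul, Equiv.Perm.mul_apply, h.wz_spec b hb x, h.smul_left, ha, h.wz_spec a ha x,
    smul_smul, Prod.mk_mul_mk, mul_one, mul_comm (wz Q (a : Equiv.Perm X) x)]
  rfl

theorem IsCore.wz_conj (h : IsCore c π) (e a : Ehat π) (ha : deg a = 1) (x : X) :
    wz Q ((e * a * e⁻¹ : Ehat π) : Equiv.Perm X) x =
      cmap (deg e : MulAut Q) (wz Q (a : Equiv.Perm X) ((e : Equiv.Perm X)⁻¹ x)) := by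
  apply h.wz_eq
  rw [Subgroup.coe_mul, Subgroup.coe_mul, Equiv.Perm.mul_apply, Equiv.Perm.mul_apply,
    Subgroup.coe_inv, h.wz_spec a ha, h.smul_left, perm_apply_inv]
  rfl

theorem IsCore.wz_jHom (h : IsCore c π) (z : Subgroup.center Q) (x : X) :
    wz Q ((jHom h ((z : Q) : T) : Ehat π) : Equiv.Perm X) x = z :=
  h.wz_eq rfl

theorem IsCore.rcancel (h : IsCore c π) {r r' : T} {x : X}
    (hx : ((1 : T), r) • x = ((1 : T), r') • x) : r = r' := by
  have h1 : ((1 : T), r'⁻¹ * r) • x = x := by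
    have : ((1 : T), r'⁻¹ * r) = ((1 : T), r'⁻¹) * ((1 : T), r) := by
      rw [Prod.mk_mul_mk, one_mul]
    rw [this, mul_smul, hx, smul_smul, Prod.mk_mul_mk, one_mul, inv_mul_cancel]
    exact one_smul _ x
  exact (inv_mul_eq_one.1 (h.free _ _ h1)).symm

end Lemmas

section Rho

variable (T X)

/-- Orbits of the right action. -/
def rsetoid : Setoid X where
  r x y := ∃ r : T, y = ((1 : T), r) • x
  iseqv := ⟨fun x => ⟨1, (one_smul (T × T) x).symm⟩,
    fun {x y} ⟨r, hr⟩ => ⟨r⁻¹, by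
      rw [hr, smul_smul, Prod.mk_mul_mk, one_mul, inv_mul_cancel]
      exact (one_smul (T × T) x).symm⟩,
    fun {x y z} ⟨r, hr⟩ ⟨r', hr'⟩ => ⟨r' * r, by
      rw [hr', hr, smul_smul, Prod.mk_mul_mk, one_mul]⟩⟩

variable {T X}

variable (Q) in
/-- The product over the right orbits of the central elements by which `a` moves them. -/
noncomputable def rho (a : Equiv.Perm X) : Subgroup.center Q :=
  ∏ᶠ O : Quotient (rsetoid T X), wz Q a O.out

theorem IsCore.wz_out (h : IsCore c π) (a : Ehat π) (ha : deg a = 1) (x : X) :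
    wz Q (a : Equiv.Perm X) (Quotient.mk (rsetoid T X) x).out = wz Q (a : Equiv.Perm X) x := by
  obtain ⟨r, hr⟩ : (rsetoid T X).r (Quotient.mk (rsetoid T X) x).out x := Quotient.mk_out x
  conv_rhs => rw [hr]
  rw [h.wz_rsmul a ha]

/-- The permutation of the right orbits induced by a member of `Ehat`. -/
def qperm (a : Ehat π) : Quotient (rsetoid T X) ≃ Quotient (rsetoid T X) :=
  Quotient.congr (a : Equiv.Perm X) (fun x y => by
    constructor
    · rintro ⟨r, hr⟩
      exact ⟨r, by rw [hr, rcomm]⟩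
    · rintro ⟨r, hr⟩
      refine ⟨r, (a : Equiv.Perm X).injective ?_⟩
      rw [hr, rcomm])

theorem qperm_mk (a : Ehat π) (x : X) :
    qperm a (Quotient.mk (rsetoid T X) x) = Quotient.mk (rsetoid T X) ((a : Equiv.Perm X) x) :=
  rfl

variable [Finite X]

theorem IsCore.rho_mul (h : IsCore c π) (a b : Ehat π) (ha : deg a = 1) (hb : deg b = 1) :
    rho Q ((a * b : Ehat π) : Equiv.Perm X) =
      rho Q (a : Equiv.Perm X) * rho Q (b : Equiv.Perm X) := by
  unfold rho
  rw [← finprod_mul_distrib (Set.toFinite _) (Set.toFinite _)]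
  exact finprod_congr fun O => h.wz_mul a b ha hb _

theorem IsCore.rho_conj (h : IsCore c π) (e a : Ehat π) (ha : deg a = 1) :
    rho Q ((e * a * e⁻¹ : Ehat π) : Equiv.Perm X) =
      cmap (deg e : MulAut Q) (rho Q (a : Equiv.Perm X)) := by
  unfold rho
  rw [MonoidHom.map_finprod _ (Set.toFinite _),
    ← finprod_comp_equiv (qperm e⁻¹)
      (f := fun O => cmap (deg e : MulAut Q) (wz Q (a : Equiv.Perm X) O.out))]
  refine finprod_congr fun O => ?_
  rw [h.wz_conj e a ha]
  congr 1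
  have h1 : qperm e⁻¹ O = Quotient.mk (rsetoid T X) (((e⁻¹ : Ehat π) : Equiv.Perm X) O.out) := by
    conv_lhs => rw [← Quotient.out_eq O]
    rfl
  rw [h1, h.wz_out a ha]
  rfl

theorem IsCore.rho_jHom (h : IsCore c π) (z : Subgroup.center Q) :
    rho Q ((jHom h ((z : Q) : T) : Ehat π) : Equiv.Perm X) =
      z ^ Nat.card (Quotient (rsetoid T X)) := by
  unfold rho
  haveI := Fintype.ofFinite (Quotient (rsetoid T X))
  rw [finprod_eq_prod_of_fintype]
  simp only [h.wz_jHom]
  rw [Finset.prod_const, Finset.card_univ, Nat.card_eq_fintype_card]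

/-- `rho` as a homomorphism on the kernel of the degree. -/
noncomputable def rhoHom (h : IsCore c π) : (degHom h).ker →* Subgroup.center Q :=
  MonoidHom.mk' (fun a => rho Q ((a : Ehat π) : Equiv.Perm X)) (fun a b =>
    h.rho_mul a b ((degHom h).mem_ker.1 a.2) ((degHom h).mem_ker.1 b.2))

/-- The kernel of `rho`, as a subgroup of `Ehat`. -/
noncomputable def Mp (h : IsCore c π) : Subgroup (Ehat π) :=
  (rhoHom h).ker.map (degHom h).ker.subtype

theorem mem_Mp (h : IsCore c π) {e : Ehat π} :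
    e ∈ Mp h ↔ deg e = 1 ∧ rho Q (e : Equiv.Perm X) = 1 := by
  constructor
  · rintro ⟨a, ha, rfl⟩
    exact ⟨(degHom h).mem_ker.1 a.2, (rhoHom h).mem_ker.1 ha⟩
  · rintro ⟨h1, h2⟩
    exact ⟨⟨e, (degHom h).mem_ker.2 h1⟩, (rhoHom h).mem_ker.2 h2, rfl⟩

instance Mp_normal (h : IsCore c π) : (Mp h).Normal := by
  constructor
  intro e he g
  rw [mem_Mp] at he ⊢
  refine ⟨?_, ?_⟩
  · have : degHom h (g * e * g⁻¹) = 1 := by
      rw [map_mul, map_mul, map_inv, degHom_apply h e, he.1, mul_one, mul_inv_cancel]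
    exact this
  · rw [h.rho_conj g e he.1, he.2, map_one]

theorem IsCore.rho_one (h : IsCore c π) : rho Q ((1 : Ehat π) : Equiv.Perm X) = 1 :=
  map_one (rhoHom h)

theorem IsCore.rho_inv (h : IsCore c π) (a : Ehat π) (ha : deg a = 1) :
    rho Q ((a⁻¹ : Ehat π) : Equiv.Perm X) = (rho Q (a : Equiv.Perm X))⁻¹ :=
  map_inv (rhoHom h) ⟨a, (degHom h).mem_ker.2 ha⟩

variable [Finite T]

theorem IsCore.card_orbits (h : IsCore c π) :
    Nat.card (Quotient (rsetoid T X)) = c.range.index := by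
  have h1 : Nat.card X = Nat.card (Quotient (rsetoid T X)) * Nat.card T :=
    card_eq_of_free_fib (fun (r : T) (x : X) => ((1 : T), r) • x)
      (fun r r' x => by rw [smul_smul, Prod.mk_mul_mk, one_mul]) (Quotient.mk (rsetoid T X))
      Quotient.mk_surjective (fun r x => h.free r x)
      (fun x y => by rw [Quotient.eq]; exact Iff.rfl)
  have h2 : Nat.card X = Nat.card Γ * Nat.card c.ker :=
    card_eq_of_free_fib (fun (z : c.ker) (x : X) => ((1 : T), (z : T)) • x)
      (fun r r' x => by rw [smul_smul, Prod.mk_mul_mk, one_mul]; rfl) π h.surj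
      (fun z x hz => Subtype.ext (h.free _ x hz))
      (fun x y => ⟨fun hxy => by
          obtain ⟨z, hz, hy⟩ := h.fib x y hxy
          exact ⟨⟨z, c.mem_ker.2 hz⟩, hy⟩,
        fun ⟨z, hy⟩ => by
          rw [hy, h.equi, c.mem_ker.1 z.2, map_one, inv_one, mul_one, one_mul]⟩)
  have h3 : Nat.card T = Nat.card c.ker * Nat.card c.range := by
    rw [← Subgroup.index_ker, Subgroup.card_mul_index]
  have h4 : Nat.card Γ = Nat.card c.range * c.range.index := (Subgroup.card_mul_index _).symm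
  have hpos : 0 < Nat.card T := Nat.card_pos
  have h5 : Nat.card (Quotient (rsetoid T X)) * Nat.card T = c.range.index * Nat.card T := by
    rw [← h1, h2, h4, h3]; ring
  exact Nat.eq_of_mul_eq_mul_right hpos h5

end Rho

section Final

variable [Finite T] [Finite X]

theorem exists_core_group (h : IsCore c π) (p : ℕ) [Fact p.Prime] (hT : IsPGroup p T)
    (hidx : ¬ p ∣ c.range.index) :
    ∃ (G : Type w) (_ : Group G) (_ : Finite G) (ι : T →* G) (dg : G →* Γ),
      Function.Injective ι ∧ (∀ s, dg (ι s) = c s) ∧ (∀ g, dg g = 1 → ∃ s, c s = 1 ∧ g = ι s) ∧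
      (∀ (g : G) (q : Q), g * ι q * g⁻¹ = ι (((dg g : Γ) : MulAut Q) q : Q)) ∧
      (∀ (a : Equiv.Perm X), (∀ (r : T) (x : X), a (((1 : T), r) • x) = ((1 : T), r) • a x) →
        ∀ (P₁ : Subgroup T) (ψ : P₁ →* T), Q ≤ P₁ → (∀ u : P₁, (u : T) ∈ Q → ψ u ∈ Q) →
          (∀ (u : P₁) (x : X), a (((u : T), (1 : T)) • x) = (ψ u, (1 : T)) • a x) →
            ∃ g : G, ∀ u : P₁, g * ι u * g⁻¹ = ι (ψ u)) := by
  have hZp : IsPGroup p (Subgroup.center Q) :=
    hT.of_injective ((Q.subtype).comp (Subgroup.center Q).subtype)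
      (Q.subtype_injective.comp (Subgroup.center Q).subtype_injective)
  have hcop : p.Coprime (Nat.card (Quotient (rsetoid T X))) := by
    rw [h.card_orbits]
    exact (Nat.Prime.coprime_iff_not_dvd Fact.out).2 hidx
  set m := Nat.card (Quotient (rsetoid T X)) with hm
  let ι : T →* Ehat π ⧸ Mp h := (QuotientGroup.mk' (Mp h)).comp (jHom h)
  have hle : Mp h ≤ (degHom h).ker := fun e he => (degHom h).mem_ker.2 ((mem_Mp h).1 he).1
  let dg : Ehat π ⧸ Mp h →* Γ := QuotientGroup.lift (Mp h) (degHom h) hle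
  have hdg : ∀ e : Ehat π, dg (QuotientGroup.mk' (Mp h) e) = deg e := fun e => rfl
  have hι : ∀ s : T, ι s = QuotientGroup.mk' (Mp h) (jHom h s) := fun s => rfl
  refine ⟨Ehat π ⧸ Mp h, inferInstance, inferInstance, ι, dg, ?_, ?_, ?_, ?_, ?_⟩
  · -- injectivity
    rw [injective_iff_map_eq_one]
    intro s hs
    rw [hι, QuotientGroup.mk'_apply, QuotientGroup.eq_one_iff, mem_Mp, deg_jHom] at hs
    obtain ⟨z, rfl⟩ := h.ker s hs.1
    have h1 := hs.2
    rw [h.rho_jHom] at h1
    have h2 : hZp.powEquiv hcop z = hZp.powEquiv hcop 1 := by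
      rw [IsPGroup.powEquiv_apply, IsPGroup.powEquiv_apply, h1, one_pow]
    rw [(hZp.powEquiv hcop).injective h2]
    rfl
  · intro s
    rw [hι, hdg, deg_jHom]
  · intro g hg
    obtain ⟨e, rfl⟩ := QuotientGroup.mk'_surjective (Mp h) g
    rw [hdg] at hg
    obtain ⟨z, hz⟩ := (hZp.powEquiv hcop).surjective (rho Q (e : Equiv.Perm X))
    rw [IsPGroup.powEquiv_apply] at hz
    refine ⟨((z : Q) : T), h.c_center z, ?_⟩
    rw [hι, QuotientGroup.mk'_apply, QuotientGroup.mk'_apply, QuotientGroup.eq, mem_Mp]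
    have hj : deg (jHom h ((z : Q) : T)) = 1 := by rw [deg_jHom, h.c_center]
    have he' : deg e⁻¹ = 1 := by
      have : degHom h e⁻¹ = 1 := by rw [map_inv, degHom_apply, hg, inv_one]
      exact this
    refine ⟨?_, ?_⟩
    · have : degHom h (e⁻¹ * jHom h ((z : Q) : T)) = 1 := by
        rw [map_mul, degHom_apply, degHom_apply, he', hj, one_mul]
      exact this
    · rw [h.rho_mul _ _ he' hj, h.rho_inv e hg, h.rho_jHom, hz, inv_mul_cancel]
  · intro g q
    obtain ⟨e, rfl⟩ := QuotientGroup.mk'_surjective (Mp h) g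
    rw [hdg, hι, hι, ← map_inv, ← map_mul, ← map_mul]
    congr 1
    apply Subtype.ext
    ext x
    rw [Subgroup.coe_mul, Subgroup.coe_mul, Equiv.Perm.mul_apply, Equiv.Perm.mul_apply,
      jHom_apply, jHom_apply, h.smul_left, Subgroup.coe_inv, perm_apply_inv]
  · intro a ha P₁ ψ hQP hψQ hint
    obtain ⟨x₀⟩ := h.nonempty
    have key : ∀ (x : X) (q : Q), (((π (a x) * (π x)⁻¹ : Γ) : MulAut Q) q : T) =
        ψ ⟨(q : T), hQP q.2⟩ := by
      intro x q
      have h1 : a (((q : T), (1 : T)) • x) = (ψ ⟨(q : T), hQP q.2⟩, (1 : T)) • a x :=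
        hint ⟨(q : T), hQP q.2⟩ x
      have hq' : ψ ⟨(q : T), hQP q.2⟩ ∈ Q := hψQ _ q.2
      have h2 : (ψ ⟨(q : T), hQP q.2⟩, (1 : T)) • a x = _ := h.twist ⟨_, hq'⟩ (a x)
      rw [h.twist, ha] at h1
      rw [← h1] at h2
      have h3 := h.rcancel h2
      rw [inv_inj] at h3
      have h4 : (((π x)⁻¹ : Γ) : MulAut Q) q =
          (((π (a x))⁻¹ : Γ) : MulAut Q) ⟨ψ ⟨(q : T), hQP q.2⟩, hq'⟩ := Subtype.ext h3
      rw [Subgroup.coe_mul, MulAut.mul_apply, h4]
      have : ((π (a x) : Γ) : MulAut Q) ((((π (a x))⁻¹ : Γ) : MulAut Q)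
          ⟨ψ ⟨(q : T), hQP q.2⟩, hq'⟩) = ⟨ψ ⟨(q : T), hQP q.2⟩, hq'⟩ :=
        MulAut.apply_inv_self _ _ _
      rw [this]
    have hdeg : ∀ x, π (a x) = (π (a x₀) * (π x₀)⁻¹) * π x := by
      intro x
      have : π (a x) * (π x)⁻¹ = π (a x₀) * (π x₀)⁻¹ := by
        apply Subtype.ext
        ext q
        rw [key x q, key x₀ q]
      rw [← this, inv_mul_cancel_right]
    let e : Ehat π := ⟨a, ha, _, hdeg⟩
    refine ⟨QuotientGroup.mk' (Mp h) e, fun u => ?_⟩
    rw [hι, hι, ← map_inv, ← map_mul, ← map_mul]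
    congr 1
    apply Subtype.ext
    ext x
    rw [Subgroup.coe_mul, Subgroup.coe_mul, Equiv.Perm.mul_apply, Equiv.Perm.mul_apply,
      jHom_apply, jHom_apply, Subgroup.coe_inv]
    show a (((u : T), (1 : T)) • a⁻¹ x) = (ψ u, (1 : T)) • x
    rw [hint, perm_apply_inv]

end Final

end Cfsg.Agent.Helper3.Model
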