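import Mathlib
import Cfsg.Prelude.Def_FusionSystem
import Cfsg.Agent.Lib.Helper25.Fusion
import Cfsg.Agent.Lib.Helper25.FusionAut
import Cfsg.Agent.Lib.Helper25.FusionCentric
import Cfsg.Agent.Lib.Helper25.FusionNormal2
import Cfsg.Agent.Lib.Helper25.FusionSat3
import Cfsg.Agent.Lib.Helper3.BisetTwisted
import Cfsg.Agent.Lib.Helper3.ModelCore

/-!
# Fusion-theoretic input for the model theorem

`F` is a saturated fusion system on the top subgroup of a finite `p`-group `T`, and `Q` is a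
subgroup which is normal and centric in `F`.
-/

set_option autoImplicit false
set_option linter.style.haveILetI false
set_option linter.unusedSectionVars false

namespace Cfsg.Agent.Helper3.Model

open Cfsg Cfsg.FusionSystem Cfsg.Agent.Helper25 Cfsg.Agent.Helper3.Biset

universe u

variable {T : Type u} [Group T] {F : FusionSystem (⊤ : Subgroup T)} {Q : Subgroup T}

theorem normal_of_isNormal (hQ : F.IsNormal Q) : Q.Normal := by
  have hsc := stronglyClosed_of_isNormal F hQ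
  refine ⟨fun n hn g => ?_⟩
  have h1 : conjHom Q g ∈ F.Hom Q := F.conj_mem le_top (Subgroup.mem_top g)
  exact hsc.2 Q le_rfl _ h1 ⟨n, hn⟩

/-- Conjugation, as a homomorphism into `Aut_F(Q)`. -/
def cHom (F : FusionSystem (⊤ : Subgroup T)) (Q : Subgroup T) [Q.Normal] : T →* F.autGroup Q :=
  (MulAut.conjNormal (H := Q)).codRestrict (F.autGroup Q) (fun s => by
    rw [mem_autGroup_iff F le_top]
    have : Q.subtype.comp (MulAut.conjNormal s : MulAut Q).toMonoidHom = conjHom Q s := by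
      ext x; rfl
    rw [this]
    exact F.conj_mem le_top (Subgroup.mem_top s))

theorem cHom_apply [Q.Normal] (s : T) (q : Q) :
    (((cHom F Q s : F.autGroup Q) : MulAut Q) q : T) = s * q * s⁻¹ := rfl

/-- An element of `Aut_F(Q)` as a map of the system. -/
theorem aut_mem (γ : F.autGroup Q) : Q.subtype.comp (γ : MulAut Q).toMonoidHom ∈ F.Hom Q :=
  (mem_autGroup_iff F le_top _).1 γ.2

/-- `φ` is a map of the system defined on `L ≥ Q` which restricts to `γ` on `Q`. -/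
def IsExt (F : FusionSystem (⊤ : Subgroup T)) (Q : Subgroup T) (L : Subgroup T) (φ : L →* T)
    (γ : F.autGroup Q) : Prop :=
  φ ∈ F.Hom L ∧ ∃ hQL : Q ≤ L, ∀ q : Q, φ ⟨q, hQL q.2⟩ = ((γ : MulAut Q) q : T)

theorem IsExt.conj_eq [Q.Normal] {L : Subgroup T} {φ : L →* T} {γ : F.autGroup Q}
    (h : IsExt F Q L φ γ) (s : L) : cHom F Q (φ s) = γ * cHom F Q s * γ⁻¹ := by
  obtain ⟨hφ, hQL, hγ⟩ := h
  apply Subtype.ext
  ext q
  rw [cHom_apply, Subgroup.coe_mul, Subgroup.coe_mul, MulAut.mul_apply, MulAut.mul_apply, ← hγ]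
  set q' : Q := ((γ⁻¹ : F.autGroup Q) : MulAut Q) q with hq'
  have h1 : (((cHom F Q s : F.autGroup Q) : MulAut Q) q' : T) = s * q' * (s : T)⁻¹ := rfl
  have h2 : (⟨((((cHom F Q s : F.autGroup Q) : MulAut Q) q' : Q) : T), hQL (Subtype.prop _)⟩ : L) =
      s * ⟨q', hQL q'.2⟩ * s⁻¹ := Subtype.ext h1
  rw [h2, map_mul, map_mul, map_inv, hγ q']
  have h3 : ((γ : F.autGroup Q) : MulAut Q) q' = q := MulAut.apply_inv_self _ _ _
  rw [h3]

theorem cHom_ker [Q.Normal] (hQc : F.IsCentric Q) (s : T) (hs : cHom F Q s = 1) :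
    ∃ z : Subgroup.center Q, ((z : Q) : T) = s := by
  have h1 : ∀ q : Q, s * q * s⁻¹ = q := by
    intro q
    rw [← cHom_apply (F := F), hs]
    rfl
  have h2 : s ∈ centralizerIn (⊤ : Subgroup T) Q := by
    rw [mem_centralizerIn]
    refine ⟨Subgroup.mem_top s, fun x hx => ?_⟩
    have := h1 ⟨x, hx⟩
    rw [mul_inv_eq_iff_eq_mul] at this
    exact this.symm
  have h3 : s ∈ Q := hQc.2 Q (isConj_refl F le_top) h2
  refine ⟨⟨⟨s, h3⟩, ?_⟩, rfl⟩
  rw [Subgroup.mem_center_iff]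
  intro q
  apply Subtype.ext
  have := h1 q
  rw [mul_inv_eq_iff_eq_mul] at this
  exact this.symm

section Finite

variable [Finite T] {p : ℕ} [Fact p.Prime]

theorem eq_of_isConj (hQ : F.IsNormal Q) {R : Subgroup T} (h : F.IsConj Q R) : R = Q := by
  obtain ⟨φ, hφ, rfl⟩ := h
  have hsc := stronglyClosed_of_isNormal F hQ
  have hle : φ.range ≤ Q := by
    rintro _ ⟨x, rfl⟩
    exact hsc.2 Q le_rfl φ hφ x
  refine Subgroup.eq_of_le_of_card_ge hle ?_
  rw [Nat.card_congr (MonoidHom.ofInjective (F.injective_of_mem hφ)).toEquiv]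

theorem isFullyNormalized_of_isNormal (hQ : F.IsNormal Q) : F.IsFullyNormalized Q :=
  ⟨le_top, fun R hR => by rw [eq_of_isConj hQ hR]⟩

theorem isPGroup_top (hT : IsPGroup p T) : IsPGroup p (⊤ : Subgroup T) := hT.to_subgroup ⊤

theorem exists_isExt [Q.Normal] (hT : IsPGroup p T) (hF : F.IsSaturated p) (hQ : F.IsNormal Q)
    (γ : F.autGroup Q) :
    ∃ (L : Subgroup T) (φ : L →* T), IsExt F Q L φ γ ∧
      ∀ s r : T, γ * cHom F Q s * γ⁻¹ = cHom F Q r → s ∈ L := by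
  obtain ⟨-, -, hrec⟩ := of_fullyNormalized p (isPGroup_top hT) F hF
    (isFullyNormalized_of_isNormal hQ)
  set φ₀ : Q →* T := Q.subtype.comp (γ : MulAut Q).toMonoidHom with hφ₀
  have hφ₀F : φ₀ ∈ F.Hom Q := aut_mem γ
  have hrange : φ₀.range = Q := by
    ext y
    constructor
    · rintro ⟨x, rfl⟩
      exact Subtype.prop _
    · intro hy
      refine ⟨((γ⁻¹ : F.autGroup Q) : MulAut Q) ⟨y, hy⟩, ?_⟩
      show ((((γ : F.autGroup Q) : MulAut Q) (((γ⁻¹ : F.autGroup Q) : MulAut Q) ⟨y, hy⟩) : Q) : T) = y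
      rw [show ((γ : F.autGroup Q) : MulAut Q) (((γ⁻¹ : F.autGroup Q) : MulAut Q) ⟨y, hy⟩) = ⟨y, hy⟩
        from MulAut.apply_inv_self _ _ _]
  obtain ⟨ψ, hψ, hext⟩ := hrec.2 Q φ₀ hφ₀F hrange
  have hmem : ∀ s r : T, γ * cHom F Q s * γ⁻¹ = cHom F Q r → s ∈ extender ⊤ Q φ₀ := by
    intro s r hsr
    rw [mem_extender_iff]
    refine ⟨Subgroup.mem_top s, ?_, r, Subgroup.mem_top r, fun x hx => ?_⟩
    · rw [Subgroup.normalizer_eq_top]; exact Subgroup.mem_top s
    · have h1 : (⟨s * x * s⁻¹, hx⟩ : Q) = ((cHom F Q s : F.autGroup Q) : MulAut Q) x :=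
        Subtype.ext rfl
      have h2 : cHom F Q r * γ = γ * cHom F Q s := by
        rw [← hsr, inv_mul_cancel_right]
      show ((((γ : F.autGroup Q) : MulAut Q) ⟨s * x * s⁻¹, hx⟩ : Q) : T) =
        r * (((γ : F.autGroup Q) : MulAut Q) x : Q) * r⁻¹
      rw [h1, ← MulAut.mul_apply, ← Subgroup.coe_mul, ← h2, Subgroup.coe_mul, MulAut.mul_apply,
        cHom_apply]
  have hQL : Q ≤ extender ⊤ Q φ₀ := by
    intro q hq
    refine hmem q (((γ : F.autGroup Q) : MulAut Q) ⟨q, hq⟩ : Q) ?_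
    apply Subtype.ext
    ext x
    rw [cHom_apply, Subgroup.coe_mul, Subgroup.coe_mul, MulAut.mul_apply, MulAut.mul_apply]
    set x' : Q := ((γ⁻¹ : F.autGroup Q) : MulAut Q) x with hx'
    have h1 : ((cHom F Q q : F.autGroup Q) : MulAut Q) x' = ⟨q, hq⟩ * x' * ⟨q, hq⟩⁻¹ :=
      Subtype.ext rfl
    rw [h1, map_mul, map_mul, map_inv]
    have h3 : ((γ : F.autGroup Q) : MulAut Q) x' = x := MulAut.apply_inv_self _ _ _
    rw [h3]
    rfl
  refine ⟨extender ⊤ Q φ₀, ψ, ⟨hψ, hQL, fun q => ?_⟩, hmem⟩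
  exact hext q q.2 (hQL q.2)

theorem not_dvd_index_cHom [Q.Normal] (hT : IsPGroup p T) (hF : F.IsSaturated p)
    (hQ : F.IsNormal Q) : ¬ p ∣ (cHom F Q).range.index := by
  obtain ⟨-, ⟨-, R, hR⟩, -⟩ := of_fullyNormalized p (isPGroup_top hT) F hF
    (isFullyNormalized_of_isNormal hQ)
  have heq : (cHom F Q).range = (R : Subgroup (F.autGroup Q)) := by
    rw [hR]
    ext γ
    rw [Subgroup.mem_subgroupOf, mem_autInducedBy_iff]
    constructor
    · rintro ⟨s, rfl⟩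
      exact ⟨s, Subgroup.mem_top s, fun x => rfl⟩
    · rintro ⟨g, -, hg⟩
      refine ⟨g, ?_⟩
      apply Subtype.ext
      ext x
      rw [hg x]
      rfl
  haveI : Finite (MulAut Q) := inferInstance
  rw [heq]
  exact R.not_dvd_index

theorem exists_conj_of_agree (hT : IsPGroup p T) (hF : F.IsSaturated p) (hQn : F.IsNormal Q)
    (hQc : F.IsCentric Q) {P : Subgroup T} (hQP : Q ≤ P) {α β : P →* T} (hα : α ∈ F.Hom P)
    (hβ : β ∈ F.Hom P) (hag : ∀ q : P, (q : T) ∈ Q → α q = β q) :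
    ∃ z : T, z ∈ Q ∧ z ∈ Subgroup.centralizer (Q : Set T) ∧ ∀ u : P, β u = z * α u * z⁻¹ := by
  haveI := normal_of_isNormal hQn
  have hsc := stronglyClosed_of_isNormal F hQn
  -- `α` maps `Q` onto `Q`
  have hsurj : ∀ q : T, q ∈ Q → ∃ q₁ : P, (q₁ : T) ∈ Q ∧ α q₁ = q := by
    intro q hq
    have h1 := restrict_mem F hQP hα
    have h2 : (α.comp (Subgroup.inclusion hQP)).range = Q := eq_of_isConj hQn ⟨_, h1, rfl⟩
    rw [← h2] at hq
    obtain ⟨q₁, rfl⟩ := hq
    exact ⟨Subgroup.inclusion hQP q₁, q₁.2, rfl⟩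
  -- `α(x)⁻¹ β(x)` lies in `Q`
  have hw : ∀ x : P, (α x)⁻¹ * β x ∈ Q := by
    intro x
    apply hQc.2 Q (isConj_refl F le_top)
    rw [mem_centralizerIn]
    refine ⟨Subgroup.mem_top _, fun q hq => ?_⟩
    obtain ⟨q₁, hq₁, rfl⟩ := hsurj q hq
    have h1 : ((x * q₁ * x⁻¹ : P) : T) ∈ Q := by
      have := (normal_of_isNormal hQn).conj_mem _ hq₁ (x : T)
      exact this
    have h2 := hag _ h1
    rw [map_mul, map_mul, map_inv, map_mul, map_mul, map_inv, ← hag q₁ hq₁] at h2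
    have h3 : α q₁ * ((α x)⁻¹ * β x) = (α x)⁻¹ * (α x * α q₁ * (α x)⁻¹) * β x := by group
    rw [h3, h2]
    group
  obtain ⟨α', hα', hinv, hrange⟩ := exists_inv F hα (Q := α.range) rfl
  have hα'P : ∀ y : α.range, α' y ∈ P := by
    intro y
    exact hrange.le ⟨y, rfl⟩
  set θ : α.range →* T := β.comp (α'.codRestrict P hα'P) with hθ
  have hθF : θ ∈ F.Hom α.range := F.comp_mem hα' hβ hα'P
  have hθα : ∀ x : P, θ ⟨α x, x, rfl⟩ = β x := by
    intro x
    show β ⟨α' ⟨α x, x, rfl⟩, _⟩ = β x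
    congr 1
    exact Subtype.ext (hinv x ⟨x, rfl⟩)
  have hQR : Q ≤ α.range := by
    intro q hq
    obtain ⟨q₁, -, rfl⟩ := hsurj q hq
    exact ⟨q₁, rfl⟩
  have hmod : ∀ y : α.range, (y : T)⁻¹ * θ y ∈ Q := by
    rintro ⟨_, x, rfl⟩
    rw [hθα]
    exact hw x
  have hθR : ∀ y : α.range, θ y ∈ α.range := by
    intro y
    have : θ y = (y : T) * ((y : T)⁻¹ * θ y) := by group
    rw [this]
    exact Subgroup.mul_mem _ y.2 (hQR (hmod y))
  have hθinj : Function.Injective (θ.codRestrict α.range hθR) := by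
    intro a b hab
    apply F.injective_of_mem hθF
    exact congrArg Subtype.val hab
  have hθbij : Function.Bijective (θ.codRestrict α.range hθR) :=
    ⟨hθinj, Finite.surjective_of_injective hθinj⟩
  set θ' : MulAut α.range := MulEquiv.ofBijective (θ.codRestrict α.range hθR) hθbij with hθ'
  have hθ'F : θ' ∈ F.autGroup α.range := by
    rw [mem_autGroup_iff F le_top]
    have : α.range.subtype.comp θ'.toMonoidHom = θ := by ext y; rfl
    rw [this]
    exact hθF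
  have hfix : ∀ y : α.range, (y : T) ∈ Q → θ' y = y := by
    intro y hy
    obtain ⟨q₁, hq₁, hq⟩ := hsurj y hy
    apply Subtype.ext
    show θ y = y
    have : y = ⟨α q₁, q₁, rfl⟩ := Subtype.ext hq.symm
    rw [this, hθα, ← hag q₁ hq₁]
  have hmod' : ∀ y : α.range, ((y⁻¹ * θ' y : α.range) : T) ∈ Q := fun y => hmod y
  obtain ⟨z, hzQ, hzc, hz⟩ := exists_conj_of_fixes_centric p (isPGroup_top hT) F hF le_top hQR hQc
    hθ'F hfix hmod'
  refine ⟨z, hzQ, hzc, fun u => ?_⟩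
  have := congrArg Subtype.val (hz ⟨α u, u, rfl⟩)
  rw [← hθα u]
  exact this

end Finite

end Cfsg.Agent.Helper3.Model
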