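import Mathlib
import Cfsg.Agent.Lib.Helper3.ModelFusion

/-!
# The biset underlying the model of a constrained fusion system
-/

set_option autoImplicit false
set_option linter.style.haveILetI false
set_option linter.unusedSectionVars false

namespace Cfsg.Agent.Helper3.Model

open Cfsg Cfsg.FusionSystem Cfsg.Agent.Helper25 Cfsg.Agent.Helper3.Biset MulAction

universe u

variable {T : Type u} [Group T] [Finite T] {p : ℕ} [Fact p.Prime]
  {F : FusionSystem (⊤ : Subgroup T)} {Q : Subgroup T} [Q.Normal]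

/-- The standing hypotheses. -/
structure Hyp (p : ℕ) (F : FusionSystem (⊤ : Subgroup T)) (Q : Subgroup T) : Prop where
  hT : IsPGroup p T
  hF : F.IsSaturated p
  hQn : F.IsNormal Q
  hQc : F.IsCentric Q

/-- The source of the chosen extension of `γ`. -/
noncomputable def extL (H : Hyp p F Q) (γ : F.autGroup Q) : Subgroup T :=
  (exists_isExt H.hT H.hF H.hQn γ).choose

/-- The chosen extension of `γ`. -/
noncomputable def extφ (H : Hyp p F Q) (γ : F.autGroup Q) : extL H γ →* T :=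
  (exists_isExt H.hT H.hF H.hQn γ).choose_spec.choose

theorem isExt_ext (H : Hyp p F Q) (γ : F.autGroup Q) : IsExt F Q (extL H γ) (extφ H γ) γ :=
  (exists_isExt H.hT H.hF H.hQn γ).choose_spec.choose_spec.1

theorem mem_extL (H : Hyp p F Q) (γ : F.autGroup Q) {s r : T}
    (h : γ * cHom F Q s * γ⁻¹ = cHom F Q r) : s ∈ extL H γ :=
  (exists_isExt H.hT H.hF H.hQn γ).choose_spec.choose_spec.2 s r h

variable (F Q) in
/-- The double cosets of the image of `T` in `Aut_F(Q)`. -/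
abbrev DC : Type u :=
  DoubleCoset.Quotient ((cHom F Q).range : Set (F.autGroup Q)) ((cHom F Q).range : Set (F.autGroup Q))

/-- The chosen representative of a double coset. -/
noncomputable def rep (d : DC F Q) : F.autGroup Q := Quotient.out d

theorem mk_rep (d : DC F Q) : DoubleCoset.mk (cHom F Q).range (cHom F Q).range (rep d) = d :=
  DoubleCoset.out_eq' _ _ d

/-- The biset. -/
noncomputable abbrev XSet (H : Hyp p F Q) : Type u :=
  Σ d : DC F Q, (T × T) ⧸ graph (extL H (rep d)⁻¹) (extφ H (rep d)⁻¹)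

instance finite_DC : Finite (DC F Q) :=
  Quotient.finite _

example (H : Hyp p F Q) : Finite (XSet H) := inferInstance

/-- A pair in the graph of an extension of `γ` intertwines `γ`. -/
theorem conj_of_mem_graph {L : Subgroup T} {φ : L →* T} {γ : F.autGroup Q} (h : IsExt F Q L φ γ)
    {g : T × T} (hg : g ∈ graph L φ) : cHom F Q g.2 = γ * cHom F Q g.1 * γ⁻¹ := by
  obtain ⟨hL, hφ⟩ := mem_graph.1 hg
  rw [← hφ]
  exact h.conj_eq ⟨g.1, hL⟩

/-- The map to `Aut_F(Q)`. -/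
noncomputable def piX (H : Hyp p F Q) (x : XSet H) : F.autGroup Q :=
  Quotient.liftOn' x.2 (fun ab => cHom F Q ab.1 * rep x.1 * (cHom F Q ab.2)⁻¹) (by
    intro ab ab' hr
    rw [QuotientGroup.leftRel_apply] at hr
    have h1 := conj_of_mem_graph (isExt_ext H (rep x.1)⁻¹) hr
    rw [Prod.snd_mul, Prod.fst_mul, Prod.snd_inv, Prod.fst_inv, map_mul, map_mul, map_inv,
      map_inv] at h1
    show cHom F Q ab.1 * rep x.1 * (cHom F Q ab.2)⁻¹ = cHom F Q ab'.1 * rep x.1 * (cHom F Q ab'.2)⁻¹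
    have h2 : cHom F Q ab'.2 = cHom F Q ab.2 *
        ((rep x.1)⁻¹ * ((cHom F Q ab.1)⁻¹ * cHom F Q ab'.1) * (rep x.1)⁻¹⁻¹) := by
      rw [← h1, mul_inv_cancel_left]
    rw [h2]
    group)

theorem piX_mk (H : Hyp p F Q) (d : DC F Q) (ab : T × T) :
    piX H ⟨d, (ab : (T × T) ⧸ graph (extL H (rep d)⁻¹) (extφ H (rep d)⁻¹))⟩ =
      cHom F Q ab.1 * rep d * (cHom F Q ab.2)⁻¹ := rfl

theorem smul_mk (H : Hyp p F Q) (g : T × T) (d : DC F Q) (ab : T × T) :
    g • (⟨d, (ab : (T × T) ⧸ graph (extL H (rep d)⁻¹) (extφ H (rep d)⁻¹))⟩ : XSet H) =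
      ⟨d, ((g * ab : T × T) : (T × T) ⧸ graph (extL H (rep d)⁻¹) (extφ H (rep d)⁻¹))⟩ := rfl

theorem mk_eq_mk_iff (H : Hyp p F Q) (d : DC F Q) (ab ab' : T × T) :
    (⟨d, (ab : (T × T) ⧸ graph (extL H (rep d)⁻¹) (extφ H (rep d)⁻¹))⟩ : XSet H) =
      ⟨d, (ab' : (T × T) ⧸ graph (extL H (rep d)⁻¹) (extφ H (rep d)⁻¹))⟩ ↔
      ab⁻¹ * ab' ∈ graph (extL H (rep d)⁻¹) (extφ H (rep d)⁻¹) := by
  rw [← QuotientGroup.eq]
  exact ⟨fun h => sigma_mk_injective
    (β := fun d : DC F Q => (T × T) ⧸ graph (extL H (rep d)⁻¹) (extφ H (rep d)⁻¹)) h,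
    fun h => by rw [h]⟩

@[elab_as_elim]
theorem XSet.ind (H : Hyp p F Q) {C : XSet H → Prop}
    (h : ∀ (d : DC F Q) (ab : T × T),
      C ⟨d, (ab : (T × T) ⧸ graph (extL H (rep d)⁻¹) (extφ H (rep d)⁻¹))⟩) (x : XSet H) : C x := by
  obtain ⟨d, y⟩ := x
  induction y using QuotientGroup.induction_on with
  | _ ab => exact h d ab

@[elab_as_elim]
theorem XSet.ind' (H : Hyp p F Q) {C : XSet H → Prop}
    (h : ∀ (d : DC F Q) (a b : T),
      C ⟨d, (((a, b) : T × T) : (T × T) ⧸ graph (extL H (rep d)⁻¹) (extφ H (rep d)⁻¹))⟩)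
    (x : XSet H) : C x :=
  XSet.ind H (fun d ab => h d ab.1 ab.2) x

theorem mem_graph_mk {L : Subgroup T} {φ : L →* T} {a b : T} :
    (a, b) ∈ graph L φ ↔ ∃ h : a ∈ L, φ ⟨a, h⟩ = b := mem_graph

theorem isCore_XSet (H : Hyp p F Q) : IsCore (cHom F Q) (piX H) where
  conj := fun s q => cHom_apply s q
  ker := cHom_ker H.hQc
  equi := by
    intro s r x
    refine XSet.ind' H (fun d a b => ?_) x
    rw [smul_mk, Prod.mk_mul_mk, piX_mk, piX_mk]
    show cHom F Q (s * a) * rep d * (cHom F Q (r * b))⁻¹ =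
      cHom F Q s * (cHom F Q a * rep d * (cHom F Q b)⁻¹) * (cHom F Q r)⁻¹
    rw [map_mul, map_mul]
    group
  surj := by
    intro γ
    obtain ⟨h, k, ⟨a', ha'⟩, ⟨b', hb'⟩, hout⟩ :=
      DoubleCoset.mk_out_eq_mul (cHom F Q).range (cHom F Q).range γ
    refine ⟨⟨DoubleCoset.mk (cHom F Q).range (cHom F Q).range γ, (((a'⁻¹, b') : T × T) :
      (T × T) ⧸ graph (extL H (rep _)⁻¹) (extφ H (rep _)⁻¹))⟩, ?_⟩
    rw [piX_mk]
    show cHom F Q a'⁻¹ * rep _ * (cHom F Q b')⁻¹ = γ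
    have : rep (DoubleCoset.mk (cHom F Q).range (cHom F Q).range γ) = h * γ * k := hout
    rw [this, ← ha', ← hb', map_inv]
    group
  free := by
    intro r x
    refine XSet.ind' H (fun d a b => ?_) x
    intro hx
    rw [smul_mk, mk_eq_mk_iff, Prod.mk_mul_mk, Prod.inv_mk, Prod.mk_mul_mk, mem_graph_mk] at hx
    obtain ⟨hL, hφ⟩ := hx
    have h1 : (⟨_, hL⟩ : extL H (rep d)⁻¹) = 1 := Subtype.ext (show (1 * a)⁻¹ * a = 1 by group)
    rw [h1, map_one] at hφ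
    have hφ' : 1 = (r * b)⁻¹ * b := hφ
    have h2 : r * b = b := by
      rw [← inv_mul_eq_one]; exact hφ'.symm
    exact mul_eq_right.1 h2
  fib := by
    intro x y
    refine XSet.ind' H (fun d a b => ?_) x
    refine XSet.ind' H (fun d' a' b' => ?_) y
    intro hxy
    rw [piX_mk, piX_mk] at hxy
    have hd : d = d' := by
      rw [← mk_rep d, ← mk_rep d', DoubleCoset.eq]
      refine ⟨cHom F Q (a'⁻¹ * a), ⟨_, rfl⟩, cHom F Q (b⁻¹ * b'), ⟨_, rfl⟩, ?_⟩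
      rw [map_mul, map_mul, map_inv, map_inv]
      have : rep d' = (cHom F Q a')⁻¹ * (cHom F Q a' * rep d' * (cHom F Q b')⁻¹) * cHom F Q b' := by
        group
      rw [this, ← hxy]
      group
    subst hd
    have hconj : (rep d)⁻¹ * cHom F Q (a'⁻¹ * a) * (rep d)⁻¹⁻¹ = cHom F Q (b'⁻¹ * b) := by
      rw [map_mul, map_mul, map_inv, map_inv]
      have h1 : cHom F Q a * rep d = cHom F Q a' * rep d * (cHom F Q b')⁻¹ * cHom F Q b := by
        rw [← hxy]; group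
      have h2 : (rep d)⁻¹ * ((cHom F Q a')⁻¹ * cHom F Q a) * (rep d)⁻¹⁻¹ =
          (rep d)⁻¹ * (cHom F Q a')⁻¹ * (cHom F Q a * rep d) := by group
      rw [h2, h1]
      group
    have hs : a'⁻¹ * a ∈ extL H (rep d)⁻¹ := mem_extL H _ hconj
    have hc := (isExt_ext H (rep d)⁻¹).conj_eq ⟨a'⁻¹ * a, hs⟩
    rw [hconj] at hc
    refine ⟨b' * extφ H (rep d)⁻¹ ⟨a'⁻¹ * a, hs⟩ * b⁻¹, ?_, ?_⟩
    · rw [map_mul, map_mul, hc, map_mul, map_inv, map_inv]
      group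
    · rw [smul_mk, Prod.mk_mul_mk, mk_eq_mk_iff, Prod.inv_mk, Prod.mk_mul_mk, mem_graph_mk]
      have hs' : a'⁻¹ * (1 * a) ∈ extL H (rep d)⁻¹ := by rw [one_mul]; exact hs
      refine ⟨hs', ?_⟩
      have : (⟨a'⁻¹ * (1 * a), hs'⟩ : extL H (rep d)⁻¹) = ⟨a'⁻¹ * a, hs⟩ := Subtype.ext (by group)
      rw [this]
      group
  twist := by
    intro q x
    refine XSet.ind' H (fun d a b => ?_) x
    rw [smul_mk, smul_mk, Prod.mk_mul_mk, Prod.mk_mul_mk, mk_eq_mk_iff, Prod.inv_mk,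
      Prod.mk_mul_mk, mem_graph_mk, piX_mk]
    obtain ⟨hφ, hQL, hγ⟩ := isExt_ext H (rep d)⁻¹
    have hq1 : a⁻¹ * (q : T)⁻¹ * a ∈ Q := by
      have := (inferInstance : Q.Normal).conj_mem _ (Q.inv_mem q.2) a⁻¹
      rwa [inv_inv] at this
    have hmem : ((q : T) * a)⁻¹ * (1 * a) ∈ extL H (rep d)⁻¹ := by
      have : ((q : T) * a)⁻¹ * (1 * a) = a⁻¹ * (q : T)⁻¹ * a := by group
      rw [this]
      exact hQL hq1
    refine ⟨hmem, ?_⟩
    have h1 : (⟨((q : T) * a)⁻¹ * (1 * a), hmem⟩ : extL H (rep d)⁻¹) =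
        ⟨((⟨a⁻¹ * (q : T)⁻¹ * a, hq1⟩ : Q) : T), hQL hq1⟩ := Subtype.ext (by group)
    rw [h1, hγ]
    -- compute the right-hand side
    have h2 : (cHom F Q a * rep d * (cHom F Q b)⁻¹)⁻¹ =
        cHom F Q b * ((rep d)⁻¹ * cHom F Q a⁻¹) := by
      rw [map_inv]; group
    rw [h2, Subgroup.coe_mul, Subgroup.coe_mul, MulAut.mul_apply, MulAut.mul_apply, cHom_apply]
    have h3 : ((cHom F Q a⁻¹ : F.autGroup Q) : MulAut Q) q = (⟨a⁻¹ * (q : T)⁻¹ * a, hq1⟩ : Q)⁻¹ := by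
      apply Subtype.ext
      rw [cHom_apply]
      show a⁻¹ * (q : T) * a⁻¹⁻¹ = (a⁻¹ * (q : T)⁻¹ * a)⁻¹
      group
    rw [h3, map_inv]
    simp only [Subgroup.coe_inv]
    group

theorem stabilizer_mem_TD (H : Hyp p F Q) (x : XSet H) : stabilizer (T × T) x ∈ TD F := by
  refine XSet.ind H (fun d ab => ?_) x
  have h1 : stabilizer (T × T)
      (⟨d, (ab : (T × T) ⧸ graph (extL H (rep d)⁻¹) (extφ H (rep d)⁻¹))⟩ : XSet H) =
      stabilizer (T × T) (ab : (T × T) ⧸ graph (extL H (rep d)⁻¹) (extφ H (rep d)⁻¹)) := by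
    ext g
    rw [mem_stabilizer_iff, mem_stabilizer_iff, Sigma.smul_mk]
    exact ⟨fun h => sigma_mk_injective
      (β := fun d : DC F Q => (T × T) ⧸ graph (extL H (rep d)⁻¹) (extφ H (rep d)⁻¹)) h,
      fun h => by rw [h]⟩
  have h2 : (ab : (T × T) ⧸ graph (extL H (rep d)⁻¹) (extφ H (rep d)⁻¹)) =
      ab • ((1 : T × T) : (T × T) ⧸ graph (extL H (rep d)⁻¹) (extφ H (rep d)⁻¹)) := by
    rw [MulAction.Quotient.smul_mk, smul_eq_mul, mul_one]
  rw [h1, h2, stabilizer_smul_eq_stabilizer_map_conj, stabilizer_quotient]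
  exact (FFConj.conj _ ab).mem_TD ⟨_, _, (isExt_ext H (rep d)⁻¹).1, rfl⟩

end Cfsg.Agent.Helper3.Model
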