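import Mathlib
import Cfsg.Agent.Lib.Helper3.ModelBiset

/-!
# Twisting the left action of the model biset by a map of the system
-/

set_option autoImplicit false
set_option linter.style.haveILetI false
set_option linter.unusedSectionVars false

namespace Cfsg.Agent.Helper3.Model

open Cfsg Cfsg.FusionSystem Cfsg.Agent.Helper25 Cfsg.Agent.Helper3.Biset MulAction

universe u w

section Match

/-- Two actions of `H` on a finite set with matching stabilizers and orbits are isomorphic. -/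
theorem exists_perm_of_match {H : Type*} [Group H] {X : Type*} [Finite X]
    (ρ₁ ρ₂ : H →* Equiv.Perm X) (Y : X → X)
    (hstab : ∀ (x : X) (g : H), ρ₁ g x = x ↔ ρ₂ g (Y x) = Y x)
    (horb : ∀ (x x' : X) (g : H), Y x = ρ₂ g (Y x') → ∃ g' : H, x = ρ₁ g' x') :
    ∃ f : Equiv.Perm X, ∀ (g : H) (x : X), f (ρ₁ g x) = ρ₂ g (f x) := by
  let s : Setoid X := ⟨fun x y => ∃ g : H, ρ₁ g x = y,
    ⟨fun x => ⟨1, by rw [map_one]; rfl⟩,
     fun {x y} ⟨g, hg⟩ => ⟨g⁻¹, by rw [← hg, map_inv, perm_inv_apply]⟩,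
     fun {x y z} ⟨g, hg⟩ ⟨g', hg'⟩ => ⟨g' * g, by rw [map_mul, Equiv.Perm.mul_apply, hg, hg']⟩⟩⟩
  have hout : ∀ x, ∃ g : H, ρ₁ g (Quotient.out (Quotient.mk s x)) = x :=
    fun x => Quotient.mk_out (s := s) x
  choose g hg using hout
  let f : X → X := fun x => ρ₂ (g x) (Y (Quotient.out (Quotient.mk s x)))
  have hequi : ∀ (k : H) (x : X), f (ρ₁ k x) = ρ₂ k (f x) := by
    intro k x
    have e : Quotient.mk s (ρ₁ k x) = Quotient.mk s x :=
      Quotient.sound ⟨k⁻¹, by rw [map_inv, perm_inv_apply]⟩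
    have h1 := hg (ρ₁ k x)
    rw [e] at h1
    have h2 := hg x
    have h3 : ρ₁ ((g (ρ₁ k x))⁻¹ * k * g x) (Quotient.out (Quotient.mk s x)) =
        Quotient.out (Quotient.mk s x) := by
      rw [map_mul, map_mul, Equiv.Perm.mul_apply, Equiv.Perm.mul_apply, h2, map_inv,
        Equiv.Perm.inv_eq_iff_eq]
      exact h1.symm
    have h4 := (hstab _ _).1 h3
    rw [map_mul, map_mul, Equiv.Perm.mul_apply, Equiv.Perm.mul_apply, map_inv,
      Equiv.Perm.inv_eq_iff_eq] at h4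
    show ρ₂ (g (ρ₁ k x)) (Y (Quotient.out (Quotient.mk s (ρ₁ k x)))) =
      ρ₂ k (ρ₂ (g x) (Y (Quotient.out (Quotient.mk s x))))
    rw [e, h4]
  have hinj : Function.Injective f := by
    intro x x' hxx'
    have hxx'' : ρ₂ (g x) (Y (Quotient.out (Quotient.mk s x))) =
        ρ₂ (g x') (Y (Quotient.out (Quotient.mk s x'))) := hxx'
    have h1 : Y (Quotient.out (Quotient.mk s x)) =
        ρ₂ ((g x)⁻¹ * g x') (Y (Quotient.out (Quotient.mk s x'))) := by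
      rw [map_mul, Equiv.Perm.mul_apply, ← hxx'', map_inv, perm_inv_apply]
    obtain ⟨g', hg'⟩ := horb _ _ _ h1
    have e : Quotient.mk s x = Quotient.mk s x' := by
      rw [← Quotient.out_eq (Quotient.mk s x), ← Quotient.out_eq (Quotient.mk s x')]
      exact Quotient.sound ⟨g'⁻¹, by rw [hg', map_inv, perm_inv_apply]⟩
    rw [← e] at hxx''
    have h2 : ρ₂ ((g x')⁻¹ * g x) (Y (Quotient.out (Quotient.mk s x))) =
        Y (Quotient.out (Quotient.mk s x)) := by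
      rw [map_mul, Equiv.Perm.mul_apply, hxx'', map_inv, perm_inv_apply]
    have h3 := (hstab _ _).2 h2
    rw [map_mul, Equiv.Perm.mul_apply, map_inv, Equiv.Perm.inv_eq_iff_eq] at h3
    have h4 := hg x'
    rw [← e] at h4
    rw [← hg x, h3, h4]
  exact ⟨Equiv.ofBijective f (Finite.injective_iff_bijective.1 hinj), hequi⟩

end Match

variable {T : Type u} [Group T] [Finite T] {p : ℕ} [Fact p.Prime]
  {F : FusionSystem (⊤ : Subgroup T)} {Q : Subgroup T} [Q.Normal]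
  {X : Type w} [MulAction (T × T) X] {π : X → F.autGroup Q}

theorem pi_of_stab (h : IsCore (cHom F Q) π) {x : X} {s r : T} (hx : (s, r) • x = x) :
    cHom F Q s * π x * (cHom F Q r)⁻¹ = π x := by
  rw [← h.equi, hx]

theorem exists_stab_of_pi (h : IsCore (cHom F Q) π) {x : X} {s r : T}
    (hx : cHom F Q s * π x * (cHom F Q r)⁻¹ = π x) :
    ∃ z : T, cHom F Q z = 1 ∧ (s, z * r) • x = x := by
  rw [← h.equi] at hx
  obtain ⟨z, hz, hz'⟩ := h.fib _ _ hx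
  refine ⟨z, hz, ?_⟩
  have : ((s, z * r) : T × T) = ((1 : T), z) * (s, r) := by
    rw [Prod.mk_mul_mk, one_mul]
  rw [this, mul_smul, ← hz']

/-- The stabilizer of a point is the graph of an extension of `(π x)⁻¹`. -/
theorem exists_stab_ext (h : IsCore (cHom F Q) π) (hstab : ∀ x : X, stabilizer (T × T) x ∈ TD F)
    (x : X) : ∃ (L : Subgroup T) (lam : L →* T), IsExt F Q L lam (π x)⁻¹ ∧
      ∀ s r : T, (s, r) • x = x ↔ ∃ hs : s ∈ L, lam ⟨s, hs⟩ = r := by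
  obtain ⟨L, lam, hlam, hL⟩ := hstab x
  have hiff : ∀ s r : T, (s, r) • x = x ↔ ∃ hs : s ∈ L, lam ⟨s, hs⟩ = r := by
    intro s r
    rw [← mem_stabilizer_iff, hL, mem_graph]
  have hq : ∀ q : Q, ((q : T), ((((π x)⁻¹ : F.autGroup Q) : MulAut Q) q : T)) • x = x := by
    intro q
    have h1 := h.twist q x
    have : (((q : T), ((((π x)⁻¹ : F.autGroup Q) : MulAut Q) q : T)) : T × T) =
        ((1 : T), ((((π x)⁻¹ : F.autGroup Q) : MulAut Q) q : T)) * ((q : T), (1 : T)) := by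
      rw [Prod.mk_mul_mk, one_mul, mul_one]
    rw [this, mul_smul, h1, smul_smul, Prod.mk_mul_mk, one_mul, mul_inv_cancel]
    exact one_smul _ x
  have hQL : Q ≤ L := fun q hq' => ((hiff _ _).1 (hq ⟨q, hq'⟩)).1
  refine ⟨L, lam, ⟨hlam, hQL, fun q => ?_⟩, hiff⟩
  exact ((hiff _ _).1 (hq q)).2

theorem smul_smul_eq_iff (k g : T × T) (y : X) : g • k • y = k • y ↔ (k⁻¹ * g * k) • y = y := by
  rw [mul_smul, mul_smul, inv_smul_eq_iff]

theorem exists_match {X' : Type*} [MulAction (T × T) X'] {π' : X' → F.autGroup Q}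
    (h : IsCore (cHom F Q) π) (hstab : ∀ x : X, stabilizer (T × T) x ∈ TD F)
    (h' : IsCore (cHom F Q) π') (hstab' : ∀ x : X', stabilizer (T × T) x ∈ TD F)
    (HH : Hyp p F Q) {P₁ : Subgroup T} {ψ : P₁ →* T} {γ : F.autGroup Q}
    (hψ : IsExt F Q P₁ ψ γ) (x : X) :
    ∃ y : X', π' y = γ * π x ∧ ∀ (u : P₁) (r : T), ((u : T), r) • x = x ↔ (ψ u, r) • y = y := by
  obtain ⟨y₀, hy₀⟩ := h'.surj (γ * π x)
  obtain ⟨L, lam, hlam, hL⟩ := exists_stab_ext h hstab x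
  obtain ⟨L', lam', hlam', hL'⟩ := exists_stab_ext h' hstab' y₀
  have hQP : Q ≤ P₁ := hψ.2.1
  -- membership transfers
  have h4 : ∀ u : P₁, (u : T) ∈ L → ψ u ∈ L' := by
    intro u hu
    have h1 := pi_of_stab h ((hL _ _).2 ⟨hu, rfl⟩)
    have h2 : cHom F Q (ψ u) * π' y₀ * (cHom F Q (lam ⟨u, hu⟩))⁻¹ = π' y₀ := by
      rw [hψ.conj_eq, hy₀]
      have : γ * cHom F Q u * γ⁻¹ * (γ * π x) * (cHom F Q (lam ⟨u, hu⟩))⁻¹ =
          γ * (cHom F Q u * π x * (cHom F Q (lam ⟨u, hu⟩))⁻¹) := by group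
      rw [this, h1]
    obtain ⟨z, -, hz⟩ := exists_stab_of_pi h' h2
    exact ((hL' _ _).1 hz).1
  have h4' : ∀ u : P₁, ψ u ∈ L' → (u : T) ∈ L := by
    intro u hu
    have h1 := pi_of_stab h' ((hL' _ _).2 ⟨hu, rfl⟩)
    have h2 : cHom F Q u * π x * (cHom F Q (lam' ⟨ψ u, hu⟩))⁻¹ = π x := by
      rw [hψ.conj_eq, hy₀] at h1
      have : γ * cHom F Q u * γ⁻¹ * (γ * π x) * (cHom F Q (lam' ⟨ψ u, hu⟩))⁻¹ =
          γ * (cHom F Q u * π x * (cHom F Q (lam' ⟨ψ u, hu⟩))⁻¹) := by group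
      rw [this] at h1
      exact mul_left_cancel h1
    obtain ⟨z, -, hz⟩ := exists_stab_of_pi h h2
    exact ((hL _ _).1 hz).1
  -- the two maps on `L ⊓ P₁`
  have hQP₂ : Q ≤ L ⊓ P₁ := le_inf hlam.2.1 hQP
  set α : ↥(L ⊓ P₁) →* T := lam.comp (Subgroup.inclusion inf_le_left) with hα
  have hαF : α ∈ F.Hom (L ⊓ P₁) := restrict_mem F inf_le_left hlam.1
  set ψ₂ : ↥(L ⊓ P₁) →* T := ψ.comp (Subgroup.inclusion inf_le_right) with hψ₂
  have hψ₂F : ψ₂ ∈ F.Hom (L ⊓ P₁) := restrict_mem F inf_le_right hψ.1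
  have hψ₂L : ∀ u : ↥(L ⊓ P₁), ψ₂ u ∈ L' := fun u => h4 ⟨u, u.2.2⟩ u.2.1
  set β : ↥(L ⊓ P₁) →* T := lam'.comp (ψ₂.codRestrict L' hψ₂L) with hβ
  have hβF : β ∈ F.Hom (L ⊓ P₁) := F.comp_mem hψ₂F hlam'.1 hψ₂L
  have hag : ∀ q : ↥(L ⊓ P₁), (q : T) ∈ Q → α q = β q := by
    intro q hq
    have h1 : α q = ((((π x)⁻¹ : F.autGroup Q) : MulAut Q) ⟨q, hq⟩ : T) := hlam.2.2 ⟨q, hq⟩
    have h2 : ψ₂ q = (((γ : F.autGroup Q) : MulAut Q) ⟨q, hq⟩ : T) := hψ.2.2 ⟨q, hq⟩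
    have h3 : β q = ((((π' y₀)⁻¹ : F.autGroup Q) : MulAut Q)
        (((γ : F.autGroup Q) : MulAut Q) ⟨q, hq⟩) : T) := by
      rw [← hlam'.2.2]
      show lam' ⟨ψ₂ q, _⟩ = _
      congr 1
      exact Subtype.ext h2
    rw [h1, h3, hy₀, mul_inv_rev, Subgroup.coe_mul, MulAut.mul_apply, coe_inv_apply]
  obtain ⟨z, hzQ, hzc, hz⟩ := exists_conj_of_agree HH.hT HH.hF HH.hQn HH.hQc hQP₂ hαF hβF hag
  have hcz : cHom F Q z = 1 := by
    apply Subtype.ext
    ext q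
    rw [cHom_apply]
    have := Subgroup.mem_centralizer_iff.1 hzc q q.2
    rw [← this, mul_inv_cancel_right]
    rfl
  refine ⟨((1 : T), z⁻¹) • y₀, ?_, fun u r => ?_⟩
  · rw [h'.equi, map_one, one_mul, map_inv, hcz, inv_one, inv_one, mul_one, hy₀]
  · rw [smul_smul_eq_iff, hL, Prod.inv_mk, Prod.mk_mul_mk, Prod.mk_mul_mk, inv_one, one_mul, mul_one,
      inv_inv, hL']
    constructor
    · rintro ⟨hu, rfl⟩
      refine ⟨h4 u hu, ?_⟩
      have := hz ⟨u, hu, u.2⟩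
      exact this
    · rintro ⟨hu', hr⟩
      have hu := h4' u hu'
      refine ⟨hu, ?_⟩
      have h5 : β ⟨u, hu, u.2⟩ = z * α ⟨u, hu, u.2⟩ * z⁻¹ := hz ⟨u, hu, u.2⟩
      have h6 : β ⟨u, hu, u.2⟩ = z * r * z⁻¹ := hr
      rw [h5] at h6
      have h7 : α ⟨u, hu, u.2⟩ = r := by
        have := mul_right_cancel h6
        exact mul_left_cancel this
      exact h7

theorem park [Finite X] (h : IsCore (cHom F Q) π)
    (hstab : ∀ x : X, stabilizer (T × T) x ∈ TD F)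
    (HH : Hyp p F Q) {P₁ : Subgroup T} {ψ : P₁ →* T} {γ : F.autGroup Q}
    (hψ : IsExt F Q P₁ ψ γ) :
    ∃ a : Equiv.Perm X, (∀ (r : T) (x : X), a (((1 : T), r) • x) = ((1 : T), r) • a x) ∧
      ∀ (u : P₁) (x : X), a (((u : T), (1 : T)) • x) = (ψ u, (1 : T)) • a x := by
  set ρ₁ : ↥P₁ × T →* Equiv.Perm X :=
    (MulAction.toPermHom (T × T) X).comp ((P₁.subtype).prodMap (MonoidHom.id T)) with hρ₁
  set ρ₂ : ↥P₁ × T →* Equiv.Perm X :=
    (MulAction.toPermHom (T × T) X).comp (ψ.prodMap (MonoidHom.id T)) with hρ₂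
  have hρ₁a : ∀ (g : ↥P₁ × T) (x : X), ρ₁ g x = ((g.1 : T), g.2) • x := fun g x => rfl
  have hρ₂a : ∀ (g : ↥P₁ × T) (x : X), ρ₂ g x = (ψ g.1, g.2) • x := fun g x => rfl
  choose Y hY1 hY2 using exists_match h hstab h hstab HH hψ
  obtain ⟨f, hf⟩ := exists_perm_of_match ρ₁ ρ₂ Y
    (fun x g => by rw [hρ₁a, hρ₂a]; exact hY2 x g.1 g.2)
    (fun x x' g hg => by
      rw [hρ₂a] at hg
      have h1 := congrArg π hg
      rw [hY1, h.equi, hY1, hψ.conj_eq] at h1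
      have h2 : γ * cHom F Q g.1 * γ⁻¹ * (γ * π x') * (cHom F Q g.2)⁻¹ =
          γ * (cHom F Q g.1 * π x' * (cHom F Q g.2)⁻¹) := by group
      rw [h2, ← h.equi] at h1
      obtain ⟨z, -, hz⟩ := h.fib _ _ (mul_left_cancel h1).symm
      refine ⟨(g.1, z * g.2), ?_⟩
      rw [hρ₁a, hz, smul_smul, Prod.mk_mul_mk, one_mul])
  refine ⟨f, fun r x => ?_, fun u x => ?_⟩
  · have := hf ((1 : P₁), r) x
    rw [hρ₁a, hρ₂a] at this
    simp only [map_one, OneMemClass.coe_one] at this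
    exact this
  · have := hf (u, (1 : T)) x
    rw [hρ₁a, hρ₂a] at this
    exact this

end Cfsg.Agent.Helper3.Model
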