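import Mathlib
import Cfsg.Agent.Lib.Helper3.ModelPark
import Cfsg.Agent.Lib.Helper25.FusionModel

/-!
# The model theorem for a fusion system on the top subgroup
-/

set_option autoImplicit false
set_option linter.style.haveILetI false
set_option linter.unusedSectionVars false

namespace Cfsg.Agent.Helper3.Model

open Cfsg Cfsg.FusionSystem Cfsg.Agent.Helper25 Cfsg.Agent.Helper3.Biset MulAction

universe u

variable {T : Type u} [Group T] [Finite T] {p : ℕ} [Fact p.Prime]
  {F : FusionSystem (⊤ : Subgroup T)} {Q : Subgroup T} [Q.Normal]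

/-- A map of the system defined on a subgroup containing `Q` restricts to an element of
`Aut_F(Q)`. -/
theorem exists_aut_of_hom (HH : Hyp p F Q) {P₁ : Subgroup T} {ψ : P₁ →* T} (hψ : ψ ∈ F.Hom P₁)
    (hQP : Q ≤ P₁) : ∃ γ : F.autGroup Q, IsExt F Q P₁ ψ γ := by
  have hsc := stronglyClosed_of_isNormal F HH.hQn
  have h1 : ψ.comp (Subgroup.inclusion hQP) ∈ F.Hom Q := restrict_mem F hQP hψ
  have h2 : ∀ q : Q, (ψ.comp (Subgroup.inclusion hQP)) q ∈ Q := fun q => hsc.2 Q le_rfl _ h1 q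
  have hinj : Function.Injective ((ψ.comp (Subgroup.inclusion hQP)).codRestrict Q h2) := by
    intro a b hab
    exact F.injective_of_mem h1 (congrArg Subtype.val hab)
  have hbij : Function.Bijective ((ψ.comp (Subgroup.inclusion hQP)).codRestrict Q h2) :=
    ⟨hinj, Finite.surjective_of_injective hinj⟩
  set γ₀ : MulAut Q := MulEquiv.ofBijective _ hbij with hγ₀
  have hγ₀F : γ₀ ∈ F.autGroup Q := by
    rw [mem_autGroup_iff F le_top]
    have : Q.subtype.comp γ₀.toMonoidHom = ψ.comp (Subgroup.inclusion hQP) := by ext y; rfl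
    rw [this]
    exact h1
  exact ⟨⟨γ₀, hγ₀F⟩, hψ, hQP, fun q => rfl⟩

theorem exists_model_top (HH : Hyp p F Q) :
    ∃ (G : Type u) (_ : Group G) (ι : (⊤ : Subgroup T) →* G), F.IsModel p G ι := by
  obtain ⟨G, hG, hfin, ι₀, dg, hinj, hdg, hker, hconj, hpark⟩ :=
    exists_core_group (isCore_XSet HH) p HH.hT (not_dvd_index_cHom HH.hT HH.hF HH.hQn)
  have hsc := stronglyClosed_of_isNormal F HH.hQn
  -- elements of `G` covering an extension
  have hcover : ∀ {P₁ : Subgroup T} {ψ : P₁ →* T} {γ : F.autGroup Q}, IsExt F Q P₁ ψ γ →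
      ∃ g : G, (∀ u : P₁, g * ι₀ u * g⁻¹ = ι₀ (ψ u)) ∧ dg g = γ := by
    intro P₁ ψ γ hψ
    obtain ⟨a, ha1, ha2⟩ := park (isCore_XSet HH) (stabilizer_mem_TD HH) HH hψ
    obtain ⟨g, hg⟩ := hpark a ha1 P₁ ψ hψ.2.1
      (fun u hu => by
        have := hψ.2.2 ⟨u, hu⟩
        have e : (⟨((⟨(u : T), hu⟩ : Q) : T), hψ.2.1 hu⟩ : P₁) = u := Subtype.ext rfl
        rw [e] at this
        rw [this]
        exact Subtype.prop _) ha2
    refine ⟨g, hg, ?_⟩
    apply Subtype.ext
    ext q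
    have h1 := hconj g q
    have h2 := hg ⟨q, hψ.2.1 q.2⟩
    have h3 : ι₀ (((dg g : F.autGroup Q) : MulAut Q) q : Q) = ι₀ (ψ ⟨q, hψ.2.1 q.2⟩) := by
      rw [← h1, ← h2]
    rw [hinj h3, hψ.2.2 q]
  refine ⟨G, hG, ι₀.comp (⊤ : Subgroup T).subtype, hfin, ⟨?_, ?_⟩, ?_, ?_⟩
  · exact hinj.comp (Subgroup.subtype_injective _)
  · intro P hP φ hφS
    show φ ∈ F.Hom P ↔ ∃ g : G, ∀ x : P, ι₀ (φ x) = g * ι₀ x * g⁻¹
    constructor
    · intro hφ
      obtain ⟨ψ, hψ, hext, himg⟩ := HH.hQn.2 P φ hφ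
      obtain ⟨γ, hγ⟩ := exists_aut_of_hom HH hψ le_sup_right
      obtain ⟨g, hg, -⟩ := hcover hγ
      refine ⟨g, fun x => ?_⟩
      rw [← hext x]
      exact (hg (Subgroup.inclusion le_sup_left x)).symm
    · rintro ⟨g, hg⟩
      have hP' : ∀ x : P, (x : T) ∈ extL HH (dg g) := by
        intro x
        refine mem_extL HH (dg g) (r := φ x) ?_
        rw [← hdg, ← hdg, hg x, map_mul, map_mul, map_inv]
      obtain ⟨g', hg', hdg'⟩ := hcover (isExt_ext HH (dg g))
      have h1 : dg (g'⁻¹ * g) = 1 := by rw [map_mul, map_inv, hdg', inv_mul_cancel]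
      obtain ⟨z, hz, hgz⟩ := hker _ h1
      have hzL : z ∈ extL HH (dg g) := by
        refine mem_extL HH (dg g) (r := 1) ?_
        rw [hz, map_one, mul_one, mul_inv_cancel]
      have hg2 : g = g' * ι₀ z := by rw [← hgz, mul_inv_cancel_left]
      have hval : ∀ x : P, conjHom P z x ∈ extL HH (dg g) := by
        intro x
        rw [conjHom_apply]
        exact Subgroup.mul_mem _ (Subgroup.mul_mem _ hzL (hP' x)) (Subgroup.inv_mem _ hzL)
      refine comp_mem' F (F.conj_mem le_top (Subgroup.mem_top z)) (isExt_ext HH (dg g)).1 hval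
        (fun x => ?_)
      apply hinj
      rw [hg x, ← hg' ⟨conjHom P z x, hval x⟩]
      conv_lhs => rw [hg2]
      show g' * ι₀ z * ι₀ x * (g' * ι₀ z)⁻¹ = g' * ι₀ (z * x * z⁻¹) * g'⁻¹
      rw [map_mul, map_mul, map_inv]
      group
  · -- Sylow
    have hrange : (ι₀.comp (⊤ : Subgroup T).subtype).range = ι₀.range := by
      ext y
      constructor
      · rintro ⟨x, rfl⟩; exact ⟨x, rfl⟩
      · rintro ⟨x, rfl⟩; exact ⟨⟨x, Subgroup.mem_top x⟩, rfl⟩
    have hcomap : ι₀.range = (cHom F Q).range.comap dg := by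
      ext y
      rw [Subgroup.mem_comap]
      constructor
      · rintro ⟨x, rfl⟩
        exact ⟨x, (hdg x).symm⟩
      · rintro ⟨s, hs⟩
        have h1 : dg (y * (ι₀ s)⁻¹) = 1 := by rw [map_mul, map_inv, hdg, hs, mul_inv_cancel]
        obtain ⟨z, -, hz⟩ := hker _ h1
        refine ⟨z * s, ?_⟩
        rw [map_mul, ← hz, inv_mul_cancel_right]
    have hle : (cHom F Q).range ≤ dg.range := by
      rintro _ ⟨s, rfl⟩
      exact ⟨ι₀ s, hdg s⟩
    have hidx : ¬ p ∣ ι₀.range.index := by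
      rw [hcomap, Subgroup.index_comap]
      intro hdvd
      exact not_dvd_index_cHom HH.hT HH.hF HH.hQn
        (hdvd.trans (Subgroup.relIndex_dvd_index_of_le hle))
    have hp : IsPGroup p ι₀.range := by
      have := (isPGroup_top HH.hT).map ι₀
      rwa [← MonoidHom.range_eq_map] at this
    refine ⟨hp.toSylow hidx, ?_⟩
    rw [IsPGroup.toSylow_coe, hrange]
  · -- the centralizer of the `p`-core
    have hQn : (Q.map ι₀).Normal := by
      refine ⟨fun n hn g => ?_⟩
      obtain ⟨q, hq, rfl⟩ := hn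
      have := hconj g ⟨q, hq⟩
      rw [this]
      exact ⟨_, Subtype.prop _, rfl⟩
    have hQp : IsPGroup p (Q.map ι₀) := (HH.hT.to_subgroup Q).map ι₀
    have hQle : Q.map ι₀ ≤ pCore p G := le_pCore hQn hQp
    intro g hg
    apply hQle
    have hg' : ∀ q : Q, g * ι₀ q * g⁻¹ = ι₀ q := by
      intro q
      have := Subgroup.mem_centralizer_iff.1 hg (ι₀ q) (hQle ⟨q, q.2, rfl⟩)
      rw [← this, mul_inv_cancel_right]
    have h1 : dg g = 1 := by
      apply Subtype.ext
      ext q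
      have h2 := hconj g q
      rw [hg' q] at h2
      have := hinj h2
      rw [← this]
      rfl
    obtain ⟨z, hz, rfl⟩ := hker g h1
    obtain ⟨z', rfl⟩ := cHom_ker HH.hQc z hz
    exact ⟨_, Subtype.prop _, rfl⟩

end Cfsg.Agent.Helper3.Model
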