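import Mathlib
import Cfsg.Agent.Lib.Helper3.ModelTop
import Cfsg.Agent.Lib.Helper3.BisetTransport

/-!
# The model theorem: transport from the top copy
-/

set_option autoImplicit false
set_option linter.style.haveILetI false
set_option linter.unusedSectionVars false

namespace Cfsg.Agent.Helper3.Model

open Cfsg Cfsg.FusionSystem Cfsg.Agent.Helper25 Cfsg.Agent.Helper3.Biset

universe u

variable {Ω : Type u} [Group Ω] {S : Subgroup Ω} {F : FusionSystem S}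
  {E : FusionSystem (⊤ : Subgroup ↥S)} {Q : Subgroup Ω}

theorem map_subgroupOf_subtype (hQ : Q ≤ S) : (Q.subgroupOf S).map S.subtype = Q := by
  rw [Subgroup.subgroupOf_map_subtype, inf_eq_left.2 hQ]

theorem isNormal_of_topCopy (h : IsTopCopy F E) (hQ : F.IsNormal Q) :
    E.IsNormal (Q.subgroupOf S) := by
  refine ⟨le_top, fun P' φ' hφ' => ?_⟩
  obtain ⟨φ, hφ, hφeq⟩ := h.exists_of_mem hφ'
  obtain ⟨ψ, hψ, hext, himg⟩ := hQ.2 _ φ hφ
  have hmap : (P' ⊔ Q.subgroupOf S).map S.subtype = P'.map S.subtype ⊔ Q := by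
    rw [Subgroup.map_sup, map_subgroupOf_subtype hQ.1]
  have hψ₀ := restrict_mem F hmap.le hψ
  have hψ₀S := (F.le_of_mem hψ₀).2
  let ψ' : ↥(P' ⊔ Q.subgroupOf S) →* ↥S :=
    ((ψ.comp (Subgroup.inclusion hmap.le)).codRestrict S hψ₀S).comp
      (Subgroup.equivMapOfInjective _ S.subtype S.subtype_injective).toMonoidHom
  have hψ' : ψ' ∈ E.Hom (P' ⊔ Q.subgroupOf S) :=
    h.mem_of_mem hψ₀ rfl ψ' (fun x hx => rfl)
  refine ⟨ψ', hψ', fun x => ?_, ?_⟩
  · apply Subtype.ext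
    have hx1 : ((x : ↥S) : Ω) ∈ P'.map S.subtype := Subgroup.mem_map_of_mem _ x.2
    rw [← hφeq x hx1, ← hext ⟨_, hx1⟩]
    rfl
  · ext y
    constructor
    · rintro ⟨w, hw, rfl⟩
      have hw' : ((w : ↥S) : Ω) ∈ Q := hw
      show ((ψ' w : ↥S) : Ω) ∈ Q
      have hw2 : ((w : ↥S) : Ω) ∈ P'.map S.subtype ⊔ Q := le_sup_right (a := P'.map S.subtype) hw'
      have : ((ψ' w : ↥S) : Ω) = ψ ⟨((w : ↥S) : Ω), hw2⟩ := rfl
      rw [this]
      exact himg.le ⟨⟨_, hw2⟩, Subgroup.mem_subgroupOf.2 hw', rfl⟩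
    · intro hy
      have hy' : ((y : ↥S) : Ω) ∈ Q := Subgroup.mem_subgroupOf.1 hy
      obtain ⟨v, hv, hvy⟩ := himg.ge hy'
      have hvQ : (v : Ω) ∈ Q := Subgroup.mem_subgroupOf.1 hv
      have hvS : (v : Ω) ∈ S := hQ.1 hvQ
      have hvm : (⟨(v : Ω), hvS⟩ : ↥S) ∈ P' ⊔ Q.subgroupOf S :=
        le_sup_right (a := P') (Subgroup.mem_subgroupOf.2 hvQ)
      refine ⟨⟨⟨(v : Ω), hvS⟩, hvm⟩, Subgroup.mem_subgroupOf.2 (Subgroup.mem_subgroupOf.2 hvQ), ?_⟩
      apply Subtype.ext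
      rw [← hvy]
      rfl

theorem isCentric_of_topCopy [Finite S] (h : IsTopCopy F E) (hQn : F.IsNormal Q)
    (hQc : F.IsCentric Q) : E.IsCentric (Q.subgroupOf S) := by
  have hEn := isNormal_of_topCopy h hQn
  refine ⟨le_top, fun R' hR' => ?_⟩
  rw [eq_of_isConj hEn hR']
  intro s hs
  rw [mem_centralizerIn] at hs
  rw [Subgroup.mem_subgroupOf]
  apply hQc.2 Q (isConj_refl F hQc.1)
  rw [mem_centralizerIn]
  refine ⟨s.2, fun x hx => ?_⟩
  have := hs.2 ⟨x, hQc.1 hx⟩ (Subgroup.mem_subgroupOf.2 hx)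
  exact congrArg Subtype.val this

theorem isModel_of_topCopy {p : ℕ} (h : IsTopCopy F E) {G : Type*} [Group G]
    {ι' : (⊤ : Subgroup ↥S) →* G} (hm : E.IsModel p G ι') :
    F.IsModel p G (ι'.comp (Subgroup.topEquiv (G := ↥S)).symm.toMonoidHom) := by
  obtain ⟨hfin, ⟨hinj, hreal⟩, ⟨R, hR⟩, hcore⟩ := hm
  have hι : ∀ s : ↥S, (ι'.comp (Subgroup.topEquiv (G := ↥S)).symm.toMonoidHom) s =
      ι' ⟨s, Subgroup.mem_top s⟩ := fun s => rfl
  refine ⟨hfin, ⟨?_, ?_⟩, ⟨R, ?_⟩, hcore⟩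
  · exact hinj.comp (Subgroup.topEquiv (G := ↥S)).symm.injective
  · intro P hP φ hφS
    have hP' : (P.subgroupOf S).map S.subtype = P := map_subgroupOf_subtype hP
    let φ' : ↥(P.subgroupOf S) →* ↥S :=
      (φ.codRestrict S hφS).comp (Subgroup.subgroupOfEquivOfLe hP).toMonoidHom
    have hφ'a : ∀ x : ↥(P.subgroupOf S), ((φ' x : ↥S) : Ω) = φ ⟨x.1.1, x.2⟩ := fun x => rfl
    have hE := hreal (P.subgroupOf S) le_top φ' (fun _ => Subgroup.mem_top _)
    constructor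
    · intro hφ
      have hφ' : φ' ∈ E.Hom (P.subgroupOf S) := h.mem_of_mem hφ hP' φ' (fun x hx => rfl)
      obtain ⟨g, hg⟩ := hE.1 hφ'
      refine ⟨g, fun x => ?_⟩
      rw [hι, hι]
      exact hg ⟨⟨x, hP x.2⟩, x.2⟩
    · rintro ⟨g, hg⟩
      have hφ' : φ' ∈ E.Hom (P.subgroupOf S) := by
        refine hE.2 ⟨g, fun x => ?_⟩
        have := hg ⟨x.1.1, x.2⟩
        rw [hι, hι] at this
        exact this
      obtain ⟨φ₁, hφ₁, hφ₁eq⟩ := h.exists_of_mem hφ'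
      have h1 := hom_transport F hP'.symm hφ₁
      have h2 : φ₁.comp (Subgroup.inclusion hP'.symm.le) = φ := by
        ext x
        have hx : (x : Ω) ∈ (P.subgroupOf S).map S.subtype := hP'.symm.le x.2
        have := hφ₁eq ⟨⟨x, hP x.2⟩, x.2⟩ hx
        rw [hφ'a] at this
        exact this
      rw [h2] at h1
      exact h1
  · rw [hR]
    ext y
    constructor
    · rintro ⟨x, rfl⟩
      exact ⟨x.1, rfl⟩
    · rintro ⟨s, rfl⟩
      exact ⟨⟨s, Subgroup.mem_top s⟩, rfl⟩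

/-- **The model theorem** (existence): a constrained fusion system on a finite `p`-group has a
model. -/
theorem exists_model [Finite S] (p : ℕ) [Fact p.Prime] (hS : IsPGroup p S) (F : FusionSystem S)
    (hF : F.IsConstrained p) :
    ∃ (G : Type u) (_ : Group G) (ι : S →* G), F.IsModel p G ι := by
  obtain ⟨hsat, Q, hQn, hQc⟩ := hF
  obtain ⟨E, hE⟩ := exists_topCopy F
  have hEsat := hE.isSaturated hS hsat
  have hEn := isNormal_of_topCopy hE hQn
  have hEc := isCentric_of_topCopy hE hQn hQc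
  haveI := normal_of_isNormal hEn
  have HH : Hyp p E (Q.subgroupOf S) := ⟨hS, hEsat, hEn, hEc⟩
  obtain ⟨G, hG, ι', hm⟩ := exists_model_top HH
  exact ⟨G, hG, _, isModel_of_topCopy hE hm⟩

end Cfsg.Agent.Helper3.Model
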