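import Mathlib
import Cfsg.Agent.Lib.Helper3.ModelPark

/-!
# Uniqueness of models: group-theoretic part
-/

set_option autoImplicit false
set_option linter.style.haveILetI false
set_option linter.unusedSectionVars false

namespace Cfsg.Agent.Helper3.Model

open scoped IsMulCommutative

universe u w

section Match

/-- Two actions of `H` on finite sets with matching stabilizers and orbits are isomorphic. -/
theorem exists_equiv_of_match {H : Type*} [Group H] {X₁ X₂ : Type*} [Finite X₁] [Finite X₂]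
    (ρ₁ : H →* Equiv.Perm X₁) (ρ₂ : H →* Equiv.Perm X₂) (Y : X₁ → X₂)
    (hstab : ∀ (x : X₁) (g : H), ρ₁ g x = x ↔ ρ₂ g (Y x) = Y x)
    (horb : ∀ (x x' : X₁) (g : H), Y x = ρ₂ g (Y x') → ∃ g' : H, x = ρ₁ g' x')
    (hcard : Nat.card X₂ ≤ Nat.card X₁) :
    ∃ f : X₁ ≃ X₂, ∀ (g : H) (x : X₁), f (ρ₁ g x) = ρ₂ g (f x) := by
  let s : Setoid X₁ := ⟨fun x y => ∃ g : H, ρ₁ g x = y,
    ⟨fun x => ⟨1, by rw [map_one]; rfl⟩,
     fun {x y} ⟨g, hg⟩ => ⟨g⁻¹, by rw [← hg, map_inv, perm_inv_apply]⟩,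
     fun {x y z} ⟨g, hg⟩ ⟨g', hg'⟩ => ⟨g' * g, by rw [map_mul, Equiv.Perm.mul_apply, hg, hg']⟩⟩⟩
  have hout : ∀ x, ∃ g : H, ρ₁ g (Quotient.out (Quotient.mk s x)) = x :=
    fun x => Quotient.mk_out (s := s) x
  choose g hg using hout
  let f : X₁ → X₂ := fun x => ρ₂ (g x) (Y (Quotient.out (Quotient.mk s x)))
  have hequi : ∀ (k : H) (x : X₁), f (ρ₁ k x) = ρ₂ k (f x) := by
    intro k x
    have e : Quotient.mk s (ρ₁ k x) = Quotient.mk s x :=
      Quotient.sound ⟨k⁻¹, by rw [map_inv, perm_inv_apply]⟩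
    have h1 := hg (ρ₁ k x)
    rw [e] at h1
    have h2 := hg x
    have h3 : ρ₁ ((g (ρ₁ k x))⁻¹ * k * g x) (Quotient.out (Quotient.mk s x)) =
        Quotient.out (Quotient.mk s x) := by
      rw [map_mul, map_mul, Equiv.Perm.mul_apply, Equiv.Perm.mul_apply, h2, map_inv,
        Equiv.Perm.inv_eq_iff_eq]
      exact h1.symm
    have h4 := (hstab _ _).1 h3
    rw [map_mul, map_mul, Equiv.Perm.mul_apply, Equiv.Perm.mul_apply, map_inv,
      Equiv.Perm.inv_eq_iff_eq] at h4
    show ρ₂ (g (ρ₁ k x)) (Y (Quotient.out (Quotient.mk s (ρ₁ k x)))) =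
      ρ₂ k (ρ₂ (g x) (Y (Quotient.out (Quotient.mk s x))))
    rw [e, h4]
  have hinj : Function.Injective f := by
    intro x x' hxx'
    have hxx'' : ρ₂ (g x) (Y (Quotient.out (Quotient.mk s x))) =
        ρ₂ (g x') (Y (Quotient.out (Quotient.mk s x'))) := hxx'
    have h1 : Y (Quotient.out (Quotient.mk s x)) =
        ρ₂ ((g x)⁻¹ * g x') (Y (Quotient.out (Quotient.mk s x'))) := by
      rw [map_mul, Equiv.Perm.mul_apply, ← hxx'', map_inv, perm_inv_apply]
    obtain ⟨g', hg'⟩ := horb _ _ _ h1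
    have e : Quotient.mk s x = Quotient.mk s x' := by
      rw [← Quotient.out_eq (Quotient.mk s x), ← Quotient.out_eq (Quotient.mk s x')]
      exact Quotient.sound ⟨g'⁻¹, by rw [hg', map_inv, perm_inv_apply]⟩
    rw [← e] at hxx''
    have h2 : ρ₂ ((g x')⁻¹ * g x) (Y (Quotient.out (Quotient.mk s x))) =
        Y (Quotient.out (Quotient.mk s x)) := by
      rw [map_mul, Equiv.Perm.mul_apply, hxx'', map_inv, perm_inv_apply]
    have h3 := (hstab _ _).2 h2
    rw [map_mul, Equiv.Perm.mul_apply, map_inv, Equiv.Perm.inv_eq_iff_eq] at h3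
    have h4 := hg x'
    rw [← e] at h4
    rw [← hg x, h3, h4]
  exact ⟨Equiv.ofBijective f (hinj.bijective_of_nat_card_le hcard), hequi⟩

end Match

variable {T : Type u} [Group T] {Q : Subgroup T} {Γ : Subgroup (MulAut Q)}
  {X : Type w} [MulAction (T × T) X] {c : T →* Γ} {π : X → Γ}

theorem IsCore.card_eq [Finite T] [Finite X] (h : IsCore c π) :
    Nat.card X = Nat.card Γ * Nat.card c.ker :=
  card_eq_of_free_fib (fun (z : c.ker) (x : X) => ((1 : T), (z : T)) • x)
    (fun r r' x => by rw [smul_smul, Prod.mk_mul_mk, one_mul]; rfl) π h.surj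
    (fun z x hz => Subtype.ext (h.free _ x hz))
    (fun x y => ⟨fun hxy => by
        obtain ⟨z, hz, hy⟩ := h.fib x y hxy
        exact ⟨⟨z, c.mem_ker.2 hz⟩, hy⟩,
      fun ⟨z, hy⟩ => by
        rw [hy, h.equi, c.mem_ker.1 z.2, map_one, inv_one, mul_one, one_mul]⟩)

/-- An equivariant map between two bisets satisfying `IsCore` is compatible with the maps to
`Γ`. -/
theorem pi_comp_of_equivariant {X' : Type*} [MulAction (T × T) X'] {π' : X' → Γ}
    (h : IsCore c π) (h' : IsCore c π') (f : X → X')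
    (hf : ∀ (g : T × T) (x : X), f (g • x) = g • f x) (x : X) : π' (f x) = π x := by
  have key : ((π' (f x))⁻¹ : Γ) = (π x)⁻¹ := by
    apply Subtype.ext
    ext q
    have h1 := hf ((q : T), (1 : T)) x
    rw [h.twist, hf, h'.twist] at h1
    have h2 := h'.rcancel h1
    rw [inv_inj] at h2
    exact h2.symm
  exact inv_injective key

/-- A group acting on the biset compatibly with the left action of `T`, covering `Γ` with the
expected kernel, is identified with the core group. -/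
theorem bijective_of_cover [Finite T] [Finite X] (h : IsCore c π) (p : ℕ) [Fact p.Prime]
    (hT : IsPGroup p T) (hidx : ¬ p ∣ c.range.index) {K : Type*} [Group K] (κ : T →* K)
    (Λ : K →* Ehat π) (ha : ∀ s, Λ (κ s) = jHom h s) (hb : ∀ γ : Γ, ∃ k, deg (Λ k) = γ)
    (hc : ∀ k, deg (Λ k) = 1 → ∃ s, c s = 1 ∧ k = κ s) :
    Function.Bijective ((QuotientGroup.mk' (Mp h)).comp Λ) := by
  have hZp : IsPGroup p (Subgroup.center Q) :=
    hT.of_injective ((Q.subtype).comp (Subgroup.center Q).subtype)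
      (Q.subtype_injective.comp (Subgroup.center Q).subtype_injective)
  have hcop : p.Coprime (Nat.card (Quotient (rsetoid T X))) := by
    rw [h.card_orbits]
    exact (Nat.Prime.coprime_iff_not_dvd Fact.out).2 hidx
  constructor
  · rw [injective_iff_map_eq_one]
    intro k hk
    rw [MonoidHom.comp_apply, QuotientGroup.mk'_apply, QuotientGroup.eq_one_iff, mem_Mp] at hk
    obtain ⟨s, hs, rfl⟩ := hc k hk.1
    obtain ⟨z, rfl⟩ := h.ker s hs
    have h1 := hk.2
    rw [ha, h.rho_jHom] at h1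
    have h2 : hZp.powEquiv hcop z = hZp.powEquiv hcop 1 := by
      rw [IsPGroup.powEquiv_apply, IsPGroup.powEquiv_apply, h1, one_pow]
    rw [(hZp.powEquiv hcop).injective h2]
    exact map_one κ
  · intro y
    obtain ⟨e, rfl⟩ := QuotientGroup.mk'_surjective (Mp h) y
    obtain ⟨k₀, hk₀⟩ := hb (deg e)
    have he' : deg (e * (Λ k₀)⁻¹) = 1 := by
      have : degHom h (e * (Λ k₀)⁻¹) = 1 := by
        rw [map_mul, map_inv, degHom_apply, degHom_apply, hk₀, mul_inv_cancel]
      exact this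
    obtain ⟨z, hz⟩ := (hZp.powEquiv hcop).surjective (rho Q ((e * (Λ k₀)⁻¹ : Ehat π) : Equiv.Perm X))
    rw [IsPGroup.powEquiv_apply] at hz
    have hj : deg (jHom h ((z : Q) : T)) = 1 := by rw [deg_jHom, h.c_center]
    refine ⟨κ ((z : Q) : T) * k₀, ?_⟩
    rw [MonoidHom.comp_apply, map_mul, ha, QuotientGroup.mk'_apply, QuotientGroup.mk'_apply,
      QuotientGroup.eq, mem_Mp]
    have hj' : deg (jHom h ((z : Q) : T))⁻¹ = 1 := by
      have : degHom h (jHom h ((z : Q) : T))⁻¹ = 1 := by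
        rw [map_inv, degHom_apply, hj, inv_one]
      exact this
    have heq : (jHom h ((z : Q) : T) * Λ k₀)⁻¹ * e =
        (Λ k₀)⁻¹ * ((e * (Λ k₀)⁻¹)⁻¹ * jHom h ((z : Q) : T))⁻¹ * Λ k₀ := by group
    have h3 : deg ((e * (Λ k₀)⁻¹)⁻¹ * jHom h ((z : Q) : T)) = 1 := by
      have : degHom h ((e * (Λ k₀)⁻¹)⁻¹ * jHom h ((z : Q) : T)) = 1 := by
        rw [map_mul, map_inv, degHom_apply, degHom_apply, he', hj, inv_one, one_mul]
      exact this
    have h4 : rho Q (((e * (Λ k₀)⁻¹)⁻¹ * jHom h ((z : Q) : T) : Ehat π) : Equiv.Perm X) = 1 := by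
      have he'' : deg (e * (Λ k₀)⁻¹)⁻¹ = 1 := by
        have : degHom h (e * (Λ k₀)⁻¹)⁻¹ = 1 := by rw [map_inv, degHom_apply, he', inv_one]
        exact this
      rw [h.rho_mul _ _ he'' hj, h.rho_inv _ he', h.rho_jHom, hz, inv_mul_cancel]
    have h5 : ((e * (Λ k₀)⁻¹)⁻¹ * jHom h ((z : Q) : T)) ∈ Mp h := (mem_Mp h).2 ⟨h3, h4⟩
    rw [← mem_Mp, heq]
    have h6 := (Mp h).inv_mem h5
    have := (Mp_normal h).conj_mem _ h6 (Λ k₀)⁻¹
    rw [inv_inv] at this
    exact this

end Cfsg.Agent.Helper3.Model
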