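import Mathlib
import Cfsg.Agent.Lib.Helper3.ModelUnique
import Cfsg.Agent.Lib.Helper25.FusionModel
import Cfsg.Agent.Lib.Helper7.PLocal2

/-!
# Uniqueness of models: the biset of a model
-/

set_option autoImplicit false
set_option linter.style.haveILetI false
set_option linter.unusedSectionVars false

namespace Cfsg.Agent.Helper3.Model

open Cfsg Cfsg.FusionSystem Cfsg.Agent.Helper25 Cfsg.Agent.Helper3.Biset MulAction

universe u v

variable {T : Type u} [Group T] [Finite T] {p : ℕ} [Fact p.Prime]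
  {E : FusionSystem (⊤ : Subgroup T)} {Q : Subgroup T} [Q.Normal]
  {G : Type v} [Group G]

/-- A model of a fusion system on the top subgroup, with the embedding defined on `T` itself. -/
structure IsTopModel (E : FusionSystem (⊤ : Subgroup T)) (p : ℕ) (ι : T →* G) : Prop where
  fin : Finite G
  inj : Function.Injective ι
  real : ∀ (P : Subgroup T) (φ : P →* T),
    φ ∈ E.Hom P ↔ ∃ g : G, ∀ x : P, ι (φ x) = g * ι x * g⁻¹
  syl : ∃ R : Sylow p G, (R : Subgroup G) = ι.range
  cen : Subgroup.centralizer ((pCore p G : Subgroup G) : Set G) ≤ pCore p G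

theorem isTopModel_of_isModel {ι' : (⊤ : Subgroup T) →* G} (hm : E.IsModel p G ι') :
    IsTopModel E p (ι'.comp (Subgroup.topEquiv (G := T)).symm.toMonoidHom) := by
  obtain ⟨hfin, ⟨hinj, hreal⟩, ⟨R, hR⟩, hcen⟩ := hm
  refine ⟨hfin, hinj.comp (Subgroup.topEquiv (G := T)).symm.injective, fun P φ => ?_, ⟨R, ?_⟩, hcen⟩
  · exact hreal P le_top φ (fun _ => Subgroup.mem_top _)
  · rw [hR]
    ext y
    constructor
    · rintro ⟨x, rfl⟩
      exact ⟨x.1, rfl⟩
    · rintro ⟨s, rfl⟩
      exact ⟨⟨s, Subgroup.mem_top s⟩, rfl⟩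

variable {ι : T →* G}

theorem IsTopModel.normal_map (hm : IsTopModel E p ι) (HH : Hyp p E Q) : (Q.map ι).Normal := by
  have hm' : E.IsModel p G (ι.comp (⊤ : Subgroup T).subtype) := by
    refine ⟨hm.fin, ⟨hm.inj.comp (Subgroup.subtype_injective _), fun P hP φ hφ => hm.real P φ⟩, ?_,
      hm.cen⟩
    obtain ⟨R, hR⟩ := hm.syl
    refine ⟨R, ?_⟩
    rw [hR]
    ext y
    constructor
    · rintro ⟨s, rfl⟩
      exact ⟨⟨s, Subgroup.mem_top s⟩, rfl⟩
    · rintro ⟨x, rfl⟩
      exact ⟨x.1, rfl⟩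
  have := normal_map_of_isNormal_of_isModel p E _ hm' HH.hQn
  have heq : (Q.subgroupOf ⊤).map (ι.comp (⊤ : Subgroup T).subtype) = Q.map ι := by
    ext y
    constructor
    · rintro ⟨x, hx, rfl⟩
      exact ⟨x.1, hx, rfl⟩
    · rintro ⟨s, hs, rfl⟩
      exact ⟨⟨s, Subgroup.mem_top s⟩, hs, rfl⟩
  rwa [heq] at this

/-- In a model, the centralizer of the image of a normal centric subgroup lies in that image. -/
theorem IsTopModel.centralizer_map_le (hm : IsTopModel E p ι) (HH : Hyp p E Q) :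
    Subgroup.centralizer ((Q.map ι : Subgroup G) : Set G) ≤ Q.map ι := by
  haveI := hm.fin
  haveI hQn : (Q.map ι).Normal := hm.normal_map HH
  have hp : p.Prime := Fact.out
  have hRn : (pCore p G).Normal := pCore_normal p G
  have hRp : IsPGroup p (pCore p G) := isPGroup_pCore p G
  obtain ⟨R, hR⟩ := hm.syl
  have hRT : pCore p G ≤ ι.range := hR ▸ hRp.le_sylow_of_normal R
  have hQp : IsPGroup p (Q.map ι) := (HH.hT.to_subgroup Q).map ι
  have key1 : ∀ x : G, x ∈ ι.range → x ∈ Subgroup.centralizer ((Q.map ι : Subgroup G) : Set G) →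
      x ∈ Q.map ι := by
    rintro _ ⟨t, rfl⟩ hx
    refine ⟨t, ?_, rfl⟩
    apply HH.hQc.2 Q (isConj_refl E le_top)
    rw [mem_centralizerIn]
    refine ⟨Subgroup.mem_top t, fun q hq => ?_⟩
    have := Subgroup.mem_centralizer_iff.1 hx (ι q) ⟨q, hq, rfl⟩
    rw [← map_mul, ← map_mul] at this
    exact hm.inj this
  have step1 : ∀ a : G, a ∈ Subgroup.centralizer ((Q.map ι : Subgroup G) : Set G) →
      (orderOf a).Coprime p → a = 1 := by
    intro a ha hcop
    have h1 : a ∈ Subgroup.centralizer ((pCore p G : Subgroup G) : Set G) := by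
      refine Helper7.thompson_AxB_element p (pCore p G) (Q.map ι) hRp hQp ?_ a ?_ hcop ha ?_
      · rw [Subgroup.normalizer_eq_top]; exact le_top
      · rw [Subgroup.normalizer_eq_top]; exact Subgroup.mem_top a
      · rw [Subgroup.mem_centralizer_iff]
        intro x hx
        have hx' : x ∈ Q.map ι := key1 x (hRT hx.1) hx.2
        exact Subgroup.mem_centralizer_iff.1 ha x hx'
    have h2 : a ∈ pCore p G := hm.cen h1
    obtain ⟨k, hk⟩ := hRp ⟨a, h2⟩
    have h3 : a ^ p ^ k = 1 := congrArg Subtype.val hk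
    have h4 : orderOf a ∣ p ^ k := orderOf_dvd_of_pow_eq_one h3
    have h5 : orderOf a = 1 := (Nat.Coprime.pow_right k hcop).eq_one_of_dvd h4
    exact orderOf_eq_one_iff.1 h5
  have step2 : IsPGroup p (Subgroup.centralizer ((Q.map ι : Subgroup G) : Set G)) := by
    rintro ⟨x, hx⟩
    have hn : orderOf x ≠ 0 := (orderOf_pos x).ne'
    obtain ⟨k, m, hm', hn'⟩ := Nat.exists_eq_pow_mul_and_not_dvd hn p hp.ne_one
    have ha : x ^ p ^ k ∈ Subgroup.centralizer ((Q.map ι : Subgroup G) : Set G) :=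
      Subgroup.pow_mem _ hx _
    have h1 : (x ^ p ^ k) ^ m = 1 := by
      rw [← pow_mul, ← hn', pow_orderOf_eq_one]
    have h2 : orderOf (x ^ p ^ k) ∣ m := orderOf_dvd_of_pow_eq_one h1
    have h3 : (orderOf (x ^ p ^ k)).Coprime p :=
      Nat.Coprime.coprime_dvd_left h2 ((Nat.Prime.coprime_iff_not_dvd hp).2 hm').symm
    have h4 := step1 _ ha h3
    exact ⟨k, Subtype.ext h4⟩
  intro x hx
  have hCn : (Subgroup.centralizer ((Q.map ι : Subgroup G) : Set G)).Normal :=
    Subgroup.normal_centralizer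
  exact key1 x (hRT (le_pCore hCn step2 hx)) hx

section AutOf

variable (hinj : Function.Injective ι) [hn : (Q.map ι).Normal]

/-- The automorphism of `Q` induced by conjugation by `g`, read through `ι`. -/
noncomputable def autOf : G →* MulAut Q :=
  (MulAut.congr (Subgroup.equivMapOfInjective Q ι hinj).symm).toMonoidHom.comp
    (MulAut.conjNormal (H := Q.map ι))

theorem map_autOf (g : G) (q : Q) : ι ((autOf hinj g q : Q) : T) = g * ι q * g⁻¹ := by
  have h1 : autOf hinj g q = (Subgroup.equivMapOfInjective Q ι hinj).symm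
      (MulAut.conjNormal g (Subgroup.equivMapOfInjective Q ι hinj q)) := rfl
  have h2 : ∀ y : Q.map ι, ι (((Subgroup.equivMapOfInjective Q ι hinj).symm y : Q) : T) = y := by
    intro y
    rw [← Subgroup.coe_equivMapOfInjective_apply Q ι hinj, MulEquiv.apply_symm_apply]
  rw [h1, h2, MulAut.conjNormal_apply, Subgroup.coe_equivMapOfInjective_apply]

end AutOf

/-- The map from a model to `Aut_E(Q)`. -/
noncomputable def piG (hm : IsTopModel E p ι) (HH : Hyp p E Q) : G →* E.autGroup Q :=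
  haveI := hm.normal_map HH
  (autOf hm.inj).codRestrict (E.autGroup Q) (fun g => by
    rw [mem_autGroup_iff E le_top, hm.real]
    exact ⟨g, fun x => map_autOf hm.inj g x⟩)

theorem map_piG (hm : IsTopModel E p ι) (HH : Hyp p E Q) (g : G) (q : Q) :
    ι ((((piG hm HH g : E.autGroup Q) : MulAut Q) q : Q) : T) = g * ι q * g⁻¹ :=
  haveI := hm.normal_map HH
  map_autOf hm.inj g q

theorem piG_eq_iff (hm : IsTopModel E p ι) (HH : Hyp p E Q) (g : G) (γ : E.autGroup Q) :
    piG hm HH g = γ ↔ ∀ q : Q, g * ι q * g⁻¹ = ι (((γ : MulAut Q) q : Q) : T) := by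
  constructor
  · rintro rfl q
    exact (map_piG hm HH g q).symm
  · intro h
    apply Subtype.ext
    ext q
    have := map_piG hm HH g q
    rw [h q] at this
    exact hm.inj this

theorem piG_map (hm : IsTopModel E p ι) (HH : Hyp p E Q) (s : T) :
    piG hm HH (ι s) = cHom E Q s := by
  rw [piG_eq_iff]
  intro q
  rw [cHom_apply, map_mul, map_mul, map_inv]

/-- The underlying set of a model, as a biset. -/
structure Bis (ι : T →* G) : Type v where
  /-- The underlying element. -/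
  val : G

theorem Bis.ext' {ι : T →* G} {x y : Bis ι} (h : x.val = y.val) : x = y := by
  cases x; cases y; cases h; rfl

instance instMulActionBis (ι : T →* G) : MulAction (T × T) (Bis ι) where
  smul g x := ⟨ι g.1 * x.val * (ι g.2)⁻¹⟩
  one_smul x := by
    apply Bis.ext'
    show ι (1 : T × T).1 * x.val * (ι (1 : T × T).2)⁻¹ = x.val
    simp
  mul_smul g g' x := by
    apply Bis.ext'
    show ι (g * g').1 * x.val * (ι (g * g').2)⁻¹ =
      ι g.1 * (ι g'.1 * x.val * (ι g'.2)⁻¹) * (ι g.2)⁻¹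
    simp [mul_assoc]

theorem Bis.smul_val (ι : T →* G) (s r : T) (x : Bis ι) :
    ((s, r) • x).val = ι s * x.val * (ι r)⁻¹ := rfl

/-- The underlying set of a model is the model. -/
def Bis.equiv (ι : T →* G) : Bis ι ≃ G := ⟨Bis.val, Bis.mk, fun _ => rfl, fun _ => rfl⟩

instance (ι : T →* G) [Finite G] : Finite (Bis ι) := Finite.of_equiv G (Bis.equiv ι).symm

theorem isCore_Bis (hm : IsTopModel E p ι) (HH : Hyp p E Q) :
    IsCore (cHom E Q) (fun x : Bis ι => piG hm HH x.val) where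
  conj := fun s q => cHom_apply s q
  ker := cHom_ker HH.hQc
  equi := by
    intro s r x
    show piG hm HH (ι s * x.val * (ι r)⁻¹) = _
    rw [map_mul, map_mul, map_inv, piG_map, piG_map]
  surj := by
    intro γ
    obtain ⟨g, hg⟩ := (hm.real Q (Q.subtype.comp (γ : MulAut Q).toMonoidHom)).1 (aut_mem γ)
    refine ⟨⟨g⟩, ?_⟩
    show piG hm HH g = γ
    rw [piG_eq_iff]
    intro q
    exact (hg q).symm
  free := by
    intro r x hx
    have h1 : ι 1 * x.val * (ι r)⁻¹ = x.val := congrArg Bis.val hx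
    rw [map_one, one_mul, mul_eq_left, inv_eq_one] at h1
    exact hm.inj (h1.trans (map_one ι).symm)
  fib := by
    intro x y hxy
    have hxy' : piG hm HH x.val = piG hm HH y.val := hxy
    have h1 : piG hm HH (x.val⁻¹ * y.val) = 1 := by
      rw [map_mul, map_inv, inv_mul_eq_one]
      exact hxy'
    have h2 : x.val⁻¹ * y.val ∈ Subgroup.centralizer ((Q.map ι : Subgroup G) : Set G) := by
      rw [Subgroup.mem_centralizer_iff]
      rintro _ ⟨q, hq, rfl⟩
      have := (piG_eq_iff hm HH _ 1).1 h1 ⟨q, hq⟩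
      rw [mul_inv_eq_iff_eq_mul] at this
      exact this.symm
    obtain ⟨q, hq, hqe⟩ := hm.centralizer_map_le HH h2
    refine ⟨q⁻¹, ?_, ?_⟩
    · rw [map_inv, ← piG_map hm HH, hqe, h1, inv_one]
    · apply Bis.ext'
      rw [Bis.smul_val, map_one, one_mul, map_inv, inv_inv, hqe, mul_inv_cancel_left]
  twist := by
    intro q x
    apply Bis.ext'
    rw [Bis.smul_val, Bis.smul_val, map_inv, inv_inv, map_one, inv_one, mul_one, one_mul]
    have h1 := map_piG hm HH x.val⁻¹ q
    rw [map_inv] at h1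
    rw [h1]
    group

theorem stabilizer_Bis_mem_TD (hm : IsTopModel E p ι) (x : Bis ι) :
    stabilizer (T × T) x ∈ TD E := by
  obtain ⟨g⟩ := x
  set P : Subgroup T := ι.range.comap ((MulAut.conj g⁻¹).toMonoidHom.comp ι) with hP
  have hPmem : ∀ s : T, s ∈ P ↔ g⁻¹ * ι s * g ∈ ι.range := by
    intro s
    rw [hP, Subgroup.mem_comap]
    show g⁻¹ * ι s * g⁻¹⁻¹ ∈ ι.range ↔ _
    rw [inv_inv]
  have hval : ∀ s : P, ((MulAut.conj g⁻¹).toMonoidHom.comp (ι.comp P.subtype)) s ∈ ι.range :=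
    fun s => s.2
  set ψ : P →* T := (MonoidHom.ofInjective hm.inj).symm.toMonoidHom.comp
    (((MulAut.conj g⁻¹).toMonoidHom.comp (ι.comp P.subtype)).codRestrict ι.range hval) with hψ
  have hιψ : ∀ s : P, ι (ψ s) = g⁻¹ * ι s * g := by
    intro s
    have := MonoidHom.apply_ofInjective_symm hm.inj
      ((((MulAut.conj g⁻¹).toMonoidHom.comp (ι.comp P.subtype)).codRestrict ι.range hval) s)
    rw [hψ]
    show ι ((MonoidHom.ofInjective hm.inj).symm _) = _
    rw [this]
    show g⁻¹ * ι s * g⁻¹⁻¹ = _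
    rw [inv_inv]
  have hψE : ψ ∈ E.Hom P := by
    rw [hm.real]
    exact ⟨g⁻¹, fun s => by rw [hιψ, inv_inv]⟩
  refine ⟨P, ψ, hψE, ?_⟩
  ext ⟨s, r⟩
  rw [mem_stabilizer_iff, mem_graph]
  have hiff : (s, r) • (⟨g⟩ : Bis ι) = ⟨g⟩ ↔ ι r = g⁻¹ * ι s * g := by
    constructor
    · intro h
      have h' : ι s * g * (ι r)⁻¹ = g := congrArg Bis.val h
      have h2 : ι s * g = g * ι r := by
        have := congrArg (· * ι r) h'
        simpa using this
      calc ι r = g⁻¹ * (g * ι r) := by group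
        _ = g⁻¹ * (ι s * g) := by rw [h2]
        _ = g⁻¹ * ι s * g := by group
    · intro h
      apply Bis.ext'
      rw [Bis.smul_val, h]
      group
  rw [hiff]
  constructor
  · intro h
    have hs : s ∈ P := (hPmem s).2 ⟨r, h⟩
    refine ⟨hs, hm.inj ?_⟩
    rw [hιψ ⟨s, hs⟩, h]
  · rintro ⟨hs, hr⟩
    have hr' : ψ ⟨s, hs⟩ = r := hr
    rw [← hr', hιψ ⟨s, hs⟩]

end Cfsg.Agent.Helper3.Model
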