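import Mathlib
import Cfsg.Agent.Lib.Helper3.ModelUnique2

/-!
# Uniqueness of models: the isomorphism
-/

set_option autoImplicit false
set_option linter.style.haveILetI false
set_option linter.unusedSectionVars false

namespace Cfsg.Agent.Helper3.Model

open Cfsg Cfsg.FusionSystem Cfsg.Agent.Helper25 Cfsg.Agent.Helper3.Biset MulAction

universe u v w

variable {T : Type u} [Group T] [Finite T] {p : ℕ} [Fact p.Prime]
  {E : FusionSystem (⊤ : Subgroup T)} {Q : Subgroup T} [Q.Normal]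
  {G : Type v} [Group G] {ι : T →* G}

theorem IsTopModel.ker_piG (hm : IsTopModel E p ι) (HH : Hyp p E Q) (g : G)
    (hg : piG hm HH g = 1) : ∃ s : T, cHom E Q s = 1 ∧ g = ι s := by
  obtain ⟨z, hz, hy⟩ := (isCore_Bis hm HH).fib (⟨1⟩ : Bis ι) ⟨g⟩ (by
    show piG hm HH 1 = piG hm HH g
    rw [hg, map_one])
  refine ⟨z⁻¹, by rw [map_inv, hz, inv_one], ?_⟩
  have := congrArg Bis.val hy
  rw [Bis.smul_val, map_one, one_mul, one_mul] at this
  rw [map_inv]
  exact this

/-- Left multiplication on the biset of a model. -/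
def lmul (ι : T →* G) (g : G) : Equiv.Perm (Bis ι) where
  toFun x := ⟨g * x.val⟩
  invFun x := ⟨g⁻¹ * x.val⟩
  left_inv x := by apply Bis.ext'; simp
  right_inv x := by apply Bis.ext'; simp

theorem lmul_val (g : G) (x : Bis ι) : (lmul ι g x).val = g * x.val := rfl

section Lam

variable {X' : Type w} [MulAction (T × T) X'] {π' : X' → E.autGroup Q}

/-- The action of a model on a biset isomorphic to its own biset. -/
noncomputable def lamHom (hm : IsTopModel E p ι) (HH : Hyp p E Q) (f : Bis ι ≃ X')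
    (hf : ∀ (g : T × T) (x : Bis ι), f (g • x) = g • f x)
    (hπ : ∀ x : Bis ι, π' (f x) = piG hm HH x.val) : G →* Ehat π' where
  toFun g := ⟨(f.symm.trans (lmul ι g)).trans f, by
    have hfs : ∀ (k : T × T) (y : X'), f.symm (k • y) = k • f.symm y := by
      intro k y
      apply f.injective
      rw [hf, Equiv.apply_symm_apply, Equiv.apply_symm_apply]
    refine ⟨fun r y => ?_, piG hm HH g, fun y => ?_⟩
    · show f (lmul ι g (f.symm (((1 : T), r) • y))) = ((1 : T), r) • f (lmul ι g (f.symm y))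
      rw [hfs, ← hf]
      congr 1
      apply Bis.ext'
      rw [lmul_val, Bis.smul_val, Bis.smul_val, lmul_val, map_one, one_mul, one_mul, mul_assoc]
    · show π' (f (lmul ι g (f.symm y))) = piG hm HH g * π' y
      rw [hπ, lmul_val, map_mul, ← hπ (f.symm y), Equiv.apply_symm_apply]⟩
  map_one' := by
    apply Subtype.ext
    ext y
    show f (lmul ι 1 (f.symm y)) = y
    have : lmul ι 1 (f.symm y) = f.symm y := by
      apply Bis.ext'; rw [lmul_val, one_mul]
    rw [this, Equiv.apply_symm_apply]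
  map_mul' g g' := by
    apply Subtype.ext
    ext y
    show f (lmul ι (g * g') (f.symm y)) = f (lmul ι g (f.symm (f (lmul ι g' (f.symm y)))))
    rw [Equiv.symm_apply_apply]
    congr 1
    apply Bis.ext'
    rw [lmul_val, lmul_val, lmul_val, mul_assoc]

theorem lamHom_apply (hm : IsTopModel E p ι) (HH : Hyp p E Q) (f : Bis ι ≃ X')
    (hf : ∀ (g : T × T) (x : Bis ι), f (g • x) = g • f x)
    (hπ : ∀ x : Bis ι, π' (f x) = piG hm HH x.val) (g : G) (y : X') :
    ((lamHom hm HH f hf hπ g : Ehat π') : Equiv.Perm X') y = f (lmul ι g (f.symm y)) := rfl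

theorem bijective_lamHom [Finite X'] (hm : IsTopModel E p ι) (HH : Hyp p E Q) (f : Bis ι ≃ X')
    (hf : ∀ (g : T × T) (x : Bis ι), f (g • x) = g • f x)
    (hπ : ∀ x : Bis ι, π' (f x) = piG hm HH x.val) (h' : IsCore (cHom E Q) π') :
    Function.Bijective ((QuotientGroup.mk' (Mp h')).comp (lamHom hm HH f hf hπ)) ∧
      ∀ s : T, (QuotientGroup.mk' (Mp h')).comp (lamHom hm HH f hf hπ) (ι s) =
        QuotientGroup.mk' (Mp h') (jHom h' s) := by
  have hdeg : ∀ g : G, deg (lamHom hm HH f hf hπ g) = piG hm HH g := by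
    intro g
    refine deg_eq h' _ (fun y => ?_)
    rw [lamHom_apply, hπ, lmul_val, map_mul, ← hπ (f.symm y), Equiv.apply_symm_apply]
  have ha : ∀ s, lamHom hm HH f hf hπ (ι s) = jHom h' s := by
    intro s
    apply Subtype.ext
    ext y
    rw [lamHom_apply, jHom_apply]
    have : lmul ι (ι s) (f.symm y) = (s, (1 : T)) • f.symm y := by
      apply Bis.ext'
      rw [lmul_val, Bis.smul_val, map_one, inv_one, mul_one]
    rw [this, hf, Equiv.apply_symm_apply]
  refine ⟨bijective_of_cover h' p HH.hT (not_dvd_index_cHom HH.hT HH.hF HH.hQn) ι _ ha ?_ ?_,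
    fun s => ?_⟩
  · intro γ
    obtain ⟨x, hx⟩ := (isCore_Bis hm HH).surj γ
    exact ⟨x.val, by rw [hdeg]; exact hx⟩
  · intro k hk
    rw [hdeg] at hk
    exact hm.ker_piG HH k hk
  · rw [MonoidHom.comp_apply, ha]

end Lam

/-- Uniqueness of models, for a fusion system on the top subgroup. -/
theorem exists_iso_top {G₁ : Type v} {G₂ : Type w} [Group G₁] [Group G₂] {ι₁ : T →* G₁}
    {ι₂ : T →* G₂} (HH : Hyp p E Q) (hm₁ : IsTopModel E p ι₁) (hm₂ : IsTopModel E p ι₂) :
    ∃ φ : G₁ ≃* G₂, ∀ s : T, φ (ι₁ s) = ι₂ s := by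
  haveI := hm₁.fin
  haveI := hm₂.fin
  have h₁ := isCore_Bis hm₁ HH
  have h₂ := isCore_Bis hm₂ HH
  have hext : IsExt E Q ⊤ (⊤ : Subgroup T).subtype 1 :=
    ⟨subtype_mem E le_top, le_top, fun q => rfl⟩
  choose Y hY1 hY2 using exists_match h₁ (stabilizer_Bis_mem_TD hm₁) h₂
    (stabilizer_Bis_mem_TD hm₂) HH hext
  obtain ⟨f, hf⟩ := exists_equiv_of_match (MulAction.toPermHom (T × T) (Bis ι₁))
    (MulAction.toPermHom (T × T) (Bis ι₂)) Y
    (fun x g => hY2 x ⟨g.1, Subgroup.mem_top _⟩ g.2)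
    (fun x x' g hg => by
      have hg' : Y x = g • Y x' := hg
      have h3 : piG hm₂ HH (Y x).val = piG hm₂ HH (g • Y x').val :=
        congrArg (fun y : Bis ι₂ => piG hm₂ HH y.val) hg'
      have h4 : piG hm₂ HH (Y x).val = piG hm₁ HH x.val := by
        have := hY1 x
        rw [one_mul] at this
        exact this
      have h5 : piG hm₂ HH (g • Y x').val =
          cHom E Q g.1 * piG hm₁ HH x'.val * (cHom E Q g.2)⁻¹ := by
        have := h₂.equi g.1 g.2 (Y x')
        rw [hY1 x', one_mul] at this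
        exact this
      have h6 : piG hm₁ HH (g • x').val = piG hm₁ HH x.val := by
        have := h₁.equi g.1 g.2 x'
        rw [h4, h5] at h3
        rw [h3]
        exact this
      obtain ⟨z, -, hz⟩ := h₁.fib (g • x') x h6
      refine ⟨((1 : T), z) * g, ?_⟩
      show x = (((1 : T), z) * g) • x'
      rw [mul_smul]
      exact hz)
    (by rw [h₂.card_eq, h₁.card_eq])
  have hf' : ∀ (g : T × T) (x : Bis ι₁), f (g • x) = g • f x := hf
  have hπ : ∀ x : Bis ι₁, piG hm₂ HH (f x).val = piG hm₁ HH x.val :=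
    pi_comp_of_equivariant h₁ h₂ f hf'
  obtain ⟨bij₁, e₁⟩ := bijective_lamHom hm₁ HH f hf' hπ h₂
  obtain ⟨bij₂, e₂⟩ := bijective_lamHom hm₂ HH (Equiv.refl (Bis ι₂)) (fun _ _ => rfl)
    (fun _ => rfl) h₂
  refine ⟨(MulEquiv.ofBijective _ bij₁).trans (MulEquiv.ofBijective _ bij₂).symm, fun s => ?_⟩
  rw [MulEquiv.trans_apply, MulEquiv.symm_apply_eq]
  show (QuotientGroup.mk' (Mp h₂)).comp (lamHom hm₁ HH f hf' hπ) (ι₁ s) =
    (QuotientGroup.mk' (Mp h₂)).comp (lamHom hm₂ HH (Equiv.refl (Bis ι₂)) (fun _ _ => rfl)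
      (fun _ => rfl)) (ι₂ s)
  rw [e₁, e₂]

end Cfsg.Agent.Helper3.Model
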