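import Mathlib
import Cfsg.Agent.Lib.Helper3.ModelUnique3
import Cfsg.Agent.Lib.Helper3.ModelTransport

/-!
# Uniqueness of models
-/

set_option autoImplicit false
set_option linter.style.haveILetI false
set_option linter.unusedSectionVars false

namespace Cfsg.Agent.Helper3.Model

open Cfsg Cfsg.FusionSystem Cfsg.Agent.Helper25 Cfsg.Agent.Helper3.Biset MulAction

variable {Ω : Type*} [Group Ω] {S : Subgroup Ω} {F : FusionSystem S}
  {E : FusionSystem (⊤ : Subgroup ↥S)} {p : ℕ}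

theorem isTopModel_of_topCopy (h : IsTopCopy F E) {G : Type*} [Group G] {ι : S →* G}
    (hm : F.IsModel p G ι) : IsTopModel E p ι := by
  obtain ⟨hfin, ⟨hinj, hreal⟩, hsyl, hcen⟩ := hm
  refine ⟨hfin, hinj, fun P' φ' => ?_, hsyl, hcen⟩
  have hle : P'.map S.subtype ≤ S := by
    rintro _ ⟨x, -, rfl⟩
    exact x.2
  constructor
  · intro hφ'
    obtain ⟨φ, hφ, hφeq⟩ := h.exists_of_mem hφ'
    have hφS := (F.le_of_mem hφ).2
    obtain ⟨g, hg⟩ := (hreal _ hle φ hφS).1 hφ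
    refine ⟨g, fun x => ?_⟩
    have hx : ((x : ↥S) : Ω) ∈ P'.map S.subtype := Subgroup.mem_map_of_mem _ x.2
    have := hg ⟨_, hx⟩
    have e1 : (⟨φ ⟨_, hx⟩, hφS _⟩ : ↥S) = φ' x := Subtype.ext (hφeq x hx)
    have e2 : (⟨((⟨((x : ↥S) : Ω), hx⟩ : ↥(P'.map S.subtype)) : Ω), hle hx⟩ : ↥S) = (x : ↥S) :=
      Subtype.ext rfl
    rw [e1, e2] at this
    exact this
  · rintro ⟨g, hg⟩
    set e := Subgroup.equivMapOfInjective P' S.subtype S.subtype_injective with he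
    have hesymm : ∀ (x : P') (hx : ((x : ↥S) : Ω) ∈ P'.map S.subtype), e.symm ⟨_, hx⟩ = x := by
      intro x hx
      rw [MulEquiv.symm_apply_eq]
      exact Subtype.ext rfl
    set φ : ↥(P'.map S.subtype) →* Ω := S.subtype.comp (φ'.comp e.symm.toMonoidHom) with hφdef
    have hφS : ∀ y, φ y ∈ S := fun y => Subtype.prop _
    have hφ : φ ∈ F.Hom (P'.map S.subtype) := by
      refine (hreal _ hle φ hφS).2 ⟨g, fun y => ?_⟩
      obtain ⟨_, x, hx, rfl⟩ := y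
      have hx' : ((⟨x, hx⟩ : P') : ↥S).1 ∈ P'.map S.subtype := Subgroup.mem_map_of_mem _ hx
      have := hg ⟨x, hx⟩
      have e1 : (⟨φ ⟨S.subtype x, ⟨x, hx, rfl⟩⟩, hφS _⟩ : ↥S) = φ' ⟨x, hx⟩ := by
        apply Subtype.ext
        have h0 : e.symm ⟨S.subtype x, ⟨x, hx, rfl⟩⟩ = ⟨x, hx⟩ := hesymm ⟨x, hx⟩ hx'
        show ((φ' (e.symm ⟨S.subtype x, ⟨x, hx, rfl⟩⟩) : ↥S) : Ω) = _
        rw [h0]
      rw [e1, this]
      rfl
    refine h.mem_of_mem hφ rfl φ' (fun x hx => ?_)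
    show _ = ((φ' (e.symm ⟨_, hx⟩) : ↥S) : Ω)
    rw [hesymm x hx]

/-- **The model theorem** (uniqueness): two models of a constrained fusion system are isomorphic
compatibly with the embeddings of `S`. -/
theorem exists_iso_of_isModel [Finite S] (p : ℕ) [Fact p.Prime] (hS : IsPGroup p S)
    (F : FusionSystem S) (hF : F.IsConstrained p) {G₁ G₂ : Type*} [Group G₁] [Group G₂]
    (ι₁ : S →* G₁) (ι₂ : S →* G₂) (h₁ : F.IsModel p G₁ ι₁) (h₂ : F.IsModel p G₂ ι₂) :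
    ∃ φ : G₁ ≃* G₂, ∀ x : S, φ (ι₁ x) = ι₂ x := by
  obtain ⟨hsat, Q, hQn, hQc⟩ := hF
  obtain ⟨E, hE⟩ := exists_topCopy F
  have hEsat := hE.isSaturated hS hsat
  have hEn := isNormal_of_topCopy hE hQn
  have hEc := isCentric_of_topCopy hE hQn hQc
  haveI := normal_of_isNormal hEn
  have HH : Hyp p E (Q.subgroupOf S) := ⟨hS, hEsat, hEn, hEc⟩
  exact exists_iso_top HH (isTopModel_of_topCopy hE h₁) (isTopModel_of_topCopy hE h₂)

end Cfsg.Agent.Helper3.Model
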