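import Mathlib
import Cfsg.Agent.Lib.Helper3.ModelUnique4
import Cfsg.Agent.Lib.Helper3.KLTransport

/-!
# Auxiliary facts about models: the centric normal subgroup contains its centralizer
-/

set_option autoImplicit false
set_option linter.style.haveILetI false
set_option linter.unusedSectionVars false

namespace Cfsg.Agent.Helper3.KL

open Cfsg Cfsg.FusionSystem Cfsg.Agent.Helper25 Cfsg.Agent.Helper3.Model Cfsg.Agent.Helper3.Biset

variable {Ω : Type*} [Group Ω] {S : Subgroup Ω}

/-- In a model, the image of a normal centric subgroup contains its centralizer. -/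
theorem centralizer_map_le_of_isModel [Finite S] (p : ℕ) [Fact p.Prime] (hS : IsPGroup p S)
    (F : FusionSystem S) (hsat : F.IsSaturated p) {Q : Subgroup Ω} (hQn : F.IsNormal Q)
    (hQc : F.IsCentric Q) {G : Type*} [Group G] (ι : S →* G) (hm : F.IsModel p G ι) :
    Subgroup.centralizer (((Q.subgroupOf S).map ι : Subgroup G) : Set G) ≤
      (Q.subgroupOf S).map ι := by
  obtain ⟨E, hE⟩ := exists_topCopy F
  have hEsat := hE.isSaturated hS hsat
  have hEn := isNormal_of_topCopy hE hQn
  have hEc := isCentric_of_topCopy hE hQn hQc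
  haveI := normal_of_isNormal hEn
  have HH : Hyp p E (Q.subgroupOf S) := ⟨hS, hEsat, hEn, hEc⟩
  exact (isTopModel_of_topCopy hE hm).centralizer_map_le HH

end Cfsg.Agent.Helper3.KL
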