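import Mathlib
import Cfsg.Agent.Lib.Helper3.KLModelAux
import Cfsg.Agent.Lib.Helper3.KLGroup
import Cfsg.Agent.Lib.Helper25.FusionSat3

/-!
# The embedding lemma: models of `N_{N_F(Q)}(U)` embed in models of `N_F(V)`, `V` a fully
normalized conjugate of `U ≥ Q`.
-/

set_option autoImplicit false
set_option linter.style.haveILetI false
set_option linter.unusedSectionVars false

namespace Cfsg.Agent.Helper3.KL

open Cfsg Cfsg.FusionSystem Cfsg.Agent.Helper25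

variable {Ω : Type*} [Group Ω] {S : Subgroup Ω} {L : Type*} [Group L]

theorem exists_conj_le_sylow [Finite L] {p : ℕ} [Fact p.Prime] (R : Sylow p L) {Sg : Subgroup L}
    (hSg : IsPGroup p Sg) : ∃ l : L, ∀ σ ∈ Sg, l * σ * l⁻¹ ∈ (R : Subgroup L) := by
  obtain ⟨R', hR'⟩ := hSg.exists_le_sylow
  obtain ⟨g, hg⟩ := MulAction.exists_smul_eq L R' R
  refine ⟨g, fun σ hσ => ?_⟩
  rw [← hg, Sylow.coe_subgroup_smul]
  have := Subgroup.smul_mem_pointwise_smul σ (MulAut.conj g) (R' : Subgroup L) (hR' hσ)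
  simpa [MulAut.smul_def] using this

theorem mem_normalizer_of_conj_le {H : Subgroup L} [Finite H] {l : L}
    (h : ∀ y ∈ H, l * y * l⁻¹ ∈ H) : l ∈ Subgroup.normalizer (H : Set L) := by
  apply mem_normalizer_of_forall h
  -- conjugation by l is an injective self-map of the finite set H, hence surjective
  let f : H → H := fun y => ⟨l * y * l⁻¹, h y y.2⟩
  have hinj : Function.Injective f := by
    intro a b hab
    have h1 : l * (a : L) * l⁻¹ = l * (b : L) * l⁻¹ := congrArg Subtype.val hab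
    exact Subtype.ext (mul_left_cancel (mul_right_cancel h1))
  have hsurj := Finite.surjective_of_injective hinj
  intro y hy
  obtain ⟨z, hz⟩ := hsurj ⟨y, hy⟩
  have hz' : l * (z : L) * l⁻¹ = y := congrArg Subtype.val hz
  rw [← hz']
  have : l⁻¹ * (l * (z : L) * l⁻¹) * l = z := by group
  rw [this]
  exact z.2

/-- The data of the embedding lemma. -/
structure EmbData (p : ℕ) (F : FusionSystem S) (Q U V : Subgroup Ω) (L : Type*) [Group L] where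
  hS : IsPGroup p S
  hF : F.IsSaturated p
  hQfn : F.IsFullyNormalized Q
  N : FusionSystem (normalizerIn S Q)
  hN : F.IsNormalizerSystem Q N
  hQU : Q ≤ U
  hUfn : N.IsFullyNormalized U
  hUc : F.IsCentric U
  hVc : F.IsCentric V
  hVfn : F.IsFullyNormalized V
  ψ : ↥(normalizerIn S U) →* Ω
  hψ : ψ ∈ F.Hom (normalizerIn S U)
  hψN : ∀ x, ψ x ∈ normalizerIn S V
  hψU : (U.subgroupOf (normalizerIn S U)).map ψ = V
  NV : FusionSystem (normalizerIn S V)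
  hNV : F.IsNormalizerSystem V NV
  ιV : ↥(normalizerIn S V) →* L
  hmV : NV.IsModel p L ιV

namespace EmbData

variable {p : ℕ} [Fact p.Prime] {F : FusionSystem S} {Q U V : Subgroup Ω} [Finite S]

section
variable (D : EmbData p F Q U V L)
include D

/-- the transported embedding `N_S(U) → L` -/
def j : ↥(normalizerIn S U) →* L := jmap D.hψN D.ιV

theorem j_injective : Function.Injective D.j := jmap_injective F D.hψ D.hψN D.ιV D.hmV.2.1.1

theorem hUT : U ≤ normalizerIn S Q := D.hUfn.1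

theorem hUS : U ≤ S := D.hUT.trans normalizerIn_le

theorem hQS : Q ≤ S := D.hQfn.1

theorem hUN : U ≤ normalizerIn S U := le_normalizerIn D.hUS

theorem hQN : Q ≤ normalizerIn S U := D.hQU.trans D.hUN

theorem hT'N : normalizerIn (normalizerIn S Q) U ≤ normalizerIn S U := by
  intro x hx
  exact ⟨normalizerIn_le (normalizerIn_le hx), hx.2⟩

/-- the image of `Q` -/
def jQ : Subgroup L := (Q.subgroupOf (normalizerIn S U)).map D.j

/-- the image of `U` -/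
def jU : Subgroup L := (U.subgroupOf (normalizerIn S U)).map D.j

theorem mem_jQ {y : L} : y ∈ D.jQ ↔ ∃ (q : Ω) (hq : q ∈ Q), D.j ⟨q, D.hQN hq⟩ = y := by
  constructor
  · rintro ⟨x, hx, rfl⟩
    exact ⟨x, Subgroup.mem_subgroupOf.mp hx, rfl⟩
  · rintro ⟨q, hq, rfl⟩
    exact ⟨⟨q, D.hQN hq⟩, Subgroup.mem_subgroupOf.mpr hq, rfl⟩

theorem mem_jU {y : L} : y ∈ D.jU ↔ ∃ (u : Ω) (hu : u ∈ U), D.j ⟨u, D.hUN hu⟩ = y := by
  constructor
  · rintro ⟨x, hx, rfl⟩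
    exact ⟨x, Subgroup.mem_subgroupOf.mp hx, rfl⟩
  · rintro ⟨u, hu, rfl⟩
    exact ⟨⟨u, D.hUN hu⟩, Subgroup.mem_subgroupOf.mpr hu, rfl⟩

theorem hVS : V ≤ S := D.hVfn.1

theorem hVN : V ≤ normalizerIn S V := le_normalizerIn D.hVS

theorem jU_eq : D.jU = (V.subgroupOf (normalizerIn S V)).map D.ιV := by
  ext y
  rw [mem_jU]
  constructor
  · rintro ⟨u, hu, rfl⟩
    have h0 : D.ψ ⟨u, D.hUN hu⟩ ∈ (U.subgroupOf (normalizerIn S U)).map D.ψ :=
      (mem_map_subgroupOf D.ψ).mpr ⟨u, _, hu, rfl⟩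
    rw [D.hψU] at h0
    exact ⟨⟨D.ψ ⟨u, D.hUN hu⟩, D.hψN _⟩, Subgroup.mem_subgroupOf.mpr h0, rfl⟩
  · rintro ⟨v, hv, rfl⟩
    have hv' : (v : Ω) ∈ V := Subgroup.mem_subgroupOf.mp hv
    have hv'' := D.hψU.ge hv'
    obtain ⟨u, huN, huU, huv⟩ := (mem_map_subgroupOf D.ψ).mp hv''
    refine ⟨u, huU, ?_⟩
    show D.ιV ⟨D.ψ ⟨u, _⟩, _⟩ = D.ιV v
    congr 1
    exact Subtype.ext huv

theorem NV_isNormal : D.NV.IsNormal V := normalizerSystem_isNormal F D.hVS D.NV D.hNV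

theorem NV_isCentric : D.NV.IsCentric V := normalizerSystem_isCentric F D.hVc D.NV D.hNV

theorem NV_isSaturated : D.NV.IsSaturated p :=
  normalizerSystem_isSaturated p D.hS F D.hF D.hVfn D.NV D.hNV

theorem jU_normal : D.jU.Normal := by
  rw [jU_eq]
  haveI : Finite (normalizerIn S V) := finite_of_le_finite normalizerIn_le
  exact normal_map_of_isNormal_of_isModel p D.NV D.ιV D.hmV D.NV_isNormal

theorem centralizer_jU_le : Subgroup.centralizer (D.jU : Set L) ≤ D.jU := by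
  rw [jU_eq]
  haveI : Finite (normalizerIn S V) := finite_of_le_finite normalizerIn_le
  exact centralizer_map_le_of_isModel p (D.hS.to_le normalizerIn_le) D.NV D.NV_isSaturated
    D.NV_isNormal D.NV_isCentric D.ιV D.hmV

/-- the subgroup `K = N_L(jQ)` -/
def K : Subgroup L := Subgroup.normalizer (D.jQ : Set L)

theorem j_mem_K {x : ↥(normalizerIn S U)} (hx : (x : Ω) ∈ Subgroup.normalizer (Q : Set Ω)) :
    D.j x ∈ D.K := by
  have key : ∀ x : ↥(normalizerIn S U), (x : Ω) ∈ Subgroup.normalizer (Q : Set Ω) →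
      ∀ y ∈ D.jQ, D.j x * y * (D.j x)⁻¹ ∈ D.jQ := by
    intro x hx y hy
    obtain ⟨q, hq, rfl⟩ := D.mem_jQ.mp hy
    have h1 : (x : Ω) * q * (x : Ω)⁻¹ ∈ Q := (Subgroup.mem_normalizer_iff.mp hx q).mp hq
    rw [D.mem_jQ]
    refine ⟨_, h1, ?_⟩
    have e : (⟨(x : Ω) * q * (x : Ω)⁻¹, D.hQN h1⟩ : ↥(normalizerIn S U)) =
        x * ⟨q, D.hQN hq⟩ * x⁻¹ := Subtype.ext rfl
    rw [e, map_mul, map_mul, map_inv]
  apply mem_normalizer_of_forall
  · exact key x hx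
  · intro y hy
    have := key x⁻¹ (Subgroup.inv_mem _ hx) y hy
    rwa [map_inv, inv_inv] at this

/-- **Sylow bound**: a `p`-subgroup of `K` has order at most `|N_{N_S(Q)}(U)|`. -/
theorem card_le_of_isPGroup (Sg : Subgroup L) (hSg : IsPGroup p Sg) (hSgK : Sg ≤ D.K) :
    Nat.card Sg ≤ Nat.card (normalizerIn (normalizerIn S Q) U) := by
  obtain ⟨hfin, hreal, ⟨R, hR⟩, hcen⟩ := D.hmV
  haveI := hfin
  have hιinj := hreal.1
  obtain ⟨l, hl⟩ := exists_conj_le_sylow R hSg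
  rw [hR] at hl
  -- the automorphism λ of V induced by l
  have hVrange : ∀ x : V, l * D.ιV ⟨x, D.hVN x.2⟩ * l⁻¹ ∈ D.ιV.range := by
    intro x
    have h1 : D.ιV ⟨x, D.hVN x.2⟩ ∈ D.jU := by
      rw [D.jU_eq]; exact ⟨_, Subgroup.mem_subgroupOf.mpr x.2, rfl⟩
    have h2 := D.jU_normal.conj_mem _ h1 l
    rw [D.jU_eq] at h2
    obtain ⟨v, -, hv⟩ := h2
    exact ⟨v, hv⟩
  obtain ⟨lam, hlam, hlamS, hιlam⟩ := exists_hom_of_conj D.NV hreal D.hVN l hVrange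
  have hlamF : lam ∈ F.Hom V := by
    have := hlam; rw [D.hNV] at this; exact this.1
  have hlamV : ∀ x : V, lam x ∈ V := by
    intro x
    have h1 : D.ιV ⟨x, D.hVN x.2⟩ ∈ D.jU := by
      rw [D.jU_eq]; exact ⟨_, Subgroup.mem_subgroupOf.mpr x.2, rfl⟩
    have h2 := D.jU_normal.conj_mem _ h1 l
    rw [← hιlam x, D.jU_eq] at h2
    obtain ⟨v, hv, hve⟩ := h2
    have h3 := congrArg Subtype.val (hιinj hve)
    have h4 : (v : Ω) ∈ V := Subgroup.mem_subgroupOf.mp hv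
    rw [h3] at h4
    exact h4
  -- ν = λ ∘ ψ on U
  have hψU' := restrict_mem F D.hUN D.hψ
  have hψUV : ∀ u : U, (D.ψ.comp (Subgroup.inclusion D.hUN)) u ∈ V := by
    intro u
    have h0 : D.ψ ⟨u, D.hUN u.2⟩ ∈ (U.subgroupOf (normalizerIn S U)).map D.ψ :=
      (mem_map_subgroupOf D.ψ).mpr ⟨u, _, u.2, rfl⟩
    exact D.hψU.le h0
  have hν := F.comp_mem hψU' hlamF hψUV
  set ν := lam.comp ((D.ψ.comp (Subgroup.inclusion D.hUN)).codRestrict V hψUV) with hνdef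
  have hνV : ∀ u : U, ν u ∈ V := fun u => hlamV _
  have hνNV : ∀ u : U, ν u ∈ normalizerIn S V := fun u => D.hVN (hνV u)
  have hιν : ∀ u : U, D.ιV ⟨ν u, hνNV u⟩ = l * D.j ⟨u, D.hUN u.2⟩ * l⁻¹ := by
    intro u
    exact hιlam _
  have hνsurj : ∀ v ∈ V, ∃ u : U, ν u = v := by
    intro v hv
    have h1 : D.ιV ⟨v, D.hVN hv⟩ ∈ D.jU := by
      rw [D.jU_eq]; exact ⟨_, Subgroup.mem_subgroupOf.mpr hv, rfl⟩
    have h2 := D.jU_normal.conj_mem _ h1 l⁻¹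
    obtain ⟨u, hu, hue⟩ := D.mem_jU.mp h2
    refine ⟨⟨u, hu⟩, ?_⟩
    have h3 := hιν ⟨u, hu⟩
    rw [hue] at h3
    have h4 : D.ιV ⟨ν ⟨u, hu⟩, hνNV _⟩ = D.ιV ⟨v, D.hVN hv⟩ := by rw [h3]; group
    exact congrArg Subtype.val (hιinj h4)
  -- the conjugate Q'' of Q
  have hνQ := restrict_mem F D.hQU hν
  set νQ := ν.comp (Subgroup.inclusion D.hQU) with hνQdef
  have hconj : F.IsConj Q νQ.range := ⟨νQ, hνQ, rfl⟩
  obtain ⟨-, hQfa, hQrec⟩ := of_fullyNormalized p D.hS F D.hF D.hQfn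
  obtain ⟨μ, hμ, hμN, hμQ, -⟩ := exists_normalizer_map p D.hS F Q νQ.range hQfa hQrec
    (isConj_symm F hconj)
  have hμinj := F.injective_of_mem hμ
  -- elements of N_S(V) lying over l K l⁻¹ normalize Q''
  have key1 : ∀ (d : ↥(normalizerIn S V)) (σ : L), σ ∈ D.K → D.ιV d = l * σ * l⁻¹ →
      ∀ y ∈ νQ.range, (d : Ω) * y * (d : Ω)⁻¹ ∈ νQ.range := by
    rintro d σ hσ hd _ ⟨q, rfl⟩
    have h1 : D.j ⟨q, D.hQN q.2⟩ ∈ D.jQ := D.mem_jQ.mpr ⟨q, q.2, rfl⟩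
    have h2 := (Subgroup.mem_normalizer_iff.mp hσ _).mp h1
    obtain ⟨q', hq', hq'e⟩ := D.mem_jQ.mp h2
    refine ⟨⟨q', hq'⟩, ?_⟩
    have h3 : D.ιV (d * ⟨ν ⟨q, D.hQU q.2⟩, hνNV _⟩ * d⁻¹) =
        D.ιV ⟨ν ⟨q', D.hQU hq'⟩, hνNV _⟩ := by
      rw [map_mul, map_mul, map_inv, hd, hιν, hιν, hq'e]
      group
    exact (congrArg Subtype.val (hιinj h3)).symm
  have key1' : ∀ (d : ↥(normalizerIn S V)) (σ : L), σ ∈ D.K → D.ιV d = l * σ * l⁻¹ →
      (d : Ω) ∈ normalizerIn S νQ.range := by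
    intro d σ hσ hd
    refine ⟨normalizerIn_le d.2, ?_⟩
    apply mem_normalizer_of_forall
    · exact key1 d σ hσ hd
    · intro y hy
      have hd' : D.ιV d⁻¹ = l * σ⁻¹ * l⁻¹ := by rw [map_inv, hd]; group
      have := key1 d⁻¹ σ⁻¹ (Subgroup.inv_mem _ hσ) hd' y hy
      simpa using this
  -- ν(U) normalizes Q''
  have key2 : ∀ u : U, ∀ y ∈ νQ.range, ν u * y * (ν u)⁻¹ ∈ νQ.range := by
    rintro u _ ⟨q, rfl⟩
    have huN : (u : Ω) ∈ Subgroup.normalizer (Q : Set Ω) := (D.hUT u.2).2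
    have h1 : (u : Ω) * q * (u : Ω)⁻¹ ∈ Q := (Subgroup.mem_normalizer_iff.mp huN q).mp q.2
    refine ⟨⟨_, h1⟩, ?_⟩
    show ν ⟨(u : Ω) * q * (u : Ω)⁻¹, _⟩ = ν u * ν ⟨q, _⟩ * (ν u)⁻¹
    rw [← map_inv, ← map_mul, ← map_mul]
    rfl
  have hνN : ∀ u : U, ν u ∈ normalizerIn S νQ.range := by
    intro u
    refine ⟨D.hVS (hνV u), ?_⟩
    apply mem_normalizer_of_forall
    · exact key2 u
    · intro y hy
      have := key2 u⁻¹ y hy
      rwa [map_inv, inv_inv] at this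
  -- ν₁ = μ ∘ ν, a map of N
  have hν₁ := F.comp_mem hν hμ hνN
  set ν₁ := μ.comp (ν.codRestrict (normalizerIn S νQ.range) hνN) with hν₁def
  have hν₁Q : ∀ (q : Ω) (hq : q ∈ Q), ν₁ ⟨q, D.hQU hq⟩ ∈ Q := by
    intro q hq
    exact hμQ _ ⟨⟨q, hq⟩, rfl⟩ _
  have hν₁N : ν₁ ∈ D.N.Hom U := by
    rw [D.hN U]
    exact mem_normalizerHom_of_le F D.hQU D.hUT hν₁ hν₁Q
  have hcard1 : Nat.card (normalizerIn (normalizerIn S Q) ν₁.range) ≤
      Nat.card (normalizerIn (normalizerIn S Q) U) := D.hUfn.2 ν₁.range ⟨ν₁, hν₁N, rfl⟩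
  refine le_trans ?_ hcard1
  -- the injection
  have key3 : ∀ (d : Ω) (hdQ : d ∈ normalizerIn S νQ.range),
      d ∈ Subgroup.normalizer (V : Set Ω) →
      ∀ z ∈ ν₁.range, μ ⟨d, hdQ⟩ * z * (μ ⟨d, hdQ⟩)⁻¹ ∈ ν₁.range := by
    rintro d hdQ hdV _ ⟨u, rfl⟩
    have h1 : d * ν u * d⁻¹ ∈ V := (Subgroup.mem_normalizer_iff.mp hdV _).mp (hνV u)
    obtain ⟨u', hu'⟩ := hνsurj _ h1
    refine ⟨u', ?_⟩
    show μ ⟨ν u', _⟩ = μ ⟨d, hdQ⟩ * μ ⟨ν u, _⟩ * (μ ⟨d, hdQ⟩)⁻¹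
    rw [← map_inv, ← map_mul, ← map_mul]
    congr 1
    exact Subtype.ext hu'
  have key3' : ∀ (d : Ω) (hdQ : d ∈ normalizerIn S νQ.range),
      d ∈ Subgroup.normalizer (V : Set Ω) →
      μ ⟨d, hdQ⟩ ∈ normalizerIn (normalizerIn S Q) ν₁.range := by
    intro d hdQ hdV
    refine ⟨hμN _, ?_⟩
    apply mem_normalizer_of_forall
    · exact key3 d hdQ hdV
    · intro z hz
      have := key3 d⁻¹ (Subgroup.inv_mem _ hdQ) (Subgroup.inv_mem _ hdV) z hz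
      have e : (⟨d⁻¹, Subgroup.inv_mem _ hdQ⟩ : ↥(normalizerIn S νQ.range)) = ⟨d, hdQ⟩⁻¹ := rfl
      rw [e, map_inv, inv_inv] at this
      exact this
  have hd : ∀ σ : Sg, ∃ d : ↥(normalizerIn S V), D.ιV d = l * (σ : L) * l⁻¹ := fun σ => hl σ σ.2
  choose dd hdd using hd
  haveI : Finite (normalizerIn (normalizerIn S Q) ν₁.range) :=
    finite_of_le_finite (normalizerIn_le.trans normalizerIn_le)
  refine Nat.card_le_card_of_injective
    (fun σ => (⟨μ ⟨dd σ, key1' (dd σ) σ (hSgK σ.2) (hdd σ)⟩,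
      key3' _ (key1' (dd σ) σ (hSgK σ.2) (hdd σ)) (dd σ).2.2⟩ :
        ↥(normalizerIn (normalizerIn S Q) ν₁.range))) ?_
  intro σ σ' h
  have h1 : μ ⟨dd σ, key1' (dd σ) σ (hSgK σ.2) (hdd σ)⟩ =
      μ ⟨dd σ', key1' (dd σ') σ' (hSgK σ'.2) (hdd σ')⟩ := congrArg Subtype.val h
  have h2 := congrArg Subtype.val (hμinj h1)
  have h3 : dd σ = dd σ' := Subtype.ext h2
  have h4 : l * (σ : L) * l⁻¹ = l * (σ' : L) * l⁻¹ := by rw [← hdd σ, ← hdd σ', h3]
  exact Subtype.ext (mul_left_cancel (mul_right_cancel h4))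

end

end EmbData

end Cfsg.Agent.Helper3.KL
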