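import Mathlib
import Cfsg.Agent.Lib.Helper3.KLEmbed

/-!
# Two transvection-like automorphisms of an abelian group

`X` is a group that is commutative by hypothesis `hX`, `G` a group of automorphisms of `X` in which the
`p`-subgroups have order at most `p` and every element `v` of order `p` has commutator group `[X, v]` of order `p`,
centralized by `v`.  For two elements `u`, `u'` of order `p` generating different subgroups:

* `moves_center`: `u'` moves every nontrivial element of `[X, u]`;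
* `exists_decomp`: `X = A × ⟨c⟩ × ⟨c'⟩` with `A` fixed by `u` and a generator `u₂` of `⟨u'⟩`, and `u`, `u₂`
  acting on `⟨c, c'⟩` as the standard unipotent generators of `SL₂(p)`;
* `weyl_facts`: the element `w = u u₂ u` conjugates `u` to `u₂`, and `w²` inverts `c`, `c'`, fixes `A` and
  commutes with `u`.
-/

set_option autoImplicit false
set_option linter.style.haveILetI false
set_option linter.unusedSectionVars false

namespace Cfsg.Agent.Helper3.TT

open Cfsg.Agent.Helper3.KL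

variable {X : Type*} [Group X]

instance finite_mulAut [Finite X] : Finite (MulAut X) :=
  Finite.of_injective (fun α : MulAut X => (α : X → X)) DFunLike.coe_injective

theorem comm4 (hX : ∀ a b : X, a * b = b * a) (a b c d : X) :
    a * b * (c * d) = a * c * (b * d) := by
  rw [mul_assoc, mul_assoc, ← mul_assoc b c d, hX b c, mul_assoc]

/-- the commutator endomorphism `e ↦ v e * e⁻¹` -/
def cm (hX : ∀ a b : X, a * b = b * a) (v : MulAut X) : X →* X where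
  toFun e := v e * e⁻¹
  map_one' := by simp
  map_mul' a b := by
    rw [map_mul, mul_inv_rev, hX b⁻¹ a⁻¹]
    exact comm4 hX _ _ _ _

theorem isPGroup_zpowers_of_pow_eq_one {Y : Type*} [Group Y] {p : ℕ} {v : Y} (h : v ^ p = 1) :
    IsPGroup p (Subgroup.zpowers v) := by
  rintro ⟨g, hg⟩
  obtain ⟨k, rfl⟩ := Subgroup.mem_zpowers_iff.mp hg
  refine ⟨1, ?_⟩
  apply Subtype.ext
  rw [pow_one]
  show (v ^ k) ^ p = 1
  rw [← zpow_natCast, ← zpow_mul, mul_comm, zpow_mul, zpow_natCast, h, one_zpow]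

theorem exists_zpow_of_card_prime {Y : Type*} [Group Y] {p : ℕ} [Fact p.Prime] (W : Subgroup Y)
    (hW : Nat.card W = p) {d : Y} (hd : d ∈ W) (hd1 : d ≠ 1) {w : Y} (hw : w ∈ W) :
    ∃ k : ℤ, w = d ^ k := by
  have h1 : Subgroup.zpowers (⟨d, hd⟩ : W) = ⊤ :=
    zpowers_eq_top_of_prime_card hW (fun h => hd1 (congrArg Subtype.val h))
  have h2 : (⟨w, hw⟩ : W) ∈ Subgroup.zpowers (⟨d, hd⟩ : W) := by rw [h1]; trivial
  obtain ⟨k, hk⟩ := Subgroup.mem_zpowers_iff.mp h2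
  refine ⟨k, ?_⟩
  have := congrArg Subtype.val hk
  simpa using this.symm

theorem pow_eq_one_of_card {Y : Type*} [Group Y] {p : ℕ} (W : Subgroup Y) (hW : Nat.card W = p)
    {w : Y} (hw : w ∈ W) : w ^ p = 1 := by
  have h1 : (⟨w, hw⟩ : W) ^ Nat.card W = 1 := pow_card_eq_one'
  rw [hW] at h1
  simpa using congrArg Subtype.val h1

theorem exists_pow_of_card_prime {Y : Type*} [Group Y] {p : ℕ} [Fact p.Prime] (W : Subgroup Y)
    (hW : Nat.card W = p) {d : Y} (hd : d ∈ W) (hd1 : d ≠ 1) {w : Y} (hw : w ∈ W) :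
    ∃ n : ℕ, w = d ^ n := by
  have hp : p.Prime := Fact.out
  obtain ⟨k, rfl⟩ := exists_zpow_of_card_prime W hW hd hd1 hw
  have hdp : d ^ p = 1 := pow_eq_one_of_card W hW hd
  have hord : orderOf d = p := orderOf_eq_prime hdp hd1
  refine ⟨(k % (p : ℤ)).toNat, ?_⟩
  rw [← zpow_natCast, Int.toNat_of_nonneg (Int.emod_nonneg _ (by exact_mod_cast hp.ne_zero)),
    ← hord, zpow_mod_orderOf]

/-- the group of automorphisms centralizing `W` and `X / W` -/
def stab (W : Subgroup X) : Subgroup (MulAut X) where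
  carrier := {h | (∀ w ∈ W, h w = w) ∧ ∀ e, h e * e⁻¹ ∈ W}
  one_mem' := ⟨fun _ _ => rfl, fun e => by simp⟩
  mul_mem' := by
    rintro a b ⟨ha1, ha2⟩ ⟨hb1, hb2⟩
    refine ⟨fun w hw => ?_, fun e => ?_⟩
    · rw [MulAut.mul_apply, hb1 w hw, ha1 w hw]
    · have h1 : (a * b) e * e⁻¹ = (a (b e) * (b e)⁻¹) * (b e * e⁻¹) := by
        rw [MulAut.mul_apply]; group
      rw [h1]
      exact W.mul_mem (ha2 _) (hb2 _)
  inv_mem' := by
    rintro a ⟨ha1, ha2⟩
    refine ⟨fun w hw => ?_, fun e => ?_⟩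
    · conv_lhs => rw [← ha1 w hw]
      exact MulAut.inv_apply_self _ a w
    · have h1 : a⁻¹ e * e⁻¹ = (a (a⁻¹ e) * (a⁻¹ e)⁻¹)⁻¹ := by
        rw [MulAut.apply_inv_self]; group
      rw [h1]
      exact W.inv_mem (ha2 _)

theorem mem_stab {W : Subgroup X} {h : MulAut X} :
    h ∈ stab W ↔ (∀ w ∈ W, h w = w) ∧ ∀ e, h e * e⁻¹ ∈ W := Iff.rfl

variable (hX : ∀ a b : X, a * b = b * a)
include hX

theorem cm_apply (v : MulAut X) (e : X) : cm hX v e = v e * e⁻¹ := rfl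

theorem apply_eq (v : MulAut X) (e : X) : v e = cm hX v e * e := by
  rw [cm_apply, inv_mul_cancel_right]

theorem cm_eq_one_iff (v : MulAut X) (e : X) : cm hX v e = 1 ↔ v e = e := by
  rw [cm_apply, mul_inv_eq_one]

theorem cm_conj (g v : MulAut X) (e : X) :
    cm hX (g * v * g⁻¹) e = g (cm hX v (g⁻¹ e)) := by
  rw [cm_apply, cm_apply, map_mul, map_inv, MulAut.mul_apply, MulAut.mul_apply,
    MulAut.apply_inv_self]

theorem zpow_mul_comm' (a b : X) (n : ℤ) : (a * b) ^ n = a ^ n * b ^ n :=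
  Commute.mul_zpow (hX a b) n

/-- powers of an automorphism centralizing its commutator -/
theorem pow_apply_of_fixed (v : MulAut X) (e : X) (h : v (cm hX v e) = cm hX v e) (n : ℕ) :
    (v ^ n) e = (cm hX v e) ^ n * e := by
  induction n with
  | zero => simp
  | succ n ih =>
    rw [pow_succ', MulAut.mul_apply, ih, map_mul, map_pow, h, apply_eq hX v e, ← mul_assoc,
      ← pow_succ]

theorem pow_eq_one_of_mem_stab {W : Subgroup X} {p : ℕ} (hW : ∀ w ∈ W, w ^ p = 1) {h : MulAut X}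
    (hh : h ∈ stab W) : h ^ p = 1 := by
  ext e
  have h1 := pow_apply_of_fixed hX h e (hh.1 _ (hh.2 e)) p
  rw [h1, cm_apply, hW _ (hh.2 e), one_mul]
  rfl

theorem isPGroup_stab {W : Subgroup X} {p : ℕ} (hW : ∀ w ∈ W, w ^ p = 1) :
    IsPGroup p (stab W) := by
  intro h
  refine ⟨1, ?_⟩
  apply Subtype.ext
  rw [pow_one]
  show ((h : MulAut X)) ^ p = 1
  exact pow_eq_one_of_mem_stab hX hW h.2

theorem range_cm_conj (g v : MulAut X) :
    (cm hX (g * v * g⁻¹)).range = (cm hX v).range.map g.toMonoidHom := by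
  ext y
  constructor
  · rintro ⟨e, rfl⟩
    rw [cm_conj]
    exact ⟨_, ⟨_, rfl⟩, rfl⟩
  · rintro ⟨_, ⟨f, rfl⟩, rfl⟩
    refine ⟨g f, ?_⟩
    rw [cm_conj, MulAut.inv_apply_self]
    rfl

theorem transv_conj {p : ℕ} (g v : MulAut X)
    (h : Nat.card (cm hX v).range = p ∧ ∀ e, v (cm hX v e) = cm hX v e) :
    Nat.card (cm hX (g * v * g⁻¹)).range = p ∧
      ∀ e, (g * v * g⁻¹) (cm hX (g * v * g⁻¹) e) = cm hX (g * v * g⁻¹) e := by
  constructor
  · rw [range_cm_conj, Subgroup.card_map_of_injective g.injective]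
    exact h.1
  · intro e
    rw [cm_conj, MulAut.mul_apply, MulAut.mul_apply, MulAut.inv_apply_self, h.2]

section main

variable [Finite X] {p : ℕ} [Fact p.Prime] (G : Subgroup (MulAut X))

/-- the transvection hypothesis on `G` -/
def IsTransv (p : ℕ) (G : Subgroup (MulAut X)) : Prop :=
  ∀ v ∈ G, v ≠ 1 → v ^ p = 1 →
    Nat.card (cm hX v).range = p ∧ ∀ e, v (cm hX v e) = cm hX v e

/-- the `p`-subgroups of `G` have order at most `p` -/
def SmallSylow (p : ℕ) (G : Subgroup (MulAut X)) : Prop :=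
  ∀ K : Subgroup (MulAut X), K ≤ G → IsPGroup p K → Nat.card K ≤ p

theorem le_zpowers_of_smallSylow (hSyl : SmallSylow p G) {u : MulAut X} (hu1 : u ≠ 1)
    (hup : u ^ p = 1) {K : Subgroup (MulAut X)} (hK : K ≤ G) (hKp : IsPGroup p K) (huK : u ∈ K) :
    K ≤ Subgroup.zpowers u := by
  have hp : p.Prime := Fact.out
  have h1 : Subgroup.zpowers u ≤ K := Subgroup.zpowers_le.mpr huK
  have h2 : Nat.card (Subgroup.zpowers u) = p := by
    rw [Nat.card_zpowers]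
    exact orderOf_eq_prime hup hu1
  have h3 : Subgroup.zpowers u = K := by
    apply Subgroup.eq_of_le_of_card_ge h1
    rw [h2]
    exact hSyl K hK hKp
  rw [h3]

theorem moves_center (hT : IsTransv hX p G) (hSyl : SmallSylow p G)
    {u u' : MulAut X} (hu : u ∈ G) (hu' : u' ∈ G) (hu1 : u ≠ 1) (hup : u ^ p = 1)
    (hu'p : u' ^ p = 1) (hne : u' ∉ Subgroup.zpowers u) {d : X} (hd : d ∈ (cm hX u).range)
    (hd1 : d ≠ 1) : u' d ≠ d := by
  intro hfix
  obtain ⟨hWcard, hufix⟩ := hT u hu hu1 hup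
  set W : Subgroup X := (cm hX u).range with hW
  have hWp : ∀ w ∈ W, w ^ p = 1 := fun w hw => pow_eq_one_of_card W hWcard hw
  -- `u'` fixes `W` pointwise
  have hu'W : ∀ w ∈ W, u' w = w := by
    intro w hw
    obtain ⟨k, rfl⟩ := exists_zpow_of_card_prime W hWcard hd hd1 hw
    rw [map_zpow, hfix]
  have hu'invW : ∀ w ∈ W, u'⁻¹ w = w := by
    intro w hw
    conv_lhs => rw [← hu'W w hw]
    exact MulAut.inv_apply_self _ u' w
  have huW : ∀ w ∈ W, u w = w := by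
    rintro _ ⟨e, rfl⟩
    exact hufix e
  have hu_stab : u ∈ stab W := ⟨huW, fun e => ⟨e, rfl⟩⟩
  have hu''_stab : u' * u * u'⁻¹ ∈ stab W := by
    refine ⟨fun w hw => ?_, fun e => ?_⟩
    · rw [MulAut.mul_apply, MulAut.mul_apply, hu'invW w hw, huW w hw, hu'W w hw]
    · have h1 : (u' * u * u'⁻¹) e * e⁻¹ = cm hX (u' * u * u'⁻¹) e := rfl
      rw [h1, cm_conj, hu'W _ ⟨_, rfl⟩]
      exact ⟨_, rfl⟩
  have hKp : IsPGroup p ↥(stab W ⊓ G) := (isPGroup_stab hX hWp).to_le inf_le_left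
  have hKle := le_zpowers_of_smallSylow hX G hSyl hu1 hup inf_le_right hKp ⟨hu_stab, hu⟩
  have hu''z : u' * u * u'⁻¹ ∈ Subgroup.zpowers u :=
    hKle ⟨hu''_stab, G.mul_mem (G.mul_mem hu' hu) (G.inv_mem hu')⟩
  haveI : Finite (Subgroup.zpowers u) := inferInstance
  have hnorm : u' ∈ Subgroup.normalizer ((Subgroup.zpowers u : Subgroup (MulAut X)) : Set (MulAut X)) := by
    apply mem_normalizer_of_conj_le
    intro y hy
    obtain ⟨k, rfl⟩ := Subgroup.mem_zpowers_iff.mp hy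
    have : u' * u ^ k * u'⁻¹ = (u' * u * u'⁻¹) ^ k := (conj_zpow).symm
    rw [this]
    exact Subgroup.zpow_mem _ hu''z k
  have hle : Subgroup.zpowers u' ≤ Subgroup.normalizer ((Subgroup.zpowers u : Subgroup (MulAut X)) : Set (MulAut X)) := by
    rw [Subgroup.zpowers_le]
    exact hnorm
  have hPp : IsPGroup p ↥(Subgroup.zpowers u' ⊔ Subgroup.zpowers u) :=
    IsPGroup.to_sup_of_normal_right' (isPGroup_zpowers_of_pow_eq_one hu'p)
      (isPGroup_zpowers_of_pow_eq_one hup) hle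
  have hPG : Subgroup.zpowers u' ⊔ Subgroup.zpowers u ≤ G :=
    sup_le (Subgroup.zpowers_le.mpr hu') (Subgroup.zpowers_le.mpr hu)
  have := le_zpowers_of_smallSylow hX G hSyl hu1 hup hPG hPp
    (le_sup_right (a := Subgroup.zpowers u') (Subgroup.mem_zpowers u))
  exact hne (this (le_sup_left (b := Subgroup.zpowers u) (Subgroup.mem_zpowers u')))

theorem exists_decomp (hT : IsTransv hX p G) (hSyl : SmallSylow p G)
    {u u' : MulAut X} (hu : u ∈ G) (hu' : u' ∈ G) (hu1 : u ≠ 1) (hu'1 : u' ≠ 1) (hup : u ^ p = 1)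
    (hu'p : u' ^ p = 1) (hne : u' ∉ Subgroup.zpowers u) (hne' : u ∉ Subgroup.zpowers u') :
    ∃ (u₂ : MulAut X) (c c' : X), u₂ ∈ Subgroup.zpowers u' ∧ c ≠ 1 ∧ c' ≠ 1 ∧ c ^ p = 1 ∧
      c' ^ p = 1 ∧ c ∈ (cm hX u).range ∧ c' ∈ (cm hX u').range ∧
      (∀ e, ∃ k : ℤ, cm hX u e = c ^ k) ∧ (∀ e, ∃ k : ℤ, cm hX u₂ e = c' ^ k) ∧
      u c = c ∧ u c' = c' * c ∧ u₂ c' = c' ∧ u₂ c = c * c'⁻¹ ∧
      ∀ e, ∃ (a : X) (i j : ℤ), e = a * c ^ i * c' ^ j ∧ u a = a ∧ u₂ a = a := by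
  have hp : p.Prime := Fact.out
  obtain ⟨hWcard, hufix⟩ := hT u hu hu1 hup
  obtain ⟨hW'card, hu'fix⟩ := hT u' hu' hu'1 hu'p
  set W : Subgroup X := (cm hX u).range with hW
  set W' : Subgroup X := (cm hX u').range with hW'
  have hnt : Nontrivial W' := by
    rw [← Finite.one_lt_card_iff_nontrivial, hW'card]; exact hp.one_lt
  obtain ⟨⟨d', hd'W⟩, hd'1⟩ := exists_ne (1 : W')
  have hd'1 : d' ≠ 1 := fun h => hd'1 (Subtype.ext h)
  have hud' : u d' ≠ d' := moves_center hX G hT hSyl hu' hu hu'1 hu'p hup hne' hd'W hd'1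
  set c : X := cm hX u d' with hc
  have hc1 : c ≠ 1 := fun h => hud' ((cm_eq_one_iff hX u d').mp h)
  have hcW : c ∈ W := ⟨d', rfl⟩
  have hcp : c ^ p = 1 := pow_eq_one_of_card W hWcard hcW
  have hd'p : d' ^ p = 1 := pow_eq_one_of_card W' hW'card hd'W
  have huc : u c = c := hufix d'
  have hud'' : u d' = d' * c := by rw [apply_eq hX u d', hX]
  have hu'c : u' c ≠ c := moves_center hX G hT hSyl hu hu' hu1 hup hu'p hne hcW hc1
  have hg1 : cm hX u' c ≠ 1 := fun h => hu'c ((cm_eq_one_iff hX u' c).mp h)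
  have hgW : cm hX u' c ∈ W' := ⟨c, rfl⟩
  obtain ⟨n, hn⟩ := exists_pow_of_card_prime W' hW'card hgW hg1 (W'.inv_mem hd'W)
  have hu'd' : u' d' = d' := by
    obtain ⟨e₀, rfl⟩ := hd'W
    exact hu'fix e₀
  have hcmd' : cm hX u' d' = 1 := (cm_eq_one_iff hX u' d').mpr hu'd'
  have hu₂d' : (u' ^ n) d' = d' := by
    rw [pow_apply_of_fixed hX u' d' (hu'fix d') n, hcmd', one_pow, one_mul]
  have hu₂c : (u' ^ n) c = c * d'⁻¹ := by
    rw [pow_apply_of_fixed hX u' c (hu'fix c) n, ← hn, hX]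
  have hcm₂ : ∀ e, cm hX (u' ^ n) e = (cm hX u' e) ^ n := by
    intro e
    rw [cm_apply, pow_apply_of_fixed hX u' e (hu'fix e) n, mul_inv_cancel_right]
  have hcmu : ∀ e, ∃ k : ℤ, cm hX u e = c ^ k := fun e =>
    exists_zpow_of_card_prime W hWcard hcW hc1 ⟨e, rfl⟩
  have hcmu₂ : ∀ e, ∃ k : ℤ, cm hX (u' ^ n) e = d' ^ k := by
    intro e
    obtain ⟨m, hm⟩ := exists_zpow_of_card_prime W' hW'card hd'W hd'1 ⟨e, rfl⟩
    refine ⟨m * n, ?_⟩
    rw [hcm₂, hm, zpow_mul, zpow_natCast]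
  refine ⟨u' ^ n, c, d', Subgroup.pow_mem _ (Subgroup.mem_zpowers u') n, hc1, hd'1, hcp, hd'p, hcW,
    hd'W, hcmu, hcmu₂, huc, hud'', hu₂d', hu₂c, fun e => ?_⟩
  obtain ⟨k, hk⟩ := hcmu e
  obtain ⟨l, hl⟩ := hcmu₂ e
  have hcmuc : cm hX u c = 1 := (cm_eq_one_iff hX u c).mpr huc
  have hcmud' : cm hX u d' = c := rfl
  have hcmu₂c : cm hX (u' ^ n) c = d'⁻¹ := by
    rw [cm_apply, hu₂c, hX c, mul_inv_cancel_right]
  have hcmu₂d' : cm hX (u' ^ n) d' = 1 := (cm_eq_one_iff hX _ d').mpr hu₂d'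
  refine ⟨e * (c ^ (-l) * d' ^ k)⁻¹, -l, k, ?_, ?_, ?_⟩
  · rw [mul_assoc, inv_mul_cancel_right]
  · rw [← cm_eq_one_iff hX, map_mul, map_inv, map_mul, map_zpow, map_zpow, hcmuc, hcmud', hk,
      one_zpow, one_mul, mul_inv_cancel]
  · rw [← cm_eq_one_iff hX, map_mul, map_inv, map_mul, map_zpow, map_zpow, hcmu₂c, hcmu₂d', hl,
      one_zpow, mul_one, inv_zpow, zpow_neg, inv_inv, mul_inv_cancel]

theorem weyl_facts {u u₂ : MulAut X} {c c' : X}
    (h1 : u c = c) (h2 : u c' = c' * c) (h3 : u₂ c' = c') (h4 : u₂ c = c * c'⁻¹)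
    (hdec : ∀ e, ∃ (a : X) (i j : ℤ), e = a * c ^ i * c' ^ j ∧ u a = a ∧ u₂ a = a) :
    (u * u₂ * u) * u * (u * u₂ * u)⁻¹ = u₂ ∧
    (∀ a, u a = a → u₂ a = a → (u * u₂ * u) a = a) ∧
    ((u * u₂ * u) * (u * u₂ * u)) c = c⁻¹ ∧ ((u * u₂ * u) * (u * u₂ * u)) c' = c'⁻¹ ∧
    ((u * u₂ * u) * (u * u₂ * u)) * u = u * ((u * u₂ * u) * (u * u₂ * u)) := by
  set w : MulAut X := u * u₂ * u with hw
  have hwc : w c = c'⁻¹ := by
    rw [hw, MulAut.mul_apply, MulAut.mul_apply, h1, h4, map_mul, map_inv, h1, h2, mul_inv_rev,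
      mul_inv_cancel_left]
  have hwc' : w c' = c := by
    rw [hw, MulAut.mul_apply, MulAut.mul_apply, h2, map_mul, h3, h4, hX c' (c * c'⁻¹),
      inv_mul_cancel_right, h1]
  have hwa : ∀ a, u a = a → u₂ a = a → w a = a := by
    intro a ha ha₂
    rw [hw, MulAut.mul_apply, MulAut.mul_apply, ha, ha₂, ha]
  have hwu : w * u = u₂ * w := by
    ext e
    obtain ⟨a, i, j, rfl, ha, ha₂⟩ := hdec e
    simp only [MulAut.mul_apply, map_mul, map_zpow, map_inv, h1, h2, h3, h4, ha, ha₂, hwc, hwc',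
      hwa a ha ha₂]
  refine ⟨by rw [hwu, mul_inv_cancel_right], hwa, ?_, ?_, ?_⟩
  · rw [MulAut.mul_apply, hwc, map_inv, hwc']
  · rw [MulAut.mul_apply, hwc', hwc]
  · ext e
    obtain ⟨a, i, j, rfl, ha, ha₂⟩ := hdec e
    simp only [MulAut.mul_apply, map_mul, map_zpow, map_inv, h1, h2, h3, h4, ha, ha₂, hwc, hwc',
      hwa a ha ha₂, mul_inv_rev, hX c⁻¹ c'⁻¹]

end main

end Cfsg.Agent.Helper3.TT
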