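import Mathlib
import Cfsg.Prelude.Def_FusionSystem
import Cfsg.Agent.Lib.Helper3.TwoTransv
import Cfsg.Agent.Lib.Helper3.KLLocal
import Cfsg.Agent.Lib.Helper25.FusionNormal2
import Cfsg.Agent.Lib.Helper25.FusionSat3
import Cfsg.Agent.Lib.Helper25.FusionOmit
import Cfsg.Agent.Lib.Helper25.FusionRS
import Cfsg.Agent.Lib.Helper25.FusionProduct3
import Cfsg.Agent.Lib.Helper26.EssentialChain

/-!
# Fusion systems on `p`-groups whose centre has index `p²`: the essential subgroups

`Hyp p F`: `S` is a nontrivial finite `p`-group with `|S : Z(S)| ≤ p²`, `F` saturated on `S` with `O_p(F) = 1`.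
Then `S` is not abelian, `|S : Z(S)| = p²`, there is an essential subgroup, and every essential subgroup `E`
is abelian of index `p`, contains `Z(S)` with index `p`, and `Aut_F(E)` satisfies the hypotheses of `TwoTransv`.
-/

set_option autoImplicit false
set_option linter.style.haveILetI false
set_option linter.unusedSectionVars false

namespace Cfsg.Agent.Helper3.SC

open Cfsg Cfsg.FusionSystem Cfsg.Agent.Helper25 Cfsg.Agent.Helper26 Cfsg.Agent.Helper3.KL
open Cfsg.Agent.Helper3.TT

variable {Ω : Type*} [Group Ω] {S : Subgroup Ω}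

/-- the standing hypotheses -/
structure Hyp (p : ℕ) (F : FusionSystem S) : Prop where
  pg : IsPGroup p S
  sat : F.IsSaturated p
  core : F.core = ⊥
  ne : S ≠ ⊥
  idx : (Subgroup.center ↥S).index ≤ p ^ 2

theorem center_eq : Subgroup.center ↥S = (centralizerIn S S).subgroupOf S := by
  ext x
  rw [Subgroup.mem_center_iff, Subgroup.mem_subgroupOf, mem_centralizerIn]
  constructor
  · intro h
    refine ⟨x.2, ?_⟩
    intro y hy
    exact congrArg Subtype.val (h ⟨y, hy⟩)
  · rintro ⟨-, h⟩ y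
    apply Subtype.ext
    exact h y y.2

theorem mem_Zc {z : Ω} : z ∈ centralizerIn S S ↔ z ∈ S ∧ ∀ y ∈ S, y * z = z * y := by
  rw [mem_centralizerIn]

theorem Zc_le : centralizerIn S S ≤ S := centralizerIn_le

theorem eq_bot_of_isNormal {F : FusionSystem S} (hcore : F.core = ⊥) {Q : Subgroup Ω}
    (hQ : F.IsNormal Q) : Q = ⊥ := by
  have h1 : Q ≤ F.core := le_sSup hQ
  rw [hcore] at h1
  exact le_bot_iff.mp h1

/-- if `H ≤ K ≤ L` with `|L : H|` prime then `K = H` or `K = L` -/
theorem eq_or_eq_of_relIndex_prime {G : Type*} [Group G] {p : ℕ} (hp : p.Prime) {H K L : Subgroup G}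
    (hHK : H ≤ K) (hKL : K ≤ L) (h : H.relIndex L = p) : K = H ∨ K = L := by
  have h1 := Subgroup.relIndex_mul_relIndex H K L hHK hKL
  rw [h] at h1
  rcases (Nat.dvd_prime hp).mp (Dvd.intro _ h1) with h2 | h2
  · left
    exact le_antisymm (Subgroup.relIndex_eq_one.mp h2) hHK
  · right
    rw [h2] at h1
    have h3 : K.relIndex L = 1 := by
      have := hp.pos
      nlinarith
    exact le_antisymm hKL (Subgroup.relIndex_eq_one.mp h3)

theorem mem_inf_cen_singleton {K : Subgroup Ω} {e y : Ω} :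
    y ∈ K ⊓ Subgroup.centralizer {e} ↔ y ∈ K ∧ e * y = y * e := by
  rw [Subgroup.mem_inf, Subgroup.mem_centralizer_iff]
  simp

theorem mem_inf_cen {K E : Subgroup Ω} {y : Ω} :
    y ∈ K ⊓ Subgroup.centralizer (E : Set Ω) ↔ y ∈ K ∧ ∀ x ∈ E, x * y = y * x := by
  rw [Subgroup.mem_inf, Subgroup.mem_centralizer_iff]
  rfl

section hyp

variable [Finite S] {p : ℕ} [Fact p.Prime] {F : FusionSystem S}

theorem exists_essential (H : Hyp p F) : ∃ E, F.IsEssential p E := by
  by_contra hno
  push Not at hno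
  have hn : F.IsNormal S := by
    apply isNormal_of_forall_essential p H.pg F H.sat S
    rintro P (rfl | hP)
    · refine ⟨le_rfl, fun α _ => ?_⟩
      rw [Subgroup.subgroupOf_self]
      ext y
      constructor
      · intro _; trivial
      · intro _; exact ⟨α⁻¹ y, trivial, by simp⟩
    · exact absurd hP (hno P)
  exact H.ne (eq_bot_of_isNormal H.core hn)

theorem essential_ne (H : Hyp p F) {E : Subgroup Ω} (hE : F.IsEssential p E) : E ≠ S := by
  rintro rfl
  exact Cfsg.Agent.Helper25.Omit.not_isEssential_self p F H.sat hE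

theorem Zc_le_essential {E : Subgroup Ω} (hE : F.IsEssential p E) : centralizerIn S S ≤ E := by
  have hES : E ≤ S := hE.1.1
  have h1 : centralizerIn S E ≤ E := hE.1.2 E (isConj_refl F hES)
  refine le_trans ?_ h1
  intro z hz
  rw [mem_centralizerIn] at hz ⊢
  refine ⟨hz.1, ?_⟩
  intro y hy
  exact hz.2 y (hES hy)

theorem not_comm (H : Hyp p F) : ¬ ∀ a b : S, a * b = b * a := by
  intro hc
  obtain ⟨E, hE⟩ := exists_essential H
  apply essential_ne H hE
  apply le_antisymm hE.1.1
  refine le_trans ?_ (Zc_le_essential hE)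
  intro s hs
  rw [mem_Zc]
  exact ⟨hs, fun y hy => congrArg Subtype.val (hc ⟨y, hy⟩ ⟨s, hs⟩)⟩

theorem index_center (H : Hyp p F) : (Subgroup.center ↥S).index = p ^ 2 ∧
    ∀ a b : (↥S ⧸ Subgroup.center ↥S), a * b = b * a := by
  have hp : p.Prime := Fact.out
  have hQ : IsPGroup p (↥S ⧸ Subgroup.center ↥S) := H.pg.to_quotient _
  obtain ⟨k, hk⟩ := IsPGroup.iff_card.mp hQ
  have hidx : (Subgroup.center ↥S).index = p ^ k := by rw [Subgroup.index_eq_card, hk]
  have hk2 : k ≤ 2 := by
    have := H.idx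
    rw [hidx] at this
    exact (Nat.pow_le_pow_iff_right hp.one_lt).mp this
  have hcyc : k ≤ 1 → False := by
    intro hk1
    haveI : IsCyclic (↥S ⧸ Subgroup.center ↥S) := by
      apply isCyclic_of_card_dvd_prime (p := p)
      rw [hk]
      interval_cases k
      · simp
      · simp
    apply not_comm H
    exact ((QuotientGroup.mk' (Subgroup.center ↥S)).isMulCommutative_of_isCyclic_of_ker_le_center
      (by rw [QuotientGroup.ker_mk'])).is_comm.comm
  have hk2' : k = 2 := by
    by_contra hne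
    exact hcyc (by omega)
  subst hk2'
  exact ⟨hidx, (IsPGroup.isMulCommutative_of_card_eq_prime_sq hk).is_comm.comm⟩

theorem relIndex_Zc (H : Hyp p F) : (centralizerIn S S).relIndex S = p ^ 2 := by
  have := (index_center H).1
  rw [center_eq] at this
  exact this

/-- commutators of `S` are central -/
theorem comm_mem_Zc (H : Hyp p F) {a b : Ω} (ha : a ∈ S) (hb : b ∈ S) :
    a * b * a⁻¹ * b⁻¹ ∈ centralizerIn S S := by
  have h1 := (index_center H).2 (QuotientGroup.mk' _ ⟨a, ha⟩) (QuotientGroup.mk' _ ⟨b, hb⟩)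
  have h2 : QuotientGroup.mk' (Subgroup.center ↥S)
      (⟨a, ha⟩ * ⟨b, hb⟩ * ⟨a, ha⟩⁻¹ * ⟨b, hb⟩⁻¹) = 1 := by
    rw [map_mul, map_mul, map_mul, map_inv, map_inv, h1]
    group
  rw [QuotientGroup.mk'_apply, QuotientGroup.eq_one_iff, center_eq, Subgroup.mem_subgroupOf] at h2
  exact h2

/-- what an essential subgroup looks like under `Hyp` -/
structure ED (p : ℕ) (F : FusionSystem S) (E : Subgroup Ω) : Prop where
  le : E ≤ S
  Z_le : centralizerIn S S ≤ E
  idx : E.relIndex S = p
  idxZ : (centralizerIn S S).relIndex E = p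
  comm : ∀ a b : E, a * b = b * a
  norm : S ≤ Subgroup.normalizer (E : Set Ω)
  cent : ∀ x ∈ S, x ∉ E → ∀ e ∈ E, x * e = e * x → e ∈ centralizerIn S S
  cen_le : centralizerIn S E ≤ E
  ess : F.IsEssential p E

theorem ed_of_essential (H : Hyp p F) {E : Subgroup Ω} (hE : F.IsEssential p E) : ED p F E := by
  have hp : p.Prime := Fact.out
  have hES : E ≤ S := hE.1.1
  haveI : Finite E := finite_of_le_finite hES
  have hZE := Zc_le_essential hE
  have hneS := essential_ne H hE
  have hcen : centralizerIn S E ≤ E := hE.1.2 E (isConj_refl F hES)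
  have hneZ : E ≠ centralizerIn S S := by
    intro h
    apply hneS
    apply le_antisymm hES
    refine le_trans ?_ hcen
    intro s hs
    rw [mem_centralizerIn]
    refine ⟨hs, fun y hy => ?_⟩
    rw [h] at hy
    exact ((mem_Zc.mp hy).2 s hs).symm
  have hmul := Subgroup.relIndex_mul_relIndex (centralizerIn S S) E S hZE hES
  rw [relIndex_Zc H] at hmul
  have h1 : (centralizerIn S S).relIndex E ≠ 1 := by
    intro h
    exact hneZ (le_antisymm (Subgroup.relIndex_eq_one.mp h) hZE)
  have h2 : E.relIndex S ≠ 1 := by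
    intro h
    exact hneS (le_antisymm hES (Subgroup.relIndex_eq_one.mp h))
  obtain ⟨hidxZ, hidx⟩ := (hp.mul_eq_prime_sq_iff h1 h2).mp hmul
  -- `E` is abelian
  obtain ⟨e₀, he₀E, he₀Z⟩ : ∃ e₀ ∈ E, e₀ ∉ centralizerIn S S := by
    by_contra hcon
    push Not at hcon
    exact hneZ (le_antisymm hcon hZE)
  have hK₁ : E ⊓ Subgroup.centralizer {e₀} = E := by
    rcases eq_or_eq_of_relIndex_prime hp (K := E ⊓ Subgroup.centralizer {e₀})
      (fun z hz => mem_inf_cen_singleton.mpr ⟨hZE hz, (mem_Zc.mp hz).2 e₀ (hES he₀E)⟩)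
      inf_le_left hidxZ with h | h
    · exfalso
      apply he₀Z
      rw [← h]
      exact mem_inf_cen_singleton.mpr ⟨he₀E, rfl⟩
    · exact h
  have hC : E ⊓ Subgroup.centralizer (E : Set Ω) = E := by
    rcases eq_or_eq_of_relIndex_prime hp (K := E ⊓ Subgroup.centralizer (E : Set Ω))
      (fun z hz => mem_inf_cen.mpr ⟨hZE hz, fun y hy => (mem_Zc.mp hz).2 y (hES hy)⟩)
      inf_le_left hidxZ with h | h
    · exfalso
      apply he₀Z
      rw [← h]
      refine mem_inf_cen.mpr ⟨he₀E, fun y hy => ?_⟩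
      have : y ∈ E ⊓ Subgroup.centralizer {e₀} := by rw [hK₁]; exact hy
      exact ((mem_inf_cen_singleton.mp this).2).symm
    · exact h
  have hcomm : ∀ a b : E, a * b = b * a := by
    intro a b
    apply Subtype.ext
    have : (b : Ω) ∈ E ⊓ Subgroup.centralizer (E : Set Ω) := by rw [hC]; exact b.2
    exact (mem_inf_cen.mp this).2 a a.2
  have hnorm : S ≤ Subgroup.normalizer (E : Set Ω) := by
    intro s hs
    apply mem_normalizer_of_conj_le
    intro e he
    have h3 : s * e * s⁻¹ = (s * e * s⁻¹ * e⁻¹) * e := by group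
    rw [h3]
    exact E.mul_mem (hZE (comm_mem_Zc H hs (hES he))) he
  refine ⟨hES, hZE, hidx, hidxZ, hcomm, hnorm, ?_, hcen, hE⟩
  intro x hx hxE e he hxe
  have hK : S ⊓ Subgroup.centralizer {e} = S := by
    rcases eq_or_eq_of_relIndex_prime hp (K := S ⊓ Subgroup.centralizer {e})
      (fun y hy => mem_inf_cen_singleton.mpr
        ⟨hES hy, congrArg Subtype.val (hcomm ⟨e, he⟩ ⟨y, hy⟩)⟩) inf_le_left hidx with h | h
    · exfalso
      apply hxE
      rw [← h]
      exact mem_inf_cen_singleton.mpr ⟨hx, hxe.symm⟩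
    · exact h
  rw [mem_Zc]
  refine ⟨hES he, fun y hy => ?_⟩
  have : y ∈ S ⊓ Subgroup.centralizer {e} := by rw [hK]; exact hy
  exact ((mem_inf_cen_singleton.mp this).2).symm

end hyp

end Cfsg.Agent.Helper3.SC
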