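import Mathlib
import Cfsg.Agent.Lib.Helper3.SmallCenter1

/-!
# The automorphism group of an essential subgroup (centre of index `p²`)

For `E` essential under `SC.Hyp`: the conjugation map `kap : S → Aut(E)` has kernel `E` and image `Aut_S(E)` of
order `p`; `Aut_F(E)` has small Sylow subgroups and consists of transvections (in the sense of `TwoTransv`), and
`Aut_S(E)` is not normal in it.
-/

set_option autoImplicit false
set_option linter.style.haveILetI false
set_option linter.unusedSectionVars false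

namespace Cfsg.Agent.Helper3.SC

open Cfsg Cfsg.FusionSystem Cfsg.Agent.Helper25 Cfsg.Agent.Helper26 Cfsg.Agent.Helper3.KL
open Cfsg.Agent.Helper3.TT

variable {Ω : Type*} [Group Ω] {S : Subgroup Ω} {E : Subgroup Ω}

/-- conjugation `S → Aut(E)` for `E` normalized by `S` -/
def kap (hn : S ≤ Subgroup.normalizer (E : Set Ω)) : ↥S →* MulAut ↥E :=
  E.normalizerMonoidHom.comp (Subgroup.inclusion hn)

theorem kap_apply (hn : S ≤ Subgroup.normalizer (E : Set Ω)) (s : S) (e : E) :
    ((kap hn s e : E) : Ω) = s * e * (s : Ω)⁻¹ := rfl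

theorem kap_mem (hn : S ≤ Subgroup.normalizer (E : Set Ω)) (s : S) :
    kap hn s ∈ autInducedBy S E :=
  (mem_autInducedBy_iff _).mpr ⟨s, s.2, fun _ => rfl⟩

theorem exists_kap_eq (hn : S ≤ Subgroup.normalizer (E : Set Ω)) {α : MulAut E}
    (hα : α ∈ autInducedBy S E) : ∃ s : S, kap hn s = α := by
  obtain ⟨g, hg, h⟩ := (mem_autInducedBy_iff α).mp hα
  refine ⟨⟨g, hg⟩, ?_⟩
  ext x
  rw [kap_apply, h]

theorem range_kap (hn : S ≤ Subgroup.normalizer (E : Set Ω)) :
    (kap hn).range = autInducedBy S E := by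
  ext α
  constructor
  · rintro ⟨s, rfl⟩
    exact kap_mem hn s
  · intro h
    exact exists_kap_eq hn h

section ed

variable [Finite S] {p : ℕ} [Fact p.Prime] {F : FusionSystem S}

theorem ker_kap (D : ED p F E) : (kap D.norm).ker = E.subgroupOf S := by
  ext s
  rw [MonoidHom.mem_ker, Subgroup.mem_subgroupOf]
  constructor
  · intro h
    apply D.cen_le
    rw [mem_centralizerIn]
    refine ⟨s.2, fun e he => ?_⟩
    have h1 := congrArg (fun a : MulAut E => ((a ⟨e, he⟩ : E) : Ω)) h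
    simp only [kap_apply, MulAut.one_apply] at h1
    -- s * e * s⁻¹ = e
    have h2 : (s : Ω) * e = e * s := by
      calc (s : Ω) * e = (s * e * (s : Ω)⁻¹) * s := by group
        _ = e * s := by rw [h1]
    exact h2.symm
  · intro hs
    ext e
    rw [kap_apply, MulAut.one_apply]
    have := congrArg Subtype.val (D.comm ⟨s, hs⟩ e)
    simp only [Subgroup.coe_mul] at this
    rw [this, mul_inv_cancel_right]

theorem card_autS (D : ED p F E) : Nat.card (autInducedBy S E) = p := by
  rw [← range_kap D.norm, ← Subgroup.index_ker, ker_kap D]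
  exact D.idx

theorem kap_ne_one (D : ED p F E) {x : Ω} (hx : x ∈ S) (hxE : x ∉ E) :
    kap D.norm ⟨x, hx⟩ ≠ 1 := by
  intro h
  have : (⟨x, hx⟩ : S) ∈ (kap D.norm).ker := h
  rw [ker_kap D, Subgroup.mem_subgroupOf] at this
  exact hxE this

theorem kap_pow (D : ED p F E) (s : S) : (kap D.norm s) ^ p = 1 := by
  have h := pow_eq_one_of_card (autInducedBy S E) (card_autS D) (kap_mem D.norm s)
  exact h

theorem autS_eq_zpowers (D : ED p F E) {x : Ω} (hx : x ∈ S) (hxE : x ∉ E) :
    autInducedBy S E = Subgroup.zpowers (kap D.norm ⟨x, hx⟩) := by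
  have hp : p.Prime := Fact.out
  haveI : Finite E := finite_of_le_finite D.le
  symm
  apply Subgroup.eq_of_le_of_card_ge (Subgroup.zpowers_le.mpr (kap_mem D.norm _))
  rw [card_autS D, Nat.card_zpowers, orderOf_eq_prime (kap_pow D _) (kap_ne_one D hx hxE)]

theorem smallSylow (H : Hyp p F) (D : ED p F E) : SmallSylow p (F.autGroup E) := by
  intro K hK hKp
  haveI : Finite E := finite_of_le_finite D.le
  obtain ⟨-, hfa, -⟩ := of_fullyNormalized p H.pg F H.sat D.ess.2.1
  obtain ⟨-, R, hR⟩ := hfa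
  have hK' : IsPGroup p (K.subgroupOf (F.autGroup E)) :=
    hKp.comap_of_injective (F.autGroup E).subtype (F.autGroup E).subtype_injective
  obtain ⟨P, hP⟩ := hK'.exists_le_sylow
  have h1 : Nat.card K = Nat.card (K.subgroupOf (F.autGroup E)) :=
    Nat.card_congr (Subgroup.subgroupOfEquivOfLe hK).symm.toEquiv
  have h2 : Nat.card (K.subgroupOf (F.autGroup E)) ≤ Nat.card P := Subgroup.card_le_of_le hP
  have h3 : Nat.card P = Nat.card R := by
    rw [Sylow.card_eq_multiplicity, Sylow.card_eq_multiplicity]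
  have h4 : Nat.card R = p := by
    show Nat.card (R : Subgroup (F.autGroup E)) = p
    rw [hR, ← card_autS D]
    exact Nat.card_congr (Subgroup.subgroupOfEquivOfLe (autInducedBy_le_autGroup F D.le)).toEquiv
  omega

/-- every element of order `p` of `Aut_F(E)` is conjugate into `Aut_S(E)` -/
theorem exists_conj_kap (H : Hyp p F) (D : ED p F E) {v : MulAut E} (hv : v ∈ F.autGroup E)
    (hvp : v ^ p = 1) : ∃ g ∈ F.autGroup E, ∃ s : S, v = g * kap D.norm s * g⁻¹ := by
  haveI : Finite E := finite_of_le_finite D.le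
  obtain ⟨-, hfa, -⟩ := of_fullyNormalized p H.pg F H.sat D.ess.2.1
  obtain ⟨-, R, hR⟩ := hfa
  have hSg : IsPGroup p (Subgroup.zpowers (⟨v, hv⟩ : F.autGroup E)) := by
    apply isPGroup_zpowers_of_pow_eq_one
    apply Subtype.ext
    exact hvp
  obtain ⟨l, hl⟩ := exists_conj_le_sylow R hSg
  have h1 := hl _ (Subgroup.mem_zpowers _)
  rw [hR, Subgroup.mem_subgroupOf] at h1
  obtain ⟨s, hs⟩ := exists_kap_eq D.norm h1
  refine ⟨(l⁻¹ : F.autGroup E), (l⁻¹).2, s, ?_⟩
  rw [hs]
  simp only [Subgroup.coe_mul, Subgroup.coe_inv, inv_inv]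
  group

/-- the commutator of `x ∈ S` with an element of `E` -/
theorem cm_kap_coe (D : ED p F E) (s : S) (e : E) :
    ((cm D.comm (kap D.norm s) e : E) : Ω) = s * e * (s : Ω)⁻¹ * (e : Ω)⁻¹ := rfl

theorem cm_kap_mem_Zc (H : Hyp p F) (D : ED p F E) (s : S) (e : E) :
    ((cm D.comm (kap D.norm s) e : E) : Ω) ∈ centralizerIn S S := by
  rw [cm_kap_coe D]
  exact comm_mem_Zc H s.2 (D.le e.2)

theorem kap_fix_Zc (D : ED p F E) (s : S) {e : E} (he : (e : Ω) ∈ centralizerIn S S) :
    kap D.norm s e = e := by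
  apply Subtype.ext
  rw [kap_apply, (mem_Zc.mp he).2 s s.2, mul_inv_cancel_right]

theorem transv_kap (H : Hyp p F) (D : ED p F E) {x : Ω} (hx : x ∈ S) (hxE : x ∉ E) :
    Nat.card (cm D.comm (kap D.norm ⟨x, hx⟩)).range = p ∧
      ∀ e, kap D.norm ⟨x, hx⟩ (cm D.comm (kap D.norm ⟨x, hx⟩) e) =
        cm D.comm (kap D.norm ⟨x, hx⟩) e := by
  refine ⟨?_, fun e => kap_fix_Zc D _ (cm_kap_mem_Zc H D _ e)⟩
  rw [← Subgroup.index_ker]
  have hker : (cm D.comm (kap D.norm ⟨x, hx⟩)).ker = (centralizerIn S S).subgroupOf E := by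
    ext e
    rw [MonoidHom.mem_ker, cm_eq_one_iff, Subgroup.mem_subgroupOf]
    constructor
    · intro h
      apply D.cent x hx hxE e e.2
      have h1 := congrArg Subtype.val h
      rw [kap_apply] at h1
      calc x * (e : Ω) = (x * e * x⁻¹) * x := by group
        _ = e * x := by rw [h1]
    · intro h
      exact kap_fix_Zc D _ h
  rw [hker]
  exact D.idxZ

theorem isTransv (H : Hyp p F) (D : ED p F E) : IsTransv D.comm p (F.autGroup E) := by
  intro v hv hv1 hvp
  obtain ⟨g, -, s, rfl⟩ := exists_conj_kap H D hv hvp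
  apply transv_conj
  have hsE : (s : Ω) ∉ E := by
    intro hs
    apply hv1
    have : s ∈ (kap D.norm).ker := by rw [ker_kap D, Subgroup.mem_subgroupOf]; exact hs
    rw [MonoidHom.mem_ker] at this
    rw [this, mul_one, mul_inv_cancel]
  exact transv_kap H D s.2 hsE

theorem exists_second (H : Hyp p F) (D : ED p F E) {x : Ω} (hx : x ∈ S) (hxE : x ∉ E) :
    ∃ g ∈ F.autGroup E, g * kap D.norm ⟨x, hx⟩ * g⁻¹ ∉ Subgroup.zpowers (kap D.norm ⟨x, hx⟩) := by
  by_contra hall
  push Not at hall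
  refine not_essential_of_normal_pSubgroup p H.pg F H.sat D.ess (autInducedBy S E)
    (autInducedBy_le_autGroup F D.le) ?_ (isPGroup_autInducedBy H.pg E) le_rfl
  refine ⟨fun a ha g => ?_⟩
  rw [Subgroup.mem_subgroupOf] at ha ⊢
  rw [autS_eq_zpowers D hx hxE] at ha ⊢
  obtain ⟨k, hk⟩ := Subgroup.mem_zpowers_iff.mp ha
  have h1 : ((g * a * g⁻¹ : F.autGroup E) : MulAut E) =
      ((g : MulAut E) * kap D.norm ⟨x, hx⟩ * (g : MulAut E)⁻¹) ^ k := by
    rw [conj_zpow, hk]
    rfl
  rw [h1]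
  exact Subgroup.zpow_mem _ (hall g g.2) k

end ed

end Cfsg.Agent.Helper3.SC
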