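import Mathlib
import Cfsg.Agent.Lib.Helper3.SmallCenter2
import Cfsg.Agent.Lib.Helper3.OliverKf

/-!
# `p`-groups with a unique abelian subgroup of index `p`: basic facts

`OD p S A`: `S` is a nonabelian finite `p`-group (a subgroup of `Ω`), `A` its unique abelian subgroup of index `p`.
Then `A ⊴ S`, `C_S(A) = A`, `Z(S) ≤ A`, `C_A(x) = Z(S)` for `x ∈ S ∖ A`, `S = A⟨x⟩`, and `|A : Z(S)| ≠ 1, p`.
-/

set_option autoImplicit false
set_option linter.style.haveILetI false
set_option linter.unusedSectionVars false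

namespace Cfsg.Agent.Helper3.OL

open Cfsg Cfsg.FusionSystem Cfsg.Agent.Helper25 Cfsg.Agent.Helper26 Cfsg.Agent.Helper3.KL
open Cfsg.Agent.Helper3.TT Cfsg.Agent.Helper3.SC

/-- decomposition of a group with respect to a normal subgroup of prime index -/
theorem exists_mul_pow_of_index_prime {G : Type*} [Group G] [Finite G] {p : ℕ} [Fact p.Prime]
    (H : Subgroup G) [H.Normal] (hidx : H.index = p) {y₀ : G} (hy₀ : y₀ ∉ H) (y : G) :
    ∃ h ∈ H, ∃ k : ℕ, y = h * y₀ ^ k := by
  have hcard : Nat.card (G ⧸ H) = p := by rw [← Subgroup.index_eq_card]; exact hidx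
  have hq₀ : (QuotientGroup.mk' H y₀) ≠ 1 := by
    intro h
    rw [QuotientGroup.mk'_apply, QuotientGroup.eq_one_iff] at h
    exact hy₀ h
  have htop := zpowers_eq_top_of_prime_card hcard hq₀
  have hmem : QuotientGroup.mk' H y ∈ Subgroup.zpowers (QuotientGroup.mk' H y₀) := by
    rw [htop]; trivial
  rw [← mem_powers_iff_mem_zpowers, Submonoid.mem_powers_iff] at hmem
  obtain ⟨k, hk⟩ := hmem
  refine ⟨y * (y₀ ^ k)⁻¹, ?_, k, by group⟩
  rw [← QuotientGroup.eq_one_iff, ← QuotientGroup.mk'_apply, map_mul, map_inv, map_pow, hk,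
    mul_inv_cancel]

variable {Ω : Type*} [Group Ω] {S A : Subgroup Ω}

/-- `S` is a nonabelian `p`-group with unique abelian subgroup `A` of index `p` -/
structure OD (p : ℕ) (S A : Subgroup Ω) : Prop where
  pg : IsPGroup p S
  le : A ≤ S
  comm : ∀ a b : A, a * b = b * a
  idx : A.relIndex S = p
  nab : ¬ ∀ a b : S, a * b = b * a
  uniq : ∀ B : Subgroup Ω, B ≤ S → (∀ a b : B, a * b = b * a) → B.relIndex S = p → B = A

section od

variable [Finite S] {p : ℕ} [Fact p.Prime]

theorem OD.comm' (D : OD p S A) {a b : Ω} (ha : a ∈ A) (hb : b ∈ A) : a * b = b * a :=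
  congrArg Subtype.val (D.comm ⟨a, ha⟩ ⟨b, hb⟩)

/-- a subgroup between `A` and `S` containing an element outside `A` is `S` -/
theorem OD.eq_top (D : OD p S A) {K : Subgroup Ω} (hAK : A ≤ K) (hKS : K ≤ S) {x : Ω}
    (hxK : x ∈ K) (hxA : x ∉ A) : K = S := by
  rcases eq_or_eq_of_relIndex_prime Fact.out hAK hKS D.idx with h | h
  · exact absurd (h ▸ hxK) hxA
  · exact h

theorem OD.not_le_Zc (D : OD p S A) : ¬ A ≤ centralizerIn S S := by
  intro hAZ
  apply D.nab
  intro s t
  apply Subtype.ext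
  by_cases hsA : (s : Ω) ∈ A
  · exact ((mem_Zc.mp (hAZ hsA)).2 t t.2).symm
  · have hK : S ⊓ Subgroup.centralizer {(s : Ω)} = S := by
      apply D.eq_top (x := s) _ inf_le_left (mem_inf_cen_singleton.mpr ⟨s.2, rfl⟩) hsA
      intro a ha
      exact mem_inf_cen_singleton.mpr ⟨D.le ha, (mem_Zc.mp (hAZ ha)).2 s s.2⟩
    have : (t : Ω) ∈ S ⊓ Subgroup.centralizer {(s : Ω)} := by rw [hK]; exact t.2
    exact (mem_inf_cen_singleton.mp this).2

/-- an element of `A` commuting with an element outside `A` is central -/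
theorem OD.cent (D : OD p S A) {x : Ω} (hx : x ∈ S) (hxA : x ∉ A) {a : Ω} (ha : a ∈ A)
    (hxa : x * a = a * x) : a ∈ centralizerIn S S := by
  have hK : S ⊓ Subgroup.centralizer {a} = S := by
    apply D.eq_top (x := x) _ inf_le_left (mem_inf_cen_singleton.mpr ⟨hx, hxa.symm⟩) hxA
    intro b hb
    exact mem_inf_cen_singleton.mpr ⟨D.le hb, D.comm' ha hb⟩
  rw [mem_Zc]
  refine ⟨D.le ha, fun y hy => ?_⟩
  have : y ∈ S ⊓ Subgroup.centralizer {a} := by rw [hK]; exact hy
  exact ((mem_inf_cen_singleton.mp this).2).symm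

theorem OD.Z_le (D : OD p S A) : centralizerIn S S ≤ A := by
  intro z hz
  by_contra hzA
  apply D.not_le_Zc
  intro a ha
  exact D.cent (mem_Zc.mp hz).1 hzA ha (((mem_Zc.mp hz).2 a (D.le ha)).symm)

theorem OD.cen_le (D : OD p S A) : centralizerIn S A ≤ A := by
  intro y hy
  by_contra hyA
  rw [mem_centralizerIn] at hy
  apply D.not_le_Zc
  intro a ha
  exact D.cent hy.1 hyA ha ((hy.2 a ha).symm)

theorem OD.exists_not_mem (D : OD p S A) : ∃ x ∈ S, x ∉ A := by
  by_contra hcon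
  push Not at hcon
  have h1 : A.relIndex S = 1 := Subgroup.relIndex_eq_one.mpr hcon
  rw [D.idx] at h1
  exact (Fact.out : p.Prime).one_lt.ne' h1

theorem OD.norm (D : OD p S A) : S ≤ Subgroup.normalizer (A : Set Ω) := by
  have hp : p.Prime := Fact.out
  have hidx : (A.subgroupOf S).index = (Nat.card S).minFac := by
    obtain ⟨n, hn⟩ := D.pg.exists_card_eq
    have hn0 : n ≠ 0 := by
      rintro rfl
      have h1 : A.relIndex S ∣ Nat.card S := Subgroup.relIndex_dvd_card A S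
      rw [D.idx, hn, pow_zero, Nat.dvd_one] at h1
      exact hp.one_lt.ne' h1
    rw [hn, hp.pow_minFac hn0]
    exact D.idx
  have hN : (A.subgroupOf S).Normal := Subgroup.normal_of_index_eq_minFac_card hidx
  exact (Subgroup.normal_subgroupOf_iff_le_normalizer D.le).mp hN

/-- `S = A⟨x⟩` -/
theorem OD.exists_mul_pow (D : OD p S A) {x : Ω} (hx : x ∈ S) (hxA : x ∉ A) {s : Ω} (hs : s ∈ S) :
    ∃ a ∈ A, ∃ k : ℕ, s = a * x ^ k := by
  haveI : (A.subgroupOf S).Normal :=
    (Subgroup.normal_subgroupOf_iff_le_normalizer D.le).mpr D.norm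
  have hx' : (⟨x, hx⟩ : S) ∉ A.subgroupOf S := fun h => hxA (Subgroup.mem_subgroupOf.mp h)
  obtain ⟨h, hh, k, hk⟩ := exists_mul_pow_of_index_prime (A.subgroupOf S) D.idx hx' ⟨s, hs⟩
  refine ⟨h, Subgroup.mem_subgroupOf.mp hh, k, ?_⟩
  have := congrArg Subtype.val hk
  simpa using this

/-- a subgroup of `S` not inside `A` meets `A` in a subgroup of index `p` -/
theorem OD.relIndex_of_not_le (D : OD p S A) {Q : Subgroup Ω} (hQS : Q ≤ S) (hQA : ¬ Q ≤ A) :
    A.relIndex Q = p := by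
  haveI : Finite Q := finite_of_le_finite hQS
  have h1 : A.relIndex Q ≤ p := by
    rw [← D.idx]
    apply Subgroup.relIndex_le_of_le_right hQS
    rw [D.idx]
    exact (Fact.out : p.Prime).ne_zero
  have hQp : IsPGroup p Q := D.pg.to_le hQS
  have h2 : (A.subgroupOf Q).index = 1 ∨ (A.subgroupOf Q).index = p := by
    have hp : p.Prime := Fact.out
    have h3 : (A.subgroupOf Q).index ∣ Nat.card Q := Subgroup.index_dvd_card _
    obtain ⟨n, hn⟩ := hQp.exists_card_eq
    rw [hn] at h3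
    obtain ⟨k, -, hk⟩ := (Nat.dvd_prime_pow hp).mp h3
    rcases Nat.eq_zero_or_pos k with h0 | h0
    · left
      rw [hk, h0, pow_zero]
    · right
      apply le_antisymm h1
      show p ≤ (A.subgroupOf Q).index
      rw [hk]
      calc p = p ^ 1 := (pow_one p).symm
        _ ≤ p ^ k := Nat.pow_le_pow_right hp.pos h0
  rcases h2 with h | h
  · exfalso
    exact hQA (Subgroup.relIndex_eq_one.mp h)
  · exact h

theorem OD.card_eq (D : OD p S A) {Q : Subgroup Ω} (hQS : Q ≤ S) (hQA : ¬ Q ≤ A) :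
    Nat.card Q = p * Nat.card (A ⊓ Q : Subgroup Ω) := by
  have h1 := Subgroup.relIndex_mul_relIndex ⊥ (A ⊓ Q) Q bot_le inf_le_right
  rw [Subgroup.relIndex_bot_left, Subgroup.relIndex_bot_left, Subgroup.inf_relIndex_right,
    D.relIndex_of_not_le hQS hQA] at h1
  rw [← h1, mul_comm]

/-- the index of `Q` in `R` can be computed inside `A` -/
theorem OD.relIndex_eq (D : OD p S A) {Q R : Subgroup Ω} (hQR : Q ≤ R) (hRS : R ≤ S)
    (hQA : ¬ Q ≤ A) : Q.relIndex R = (A ⊓ Q).relIndex (A ⊓ R) := by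
  have hp : p.Prime := Fact.out
  haveI : Finite R := finite_of_le_finite hRS
  have hRA : ¬ R ≤ A := fun h => hQA (le_trans hQR h)
  have h1 := Subgroup.relIndex_mul_relIndex ⊥ Q R bot_le hQR
  have h2 := Subgroup.relIndex_mul_relIndex ⊥ (A ⊓ Q) (A ⊓ R) bot_le (inf_le_inf_left A hQR)
  rw [Subgroup.relIndex_bot_left, Subgroup.relIndex_bot_left] at h1 h2
  rw [D.card_eq (le_trans hQR hRS) hQA, D.card_eq hRS hRA, ← h2] at h1
  have hpos : 0 < p * Nat.card (A ⊓ Q : Subgroup Ω) := by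
    haveI : Finite (A ⊓ Q : Subgroup Ω) := finite_of_le_finite (le_trans inf_le_right (le_trans hQR hRS))
    exact Nat.mul_pos hp.pos Nat.card_pos
  have h3 : p * Nat.card (A ⊓ Q : Subgroup Ω) * Q.relIndex R =
      p * Nat.card (A ⊓ Q : Subgroup Ω) * (A ⊓ Q).relIndex (A ⊓ R) := by
    rw [h1]; ring
  exact Nat.eq_of_mul_eq_mul_left hpos h3

end od

end Cfsg.Agent.Helper3.OL
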