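import Mathlib
import Cfsg.Agent.Lib.Helper3.OliverA1

/-!
# `p`-groups with a unique abelian subgroup of index `p`: the commutator endomorphism

For `x ∈ S ∖ A`, `phi : A → A`, `a ↦ [x, a]`, has kernel `Z(S)` and image `[S, S]`; its iterated kernels `K i` are
the terms `Z_i(S) ∩ A`, and its iterated images lie in the lower central series.
-/

set_option autoImplicit false
set_option linter.style.haveILetI false
set_option linter.unusedSectionVars false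

namespace Cfsg.Agent.Helper3.OL

open Cfsg Cfsg.FusionSystem Cfsg.Agent.Helper25 Cfsg.Agent.Helper26 Cfsg.Agent.Helper3.KL
open Cfsg.Agent.Helper3.TT Cfsg.Agent.Helper3.SC

theorem comm_identity {G : Type*} [Group G] {a b c d : G} (hac : Commute a c) (hba : Commute b a)
    (hbd : Commute b d) : a * c * d⁻¹ * b⁻¹ = c * b⁻¹ * (d * a⁻¹)⁻¹ := by
  have h1 : (d * a⁻¹)⁻¹ = a * d⁻¹ := by group
  have h2 : Commute b⁻¹ (a * d⁻¹) := (hba.inv_left).mul_right (hbd.inv_left.inv_right)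
  calc a * c * d⁻¹ * b⁻¹ = c * a * d⁻¹ * b⁻¹ := by rw [hac.eq]
    _ = c * ((a * d⁻¹) * b⁻¹) := by group
    _ = c * (b⁻¹ * (a * d⁻¹)) := by rw [h2.eq]
    _ = c * b⁻¹ * (d * a⁻¹)⁻¹ := by rw [h1]; group

section abel

variable {X : Type*} [Group X] (hX : ∀ a b : X, a * b = b * a)
include hX

theorem cm_pow_mem_range (v : MulAut X) (k : ℕ) (b : X) : cm hX (v ^ k) b ∈ (cm hX v).range := by
  induction k with
  | zero =>
    rw [pow_zero, cm_apply, MulAut.one_apply, mul_inv_cancel]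
    exact Subgroup.one_mem _
  | succ k ih =>
    have h1 : cm hX (v ^ (k + 1)) b = cm hX v ((v ^ k) b) * cm hX (v ^ k) b := by
      rw [cm_apply, cm_apply, cm_apply, pow_succ', MulAut.mul_apply]
      group
    rw [h1]
    exact Subgroup.mul_mem _ ⟨_, rfl⟩ ih

end abel

variable {Ω : Type*} [Group Ω] {S A : Subgroup Ω}

section od

variable [Finite S] {p : ℕ} [Fact p.Prime]

/-- the commutator endomorphism `a ↦ [x, a]` of `A` -/
def phi (D : OD p S A) {x : Ω} (hx : x ∈ S) : ↥A →* ↥A := cm D.comm (kap D.norm ⟨x, hx⟩)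

theorem phi_coe (D : OD p S A) {x : Ω} (hx : x ∈ S) (a : A) :
    ((phi D hx a : A) : Ω) = x * a * x⁻¹ * (a : Ω)⁻¹ := rfl

theorem ker_phi (D : OD p S A) {x : Ω} (hx : x ∈ S) (hxA : x ∉ A) :
    (phi D hx).ker = (centralizerIn S S).subgroupOf A := by
  ext a
  rw [MonoidHom.mem_ker, Subgroup.mem_subgroupOf]
  constructor
  · intro h
    apply D.cent hx hxA a.2
    have h1 : x * a * x⁻¹ * (a : Ω)⁻¹ = 1 := by
      rw [← phi_coe D hx, h]
      rfl
    calc x * (a : Ω) = (x * a * x⁻¹ * (a : Ω)⁻¹) * (a * x) := by group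
      _ = a * x := by rw [h1, one_mul]
  · intro h
    apply Subtype.ext
    rw [phi_coe, (mem_Zc.mp h).2 x hx]
    simp

/-- the iterated kernels of `phi`, in `Ω` -/
def K (D : OD p S A) {x : Ω} (hx : x ∈ S) (i : ℕ) : Subgroup Ω :=
  (Kf (phi D hx) i).map A.subtype

theorem K_le (D : OD p S A) {x : Ω} (hx : x ∈ S) (i : ℕ) : K D hx i ≤ A := by
  rintro _ ⟨a, -, rfl⟩
  exact a.2

theorem mem_K (D : OD p S A) {x : Ω} (hx : x ∈ S) {i : ℕ} {y : Ω} :
    y ∈ K D hx i ↔ ∃ hy : y ∈ A, (⟨y, hy⟩ : A) ∈ Kf (phi D hx) i := by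
  constructor
  · rintro ⟨a, ha, rfl⟩
    exact ⟨a.2, ha⟩
  · rintro ⟨hy, h⟩
    exact ⟨⟨y, hy⟩, h, rfl⟩

theorem K_one (D : OD p S A) {x : Ω} (hx : x ∈ S) (hxA : x ∉ A) :
    K D hx 1 = centralizerIn S S := by
  unfold K
  rw [Kf_one, ker_phi D hx hxA, Subgroup.map_subgroupOf_eq_of_le D.Z_le]

theorem K_mono (D : OD p S A) {x : Ω} (hx : x ∈ S) (i : ℕ) : K D hx i ≤ K D hx (i + 1) :=
  Subgroup.map_mono (Kf_mono _ i)

theorem relIndex_K (D : OD p S A) {x : Ω} (hx : x ∈ S) (i j : ℕ) :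
    (K D hx i).relIndex (K D hx j) = (Kf (phi D hx) i).relIndex (Kf (phi D hx) j) :=
  Subgroup.relIndex_map_map_of_injective _ _ A.subtype_injective

theorem K_eq_A_iff (D : OD p S A) {x : Ω} (hx : x ∈ S) (i : ℕ) :
    K D hx i = A ↔ Kf (phi D hx) i = ⊤ := by
  constructor
  · intro h
    apply top_unique
    intro a _
    have : (a : Ω) ∈ K D hx i := by rw [h]; exact a.2
    obtain ⟨_, h1⟩ := (mem_K D hx).mp this
    exact h1
  · intro h
    apply le_antisymm (K_le D hx i)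
    intro a ha
    exact (mem_K D hx).mpr ⟨ha, by rw [h]; trivial⟩

theorem mem_K_succ (D : OD p S A) {x : Ω} (hx : x ∈ S) {i : ℕ} {y : Ω} :
    y ∈ K D hx (i + 1) ↔ ∃ _ : y ∈ A, x * y * x⁻¹ * y⁻¹ ∈ K D hx i := by
  constructor
  · intro h
    obtain ⟨hy, h1⟩ := (mem_K D hx).mp h
    refine ⟨hy, (mem_K D hx).mpr ⟨(phi D hx ⟨y, hy⟩).2, ?_⟩⟩
    exact mem_Kf_succ.mp h1
  · rintro ⟨hy, h⟩
    obtain ⟨hz, h1⟩ := (mem_K D hx).mp h
    refine (mem_K D hx).mpr ⟨hy, ?_⟩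
    rw [mem_Kf_succ]
    exact h1

theorem conj_pow_eq {x y : Ω} (hx : x ∈ S) (hz : x * y * x⁻¹ * y⁻¹ ∈ centralizerIn S S) (k : ℕ) :
    x ^ k * y * (x ^ k)⁻¹ = (x * y * x⁻¹ * y⁻¹) ^ k * y := by
  induction k with
  | zero => simp
  | succ k ih =>
    have hzk : (x * y * x⁻¹ * y⁻¹) ^ k ∈ centralizerIn S S := Subgroup.pow_mem _ hz k
    have hc := (mem_Zc.mp hzk).2 x hx
    calc x ^ (k + 1) * y * (x ^ (k + 1))⁻¹ = x * (x ^ k * y * (x ^ k)⁻¹) * x⁻¹ := by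
          rw [pow_succ']; group
      _ = x * ((x * y * x⁻¹ * y⁻¹) ^ k * y) * x⁻¹ := by rw [ih]
      _ = (x * (x * y * x⁻¹ * y⁻¹) ^ k) * y * x⁻¹ := by group
      _ = ((x * y * x⁻¹ * y⁻¹) ^ k * x) * y * x⁻¹ := by rw [hc]
      _ = (x * y * x⁻¹ * y⁻¹) ^ k * (x * y * x⁻¹ * y⁻¹) * y := by group
      _ = (x * y * x⁻¹ * y⁻¹) ^ (k + 1) * y := by rw [← pow_succ]

/-- `K 2 = Z₂(S) ∩ A`, elementwise -/
theorem mem_K_two (D : OD p S A) {x : Ω} (hx : x ∈ S) (hxA : x ∉ A) {y : Ω} :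
    y ∈ K D hx 2 ↔ y ∈ A ∧ ∀ s ∈ S, s * y * s⁻¹ * y⁻¹ ∈ centralizerIn S S := by
  have e : K D hx 2 = K D hx (1 + 1) := rfl
  rw [e, mem_K_succ, K_one D hx hxA]
  constructor
  · rintro ⟨hy, hz⟩
    refine ⟨hy, fun s hs => ?_⟩
    obtain ⟨a, ha, k, rfl⟩ := D.exists_mul_pow hx hxA hs
    have hzk : (x * y * x⁻¹ * y⁻¹) ^ k ∈ centralizerIn S S := Subgroup.pow_mem _ hz k
    have h1 : a * x ^ k * y * (a * x ^ k)⁻¹ * y⁻¹ =
        a * (x ^ k * y * (x ^ k)⁻¹) * a⁻¹ * y⁻¹ := by group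
    rw [h1, conj_pow_eq hx hz k]
    have h2 : (x * y * x⁻¹ * y⁻¹) ^ k * y ∈ A := A.mul_mem (D.Z_le hzk) hy
    rw [D.comm' ha h2]
    have h3 : (x * y * x⁻¹ * y⁻¹) ^ k * y * a * a⁻¹ * y⁻¹ = (x * y * x⁻¹ * y⁻¹) ^ k := by group
    rw [h3]
    exact hzk
  · rintro ⟨hy, h⟩
    exact ⟨hy, h x hx⟩

theorem mem_Z2 {y : Ω} : y ∈ (upperCentralSeries ↥S 2).map S.subtype ↔
    y ∈ S ∧ ∀ s ∈ S, y * s * y⁻¹ * s⁻¹ ∈ centralizerIn S S := by
  constructor
  · rintro ⟨y', hy', rfl⟩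
    refine ⟨y'.2, fun s hs => ?_⟩
    have h1 := mem_upperCentralSeries_succ_iff.mp hy' ⟨s, hs⟩
    rw [upperCentralSeries_one, center_eq, Subgroup.mem_subgroupOf] at h1
    exact h1
  · rintro ⟨hy, h⟩
    refine ⟨⟨y, hy⟩, ?_, rfl⟩
    apply mem_upperCentralSeries_succ_iff.mpr
    intro s
    rw [upperCentralSeries_one, center_eq, Subgroup.mem_subgroupOf]
    exact h s s.2

theorem K_two_eq (D : OD p S A) {x : Ω} (hx : x ∈ S) (hxA : x ∉ A) :
    K D hx 2 = (upperCentralSeries ↥S 2).map S.subtype ⊓ A := by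
  ext y
  rw [mem_K_two D hx hxA, Subgroup.mem_inf, mem_Z2]
  constructor
  · rintro ⟨hy, h⟩
    refine ⟨⟨D.le hy, fun s hs => ?_⟩, hy⟩
    have h1 : y * s * y⁻¹ * s⁻¹ = (s * y * s⁻¹ * y⁻¹)⁻¹ := by group
    rw [h1]
    exact Subgroup.inv_mem _ (h s hs)
  · rintro ⟨⟨-, h⟩, hy⟩
    refine ⟨hy, fun s hs => ?_⟩
    have h1 : s * y * s⁻¹ * y⁻¹ = (y * s * y⁻¹ * s⁻¹)⁻¹ := by group
    rw [h1]
    exact Subgroup.inv_mem _ (h s hs)

/-- if `K 2 ≠ A` then `Z₂(S) ≤ A` -/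
theorem Z2_le (D : OD p S A) {x : Ω} (hx : x ∈ S) (hxA : x ∉ A) (hK : K D hx 2 ≠ A) :
    (upperCentralSeries ↥S 2).map S.subtype ≤ A := by
  intro y hy
  by_contra hyA
  obtain ⟨hyS, h⟩ := mem_Z2.mp hy
  apply hK
  apply le_antisymm (K_le D hx 2)
  intro a ha
  have e : K D hyS 2 = K D hx 2 := by
    ext w
    rw [mem_K_two D hyS hyA, mem_K_two D hx hxA]
  rw [← e]
  have e2 : K D hyS 2 = K D hyS (1 + 1) := rfl
  rw [e2, mem_K_succ, K_one D hyS hyA]
  exact ⟨ha, h a (D.le ha)⟩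

theorem Z2_eq (D : OD p S A) {x : Ω} (hx : x ∈ S) (hxA : x ∉ A) (hK : K D hx 2 ≠ A) :
    (upperCentralSeries ↥S 2).map S.subtype = K D hx 2 := by
  rw [K_two_eq D hx hxA, inf_of_le_left (Z2_le D hx hxA hK)]

/-- iterates of `phi` lie in the lower central series -/
theorem phi_iter_mem_lcs (D : OD p S A) {x : Ω} (hx : x ∈ S) (i : ℕ) (a : A) :
    (((phi D hx)^[i] a : A) : Ω) ∈ S.lowerCentralSeries i := by
  induction i with
  | zero => exact D.le a.2
  | succ i ih =>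
    rw [Function.iterate_succ_apply', phi_coe, Subgroup.lowerCentralSeries_succ]
    have h1 := Subgroup.commutator_mem_commutator ih hx
    rw [commutatorElement_def] at h1
    have h2 : x * (((phi D hx)^[i] a : A) : Ω) * x⁻¹ * ((((phi D hx)^[i] a : A) : Ω))⁻¹ =
        ((((phi D hx)^[i] a : A) : Ω) * x * ((((phi D hx)^[i] a : A) : Ω))⁻¹ * x⁻¹)⁻¹ := by group
    rw [h2]
    exact Subgroup.inv_mem _ h1

theorem exists_Kf_top (D : OD p S A) {x : Ω} (hx : x ∈ S) : ∃ n, Kf (phi D hx) n = ⊤ := by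
  haveI : Group.IsNilpotent ↥S := D.pg.isNilpotent
  obtain ⟨n, hn⟩ := (Subgroup.isNilpotent_iff_lowerCentralSeries S).mp inferInstance
  refine ⟨n, top_unique fun a _ => ?_⟩
  rw [mem_Kf_iff]
  have h1 := phi_iter_mem_lcs D hx n a
  rw [hn, Subgroup.mem_bot] at h1
  exact Subtype.ext h1

theorem relIndex_Z_A_ne_one (D : OD p S A) : (centralizerIn S S).relIndex A ≠ 1 := by
  intro h
  exact D.not_le_Zc (Subgroup.relIndex_eq_one.mp h)

theorem relIndex_Z_A_ne_p (D : OD p S A) : (centralizerIn S S).relIndex A ≠ p := by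
  have hp : p.Prime := Fact.out
  intro h
  obtain ⟨x, hx, hxA⟩ := D.exists_not_mem
  set k : Set Ω := (centralizerIn S S : Set Ω) ∪ {x} with hk
  set B : Subgroup Ω := Subgroup.closure k with hB
  have hcomm : ∀ u ∈ k, ∀ v ∈ k, u * v = v * u := by
    rintro u (hu | hu) v (hv | hv)
    · exact ((mem_Zc.mp hv).2 u (Zc_le hu))
    · rw [Set.mem_singleton_iff.mp hv]
      exact ((mem_Zc.mp hu).2 x hx).symm
    · rw [Set.mem_singleton_iff.mp hu]
      exact ((mem_Zc.mp hv).2 x hx)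
    · rw [Set.mem_singleton_iff.mp hu, Set.mem_singleton_iff.mp hv]
  have hBS : B ≤ S := by
    rw [hB, Subgroup.closure_le]
    rintro u (hu | hu)
    · exact Zc_le hu
    · rw [Set.mem_singleton_iff.mp hu]; exact hx
  have hZB : centralizerIn S S ≤ B := fun z hz => Subgroup.subset_closure (Or.inl hz)
  have hxB : x ∈ B := Subgroup.subset_closure (Or.inr rfl)
  have hBcomm : ∀ a b : B, a * b = b * a := by
    intro a b
    exact (Subgroup.isMulCommutative_closure hcomm).is_comm.comm a b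
  have h1 := Subgroup.relIndex_mul_relIndex (centralizerIn S S) A S D.Z_le D.le
  rw [h, D.idx] at h1
  have h2 := Subgroup.relIndex_mul_relIndex (centralizerIn S S) B S hZB hBS
  rw [← h1, ← pow_two] at h2
  have h3 : (centralizerIn S S).relIndex B ≠ 1 := by
    intro h4
    exact hxA (D.Z_le (Subgroup.relIndex_eq_one.mp h4 hxB))
  have h4 : B.relIndex S ≠ 1 := by
    intro h5
    apply D.nab
    intro a b
    have ha := Subgroup.relIndex_eq_one.mp h5 a.2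
    have hb := Subgroup.relIndex_eq_one.mp h5 b.2
    apply Subtype.ext
    have h6 := hBcomm ⟨a, ha⟩ ⟨b, hb⟩
    have h7 := congrArg Subtype.val h6
    exact h7
  obtain ⟨-, h5⟩ := (hp.mul_eq_prime_sq_iff h3 h4).mp h2
  have := D.uniq B hBS hBcomm h5
  exact hxA (this ▸ hxB)

theorem K_two_ne (D : OD p S A) {x : Ω} (hx : x ∈ S) (hxA : x ∉ A)
    (h12 : (K D hx 1).relIndex (K D hx 2) = p) : K D hx 2 ≠ A := by
  intro h
  apply relIndex_Z_A_ne_p D
  have e : (K D hx 1).relIndex (K D hx 2) = (centralizerIn S S).relIndex A := by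
    rw [K_one D hx hxA, h]
  rw [← e]
  exact h12

theorem K_one_ne (D : OD p S A) {x : Ω} (hx : x ∈ S) (hxA : x ∉ A) : K D hx 1 ≠ A := by
  intro h
  apply relIndex_Z_A_ne_one D
  rw [← K_one D hx hxA, h, Subgroup.relIndex_self]

/-- the chain of `K i` is strictly increasing until it reaches `A` -/
theorem K_succ_ne (D : OD p S A) {x : Ω} (hx : x ∈ S) {i : ℕ} (h : K D hx i ≠ A) :
    K D hx (i + 1) ≠ K D hx i := by
  intro heq
  apply h
  rw [K_eq_A_iff]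
  apply Kf_eq_top_of_stable _ (exists_Kf_top D hx)
  have h1 : Function.Injective (Subgroup.map A.subtype) :=
    Subgroup.map_injective A.subtype_injective
  exact h1 heq

end od

end Cfsg.Agent.Helper3.OL
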