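import Mathlib
import Cfsg.Agent.Lib.Helper3.OliverA2

/-!
# `p`-groups with a unique abelian subgroup of index `p`: consequences of `|K 2 : K 1| = p`
-/

set_option autoImplicit false
set_option linter.style.haveILetI false
set_option linter.unusedSectionVars false

namespace Cfsg.Agent.Helper3.OL

open Cfsg Cfsg.FusionSystem Cfsg.Agent.Helper25 Cfsg.Agent.Helper26 Cfsg.Agent.Helper3.KL
open Cfsg.Agent.Helper3.TT Cfsg.Agent.Helper3.SC

variable {Ω : Type*} [Group Ω] {S A : Subgroup Ω}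

section od

variable [Finite S] {p : ℕ} [Fact p.Prime]

theorem kap_pow_coe (D : OD p S A) {x : Ω} (hx : x ∈ S) (k : ℕ) (b : A) :
    ((((kap D.norm ⟨x, hx⟩) ^ k) b : A) : Ω) = x ^ k * b * (x ^ k)⁻¹ := by
  rw [← map_pow, kap_apply]
  simp

theorem comm_mem_range (D : OD p S A) {x : Ω} (hx : x ∈ S) (hxA : x ∉ A) {s t : Ω} (hs : s ∈ S)
    (ht : t ∈ S) : s * t * s⁻¹ * t⁻¹ ∈ (phi D hx).range.map A.subtype := by
  obtain ⟨a, ha, k, rfl⟩ := D.exists_mul_pow hx hxA hs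
  obtain ⟨b, hb, l, rfl⟩ := D.exists_mul_pow hx hxA ht
  obtain ⟨v, hv⟩ : ∃ v, v = kap D.norm ⟨x, hx⟩ := ⟨_, rfl⟩
  have hkp : ∀ (k : ℕ) (b : A), (((v ^ k) b : A) : Ω) = x ^ k * b * (x ^ k)⁻¹ := by
    rw [hv]
    exact kap_pow_coe D hx
  have hphi : phi D hx = cm D.comm v := by rw [hv]; rfl
  have e1 : cm D.comm (v ^ k) ⟨b, hb⟩ ∈ (phi D hx).range := by
    rw [hphi]; exact cm_pow_mem_range D.comm v k _
  have e2 : cm D.comm (v ^ l) ⟨a, ha⟩ ∈ (phi D hx).range := by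
    rw [hphi]; exact cm_pow_mem_range D.comm v l _
  have e3 := Subgroup.mul_mem _ e1 (Subgroup.inv_mem _ e2)
  refine ⟨_, e3, ?_⟩
  have hbk : x ^ k * b * (x ^ k)⁻¹ ∈ A := by
    have := ((v ^ k) ⟨b, hb⟩).2
    rwa [hkp k ⟨b, hb⟩] at this
  have hal : x ^ l * a * (x ^ l)⁻¹ ∈ A := by
    have := ((v ^ l) ⟨a, ha⟩).2
    rwa [hkp l ⟨a, ha⟩] at this
  have h1 : ((cm D.comm (v ^ k) ⟨b, hb⟩ * (cm D.comm (v ^ l) ⟨a, ha⟩)⁻¹ : A) : Ω) =
      (x ^ k * b * (x ^ k)⁻¹) * b⁻¹ * ((x ^ l * a * (x ^ l)⁻¹) * a⁻¹)⁻¹ := by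
    simp only [Subgroup.coe_mul, Subgroup.coe_inv, cm_apply, hkp]
  show ((cm D.comm (v ^ k) ⟨b, hb⟩ * (cm D.comm (v ^ l) ⟨a, ha⟩)⁻¹ : A) : Ω) = _
  rw [h1]
  have h2 : a * x ^ k * (b * x ^ l) * (a * x ^ k)⁻¹ * (b * x ^ l)⁻¹ =
      a * (x ^ k * b * (x ^ k)⁻¹) * (x ^ l * a * (x ^ l)⁻¹)⁻¹ * b⁻¹ := by group
  rw [h2]
  exact (comm_identity (D.comm' ha hbk) (D.comm' hb ha) (D.comm' hb hal)).symm

theorem commutator_map_eq : (commutator ↥S).map S.subtype = ⁅S, S⁆ := by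
  have h1 := Subgroup.top_subtype_lowerCentralSeries S 1
  rw [Subgroup.top_lowerCentralSeries_one] at h1
  rw [h1]
  rfl

theorem range_phi_eq (D : OD p S A) {x : Ω} (hx : x ∈ S) (hxA : x ∉ A) :
    (phi D hx).range.map A.subtype = (commutator ↥S).map S.subtype := by
  rw [commutator_map_eq]
  apply le_antisymm
  · rintro _ ⟨_, ⟨a, rfl⟩, rfl⟩
    have h1 := Subgroup.commutator_mem_commutator hx (D.le a.2)
    rw [commutatorElement_def] at h1
    exact h1
  · rw [Subgroup.commutator_le]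
    intro s hs t ht
    rw [commutatorElement_def]
    exact comm_mem_range D hx hxA hs ht

theorem Z_inf_comm_eq (D : OD p S A) {x : Ω} (hx : x ∈ S) (hxA : x ∉ A) :
    centralizerIn S S ⊓ (commutator ↥S).map S.subtype =
      ((phi D hx).ker ⊓ (phi D hx).range).map A.subtype := by
  rw [Subgroup.map_inf _ _ _ A.subtype_injective, range_phi_eq D hx hxA, ker_phi D hx hxA,
    Subgroup.map_subgroupOf_eq_of_le D.Z_le]

theorem card_Z_inf_comm (D : OD p S A) {x : Ω} (hx : x ∈ S) (hxA : x ∉ A)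
    (h12 : (K D hx 1).relIndex (K D hx 2) = p) :
    Nat.card ↥(centralizerIn S S ⊓ (commutator ↥S).map S.subtype) = p := by
  haveI : Finite A := finite_of_le_finite D.le
  rw [Z_inf_comm_eq D hx hxA, Subgroup.card_map_of_injective A.subtype_injective, ker_inf_range,
    card_map_Kf_two, ← relIndex_K]
  exact h12

theorem index_Z_sup_comm (D : OD p S A) {x : Ω} (hx : x ∈ S) (hxA : x ∉ A)
    (h12 : (K D hx 1).relIndex (K D hx 2) = p) :
    ((centralizerIn S S ⊔ (commutator ↥S).map S.subtype).subgroupOf A).index = p := by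
  haveI : Finite A := finite_of_le_finite D.le
  have hle : (commutator ↥S).map S.subtype ≤ A := by
    rw [← range_phi_eq D hx hxA]
    rintro _ ⟨a, -, rfl⟩
    exact a.2
  rw [Subgroup.subgroupOf_sup D.Z_le hle, ← ker_phi D hx hxA, ← range_phi_eq D hx hxA]
  have h1 : ((phi D hx).range.map A.subtype).subgroupOf A = (phi D hx).range :=
    Subgroup.comap_map_eq_self_of_injective A.subtype_injective _
  rw [h1, index_ker_sup_range, ← relIndex_K]
  exact h12

theorem relIndex_K_one_A (D : OD p S A) {x : Ω} (hx : x ∈ S) :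
    (K D hx 1).relIndex A = (Kf (phi D hx) 1).index := by
  have h1 : (⊤ : Subgroup A).map A.subtype = A := by
    rw [← MonoidHom.range_eq_map, Subgroup.range_subtype]
  have h2 := Subgroup.relIndex_map_map_of_injective (Kf (phi D hx) 1) ⊤ A.subtype_injective
  rw [h1, Subgroup.relIndex_top_right] at h2
  exact h2

theorem isPGroup_A (D : OD p S A) : IsPGroup p A := D.pg.to_le D.le

/-- an element of `γ_k(S)` outside the `k`-th ... -/
theorem exists_iter_ne_one (D : OD p S A) {x : Ω} (hx : x ∈ S) (hxA : x ∉ A)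
    (h12 : (K D hx 1).relIndex (K D hx 2) = p) {k : ℕ} (hk : 1 ≤ k)
    (hidx : (centralizerIn S S).relIndex A = p ^ k) : ∃ a : A, (phi D hx)^[k] a ≠ 1 := by
  haveI : Finite A := finite_of_le_finite D.le
  have h12' : (Kf (phi D hx) 1).relIndex (Kf (phi D hx) 2) = p := by
    rw [← relIndex_K]; exact h12
  have hidx' : (Kf (phi D hx) 1).index = p ^ k := by
    rw [← relIndex_K_one_A, K_one D hx hxA]; exact hidx
  have hne := Kf_ne_top (isPGroup_A D) h12' (exists_Kf_top D hx) hk hidx'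
  by_contra hcon
  push Not at hcon
  apply hne
  apply top_unique
  intro a _
  rw [mem_Kf_iff]
  exact hcon a

theorem lcs_ne_bot (D : OD p S A) {x : Ω} (hx : x ∈ S) (hxA : x ∉ A)
    (h12 : (K D hx 1).relIndex (K D hx 2) = p) {k : ℕ} (hk : 1 ≤ k)
    (hidx : (centralizerIn S S).relIndex A = p ^ k) : S.lowerCentralSeries k ≠ ⊥ := by
  obtain ⟨a, ha⟩ := exists_iter_ne_one D hx hxA h12 hk hidx
  intro hbot
  have h1 := phi_iter_mem_lcs D hx k a
  rw [hbot, Subgroup.mem_bot] at h1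
  exact ha (Subtype.ext h1)

theorem lcs_not_le (D : OD p S A) {x : Ω} (hx : x ∈ S) (hxA : x ∉ A)
    (h12 : (K D hx 1).relIndex (K D hx 2) = p) {k : ℕ}
    (hidx : (centralizerIn S S).relIndex A = p ^ (k + 1)) :
    ¬ S.lowerCentralSeries k ≤ centralizerIn S S := by
  obtain ⟨a, ha⟩ := exists_iter_ne_one D hx hxA h12 (Nat.le_add_left 1 k) hidx
  intro hle
  have h1 := hle (phi_iter_mem_lcs D hx k a)
  rw [Function.iterate_succ_apply'] at ha
  apply ha
  have h2 : (phi D hx)^[k] a ∈ (phi D hx).ker := by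
    rw [ker_phi D hx hxA, Subgroup.mem_subgroupOf]
    exact h1
  exact h2

end od

end Cfsg.Agent.Helper3.OL
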