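import Mathlib
import Cfsg.Agent.Lib.Helper3.SmallCenter1
import Cfsg.Agent.Lib.Helper14.StronglyEmbedded

/-!
# A Sylow subgroup centralizing a subgroup of index `p` in an abelian group

`card_sylow_le`: a group `Γ` acts faithfully on a finite abelian `p`-group `X` and has a strongly `p`-embedded subgroup; if a Sylow
`p`-subgroup `T` of `Γ` centralizes a subgroup `W` of index `p` of `X` and `X / W`, then `|T| ≤ p`.
-/

set_option autoImplicit false
set_option linter.style.haveILetI false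
set_option linter.unusedSectionVars false

namespace Cfsg.Agent.Helper3.OL

open Cfsg Cfsg.Agent.Helper3.KL Cfsg.Agent.Helper3.TT Cfsg.Agent.Helper3.SC

section stab

variable {X : Type*} [Group X]

theorem stab_pow_apply {W : Subgroup X} {h : MulAut X} (hh : h ∈ stab W) (n : ℕ) (e : X) :
    (h ^ n) e = (h e * e⁻¹) ^ n * e := by
  induction n with
  | zero => simp
  | succ n ih =>
    have hc : h (h e * e⁻¹) = h e * e⁻¹ := hh.1 _ (hh.2 e)
    calc (h ^ (n + 1)) e = h ((h ^ n) e) := by rw [pow_succ', MulAut.mul_apply]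
      _ = h ((h e * e⁻¹) ^ n * e) := by rw [ih]
      _ = (h e * e⁻¹) ^ n * h e := by rw [map_mul, map_pow, hc]
      _ = (h e * e⁻¹) ^ (n + 1) * e := by rw [pow_succ, mul_assoc, inv_mul_cancel_right]

theorem pow_card_eq_one_of_mem_stab [Finite X] {W : Subgroup X} {h : MulAut X} (hh : h ∈ stab W) :
    h ^ Nat.card X = 1 := by
  ext e
  rw [stab_pow_apply hh, pow_card_eq_one', one_mul]
  rfl

theorem isPGroup_stab' [Finite X] {p : ℕ} [Fact p.Prime] (hX : IsPGroup p X) (W : Subgroup X) :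
    IsPGroup p (stab W) := by
  obtain ⟨n, hn⟩ := hX.exists_card_eq
  intro h
  refine ⟨n, Subtype.ext ?_⟩
  show ((h : MulAut X)) ^ p ^ n = 1
  rw [← hn]
  exact pow_card_eq_one_of_mem_stab h.2

theorem stab_conj {W : Subgroup X} (g h : MulAut X) (hh : h ∈ stab W) :
    g * h * g⁻¹ ∈ stab (W.map g.toMonoidHom) := by
  constructor
  · rintro _ ⟨w, hw, rfl⟩
    show (g * h * g⁻¹) (g w) = g w
    rw [MulAut.mul_apply, MulAut.mul_apply, MulAut.inv_apply_self, hh.1 w hw]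
  · intro e
    refine ⟨h (g⁻¹ e) * (g⁻¹ e)⁻¹, hh.2 _, ?_⟩
    show g (h (g⁻¹ e) * (g⁻¹ e)⁻¹) = (g * h * g⁻¹) e * e⁻¹
    rw [map_mul, map_inv, MulAut.apply_inv_self, MulAut.mul_apply, MulAut.mul_apply]

theorem mem_stab_inf {W W₁ : Subgroup X} {h : MulAut X} (hh : h ∈ stab W)
    (h1 : ∀ e, h e * e⁻¹ ∈ W₁) : h ∈ stab (W ⊓ W₁) :=
  ⟨fun w hw => hh.1 w hw.1, fun e => ⟨hh.2 e, h1 e⟩⟩

end stab

section abelian

variable {X : Type*} [Group X] (hX : ∀ a b : X, a * b = b * a)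
include hX

/-- evaluation of the commutator at a fixed element, as a homomorphism on the stabilizer of `W` -/
def kapS (W : Subgroup X) (y₀ : X) : ↥(stab W) →* X where
  toFun t := cm hX (t : MulAut X) y₀
  map_one' := by
    show cm hX (1 : MulAut X) y₀ = 1
    rw [cm_apply, MulAut.one_apply, mul_inv_cancel]
  map_mul' := by
    intro t s
    show cm hX ((t : MulAut X) * (s : MulAut X)) y₀ = cm hX (t : MulAut X) y₀ * cm hX (s : MulAut X) y₀
    have h1 : (s : MulAut X) y₀ = cm hX (s : MulAut X) y₀ * y₀ := apply_eq hX _ _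
    have h2 : (t : MulAut X) (cm hX (s : MulAut X) y₀) = cm hX (s : MulAut X) y₀ :=
      t.2.1 _ (s.2.2 y₀)
    rw [cm_apply hX ((t : MulAut X) * (s : MulAut X)), MulAut.mul_apply, h1, map_mul, h2,
      apply_eq hX (t : MulAut X) y₀, hX (cm hX (t : MulAut X) y₀) (cm hX (s : MulAut X) y₀)]
    group

theorem kapS_apply (W : Subgroup X) (y₀ : X) (t : stab W) :
    kapS hX W y₀ t = (t : MulAut X) y₀ * y₀⁻¹ := rfl

variable {Γ : Type*} [Group Γ] [Finite Γ] [Finite X] {p : ℕ} [Fact p.Prime]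

theorem exists_mem_stab_inf (ι : Γ →* MulAut X) (T' : Subgroup Γ) {W W₁ : Subgroup X}
    (hW : W.index = p) (hW₁ : W₁.index = p) (hT : ∀ t ∈ T', ι t ∈ stab W)
    (hcard : p < Nat.card T') : ∃ t ∈ T', t ≠ 1 ∧ ι t ∈ stab (W ⊓ W₁) := by
  have hp : p.Prime := Fact.out
  obtain ⟨y₀, hy₀⟩ : ∃ y₀, y₀ ∉ W := by
    by_contra hcon
    push Not at hcon
    have : W = ⊤ := top_unique fun y _ => hcon y
    rw [this, Subgroup.index_top] at hW
    exact hp.one_lt.ne hW
  let f : ↥T' →* X := (kapS hX W y₀).comp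
    ((ι.comp T'.subtype).codRestrict (stab W) (fun t => hT t t.2))
  have hf : ∀ t : T', f t = ι t y₀ * y₀⁻¹ := fun t => rfl
  have hfW : f.range ≤ W := by
    rintro _ ⟨t, rfl⟩
    rw [hf]
    exact (hT t t.2).2 y₀
  set V : Subgroup ↥T' := (W ⊓ W₁).comap f with hV
  have hVidx : V.index ≤ p := by
    rw [hV, Subgroup.index_comap]
    have h1 : (W ⊓ W₁).relIndex f.range ≤ (W ⊓ W₁).relIndex W := by
      apply Subgroup.relIndex_le_of_le_right hfW
      show ((W ⊓ W₁).subgroupOf W).index ≠ 0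
      exact Subgroup.index_ne_zero_of_finite
    have h2 : (W ⊓ W₁).relIndex W = W₁.relIndex W := Subgroup.inf_relIndex_left W W₁
    have h3 : W₁.relIndex W ≤ W₁.relIndex ⊤ := by
      apply Subgroup.relIndex_le_of_le_right le_top
      rw [Subgroup.relIndex_top_right]
      exact Subgroup.index_ne_zero_of_finite
    rw [Subgroup.relIndex_top_right, hW₁] at h3
    omega
  have hVne : V ≠ ⊥ := by
    intro hbot
    have h1 := Subgroup.card_mul_index V
    rw [hbot, Subgroup.card_bot, one_mul] at h1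
    rw [hbot] at hVidx
    omega
  obtain ⟨⟨v, hvV⟩, hv1⟩ := (Subgroup.ne_bot_iff_exists_ne_one).mp hVne
  have hv1' : v ≠ 1 := fun h => hv1 (Subtype.ext h)
  refine ⟨(v : Γ), v.2, fun h => hv1' (Subtype.ext h), ?_⟩
  apply mem_stab_inf (hT v v.2)
  have hfv : f v ∈ W ⊓ W₁ := hvV
  set Y : Subgroup X := (W ⊓ W₁).comap (cm hX (ι v)) with hY
  have hWY : W ≤ Y := by
    intro w hw
    rw [hY, Subgroup.mem_comap, (cm_eq_one_iff hX _ w).mpr ((hT v v.2).1 w hw)]
    exact Subgroup.one_mem _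
  have hy₀Y : y₀ ∈ Y := hfv
  have hYtop : Y = ⊤ := by
    rcases eq_or_eq_of_relIndex_prime hp hWY le_top
      (by rw [Subgroup.relIndex_top_right]; exact hW) with h | h
    · exfalso
      exact hy₀ (h ▸ hy₀Y)
    · exact h
  intro e
  have he : e ∈ Y := by rw [hYtop]; trivial
  exact (Subgroup.mem_comap.mp he).2

theorem conj_mem_stab_of_mem_map (ι : Γ →* MulAut X) {T' : Subgroup Γ} {W : Subgroup X} (g : Γ)
    (hT : ∀ t ∈ T', ι t ∈ stab W) :
    ∀ t ∈ T'.map (MulAut.conj g).toMonoidHom, ι t ∈ stab (W.map (ι g).toMonoidHom) := by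
  rintro _ ⟨s, hs, rfl⟩
  have h1 : ι ((MulAut.conj g).toMonoidHom s) = ι g * ι s * (ι g)⁻¹ := by
    show ι (g * s * g⁻¹) = _
    rw [map_mul, map_mul, map_inv]
  rw [h1]
  exact stab_conj _ _ (hT s hs)

theorem card_sylow_le (hXp : IsPGroup p X) (ι : Γ →* MulAut X) (hι : Function.Injective ι)
    (M : Subgroup Γ) (hM : IsStronglyPEmbedded p M) (T : Sylow p Γ) (W : Subgroup X)
    (hW : W.index = p) (hT : ∀ t ∈ T, ι t ∈ stab W) : Nat.card T ≤ p := by
  have hp : p.Prime := Fact.out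
  by_contra hlt
  push Not at hlt
  obtain ⟨hpM, hMtop, hNC⟩ := (Cfsg.Agent.Helper14.spe_iff_normalizerClosed M).mp hM
  obtain ⟨T₀, hT₀M⟩ := hNC.exists_sylow_le hpM
  obtain ⟨γ, hγ⟩ := Cfsg.Agent.Helper14.sylow_exists_conj T T₀
  set W₀ : Subgroup X := W.map (ι γ).toMonoidHom with hW₀def
  have hT₀ : ∀ t ∈ (T₀ : Subgroup Γ), ι t ∈ stab W₀ := by
    rw [hγ]
    exact conj_mem_stab_of_mem_map hX ι γ hT
  have hidx : ∀ (U : Subgroup X) (a : MulAut X), U.index = p → (U.map a.toMonoidHom).index = p := by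
    intro U a hU
    rw [← hU]
    exact Subgroup.index_map_equiv U a
  have hW₀ : W₀.index = p := hidx W _ hW
  have hcard₀ : p < Nat.card (T₀ : Subgroup Γ) := by
    have : Nat.card T₀ = Nat.card T := by
      rw [Sylow.card_eq_multiplicity, Sylow.card_eq_multiplicity]
    show p < Nat.card T₀
    rw [this]
    exact hlt
  have hT₀ne : (T₀ : Subgroup Γ) ≠ ⊥ := by
    intro h
    rw [h, Subgroup.card_bot] at hcard₀
    have := hp.one_lt
    omega
  apply hMtop
  apply top_unique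
  intro g _
  set W₁ : Subgroup X := W₀.map (ι g).toMonoidHom with hW₁def
  set T₁ : Subgroup Γ := (T₀ : Subgroup Γ).map (MulAut.conj g).toMonoidHom with hT₁def
  have hT₁ : ∀ t ∈ T₁, ι t ∈ stab W₁ := conj_mem_stab_of_mem_map hX ι g hT₀
  have hW₁ : W₁.index = p := hidx W₀ _ hW₀
  have hcard₁ : Nat.card T₁ = Nat.card (T₀ : Subgroup Γ) :=
    Subgroup.card_map_of_injective (MulAut.conj g).injective
  by_cases hWW : W₁ = W₀
  · set R : Subgroup Γ := (stab W₀).comap ι with hR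
    have hRp : IsPGroup p R := (isPGroup_stab' hXp W₀).comap_of_injective ι hι
    have hT₀R : (T₀ : Subgroup Γ) ≤ R := fun t ht => hT₀ t ht
    have hReq : R = (T₀ : Subgroup Γ) := T₀.is_maximal' hRp hT₀R
    have hT₁R : T₁ ≤ (T₀ : Subgroup Γ) := by
      rw [← hReq]
      intro t ht
      have := hT₁ t ht
      rw [hWW] at this
      exact this
    have hTeq : T₁ = (T₀ : Subgroup Γ) :=
      Subgroup.eq_of_le_of_card_ge hT₁R hcard₁.ge
    have hgN : g ∈ Subgroup.normalizer ((T₀ : Subgroup Γ) : Set Γ) :=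
      Cfsg.Agent.Helper14.mem_normalizer_of_map_conj_eq hTeq
    exact hNC _ hT₀M T₀.isPGroup' hT₀ne hgN
  · obtain ⟨t₀, ht₀, ht₀1, ht₀s⟩ := exists_mem_stab_inf hX ι (T₀ : Subgroup Γ) hW₀ hW₁ hT₀ hcard₀
    obtain ⟨t₁, ht₁, ht₁1, ht₁s⟩ := exists_mem_stab_inf hX ι T₁ hW₁ hW₀ hT₁ (hcard₁ ▸ hcard₀)
    rw [inf_comm] at ht₁s
    set R : Subgroup Γ := (stab (W₀ ⊓ W₁)).comap ι with hR
    have hRp : IsPGroup p R := (isPGroup_stab' hXp _).comap_of_injective ι hι
    obtain ⟨T₂, hT₂⟩ := hRp.exists_le_sylow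
    obtain ⟨h, hh⟩ := Cfsg.Agent.Helper14.sylow_exists_conj T₀ T₂
    have key : ∀ (t : Γ) (k : Γ) (T' : Subgroup Γ), T' ≤ M → t ∈ M → t ≠ 1 →
        IsPGroup p (Subgroup.zpowers t) →
        Subgroup.zpowers t ≤ T'.map (MulAut.conj k).toMonoidHom → k ∈ M := by
      intro t k T' hT'M htM ht1 htp hle
      have h1 : k⁻¹ ∈ M := by
        apply hNC.mem_of_map_conj_le (A := Subgroup.zpowers t) (Subgroup.zpowers_le.mpr htM) htp
          (by rw [Ne, Subgroup.zpowers_eq_bot]; exact ht1)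
        rintro _ ⟨y, hy, rfl⟩
        obtain ⟨s, hs, rfl⟩ := hle hy
        have : (MulAut.conj k⁻¹).toMonoidHom ((MulAut.conj k).toMonoidHom s) = s := by
          show k⁻¹ * (k * s * k⁻¹) * k⁻¹⁻¹ = s
          group
        rw [this]
        exact hT'M hs
      have := M.inv_mem h1
      rwa [inv_inv] at this
    have ht₀R : t₀ ∈ R := ht₀s
    have ht₁R : t₁ ∈ R := ht₁s
    have hzp : ∀ t ∈ R, IsPGroup p (Subgroup.zpowers t) := fun t ht =>
      hRp.to_le (Subgroup.zpowers_le.mpr ht)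
    have hhM : h ∈ M := by
      apply key t₀ h (T₀ : Subgroup Γ) hT₀M (hT₀M ht₀) ht₀1 (hzp t₀ ht₀R)
      rw [← hh]
      exact le_trans (Subgroup.zpowers_le.mpr ht₀R) hT₂
    have hT₂M : (T₂ : Subgroup Γ) ≤ M := by
      rw [hh]
      rintro _ ⟨s, hs, rfl⟩
      show h * s * h⁻¹ ∈ M
      exact M.mul_mem (M.mul_mem hhM (hT₀M hs)) (M.inv_mem hhM)
    apply key t₁ g (T₀ : Subgroup Γ) hT₀M (hT₂M (hT₂ ht₁R)) ht₁1 (hzp t₁ ht₁R)
    exact Subgroup.zpowers_le.mpr ht₁

end abelian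

end Cfsg.Agent.Helper3.OL
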