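import Mathlib
import Cfsg.Agent.Lib.Helper3.OliverA3
import Cfsg.Agent.Lib.Helper3.OliverL1
import Cfsg.Agent.Lib.Helper25.FusionInner

/-!
# Essential subgroups: normal `p`-subgroups of `Aut_F(P)` are inner; chain stabilizers
-/

set_option autoImplicit false
set_option linter.style.haveILetI false
set_option linter.unusedSectionVars false

namespace Cfsg.Agent.Helper3.OL

open Cfsg Cfsg.FusionSystem Cfsg.Agent.Helper25 Cfsg.Agent.Helper26 Cfsg.Agent.Helper3.KL
open Cfsg.Agent.Helper3.TT Cfsg.Agent.Helper3.SC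

variable {Ω : Type*} [Group Ω] {S : Subgroup Ω}

section ess

variable [Finite S] {p : ℕ} [Fact p.Prime] {F : FusionSystem S} {P : Subgroup Ω}

/-- a normal `p`-subgroup of `Aut_F(P)`, `P` essential, consists of inner automorphisms -/
theorem le_inn_of_normal (hP : F.IsEssential p P) (C : Subgroup (MulAut P))
    (hCA : C ≤ F.autGroup P) (hCn : (C.subgroupOf (F.autGroup P)).Normal) (hCp : IsPGroup p C) :
    C ≤ Inn P := by
  obtain ⟨hcen, hfn, hnormal, E, hE⟩ := hP
  have hPS : P ≤ S := hfn.1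
  haveI : Finite P := finite_of_le_finite hPS
  haveI : Finite (MulAut P) :=
    Finite.of_injective (fun α : MulAut P => (α : P → P)) DFunLike.coe_injective
  haveI := hnormal
  have hC' : IsPGroup p (C.subgroupOf (F.autGroup P)) :=
    hCp.comap_of_injective (F.autGroup P).subtype (F.autGroup P).subtype_injective
  haveI hmapN : ((C.subgroupOf (F.autGroup P)).map
      (QuotientGroup.mk' ((Inn P).subgroupOf (F.autGroup P)))).Normal :=
    Subgroup.Normal.map hCn _ (QuotientGroup.mk'_surjective _)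
  have hmapP : IsPGroup p ((C.subgroupOf (F.autGroup P)).map
      (QuotientGroup.mk' ((Inn P).subgroupOf (F.autGroup P)))) := hC'.map _
  have hbot := eq_bot_of_normal_of_isStronglyPEmbedded p hE hmapP
  intro c hc
  have hcA := hCA hc
  have h1 : QuotientGroup.mk' ((Inn P).subgroupOf (F.autGroup P)) ⟨c, hcA⟩ ∈
      (C.subgroupOf (F.autGroup P)).map (QuotientGroup.mk' ((Inn P).subgroupOf (F.autGroup P))) :=
    ⟨⟨c, hcA⟩, Subgroup.mem_subgroupOf.mpr hc, rfl⟩
  rw [hbot, Subgroup.mem_bot, QuotientGroup.mk'_apply, QuotientGroup.eq_one_iff] at h1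
  exact Subgroup.mem_subgroupOf.mp h1

/-- conjugation by an element of `N_S(P)` on `P` -/
def kapN (P : Subgroup Ω) : ↥(normalizerIn S P) →* MulAut ↥P :=
  kap (inf_le_right : normalizerIn S P ≤ Subgroup.normalizer (P : Set Ω))

theorem kapN_apply (a : normalizerIn S P) (e : P) :
    ((kapN P a e : P) : Ω) = a * e * (a : Ω)⁻¹ := rfl

theorem kapN_mem (a : normalizerIn S P) : kapN P a ∈ autInducedBy S P :=
  (mem_autInducedBy_iff _).mpr ⟨a, a.2.1, fun _ => rfl⟩

theorem exists_kapN_eq {α : MulAut P} (hα : α ∈ autInducedBy S P) :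
    ∃ a : normalizerIn S P, kapN P a = α := by
  obtain ⟨g, hg, h⟩ := (mem_autInducedBy_iff α).mp hα
  have hgN : g ∈ Subgroup.normalizer (P : Set Ω) := mem_normalizer_of_aut α h
  refine ⟨⟨g, ⟨hg, hgN⟩⟩, ?_⟩
  ext e
  rw [kapN_apply, h]

theorem range_kapN : (kapN (S := S) P).range = autInducedBy S P := by
  ext α
  constructor
  · rintro ⟨a, rfl⟩
    exact kapN_mem a
  · intro h
    exact exists_kapN_eq h

/-- an element of `N_S(P)` inducing an inner automorphism on a centric `P` lies in `P` -/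
theorem mem_of_kapN_mem_inn (hPS : P ≤ S) (hcen : centralizerIn S P ≤ P) (a : normalizerIn S P)
    (h : kapN P a ∈ Inn P) : (a : Ω) ∈ P := by
  obtain ⟨y, hy⟩ := h
  have h1 : (y : Ω)⁻¹ * a ∈ centralizerIn S P := by
    rw [mem_centralizerIn]
    refine ⟨S.mul_mem (S.inv_mem (hPS y.2)) a.2.1, fun e he => ?_⟩
    have h2 := congrArg (fun β : MulAut P => ((β ⟨e, he⟩ : P) : Ω)) hy
    simp only [MulAut.conj_apply, kapN_apply, Subgroup.coe_mul, Subgroup.coe_inv] at h2
    calc e * ((y : Ω)⁻¹ * a) = (y : Ω)⁻¹ * (y * e * (y : Ω)⁻¹) * a := by group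
      _ = (y : Ω)⁻¹ * (a * e * (a : Ω)⁻¹) * a := by rw [h2]
      _ = (y : Ω)⁻¹ * a * e := by group
  have h3 := hcen h1
  have : (a : Ω) = y * ((y : Ω)⁻¹ * a) := by group
  rw [this]
  exact P.mul_mem y.2 h3

/-- an element of `N_S(P)` stabilizing an `Aut_F(P)`-invariant chain `1 ≤ W ≤ P` lies in `P` (`P` essential) -/
theorem mem_of_stab (hS : IsPGroup p S) (hP : F.IsEssential p P) (W : Subgroup P)
    (hW : ∀ α ∈ F.autGroup P, ∀ w ∈ W, α w ∈ W) (a : normalizerIn S P)
    (ha : kapN P a ∈ stab W) : (a : Ω) ∈ P := by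
  have hPS : P ≤ S := hP.1.1
  haveI : Finite P := finite_of_le_finite hPS
  have hPp : IsPGroup p P := hS.to_le hPS
  have hcen : centralizerIn S P ≤ P := hP.1.2 P (isConj_refl F hPS)
  apply mem_of_kapN_mem_inn hPS hcen a
  set C : Subgroup (MulAut P) := stab W ⊓ F.autGroup P with hC
  refine le_inn_of_normal hP C inf_le_right ?_ ((isPGroup_stab' hPp W).to_le inf_le_left) ?_
  · constructor
    rintro ⟨h, hhA⟩ hh ⟨α, hα⟩
    have hh' : h ∈ C := Subgroup.mem_subgroupOf.mp hh
    apply Subgroup.mem_subgroupOf.mpr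
    show α * h * α⁻¹ ∈ C
    refine ⟨?_, (F.autGroup P).mul_mem ((F.autGroup P).mul_mem hα hhA) ((F.autGroup P).inv_mem hα)⟩
    have hmap : W.map α.toMonoidHom = W := by
      apply Subgroup.eq_of_le_of_card_ge
      · rintro _ ⟨w, hw, rfl⟩
        exact hW α hα w hw
      · rw [Subgroup.card_map_of_injective α.injective]
    have := stab_conj α h hh'.1
    rwa [hmap] at this
  · exact ⟨ha, autInducedBy_le_autGroup F hPS (kapN_mem a)⟩

theorem card_autS_abelian (hPS : P ≤ S) (hcen : centralizerIn S P ≤ P)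
    (hab : ∀ a b : P, a * b = b * a) :
    Nat.card (autInducedBy S P) = P.relIndex (normalizerIn S P) := by
  rw [← range_kapN, ← Subgroup.index_ker]
  have hker : (kapN (S := S) P).ker = P.subgroupOf (normalizerIn S P) := by
    ext a
    rw [MonoidHom.mem_ker, Subgroup.mem_subgroupOf]
    constructor
    · intro h
      apply hcen
      rw [mem_centralizerIn]
      refine ⟨a.2.1, fun e he => ?_⟩
      have h1 := congrArg (fun β : MulAut P => ((β ⟨e, he⟩ : P) : Ω)) h
      simp only [kapN_apply, MulAut.one_apply] at h1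
      calc e * (a : Ω) = (a * e * (a : Ω)⁻¹) * a := by rw [h1]
        _ = a * e := by group
    · intro ha
      ext e
      rw [kapN_apply, MulAut.one_apply]
      have := congrArg Subtype.val (hab ⟨a, ha⟩ e)
      simp only [Subgroup.coe_mul] at this
      rw [this, mul_inv_cancel_right]
  rw [hker]
  rfl

end ess

end Cfsg.Agent.Helper3.OL
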