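import Mathlib
import Cfsg.Agent.Lib.Helper11.G2TDefs

/-!
# S2371, piece MAP: the entrywise map `GL(F) → GL(K)` induced by a ring homomorphism, on the root elements, the
Chevalley group, the diagonal subgroup and the positive unipotent subgroup of `G₂`; the entrywise action of a field
automorphism.
-/

set_option autoImplicit false
set_option linter.unusedVariables false

namespace Cfsg.Agent.Helper11.G2T

open Cfsg Cfsg.Lie Cfsg.Agent.Lead.Chev Cfsg.Agent.Lead.Tw

section FK

variable {F : Type*} [Field F] {K : Type*} [Field K] (ι : F →+* K)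

theorem g2tmap_xMat_map (D : ChevalleyDatum) (r : Fin D.nroots) (t : F) :
    (D.xMat F r t).map ι = D.xMat K r (ι t) := by
  ext row col
  simp only [Matrix.map_apply]
  unfold ChevalleyDatum.xMat
  simp only [Matrix.of_apply]
  rcases col with i | s
  · rcases row with i' | u
    · simp only
      split_ifs <;> simp
    · simp only
      split_ifs <;> simp
  · simp only
    by_cases hs : s = r
    · simp only [hs, if_true]
      rcases row with i | u
      · simp
      · simp only
        split_ifs <;> simp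
    · simp only [hs, if_false]
      by_cases hs2 : s.val = D.negIdx.getD r.val 0
      · simp only [hs2, if_true]
        rcases row with i | u
        · simp
        · simp only
          split_ifs <;> simp
      · simp only [hs2, if_false]
        rcases row with i | u
        · simp
        · simp only [map_add, map_list_sum, List.map_map]
          congr 1
          · split_ifs <;> simp
          · congr 1
            apply List.map_congr_left
            intro km _
            simp

theorem g2tmap_x_map (D : ChevalleyDatum) (r : ℕ) (t : F) :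
    (D.x F r t).map ι = D.x K r (ι t) := by
  unfold ChevalleyDatum.x
  by_cases hr : r < D.nroots
  · rw [dif_pos hr, dif_pos hr, g2tmap_xMat_map]
  · rw [dif_neg hr, dif_neg hr]
    ext i j
    simp only [Matrix.map_apply, Matrix.one_apply]
    split_ifs <;> simp

theorem g2tmap_coe (g : GL chevG2.Idx F) :
    ((mapGL ι g : GL chevG2.Idx K) : Matrix chevG2.Idx chevG2.Idx K)
      = (g : Matrix chevG2.Idx chevG2.Idx F).map ι := rfl

theorem g2tmap_wordMat_map (D : ChevalleyDatum) (w : List (ℕ × F)) :
    (D.wordMat F w).map ι = D.wordMat K (w.map fun p => (p.1, ι p.2)) := by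
  induction w with
  | nil =>
    unfold ChevalleyDatum.wordMat
    simp only [List.map_nil, List.prod_nil]
    ext i j
    simp only [Matrix.map_apply, Matrix.one_apply]
    split_ifs <;> simp
  | cons q w ih =>
    unfold ChevalleyDatum.wordMat at ih ⊢
    simp only [List.map_cons, List.prod_cons]
    rw [Matrix.map_mul, ih, g2tmap_x_map]

/-! ### generic versions, for any Chevalley datum -/

theorem g2tmap_coe_gen (D : ChevalleyDatum) (g : GL D.Idx F) :
    ((Matrix.GeneralLinearGroup.map ι g : GL D.Idx K) : Matrix D.Idx D.Idx K)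
      = (g : Matrix D.Idx D.Idx F).map ι := rfl

theorem g2tmap_xGL_gen (D : ChevalleyDatum) (hF : XAdd D F) (hK : XAdd D K) (r : ℕ) (t : F) :
    Matrix.GeneralLinearGroup.map ι (xGL D hF r t) = xGL D hK r (ι t) := by
  apply Units.ext
  rw [g2tmap_coe_gen, xGL_val, xGL_val, g2tmap_x_map]

theorem g2tmap_group_gen (D : ChevalleyDatum) (g : GL D.Idx F) (hg : g ∈ D.group F) :
    Matrix.GeneralLinearGroup.map ι g ∈ D.group K := by
  have h : D.group F ≤ (D.group K).comap (Matrix.GeneralLinearGroup.map ι) := by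
    unfold ChevalleyDatum.group
    rw [Subgroup.closure_le]
    rintro g ⟨r, t, hg⟩
    rw [SetLike.mem_coe, Subgroup.mem_comap]
    apply Subgroup.subset_closure
    refine ⟨r, ι t, ?_⟩
    rw [g2tmap_coe_gen, hg, g2tmap_xMat_map]
  exact h hg

theorem g2tmap_posUnipotent_gen (D : ChevalleyDatum) (g : GL D.Idx F) (hg : g ∈ D.posUnipotent F) :
    Matrix.GeneralLinearGroup.map ι g ∈ D.posUnipotent K := by
  have h : D.posUnipotent F ≤ (D.posUnipotent K).comap (Matrix.GeneralLinearGroup.map ι) := by
    unfold ChevalleyDatum.posUnipotent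
    rw [Subgroup.closure_le]
    rintro g ⟨r, t, hr, hg⟩
    rw [SetLike.mem_coe, Subgroup.mem_comap]
    apply Subgroup.subset_closure
    refine ⟨r, ι t, hr, ?_⟩
    rw [g2tmap_coe_gen, hg, g2tmap_x_map]
  exact h hg

theorem g2tmap_negUnipotent_gen (D : ChevalleyDatum) (g : GL D.Idx F) (hg : g ∈ D.negUnipotent F) :
    Matrix.GeneralLinearGroup.map ι g ∈ D.negUnipotent K := by
  have h : D.negUnipotent F ≤ (D.negUnipotent K).comap (Matrix.GeneralLinearGroup.map ι) := by
    unfold ChevalleyDatum.negUnipotent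
    rw [Subgroup.closure_le]
    rintro g ⟨r, t, hr, hg⟩
    rw [SetLike.mem_coe, Subgroup.mem_comap]
    apply Subgroup.subset_closure
    refine ⟨r, ι t, hr, ?_⟩
    rw [g2tmap_coe_gen, hg, g2tmap_x_map]
  exact h hg

theorem g2tmap_hMat_map (D : ChevalleyDatum) (r : ℕ) (t : F) :
    (D.hMat F r t).map ι = D.hMat K r (ι t) := by
  unfold ChevalleyDatum.hMat
  rw [g2tmap_wordMat_map]
  congr 1
  unfold ChevalleyDatum.hWord ChevalleyDatum.nWord
  simp only [List.map_append, List.map_cons, List.map_nil, map_neg, map_inv₀, map_one]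

theorem g2tmap_nMat_map (D : ChevalleyDatum) (r : ℕ) (t : F) :
    (D.nMat F r t).map ι = D.nMat K r (ι t) := by
  unfold ChevalleyDatum.nMat
  rw [g2tmap_wordMat_map]
  congr 1
  unfold ChevalleyDatum.nWord
  simp only [List.map_cons, List.map_nil, map_neg, map_inv₀]

theorem g2tmap_diagonal_gen (D : ChevalleyDatum) (g : GL D.Idx F) (hg : g ∈ D.diagonalSubgroup F) :
    Matrix.GeneralLinearGroup.map ι g ∈ D.diagonalSubgroup K := by
  have h : D.diagonalSubgroup F ≤ (D.diagonalSubgroup K).comap (Matrix.GeneralLinearGroup.map ι) := by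
    unfold ChevalleyDatum.diagonalSubgroup
    rw [Subgroup.closure_le]
    rintro g ⟨r, t, hr, ht, hg⟩
    rw [SetLike.mem_coe, Subgroup.mem_comap]
    apply Subgroup.subset_closure
    refine ⟨r, ι t, hr, (map_ne_zero ι).2 ht, ?_⟩
    rw [g2tmap_coe_gen, hg, g2tmap_hMat_map]
  exact h hg

theorem g2tmap_monomial_gen (D : ChevalleyDatum) (g : GL D.Idx F) (hg : g ∈ D.monomialSubgroup F) :
    Matrix.GeneralLinearGroup.map ι g ∈ D.monomialSubgroup K := by
  have h : D.monomialSubgroup F ≤ (D.monomialSubgroup K).comap (Matrix.GeneralLinearGroup.map ι) := by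
    unfold ChevalleyDatum.monomialSubgroup
    rw [sup_le_iff]
    constructor
    · intro g hg
      rw [Subgroup.mem_comap]
      exact (le_sup_left : D.diagonalSubgroup K ≤ _) (g2tmap_diagonal_gen ι D g hg)
    · rw [Subgroup.closure_le]
      rintro g ⟨r, hr, hg⟩
      rw [SetLike.mem_coe, Subgroup.mem_comap]
      apply (le_sup_right : Subgroup.closure _ ≤ D.diagonalSubgroup K ⊔ _)
      apply Subgroup.subset_closure
      refine ⟨r, hr, ?_⟩
      rw [g2tmap_coe_gen, hg, g2tmap_nMat_map, map_one]
  exact h hg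

theorem g2tmap_injective_gen (D : ChevalleyDatum) :
    Function.Injective (Matrix.GeneralLinearGroup.map (n := D.Idx) ι) := by
  intro a b hab
  apply Units.ext
  have h1 : ((Matrix.GeneralLinearGroup.map ι a : GL D.Idx K) : Matrix D.Idx D.Idx K)
      = ((Matrix.GeneralLinearGroup.map ι b : GL D.Idx K) : Matrix D.Idx D.Idx K) := by rw [hab]
  rw [g2tmap_coe_gen, g2tmap_coe_gen] at h1
  ext i j
  have := congrFun (congrFun h1 i) j
  simp only [Matrix.map_apply] at this
  exact ι.injective this

theorem g2tmap_Phi_map_gen (D : ChevalleyDatum) (f : K ≃+* K) (hf : ∀ t, f (ι t) = ι t) (g : GL D.Idx F) :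
    Cfsg.Agent.S1080.Phi D f (Matrix.GeneralLinearGroup.map ι g) = Matrix.GeneralLinearGroup.map ι g := by
  apply Units.ext
  rw [Cfsg.Agent.S1080.Phi_coe, g2tmap_coe_gen]
  ext i j
  simp only [Matrix.map_apply]
  exact hf _

theorem g2tmap_Phi_xGL_gen (D : ChevalleyDatum) (hK : XAdd D K) (f : K ≃+* K) (r : ℕ) (t : K) :
    Cfsg.Agent.S1080.Phi D f (xGL D hK r t) = xGL D hK r (f t) := by
  apply Units.ext
  rw [Cfsg.Agent.S1080.Phi_coe, xGL_val, xGL_val]
  exact g2tmap_x_map (f : K →+* K) D r t

theorem g2tmap_Phi_group_gen (D : ChevalleyDatum) (f : K ≃+* K) (g : GL D.Idx K) (hg : g ∈ D.group K) :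
    Cfsg.Agent.S1080.Phi D f g ∈ D.group K := by
  have h := Cfsg.Agent.S1080.Phi_map_group D f
  rw [← h]
  exact Subgroup.mem_map_of_mem _ hg

/-! ### the piece, for `G₂` -/

theorem mapGL_x (r : ℕ) (hr : r < 12) (t : F) :
    mapGL ι (xGL chevG2 (g2F F).xadd r t) = xGL chevG2 (g2F K).xadd r (ι t) :=
  g2tmap_xGL_gen ι chevG2 _ _ r t

theorem mapGL_group (g : GL chevG2.Idx F) (hg : g ∈ chevG2.group F) : mapGL ι g ∈ chevG2.group K :=
  g2tmap_group_gen ι chevG2 g hg

theorem mapGL_diagonal (g : GL chevG2.Idx F) (hg : g ∈ chevG2.diagonalSubgroup F) :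
    mapGL ι g ∈ chevG2.diagonalSubgroup K :=
  g2tmap_diagonal_gen ι chevG2 g hg

theorem mapGL_posUnipotent (g : GL chevG2.Idx F) (hg : g ∈ chevG2.posUnipotent F) :
    mapGL ι g ∈ chevG2.posUnipotent K :=
  g2tmap_posUnipotent_gen ι chevG2 g hg

theorem mapGL_injective : Function.Injective (mapGL ι) :=
  g2tmap_injective_gen ι chevG2

theorem ev_mapGL (g : GL chevG2.Idx F) (v : ℕ) : ev (mapGL ι g) v = ι (ev g v) := by
  unfold ev
  by_cases hv : v < chevG2.nroots
  · rw [dif_pos hv, dif_pos hv, g2tmap_coe]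
    rfl
  · rw [dif_neg hv, dif_neg hv, map_one]

theorem sig_mapGL (f : K ≃+* K) (hf : ∀ t, f (ι t) = ι t) (g : GL chevG2.Idx F) :
    sig f (mapGL ι g) = mapGL ι g :=
  g2tmap_Phi_map_gen ι chevG2 f hf g

theorem sig_x (f : K ≃+* K) (r : ℕ) (hr : r < 12) (t : K) :
    sig f (xGL chevG2 (g2F K).xadd r t) = xGL chevG2 (g2F K).xadd r (f t) :=
  g2tmap_Phi_xGL_gen chevG2 _ f r t

theorem sig_group (f : K ≃+* K) (g : GL chevG2.Idx K) (hg : g ∈ chevG2.group K) :
    sig f g ∈ chevG2.group K :=
  g2tmap_Phi_group_gen chevG2 f g hg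

end FK

end Cfsg.Agent.Helper11.G2T
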