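import Mathlib

set_option autoImplicit false
set_option linter.style.haveILetI false

namespace Cfsg.Agent.Helper3.SchurField

open Module

universe u v w

variable {F : Type u} [Field F] {V : Type v} [AddCommGroup V] [Module F V]
  {H : Type w} [CommGroup H]

/-- The subalgebra of `End V` generated by the image of a representation. -/
noncomputable def envAlg (ρ : Representation F H V) : Subalgebra F (Module.End F V) :=
  Algebra.adjoin F (Set.range ρ)

theorem rho_mem_envAlg (ρ : Representation F H V) (h : H) : ρ h ∈ envAlg ρ :=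
  Algebra.subset_adjoin ⟨h, rfl⟩

theorem envAlg_comm_rho (ρ : Representation F H V) {a : Module.End F V} (ha : a ∈ envAlg ρ)
    (h : H) : a * ρ h = ρ h * a := by
  unfold envAlg at ha
  induction ha using Algebra.adjoin_induction with
  | mem x hx =>
    obtain ⟨g, rfl⟩ := hx
    rw [← map_mul, ← map_mul, mul_comm]
  | algebraMap r => exact (Algebra.commutes r (ρ h))
  | add x y _ _ hx hy => rw [add_mul, mul_add, hx, hy]
  | mul x y _ _ hx hy => rw [mul_assoc, hy, ← mul_assoc, hx, mul_assoc]

theorem envAlg_comm (ρ : Representation F H V) {a b : Module.End F V} (ha : a ∈ envAlg ρ)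
    (hb : b ∈ envAlg ρ) : a * b = b * a := by
  unfold envAlg at hb
  induction hb using Algebra.adjoin_induction with
  | mem x hx =>
    obtain ⟨g, rfl⟩ := hx
    exact envAlg_comm_rho ρ ha g
  | algebraMap r => exact (Algebra.commutes r a).symm
  | add x y _ _ hx hy => rw [add_mul, mul_add, hx, hy]
  | mul x y _ _ hx hy => rw [← mul_assoc, hx, mul_assoc, hy, ← mul_assoc]

/-- Irreducibility, in the form used in the statements. -/
def Irr (ρ : Representation F H V) : Prop :=
  ∀ U : Submodule F V, (∀ h : H, ∀ u ∈ U, ρ h u ∈ U) → U = ⊥ ∨ U = ⊤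

theorem ker_eq_bot (ρ : Representation F H V) (hirr : Irr ρ) {a : Module.End F V}
    (ha : a ∈ envAlg ρ) (ha0 : a ≠ 0) : LinearMap.ker a = ⊥ := by
  rcases hirr (LinearMap.ker a) (by
    intro h u hu
    rw [LinearMap.mem_ker] at hu ⊢
    have : a (ρ h u) = (a * ρ h) u := rfl
    rw [this, envAlg_comm_rho ρ ha h]
    show ρ h (a u) = 0
    rw [hu, map_zero]) with h0 | h1
  · exact h0
  · exfalso
    apply ha0
    exact LinearMap.ker_eq_top.mp h1

theorem apply_eq_zero (ρ : Representation F H V) (hirr : Irr ρ) {a : Module.End F V}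
    (ha : a ∈ envAlg ρ) (ha0 : a ≠ 0) {v : V} (hv : a v = 0) : v = 0 := by
  have := ker_eq_bot ρ hirr ha ha0
  have hv' : v ∈ LinearMap.ker a := LinearMap.mem_ker.mpr hv
  rw [this] at hv'
  exact (Submodule.mem_bot F).mp hv'

theorem exists_inv [FiniteDimensional F V] (ρ : Representation F H V) (hirr : Irr ρ)
    {a : Module.End F V} (ha : a ∈ envAlg ρ) (ha0 : a ≠ 0) :
    ∃ b ∈ envAlg ρ, a * b = 1 := by
  set A := envAlg ρ with hA
  let f : A →ₗ[F] A := LinearMap.mulLeft F (⟨a, ha⟩ : A)
  have hf : Function.Injective f := by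
    rw [← LinearMap.ker_eq_bot, LinearMap.ker_eq_bot']
    intro b hb
    have h1 : a * (b : Module.End F V) = 0 := congrArg Subtype.val hb
    apply Subtype.ext
    apply LinearMap.ext
    intro v
    have h2 : a ((b : Module.End F V) v) = 0 := by
      have : a ((b : Module.End F V) v) = (a * (b : Module.End F V)) v := rfl
      rw [this, h1]; rfl
    exact apply_eq_zero ρ hirr ha ha0 h2
  obtain ⟨b, hb⟩ := LinearMap.surjective_of_injective hf 1
  refine ⟨b.1, b.2, ?_⟩
  exact congrArg Subtype.val hb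

theorem exists_apply_eq (ρ : Representation F H V) (hirr : Irr ρ) {v : V} (hv : v ≠ 0) (w : V) :
    ∃ a ∈ envAlg ρ, a v = w := by
  set A := envAlg ρ with hA
  let U : Submodule F V :=
    { carrier := {x | ∃ a ∈ A, a v = x}
      add_mem' := by
        rintro _ _ ⟨a, ha, rfl⟩ ⟨b, hb, rfl⟩
        exact ⟨a + b, A.add_mem ha hb, rfl⟩
      zero_mem' := ⟨0, A.zero_mem, rfl⟩
      smul_mem' := by
        rintro c _ ⟨a, ha, rfl⟩
        exact ⟨c • a, A.smul_mem ha c, rfl⟩ }
  rcases hirr U (by
    rintro h _ ⟨a, ha, rfl⟩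
    exact ⟨ρ h * a, A.mul_mem (rho_mem_envAlg ρ h) ha, rfl⟩) with h0 | h1
  · exfalso
    apply hv
    have : v ∈ U := ⟨1, A.one_mem, rfl⟩
    rw [h0] at this
    exact (Submodule.mem_bot F).mp this
  · have : w ∈ U := by rw [h1]; exact Submodule.mem_top
    exact this

theorem isField_envAlg [FiniteDimensional F V] [Nontrivial V] (ρ : Representation F H V)
    (hirr : Irr ρ) : IsField (envAlg ρ) :=
  { exists_pair_ne := ⟨0, 1, fun h01 => by
      have h1 : (0 : Module.End F V) = 1 := congrArg Subtype.val h01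
      obtain ⟨v, hv⟩ := exists_ne (0 : V)
      apply hv
      have := congrArg (fun f : Module.End F V => f v) h1
      exact this.symm⟩
    mul_comm := fun a b => Subtype.ext (envAlg_comm ρ a.2 b.2)
    mul_inv_cancel := fun {a} ha => by
      obtain ⟨b, hb, hab⟩ := exists_inv ρ hirr a.2 (fun h => ha (Subtype.ext h))
      exact ⟨⟨b, hb⟩, Subtype.ext hab⟩ }

/-- The field generated by an irreducible representation of a commutative group, abstractly. -/
structure Data (ρ : Representation F H V) (L : Type v) [Field L] [Algebra F L] where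
  /-- the embedding into the endomorphism ring -/
  ψ : L →ₐ[F] Module.End F V
  /-- the character -/
  χ : H →* L
  hψ : Function.Injective ψ
  hχ : ∀ h, ψ (χ h) = ρ h
  htrans : ∀ v : V, v ≠ 0 → ∀ w : V, ∃ a : L, ψ a v = w
  hgen : Algebra.adjoin F (Set.range χ) = ⊤

theorem exists_data [FiniteDimensional F V] [Nontrivial V] (ρ : Representation F H V)
    (hirr : Irr ρ) :
    ∃ (L : Type v) (_ : Field L) (_ : Algebra F L), Nonempty (Data ρ L) := by
  set A := envAlg ρ with hA
  letI instF : Field ↥A := (isField_envAlg ρ hirr).toField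
  let χ : H →* ↥A :=
    { toFun := fun h => ⟨ρ h, rho_mem_envAlg ρ h⟩
      map_one' := Subtype.ext (map_one ρ)
      map_mul' := fun a b => Subtype.ext (map_mul ρ a b) }
  refine ⟨↥A, instF, A.algebra, ⟨⟨A.val, χ, Subtype.val_injective, fun h => rfl, ?_, ?_⟩⟩⟩
  · intro v hv w
    obtain ⟨a, ha, hav⟩ := exists_apply_eq ρ hirr hv w
    exact ⟨⟨a, ha⟩, hav⟩
  · rw [eq_top_iff]
    rintro ⟨a, ha⟩ -
    have ha' := ha
    rw [hA] at ha'
    unfold envAlg at ha'
    induction ha' using Algebra.adjoin_induction with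
    | mem x hx =>
      obtain ⟨g, rfl⟩ := hx
      exact Algebra.subset_adjoin ⟨g, rfl⟩
    | algebraMap r =>
      exact Subalgebra.algebraMap_mem _ r
    | add x y hx hy ihx ihy =>
      exact Subalgebra.add_mem _ (ihx hx) (ihy hy)
    | mul x y hx hy ihx ihy =>
      exact Subalgebra.mul_mem _ (ihx hx) (ihy hy)

variable {L : Type v} [Field L] [Algebra F L] {ρ : Representation F H V}

theorem Data.finite [Finite F] [FiniteDimensional F V] (D : Data ρ L) : Finite L := by
  haveI : Finite V := Module.finite_of_finite F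
  haveI : Finite (Module.End F V) := Finite.of_injective (fun f : Module.End F V => (f : V → V))
    DFunLike.coe_injective
  exact Finite.of_injective D.ψ D.hψ

theorem Data.apply_eq_zero (D : Data ρ L) {a : L} (ha : a ≠ 0) {v : V} (hv : D.ψ a v = 0) :
    v = 0 := by
  have h1 : D.ψ a⁻¹ (D.ψ a v) = v := by
    have : D.ψ a⁻¹ (D.ψ a v) = (D.ψ a⁻¹ * D.ψ a) v := rfl
    rw [this, ← map_mul, inv_mul_cancel₀ ha, map_one]
    rfl
  rw [← h1, hv, map_zero]

/-- `V` is one-dimensional over `L`. -/
noncomputable def Data.equiv (D : Data ρ L) {v₀ : V} (hv₀ : v₀ ≠ 0) : L ≃ₗ[F] V :=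
  LinearEquiv.ofBijective
    { toFun := fun a => D.ψ a v₀
      map_add' := fun a b => by rw [map_add]; rfl
      map_smul' := fun c a => by rw [map_smul]; rfl }
    ⟨by
      rw [← LinearMap.ker_eq_bot, LinearMap.ker_eq_bot']
      intro a ha
      by_contra ha0
      exact hv₀ (D.apply_eq_zero ha0 ha),
     fun w => D.htrans v₀ hv₀ w⟩

theorem Data.equiv_apply (D : Data ρ L) {v₀ : V} (hv₀ : v₀ ≠ 0) (a : L) :
    D.equiv hv₀ a = D.ψ a v₀ := rfl

theorem Data.finrank_eq [Nontrivial V] (D : Data ρ L) : finrank F L = finrank F V := by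
  obtain ⟨v₀, hv₀⟩ := exists_ne (0 : V)
  exact (D.equiv hv₀).finrank_eq

theorem Data.χ_injective (D : Data ρ L) (hfaith : Function.Injective ρ) :
    Function.Injective D.χ := by
  intro h h' hh
  apply hfaith
  rw [← D.hχ, ← D.hχ, hh]

/-- An invariant nondegenerate form forces the inversion on `H` to be induced by a power of the
Frobenius of `L` over `F`. -/
theorem Data.frob_of_form [Fintype F] [FiniteDimensional F V] [Finite L] (D : Data ρ L)
    (B : LinearMap.BilinForm F V) (hB : B.Nondegenerate)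
    (hinv : ∀ (h : H) (x y : V), B (ρ h x) (ρ h y) = B x y) :
    ∃ i : ℕ, i < finrank F L ∧ (2 * i = 0 ∨ 2 * i = finrank F L) ∧
      ∀ h : H, (D.χ h) ^ (Fintype.card F ^ i) = D.χ h⁻¹ := by
  classical
  -- the adjoint correspondence
  let P : L → L → Prop := fun a b => ∀ x y : V, B (D.ψ b x) y = B x (D.ψ a y)
  have P_uniq : ∀ a b b', P a b → P a b' → b = b' := by
    intro a b b' hb hb'
    apply D.hψ
    apply LinearMap.ext
    intro x
    have h1 : ∀ y, B (D.ψ b x - D.ψ b' x) y = 0 := by
      intro y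
      rw [map_sub, LinearMap.sub_apply, hb x y, hb' x y, sub_self]
    exact sub_eq_zero.mp (hB.1 _ h1)
  have P_gen : ∀ h : H, P (D.χ h) (D.χ h⁻¹) := by
    intro h x y
    rw [D.hχ, D.hχ, ← hinv h (ρ h⁻¹ x) y]
    congr 2
    have : ρ h (ρ h⁻¹ x) = (ρ h * ρ h⁻¹) x := rfl
    rw [this, ← map_mul, mul_inv_cancel, map_one]
    rfl
  have P_alg : ∀ c : F, P (algebraMap F L c) (algebraMap F L c) := by
    intro c x y
    rw [AlgHom.commutes, Module.algebraMap_end_apply, Module.algebraMap_end_apply, map_smul,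
      map_smul, LinearMap.smul_apply]
  have P_add : ∀ a b a' b', P a b → P a' b' → P (a + a') (b + b') := by
    intro a b a' b' h h' x y
    rw [map_add, map_add, LinearMap.add_apply, LinearMap.add_apply, map_add, map_add,
      LinearMap.add_apply, h x y, h' x y]
  have P_mul : ∀ a b a' b', P a b → P a' b' → P (a * a') (b * b') := by
    intro a b a' b' h h' x y
    rw [mul_comm b b', map_mul, map_mul]
    show B (D.ψ b' (D.ψ b x)) y = B x (D.ψ a (D.ψ a' y))
    rw [h' (D.ψ b x) y, h x (D.ψ a' y)]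
  have P_ex : ∀ a : L, ∃ b, P a b := by
    intro a
    have ha : a ∈ Algebra.adjoin F (Set.range D.χ) := by rw [D.hgen]; exact Algebra.mem_top
    induction ha using Algebra.adjoin_induction with
    | mem x hx =>
      obtain ⟨h, rfl⟩ := hx
      exact ⟨_, P_gen h⟩
    | algebraMap c => exact ⟨_, P_alg c⟩
    | add x y _ _ hx hy =>
      obtain ⟨b, hb⟩ := hx
      obtain ⟨b', hb'⟩ := hy
      exact ⟨_, P_add _ _ _ _ hb hb'⟩
    | mul x y _ _ hx hy =>
      obtain ⟨b, hb⟩ := hx
      obtain ⟨b', hb'⟩ := hy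
      exact ⟨_, P_mul _ _ _ _ hb hb'⟩
  choose τ₀ hτ₀ using P_ex
  have τ_eq : ∀ a b, P a b → τ₀ a = b := fun a b hab => P_uniq a _ _ (hτ₀ a) hab
  let τ : L →ₐ[F] L :=
    { toFun := τ₀
      map_one' := by
        apply τ_eq
        have := P_alg 1
        rwa [map_one] at this
      map_mul' := fun a a' => τ_eq _ _ (P_mul _ _ _ _ (hτ₀ a) (hτ₀ a'))
      map_zero' := by
        apply τ_eq
        have := P_alg 0
        rwa [map_zero] at this
      map_add' := fun a a' => τ_eq _ _ (P_add _ _ _ _ (hτ₀ a) (hτ₀ a'))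
      commutes' := fun c => τ_eq _ _ (P_alg c) }
  have τ_χ : ∀ h : H, τ (D.χ h) = D.χ h⁻¹ := fun h => τ_eq _ _ (P_gen h)
  have τ_sq : τ.comp τ = AlgHom.id F L := by
    apply AlgHom.ext_of_adjoin_eq_top D.hgen
    rintro _ ⟨h, rfl⟩
    show τ (τ (D.χ h)) = D.χ h
    rw [τ_χ, τ_χ, inv_inv]
  letI : Fintype L := Fintype.ofFinite L
  obtain ⟨i, hi⟩ := (FiniteField.bijective_frobeniusAlgHom_pow F L).2 τ
  have hi' : FiniteField.frobeniusAlgHom F L ^ (i : ℕ) = τ := hi
  have hτ_app : ∀ a : L, τ a = a ^ (Fintype.card F ^ (i : ℕ)) := by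
    intro a
    rw [← hi', AlgHom.coe_pow, FiniteField.coe_frobeniusAlgHom, pow_iterate]
  refine ⟨i, i.2, ?_, fun h => by rw [← hτ_app, τ_χ]⟩
  have h2 : FiniteField.frobeniusAlgHom F L ^ (2 * (i : ℕ)) = 1 := by
    rw [two_mul, pow_add, hi']
    exact τ_sq
  have h3 : finrank F L ∣ 2 * (i : ℕ) := by
    have := orderOf_dvd_of_pow_eq_one h2
    rwa [FiniteField.orderOf_frobeniusAlgHom F L] at this
  obtain ⟨c, hc⟩ := h3
  have hlt : 2 * (i : ℕ) < 2 * finrank F L := by have := i.2; omega
  rcases Nat.lt_or_ge c 1 with hc0 | hc1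
  · left
    have : c = 0 := by omega
    rw [hc, this, mul_zero]
  · rcases Nat.lt_or_ge c 2 with hc2 | hc2
    · right
      have : c = 1 := by omega
      rw [hc, this, mul_one]
    · exfalso
      have : finrank F L * 2 ≤ finrank F L * c := Nat.mul_le_mul_left _ hc2
      omega

/-- Conversely, if a power of the Frobenius inverts `H`, there is an invariant nondegenerate
form. -/
theorem Data.exists_form [Fintype F] [FiniteDimensional F V] [Finite L] [Nontrivial V]
    (D : Data ρ L) (m : ℕ) (hpow : ∀ h : H, (D.χ h) ^ (Fintype.card F ^ m + 1) = 1) :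
    ∃ B : LinearMap.BilinForm F V, B.Nondegenerate ∧
      ∀ (h : H) (x y : V), B (ρ h x) (ρ h y) = B x y := by
  classical
  obtain ⟨v₀, hv₀⟩ := exists_ne (0 : V)
  set e : L ≃ₗ[F] V := D.equiv hv₀ with he
  set σ : L →ₐ[F] L := FiniteField.frobeniusAlgHom F L ^ m with hσ
  have hσ_app : ∀ a : L, σ a = a ^ (Fintype.card F ^ m) := by
    intro a
    rw [hσ, AlgHom.coe_pow, FiniteField.coe_frobeniusAlgHom, pow_iterate]
  have hσ_inj : Function.Injective σ := σ.toRingHom.injective
  have hσ_surj : Function.Surjective σ := Finite.surjective_of_injective hσ_inj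
  obtain ⟨lam, hlam⟩ : ∃ lam : Module.Dual F L, lam 1 ≠ 0 := by
    by_contra hcon
    push Not at hcon
    exact one_ne_zero ((Module.forall_dual_apply_eq_zero_iff F (1 : L)).mp hcon)
  let B : LinearMap.BilinForm F V :=
    LinearMap.mk₂ F (fun x y => lam (e.symm x * σ (e.symm y)))
      (fun x x' y => by
        show lam (e.symm (x + x') * σ (e.symm y)) = _
        rw [map_add, add_mul, map_add])
      (fun c x y => by
        show lam (e.symm (c • x) * σ (e.symm y)) = _
        rw [map_smul, smul_mul_assoc, map_smul])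
      (fun x y y' => by
        show lam (e.symm x * σ (e.symm (y + y'))) = _
        rw [map_add, map_add, mul_add, map_add])
      (fun c x y => by
        show lam (e.symm x * σ (e.symm (c • y))) = _
        rw [map_smul, map_smul, mul_smul_comm, map_smul])
  have hB_app : ∀ x y, B x y = lam (e.symm x * σ (e.symm y)) := fun _ _ => rfl
  have hι : ∀ (h : H) (x : V), e.symm (ρ h x) = D.χ h * e.symm x := by
    intro h x
    apply e.injective
    rw [LinearEquiv.apply_symm_apply, he, D.equiv_apply, map_mul, D.hχ]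
    show ρ h x = ρ h (D.ψ (e.symm x) v₀)
    congr 1
    have := e.apply_symm_apply x
    rw [he, D.equiv_apply] at this
    exact this.symm
  refine ⟨B, ⟨?_, ?_⟩, ?_⟩
  · intro x hx
    by_contra hx0
    have hιx : e.symm x ≠ 0 := fun h => hx0 (e.symm.map_eq_zero_iff.mp h)
    obtain ⟨b, hb⟩ := hσ_surj (e.symm x)⁻¹
    have := hx (e b)
    rw [hB_app, LinearEquiv.symm_apply_apply, hb, mul_inv_cancel₀ hιx] at this
    exact hlam this
  · intro y hy
    by_contra hy0
    have hιy : e.symm y ≠ 0 := fun h => hy0 (e.symm.map_eq_zero_iff.mp h)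
    have hσy : σ (e.symm y) ≠ 0 := fun h => hιy (hσ_inj (h.trans (map_zero σ).symm))
    have := hy (e (σ (e.symm y))⁻¹)
    rw [hB_app, LinearEquiv.symm_apply_apply, inv_mul_cancel₀ hσy] at this
    exact hlam this
  · intro h x y
    rw [hB_app, hB_app, hι, hι, map_mul σ, hσ_app (D.χ h)]
    have h1 : D.χ h * e.symm x * ((D.χ h) ^ (Fintype.card F ^ m) * σ (e.symm y)) =
        ((D.χ h) ^ (Fintype.card F ^ m + 1)) * (e.symm x * σ (e.symm y)) := by
      rw [pow_succ]; ring
    rw [h1, hpow, one_mul]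

end Cfsg.Agent.Helper3.SchurField
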