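import Mathlib
import Cfsg.Agent.S0022

/-!
# B&G Theorem 3.6, reductions part 2: passing to a quotient `G ⧸ N`, `N ≤ H` (helper3)
-/

set_option autoImplicit false
set_option linter.unusedSectionVars false
set_option linter.unusedVariables false
set_option linter.style.haveILetI false

namespace Cfsg.Agent.Helper3.BG36R

open Subgroup

variable {G : Type*} [Group G] [Finite G]

/-- the centralizer of `X` in `H` maps onto the centralizer of the image of `X` in the image of
`H` (coprime action); in particular the Z-group property passes to the quotient -/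
theorem quot_zgroup (N H X : Subgroup G) [N.Normal] [H.Normal] (hNH : N ≤ H)
    (hcop : (Nat.card ↥X).Coprime (Nat.card ↥H)) (hsolv : Group.IsSolvable ↥H)
    [hZ : IsZGroup ↥(H ⊓ centralizer (X : Set G))] :
    IsZGroup ↥(H.map (QuotientGroup.mk' N) ⊓
      centralizer ((X.map (QuotientGroup.mk' N) : Subgroup (G ⧸ N)) : Set (G ⧸ N))) := by
  set π := QuotientGroup.mk' N with hπ
  set C : Subgroup G := H ⊓ centralizer (X : Set G) with hC
  set C' : Subgroup (G ⧸ N) := H.map π ⊓ centralizer ((X.map π : Subgroup (G ⧸ N)) : Set (G ⧸ N))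
    with hC'
  have hmaps : ∀ c : ↥C, π (c : G) ∈ C' := by
    intro c
    refine ⟨Subgroup.mem_map_of_mem π c.2.1, ?_⟩
    show π (c : G) ∈ centralizer ((X.map π : Subgroup (G ⧸ N)) : Set (G ⧸ N))
    rw [Subgroup.mem_centralizer_iff]
    rintro _ ⟨x, hx, rfl⟩
    rw [← map_mul, ← map_mul, (Subgroup.mem_centralizer_iff.mp c.2.2) x hx]
  let f : ↥C →* ↥C' :=
    { toFun := fun c => ⟨π (c : G), hmaps c⟩
      map_one' := by apply Subtype.ext; simp
      map_mul' := by intro a b; apply Subtype.ext; simp }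
  have hf : Function.Surjective f := by
    rintro ⟨z, hz⟩
    obtain ⟨⟨k, hk, rfl⟩, hzc⟩ := Subgroup.mem_inf.mp hz
    have hfix : ∀ a ∈ X, a * k * a⁻¹ * k⁻¹ ∈ N := by
      intro a ha
      rw [← QuotientGroup.eq_one_iff (N := N)]
      have h1 := (Subgroup.mem_centralizer_iff.mp hzc) (π a) (Subgroup.mem_map_of_mem π ha)
      have h2 : π (a * k * a⁻¹ * k⁻¹) = π a * π k * (π a)⁻¹ * (π k)⁻¹ := by
        simp only [map_mul, map_inv]
      show π (a * k * a⁻¹ * k⁻¹) = 1
      rw [h2, h1]; group
    obtain ⟨c, hc, hkc⟩ := Cfsg.Agent.S0022.result X H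
      (by rw [Subgroup.normalizer_eq_top]; exact le_top) hcop (Or.inr hsolv) N hNH
      (by rw [Subgroup.normalizer_eq_top]; exact le_top)
      (by rw [Subgroup.normalizer_eq_top]; exact le_top) k hk hfix
    refine ⟨⟨c, hc⟩, ?_⟩
    apply Subtype.ext
    show π c = π k
    have h3 : π (k⁻¹ * c) = 1 := (QuotientGroup.eq_one_iff (N := N) _).mpr hkc
    rw [map_mul, map_inv] at h3
    calc π c = π k * ((π k)⁻¹ * π c) := by group
      _ = π k := by rw [h3, mul_one]
  exact IsZGroup.of_surjective hf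

/-- the image of a subgroup of prime order coprime to `N` has the same order -/
theorem quot_card_eq (N X : Subgroup G) [N.Normal]
    (hcop : (Nat.card ↥X).Coprime (Nat.card ↥N)) :
    Nat.card ↥(X.map (QuotientGroup.mk' N)) = Nat.card ↥X := by
  have hinj : Function.Injective ((QuotientGroup.mk' N).subgroupMap X) := by
    rw [injective_iff_map_eq_one]
    intro x hx
    have h1 : (QuotientGroup.mk' N) (x : G) = 1 := congrArg Subtype.val hx
    have h2 : (x : G) ∈ N := (QuotientGroup.eq_one_iff (N := N) _).mp h1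
    have h3 : (x : G) ∈ X ⊓ N := ⟨x.2, h2⟩
    have h4 : X ⊓ N = ⊥ := by
      rw [eq_bot_iff]
      intro g hg
      have h5 : orderOf g ∣ Nat.card ↥X := by
        have := orderOf_dvd_natCard (⟨g, hg.1⟩ : ↥X)
        rwa [Subgroup.orderOf_mk] at this
      have h6 : orderOf g ∣ Nat.card ↥N := by
        have := orderOf_dvd_natCard (⟨g, hg.2⟩ : ↥N)
        rwa [Subgroup.orderOf_mk] at this
      have h7 := Nat.dvd_gcd h5 h6
      rw [Nat.Coprime.gcd_eq_one hcop, Nat.dvd_one, orderOf_eq_one_iff] at h7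
      exact h7
    rw [h4, Subgroup.mem_bot] at h3
    exact Subtype.ext h3
  exact (Nat.card_congr (Equiv.ofBijective _
    ⟨hinj, (QuotientGroup.mk' N).subgroupMap_surjective X⟩)).symm

theorem quot_commutator (N H R : Subgroup G) [N.Normal] (h : ⁅H, R⁆ = H) :
    ⁅H.map (QuotientGroup.mk' N), R.map (QuotientGroup.mk' N)⁆ = H.map (QuotientGroup.mk' N) := by
  rw [← Subgroup.map_commutator, h]

theorem quot_coprime (N H R : Subgroup G) [N.Normal]
    (h : (Nat.card ↥H).Coprime (Nat.card ↥R)) :
    (Nat.card ↥(H.map (QuotientGroup.mk' N))).Coprime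
      (Nat.card ↥(R.map (QuotientGroup.mk' N))) :=
  Nat.Coprime.coprime_dvd_left (Subgroup.card_map_dvd _ _)
    (Nat.Coprime.coprime_dvd_right (Subgroup.card_map_dvd _ _) h)

theorem quot_card_lt (N : Subgroup G) [N.Normal] (hN : N ≠ ⊥) : Nat.card (G ⧸ N) < Nat.card G := by
  have h1 := Subgroup.card_eq_card_quotient_mul_card_subgroup N
  have h2 : 1 < Nat.card ↥N := by
    rcases Nat.lt_or_ge 1 (Nat.card ↥N) with h | h
    · exact h
    · exfalso
      have h3 : Nat.card ↥N = 1 := le_antisymm h Nat.card_pos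
      exact hN (Subgroup.card_eq_one.mp h3)
  have h4 : 0 < Nat.card (G ⧸ N) := Nat.card_pos
  rw [h1]
  nlinarith

theorem quot_odd (N : Subgroup G) [N.Normal] (hodd : Odd (Nat.card G)) :
    Odd (Nat.card (G ⧸ N)) := by
  have h1 := Subgroup.card_quotient_dvd_card N
  exact Odd.of_dvd_nat hodd h1

/-- the kernel of `H → H.map (mk' N)` is `N.subgroupOf H` -/
theorem ker_subgroupMap (N H : Subgroup G) [N.Normal] :
    ((QuotientGroup.mk' N).subgroupMap H).ker = N.subgroupOf H := by
  ext x
  rw [MonoidHom.mem_ker, Subgroup.mem_subgroupOf]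
  constructor
  · intro h
    have h1 : (QuotientGroup.mk' N) (x : G) = 1 := congrArg Subtype.val h
    exact (QuotientGroup.eq_one_iff (N := N) _).mp h1
  · intro h
    apply Subtype.ext
    exact (QuotientGroup.eq_one_iff (N := N) _).mpr h

end Cfsg.Agent.Helper3.BG36R
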