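import Mathlib
import Cfsg.Agent.Lib.Helper1.CoprimeAbelian
import Cfsg.Agent.Lib.Helper7.Coprime
import Cfsg.Agent.Lib.Helper8.HHGlue3

/-!
# B&G Theorem 3.6, reductions part 1: the cyclic-Sylow trick and the Hall--Higman step (helper3)
-/

set_option autoImplicit false
set_option linter.unusedSectionVars false
set_option linter.unusedVariables false
set_option linter.style.haveILetI false

namespace Cfsg.Agent.Helper3.BG36R

open Subgroup
open scoped commutatorElement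

variable {G : Type*} [Group G]

/-- a `p`-subgroup of a subgroup that is a Z-group is cyclic -/
theorem isCyclic_of_le_zgroup {p : ℕ} [Fact p.Prime] {C S : Subgroup G} [IsZGroup ↥C]
    (hSC : S ≤ C) (hS : IsPGroup p ↥S) : IsCyclic ↥S := by
  have h1 : IsPGroup p ↥(S.subgroupOf C) := hS.comap_subtype
  haveI h2 : IsCyclic ↥(S.subgroupOf C) := IsPGroup.isCyclic_of_isZGroup h1
  exact isCyclic_of_surjective (Subgroup.subgroupOfEquivOfLe hSC)
    (Subgroup.subgroupOfEquivOfLe hSC).surjective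

/-- a finite cyclic group all of whose elements have order dividing `p` has order at most `p` -/
theorem card_le_of_isCyclic_of_pow_eq_one {A : Type*} [Group A] [Finite A] [IsCyclic A] {p : ℕ}
    (hp : 0 < p) (h : ∀ a : A, a ^ p = 1) : Nat.card A ≤ p := by
  classical
  letI := Fintype.ofFinite A
  have h1 := IsCyclic.card_pow_eq_one_le (α := A) hp
  have h2 : (Finset.univ.filter fun a : A => a ^ p = 1) = Finset.univ := by
    ext a
    simp [h a]
  rw [h2, Finset.card_univ] at h1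
  rwa [Nat.card_eq_fintype_card]

/-- in a cyclic group, a subgroup of exponent `p` lies in every subgroup of order divisible by `p` -/
theorem le_of_isCyclic_of_pow_eq_one [Finite G] {p : ℕ} [hp : Fact p.Prime] (E A B : Subgroup G)
    (hE : IsCyclic ↥E) (hAE : A ≤ E) (hBE : B ≤ E) (hA : ∀ a ∈ A, a ^ p = 1)
    (hB : p ∣ Nat.card ↥B) : A ≤ B := by
  classical
  obtain ⟨b, hb⟩ := exists_prime_orderOf_dvd_card' (G := ↥B) p hB
  have hbo : orderOf (b : G) = p := by rw [← hb]; exact Subgroup.orderOf_coe b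
  set b' : ↥E := ⟨(b : G), hBE b.2⟩ with hb'
  have hb'o : orderOf b' = p := by
    rw [← hbo]; exact (Subgroup.orderOf_mk (b : G) (hBE b.2))
  letI := Fintype.ofFinite ↥E
  have h1 := IsCyclic.card_pow_eq_one_le (α := ↥E) hp.out.pos
  -- the `p` powers of `b'` are solutions of `e ^ p = 1`
  have h2 : ((Finset.univ : Finset ↥(zpowers b')).map ⟨Subtype.val, Subtype.val_injective⟩)
      ⊆ (Finset.univ.filter fun e : ↥E => e ^ p = 1) := by
    intro e he
    rw [Finset.mem_map] at he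
    obtain ⟨z, -, rfl⟩ := he
    rw [Finset.mem_filter]
    refine ⟨Finset.mem_univ _, ?_⟩
    obtain ⟨k, hk⟩ := Subgroup.mem_zpowers_iff.mp z.2
    show (z : ↥E) ^ p = 1
    rw [← hk, ← zpow_natCast, ← zpow_mul, mul_comm, zpow_mul, zpow_natCast, ← hb'o,
      pow_orderOf_eq_one, one_zpow]
  have h3 : ((Finset.univ : Finset ↥(zpowers b')).map ⟨Subtype.val, Subtype.val_injective⟩).card
      = p := by
    rw [Finset.card_map, Finset.card_univ, ← Nat.card_eq_fintype_card, Nat.card_zpowers, hb'o]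
  have h4 := Finset.eq_of_subset_of_card_le h2 (by rw [h3]; exact h1)
  intro a ha
  have h5 : (⟨a, hAE ha⟩ : ↥E) ∈ (Finset.univ.filter fun e : ↥E => e ^ p = 1) := by
    rw [Finset.mem_filter]
    refine ⟨Finset.mem_univ _, ?_⟩
    apply Subtype.ext
    show a ^ p = 1
    exact hA a ha
  rw [← h4, Finset.mem_map] at h5
  obtain ⟨z, -, hz⟩ := h5
  obtain ⟨k, hk⟩ := Subgroup.mem_zpowers_iff.mp z.2
  have h6 : a = (b : G) ^ k := by
    have := congrArg (Subtype.val : ↥E → G) hz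
    simp only [Function.Embedding.coeFn_mk] at this
    rw [← this, ← hk]
    rfl
  rw [h6]
  exact B.zpow_mem b.2 k

/-- `N_V(Q) ≤ C(Q)` when `Q` normalizes `V` and `V ∩ Q = 1` -/
theorem inf_normalizer_le_centralizer (V Q : Subgroup G) (hQV : Q ≤ normalizer (V : Set G))
    (hdisj : V ⊓ Q = ⊥) : V ⊓ normalizer (Q : Set G) ≤ centralizer (Q : Set G) := by
  intro v hv
  obtain ⟨hvV, hvN⟩ := Subgroup.mem_inf.mp hv
  rw [Subgroup.mem_centralizer_iff]
  intro a ha
  have h1 : v * a * v⁻¹ * a⁻¹ ∈ Q :=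
    Q.mul_mem ((Subgroup.mem_normalizer_iff.mp hvN a).mp ha) (Q.inv_mem ha)
  have h2 : v * a * v⁻¹ * a⁻¹ ∈ V := by
    have h3 : a * v⁻¹ * a⁻¹ ∈ V := (Subgroup.mem_normalizer_iff.mp (hQV ha) v⁻¹).mp (V.inv_mem hvV)
    have h4 : v * a * v⁻¹ * a⁻¹ = v * (a * v⁻¹ * a⁻¹) := by group
    rw [h4]
    exact V.mul_mem hvV h3
  have h5 : v * a * v⁻¹ * a⁻¹ ∈ V ⊓ Q := ⟨h2, h1⟩
  rw [hdisj, Subgroup.mem_bot] at h5
  calc a * v = (v * a * v⁻¹ * a⁻¹)⁻¹ * (v * a) := by group
    _ = v * a := by rw [h5, inv_one, one_mul]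

/-- **The cyclic-Sylow trick.** -/
theorem key_trick [Finite G] {p : ℕ} [Fact p.Prime] (H V Q X : Subgroup G)
    [IsZGroup ↥(H ⊓ centralizer (X : Set G))] (hVH : V ≤ H) (hVp : IsPGroup p ↥V)
    (hVel : ∀ v ∈ V, v ^ p = 1) (hQV : Q ≤ normalizer (V : Set G)) (hdisj : V ⊓ Q = ⊥)
    (y : G) (hyH : y ∈ H) (hyX : y ∈ centralizer (X : Set G)) (hyQ : y ∈ normalizer (Q : Set G))
    (hyV : y ∈ normalizer (V : Set G)) (hyp : ∃ k : ℕ, y ^ p ^ k = 1) (hy : y ∉ V) :
    V ⊓ centralizer (X : Set G) ≤ centralizer (Q : Set G) := by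
  set A : Subgroup G := V ⊓ centralizer (X : Set G) with hA
  set B : Subgroup G := zpowers y with hB
  set E : Subgroup G := A ⊔ B with hE
  have hBH : B ≤ H ⊓ centralizer (X : Set G) := by
    rw [hB, Subgroup.zpowers_le]; exact ⟨hyH, hyX⟩
  have hAH : A ≤ H ⊓ centralizer (X : Set G) := inf_le_inf_right _ hVH
  have hEle : E ≤ H ⊓ centralizer (X : Set G) := sup_le hAH hBH
  have hBp : IsPGroup p ↥B := by
    obtain ⟨k, hk⟩ := hyp
    apply IsPGroup.of_card (n := (Nat.factorization (orderOf y)) p)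
    rw [hB, Nat.card_zpowers]
    have h1 : orderOf y ∣ p ^ k := orderOf_dvd_of_pow_eq_one hk
    obtain ⟨j, -, hj⟩ := (Nat.dvd_prime_pow (Fact.out : p.Prime)).mp h1
    rw [hj, (Fact.out : p.Prime).factorization_pow]
    simp
  have hBV : B ≤ normalizer (V : Set G) := by rw [hB, Subgroup.zpowers_le]; exact hyV
  have hVBp : IsPGroup p ↥(B ⊔ V) := IsPGroup.to_sup_of_normal_right' hBp hVp hBV
  have hEp : IsPGroup p ↥E := hVBp.to_le (sup_le (inf_le_left.trans le_sup_right) le_sup_left)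
  have hEc : IsCyclic ↥E := isCyclic_of_le_zgroup hEle hEp
  have hBne : B ≠ ⊥ := by
    intro h
    apply hy
    have : y ∈ B := Subgroup.mem_zpowers y
    rw [h, Subgroup.mem_bot] at this
    rw [this]; exact V.one_mem
  have hBdvd : p ∣ Nat.card ↥B := by
    rcases hBp.card_eq_or_dvd with h | h
    · exact absurd (Subgroup.card_eq_one.mp h) hBne
    · exact h
  have hAB : A ≤ B := le_of_isCyclic_of_pow_eq_one E A B hEc le_sup_left le_sup_right
    (fun a ha => hVel a ha.1) hBdvd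
  have hBQ : B ≤ normalizer (Q : Set G) := by rw [hB, Subgroup.zpowers_le]; exact hyQ
  intro a ha
  exact inf_normalizer_le_centralizer V Q hQV hdisj ⟨ha.1, hBQ (hAB ha)⟩

/-- **Hall--Higman step.** If the `X`-fixed points of the abelian `p`-group `V` are centralized by the
`X`-invariant `q`-group `Q` acting faithfully on `V`, then `X` centralizes `Q`. -/
theorem le_centralizer_of_fixed_le [Finite G] {p q r : ℕ} [Fact p.Prime] (hq : q.Prime) (hr : r.Prime)
    (hpq : p ≠ q) (hpr : p ≠ r) (hqr : q ≠ r) (hq2 : q ≠ 2)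
    (V Q X : Subgroup G) (hVp : IsPGroup p ↥V) (hVc : ∀ a ∈ V, ∀ b ∈ V, a * b = b * a)
    (hQ : IsPGroup q ↥Q) (hX : Nat.card ↥X = r)
    (hXQ : X ≤ normalizer (Q : Set G)) (hXV : X ≤ normalizer (V : Set G))
    (hQV : Q ≤ normalizer (V : Set G)) (hfaith : Q ⊓ centralizer (V : Set G) = ⊥)
    (hfix : V ⊓ centralizer (X : Set G) ≤ centralizer (Q : Set G)) :
    Q ≤ centralizer (X : Set G) := by
  have hpp : p.Prime := Fact.out
  haveI : Fact q.Prime := ⟨hq⟩
  haveI : IsMulCommutative ↥V := ⟨⟨fun a b => Subtype.ext (hVc a a.2 b b.2)⟩⟩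
  set W : Subgroup G := ⁅V, Q⁆ with hW
  have hWV : W ≤ V := Helper7.commutator_le_of_le_normalizer hQV
  have hcopQV : (Nat.card ↥Q).Coprime (Nat.card ↥V) := by
    obtain ⟨a, ha⟩ := hQ.exists_card_eq
    obtain ⟨b, hb⟩ := hVp.exists_card_eq
    rw [ha, hb]
    exact Nat.Coprime.pow a b ((Nat.coprime_primes hq hpp).mpr (Ne.symm hpq))
  have hWX : W ⊓ centralizer (X : Set G) = ⊥ := by
    rw [eq_bot_iff]
    intro w hw
    have h1 : w ∈ centralizer (Q : Set G) := hfix ⟨hWV hw.1, hw.2⟩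
    have h2 := Helper1.commutator_inf_centralizer_eq_bot Q V hQV hcopQV
    have h3 : w ∈ ⁅V, Q⁆ ⊓ centralizer (Q : Set G) := ⟨hw.1, h1⟩
    rwa [h2] at h3
  have hQW : Q ≤ normalizer (W : Set G) :=
    (le_inf hQV Subgroup.le_normalizer).trans
      (Helper7.normalizer_inf_normalizer_le_normalizer_commutator V Q)
  have hXW : X ≤ normalizer (W : Set G) :=
    (le_inf hXV hXQ).trans (Helper7.normalizer_inf_normalizer_le_normalizer_commutator V Q)
  have hexc : ¬ (q = 2 ∧ ∃ m : ℕ, r = 2 ^ m + 1) := fun h => hq2 h.1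
  have hHH := Helper8.HHLin.commutator_le_centralizer_pgroup p hq hr hpq hpr hqr hexc X Q W
    (hVp.to_le hWV) hX hQ hXQ hXW hQW hWX
  set Q₀ : Subgroup G := ⁅X, Q⁆ with hQ₀
  have hQ₀Q : Q₀ ≤ Q := by
    rw [hQ₀, Subgroup.commutator_comm]
    exact Helper7.commutator_le_of_le_normalizer hXQ
  have h1 : ⁅V, Q₀⁆ ≤ W := Subgroup.commutator_mono le_rfl hQ₀Q
  have h2 : ⁅⁅V, Q₀⁆, Q₀⁆ = ⊥ := by
    rw [Subgroup.commutator_eq_bot_iff_le_centralizer]
    intro z hz
    have hz' : Q₀ ≤ centralizer ((⁅V, Q₀⁆ : Subgroup G) : Set G) :=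
      hHH.trans (Subgroup.centralizer_le (fun _ h => h1 h))
    -- `Q₀ ≤ C(⁅V, Q₀⁆)`, so `⁅V, Q₀⁆ ≤ C(Q₀)`
    rw [Subgroup.mem_centralizer_iff]
    intro g hg
    have := Subgroup.mem_centralizer_iff.mp (hz' hg) z hz
    exact this.symm
  have hcop0 : (Nat.card ↥Q₀).Coprime (Nat.card ↥V) :=
    Nat.Coprime.coprime_dvd_left (Subgroup.card_dvd_of_le hQ₀Q) hcopQV
  have h3 : V ≤ centralizer (Q₀ : Set G) :=
    Helper7.le_centralizer_of_commutator_commutator_eq_bot hcop0 (hQ₀Q.trans hQV) h2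
  have h4 : Q₀ ≤ Q ⊓ centralizer (V : Set G) := by
    refine le_inf hQ₀Q ?_
    intro g hg
    rw [Subgroup.mem_centralizer_iff]
    intro v hv
    have := Subgroup.mem_centralizer_iff.mp (h3 hv) g hg
    exact this.symm
  rw [hfaith, le_bot_iff] at h4
  -- `⁅X, Q⁆ = ⊥`
  intro g hg
  rw [Subgroup.mem_centralizer_iff]
  intro x hx
  have h5 : ⁅x, g⁆ ∈ Q₀ := Subgroup.commutator_mem_commutator hx hg
  rw [h4, Subgroup.mem_bot, commutatorElement_eq_one_iff_mul_comm] at h5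
  exact h5

end Cfsg.Agent.Helper3.BG36R
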