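import Mathlib
import Cfsg.Agent.Lib.Helper3.BG36R1
import Cfsg.Agent.Lib.Helper15.SylowIn
import Cfsg.Agent.Lib.Helper7.Signalizer
import Cfsg.Agent.Lib.Helper7.Coprime

/-!
# B&G Theorem 3.6, reductions part 4: general tools (helper3)

* `card_comap_mk'` : order of a preimage in a quotient;
* `le_of_forall_sylow_card` : a subgroup containing a full Sylow subgroup of `U` for each prime
  contains `U`;
* `exists_conj_normalizer` : lifting normalizing elements through a normal `p`-subgroup;
* `commutator_mem_centralizer_of_isCyclic` : automorphisms of a cyclic group commute;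
* `isMulCommutative_of_isZGroup` : a Z-group `K = [K, A]` is abelian.
-/

set_option autoImplicit false
set_option linter.unusedSectionVars false
set_option linter.unusedVariables false
set_option linter.style.haveILetI false

namespace Cfsg.Agent.Helper3.BG36R

open Subgroup
open scoped commutatorElement

variable {G : Type*} [Group G]

theorem card_comap_mk' [Finite G] (N : Subgroup G) [N.Normal] (K : Subgroup (G ⧸ N)) :
    Nat.card ↥(K.comap (QuotientGroup.mk' N)) = Nat.card ↥K * Nat.card ↥N := by
  have hs : Function.Surjective (QuotientGroup.mk' N) := QuotientGroup.mk'_surjective N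
  have h1 := Subgroup.card_mul_index (K.comap (QuotientGroup.mk' N))
  have h2 := Subgroup.card_mul_index K
  have h3 : (K.comap (QuotientGroup.mk' N)).index = K.index :=
    Subgroup.index_comap_of_surjective K hs
  have h4 := Subgroup.card_eq_card_quotient_mul_card_subgroup N
  have h5 : K.index ≠ 0 := Subgroup.index_ne_zero_of_finite
  rw [h3] at h1
  have h6 : Nat.card ↥(K.comap (QuotientGroup.mk' N)) * K.index
      = (Nat.card ↥K * Nat.card ↥N) * K.index := by
    rw [h1, h4, ← h2]; ring
  exact Nat.eq_of_mul_eq_mul_right (Nat.pos_of_ne_zero h5) h6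

/-- a subgroup containing, for every prime `q`, a subgroup of `U` of order the full `q`-part of
`|U|`, contains `U` -/
theorem le_of_forall_sylow_card [Finite G] (U D : Subgroup G)
    (h : ∀ q : ℕ, q.Prime → q ∣ Nat.card ↥U → ∃ S : Subgroup G, S ≤ U ⊓ D ∧
      Nat.card ↥S = q ^ (Nat.card ↥U).factorization q) : U ≤ D := by
  have hU0 : Nat.card ↥U ≠ 0 := Nat.card_pos.ne'
  have hD0 : Nat.card ↥(U ⊓ D : Subgroup G) ≠ 0 := Nat.card_pos.ne'
  have hdvd : Nat.card ↥U ∣ Nat.card ↥(U ⊓ D : Subgroup G) := by
    rw [← Nat.factorization_le_iff_dvd hU0 hD0]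
    intro q
    by_cases hq : q.Prime
    · by_cases hqU : q ∣ Nat.card ↥U
      · obtain ⟨S, hS, hSc⟩ := h q hq hqU
        have h1 : q ^ (Nat.card ↥U).factorization q ∣ Nat.card ↥(U ⊓ D : Subgroup G) := by
          rw [← hSc]; exact Subgroup.card_dvd_of_le hS
        exact (hq.pow_dvd_iff_le_factorization hD0).mp h1
      · rw [Nat.factorization_eq_zero_of_not_dvd hqU]; exact Nat.zero_le _
    · rw [Nat.factorization_eq_zero_of_not_prime _ hq]; exact Nat.zero_le _
  have hle : Nat.card ↥U ≤ Nat.card ↥(U ⊓ D : Subgroup G) := Nat.le_of_dvd (Nat.pos_of_ne_zero hD0) hdvd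
  have heq : U ⊓ D = U := Subgroup.eq_of_le_of_card_ge inf_le_left hle
  rw [← heq]; exact inf_le_right

/-- **Lifting normalizing elements.** If `V` is a normal `p`-subgroup, `Q` a `q`-subgroup, `q ≠ p`,
and the image of `g` in `G ⧸ V` normalizes the image of `Q`, then some `V`-translate of `g`
normalizes `Q`. -/
theorem exists_conj_normalizer [Finite G] {p q : ℕ} [Fact p.Prime] [Fact q.Prime] (hpq : p ≠ q)
    (V Q : Subgroup G) [V.Normal] (hV : IsPGroup p ↥V) (hQ : IsPGroup q ↥Q) (g : G)
    (hg : (QuotientGroup.mk' V) g ∈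
      normalizer ((Q.map (QuotientGroup.mk' V) : Subgroup (G ⧸ V)) : Set (G ⧸ V))) :
    ∃ v ∈ V, v⁻¹ * g ∈ normalizer (Q : Set G) := by
  have hp : p.Prime := Fact.out
  have hq : q.Prime := Fact.out
  set π := QuotientGroup.mk' V with hπ
  set W : Subgroup G := V ⊔ Q with hW
  have hWc : W = (Q.map π).comap π := by
    rw [Subgroup.comap_map_eq, QuotientGroup.ker_mk', hW, sup_comm]
  have hgW : g ∈ normalizer (W : Set G) := by
    rw [hWc]
    exact Subgroup.le_normalizer_comap π hg
  have hQW : Q ≤ W := le_sup_right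
  -- `Q` is a Sylow `q`-subgroup of `W`
  have hrel : ¬ q ∣ Q.relIndex W := by
    have h1 : Nat.card ↥W ∣ Nat.card ↥V * Nat.card ↥Q := by
      have hn : Q ≤ normalizer (V : Set G) := by rw [Subgroup.normalizer_eq_top]; exact le_top
      exact Helper7.card_sup_dvd_mul_of_le_normalizer hn
    have h2 : Q.relIndex W * Nat.card ↥Q = Nat.card ↥W := by
      have := Subgroup.relIndex_mul_relIndex (⊥ : Subgroup G) Q W bot_le hQW
      rw [Subgroup.relIndex_bot_left, Subgroup.relIndex_bot_left] at this
      rw [mul_comm]; exact this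
    have h3 : Q.relIndex W ∣ Nat.card ↥V := by
      rw [← h2] at h1
      exact Nat.dvd_of_mul_dvd_mul_right Nat.card_pos h1
    obtain ⟨n, hn⟩ := hV.exists_card_eq
    rw [hn] at h3
    intro h4
    have h5 := hq.dvd_of_dvd_pow (h4.trans h3)
    exact hpq ((Nat.prime_dvd_prime_iff_eq hq hp).mp h5).symm
  have hS1 : Helper15.IsSylowIn q Q W := Helper15.isSylowIn_of_not_dvd_relIndex hQ hQW hrel
  have hS2 : Helper15.IsSylowIn q (Q.map (MulAut.conj g).toMonoidHom) W :=
    hS1.map_conj_of_mem_normalizer hgW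
  obtain ⟨w, hwW, hw⟩ := hS1.exists_conj hS2
  obtain ⟨v, hv, a, ha, rfl⟩ := Subgroup.mem_sup_of_normal_left.mp hwW
  refine ⟨v, hv, ?_⟩
  have h1 : Q.map (MulAut.conj (v * a)).toMonoidHom = Q.map (MulAut.conj v).toMonoidHom := by
    rw [← Helper15.map_conj_map_conj, Helper15.map_conj_eq_self_of_mem ha]
  rw [h1] at hw
  -- `Q^v = Q^g`
  have h2 : Q.map (MulAut.conj (v⁻¹ * g)).toMonoidHom = Q := by
    rw [← Helper15.map_conj_map_conj, ← hw, Helper15.map_conj_inv_map_conj]
  exact Helper15.mem_normalizer_of_map_conj_eq h2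

/-- commutators of elements normalizing a cyclic subgroup centralize it -/
theorem commutator_mem_centralizer_of_isCyclic (D : Subgroup G) (hD : IsCyclic ↥D) {g h : G}
    (hg : g ∈ normalizer (D : Set G)) (hh : h ∈ normalizer (D : Set G)) :
    ⁅g, h⁆ ∈ centralizer (D : Set G) := by
  obtain ⟨⟨d, hdD⟩, hd⟩ := hD.exists_generator
  have hgen : ∀ x ∈ D, ∃ k : ℤ, x = d ^ k := by
    intro x hx
    obtain ⟨k, hk⟩ := Subgroup.mem_zpowers_iff.mp (hd ⟨x, hx⟩)
    refine ⟨k, ?_⟩
    have := congrArg Subtype.val hk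
    simp at this; exact this.symm
  obtain ⟨i, hi⟩ := hgen (g * d * g⁻¹) ((Subgroup.mem_normalizer_iff.mp hg d).mp hdD)
  obtain ⟨j, hj⟩ := hgen (h * d * h⁻¹) ((Subgroup.mem_normalizer_iff.mp hh d).mp hdD)
  have hconj_zpow : ∀ (a b : G) (k : ℤ), a * b ^ k * a⁻¹ = (a * b * a⁻¹) ^ k := by
    intro a b k
    have := map_zpow (MulAut.conj a).toMonoidHom b k
    simpa [MulAut.conj_apply] using this
  have h1 : (g * h) * d * (g * h)⁻¹ = d ^ (j * i) := by
    calc (g * h) * d * (g * h)⁻¹ = g * (h * d * h⁻¹) * g⁻¹ := by group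
      _ = g * d ^ j * g⁻¹ := by rw [hj]
      _ = (g * d * g⁻¹) ^ j := hconj_zpow g d j
      _ = (d ^ i) ^ j := by rw [hi]
      _ = d ^ (j * i) := by rw [← zpow_mul, mul_comm]
  have h2 : (h * g) * d * (h * g)⁻¹ = d ^ (j * i) := by
    calc (h * g) * d * (h * g)⁻¹ = h * (g * d * g⁻¹) * h⁻¹ := by group
      _ = h * d ^ i * h⁻¹ := by rw [hi]
      _ = (h * d * h⁻¹) ^ i := hconj_zpow h d i
      _ = (d ^ j) ^ i := by rw [hj]
      _ = d ^ (j * i) := by rw [← zpow_mul]
  -- `⁅g, h⁆` commutes with `d`
  have h3 : ⁅g, h⁆ * d = d * ⁅g, h⁆ := by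
    have h4 : (g * h) * d * (g * h)⁻¹ = (h * g) * d * (h * g)⁻¹ := by rw [h1, h2]
    have h5 : ⁅g, h⁆ * d * ⁅g, h⁆⁻¹ = d := by
      have e1 : ⁅g, h⁆ * d * ⁅g, h⁆⁻¹
          = (g * h) * ((h * g)⁻¹ * d * (h * g)) * (g * h)⁻¹ := by
        rw [commutatorElement_def]; group
      have e2 : (h * g)⁻¹ * d * (h * g) = (g * h)⁻¹ * d * (g * h) := by
        have : d = (h * g)⁻¹ * ((g * h) * d * (g * h)⁻¹) * (h * g) := by rw [h4]; group
        calc (h * g)⁻¹ * d * (h * g)
            = (h * g)⁻¹ * ((h * g) * ((g * h)⁻¹ * d * (g * h)) * (h * g)⁻¹) * (h * g) := by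
              have h6 : (h * g) * ((g * h)⁻¹ * d * (g * h)) * (h * g)⁻¹ = d := by
                -- conjugating `h4` appropriately
                have h7 : (g * h)⁻¹ * d * (g * h) = (h * g)⁻¹ * d * (h * g) := by
                  -- both sides equal `d ^ k` for the inverse exponent; use injectivity of conj
                  have key : ∀ x : G, (g * h) * x * (g * h)⁻¹ = (h * g) * x * (h * g)⁻¹ →
                      True := fun _ _ => trivial
                  -- direct argument: the automorphisms `conj (g*h)` and `conj (h*g)` agree on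
                  -- `zpowers d`, and `(g*h)⁻¹ d (g*h) ∈ D = zpowers d`.
                  have hgh : g * h ∈ normalizer (D : Set G) :=
                    (normalizer (D : Set G)).mul_mem hg hh
                  have hmem : (g * h)⁻¹ * d * (g * h) ∈ D := by
                    have := (Subgroup.mem_normalizer_iff.mp
                      ((normalizer (D : Set G)).inv_mem hgh) d).mp hdD
                    simpa using this
                  obtain ⟨k, hk⟩ := hgen _ hmem
                  have e3 : (g * h) * d ^ k * (g * h)⁻¹ = (h * g) * d ^ k * (h * g)⁻¹ := by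
                    rw [hconj_zpow, hconj_zpow, h4]
                  have e4 : (g * h) * d ^ k * (g * h)⁻¹ = d := by rw [← hk]; group
                  have e5 : (h * g) * d ^ k * (h * g)⁻¹ = d := by rw [← e3, e4]
                  calc (g * h)⁻¹ * d * (g * h) = d ^ k := hk
                    _ = (h * g)⁻¹ * ((h * g) * d ^ k * (h * g)⁻¹) * (h * g) := by group
                    _ = (h * g)⁻¹ * d * (h * g) := by rw [e5]
                rw [h7]; group
              rw [h6]
          _ = (g * h)⁻¹ * d * (g * h) := by group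
      rw [e1, e2]; group
    calc ⁅g, h⁆ * d = (⁅g, h⁆ * d * ⁅g, h⁆⁻¹) * ⁅g, h⁆ := by group
      _ = d * ⁅g, h⁆ := by rw [h5]
  rw [Subgroup.mem_centralizer_iff]
  intro x hx
  obtain ⟨k, rfl⟩ := hgen x hx
  exact ((Commute.zpow_left (show Commute d ⁅g, h⁆ from h3.symm) k)).eq

/-- a Z-group `K` with `K = [K, A]` is abelian (indeed cyclic) -/
theorem isMulCommutative_of_isZGroup [Finite G] (K A : Subgroup G)
    (hAK : A ≤ normalizer (K : Set G)) [IsZGroup ↥K] (hcomm : ⁅K, A⁆ = K) :
    IsMulCommutative ↥K := by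
  set D : Subgroup G := ⁅K, K⁆ with hD
  have hDmap : (_root_.commutator ↥K).map K.subtype = D := Subgroup.map_subtype_commutator K
  have hDc : IsCyclic ↥D := by
    haveI := IsZGroup.isCyclic_commutator ↥K
    rw [← hDmap]
    exact isCyclic_of_surjective
      ((_root_.commutator ↥K).equivMapOfInjective K.subtype K.subtype_injective)
      ((_root_.commutator ↥K).equivMapOfInjective K.subtype K.subtype_injective).surjective
  have hND : normalizer (K : Set G) ≤ normalizer (D : Set G) := by
    have := Helper7.normalizer_inf_normalizer_le_normalizer_commutator K K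
    rwa [inf_idem] at this
  have h1 : ⁅K, A⁆ ≤ centralizer (D : Set G) := by
    rw [Subgroup.commutator_le]
    intro k hk a ha
    exact commutator_mem_centralizer_of_isCyclic D hDc (hND (Subgroup.le_normalizer hk))
      (hND (hAK ha))
  rw [hcomm] at h1
  have hker : (Abelianization.of (G := ↥K)).ker ≤ center ↥K := by
    rw [Abelianization.ker_of]
    intro c hc
    rw [Subgroup.mem_center_iff]
    intro k
    have hcD : (c : G) ∈ D := by
      rw [← hDmap]; exact ⟨c, hc, rfl⟩
    have := (Subgroup.mem_centralizer_iff.mp (h1 k.2)) (c : G) hcD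
    apply Subtype.ext
    show (k : G) * c = c * k
    exact this.symm
  haveI : Group.IsNilpotent ↥K := _root_.isNilpotent_of_ker_le_center (Abelianization.of (G := ↥K)) hker
  haveI : IsCyclic ↥K := inferInstance
  exact IsCyclic.isMulCommutative

/-- an abelian group with trivial `p`-core-like condition: if every normal `p`-subgroup of the
finite abelian group `K` is trivial then `p ∤ |K|` -/
theorem not_dvd_card_of_isMulCommutative {K : Type*} [Group K] [Finite K] [IsMulCommutative K]
    {p : ℕ} [Fact p.Prime] (h : ∀ N : Subgroup K, N.Normal → IsPGroup p ↥N → N = ⊥) :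
    ¬ p ∣ Nat.card K := by
  intro hdvd
  obtain P : Sylow p K := default
  have h1 : (P : Subgroup K) = ⊥ :=
    h P (Subgroup.normal_of_isMulCommutative _) P.isPGroup'
  exact P.ne_bot_of_dvd_card hdvd h1

end Cfsg.Agent.Helper3.BG36R
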