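import Mathlib
import Cfsg.Agent.Lib.Helper3.Basic
import Cfsg.Agent.Lib.Helper3.Hall
import Cfsg.Agent.Lib.Helper3.PrimSolv
import Cfsg.Agent.Lib.Helper1.HallConj
import Cfsg.Agent.Lib.Helper8.PGroup

set_option autoImplicit false

/-! A minimal normal `p`-subgroup of a finite solvable group containing a nontrivial element that
normalizes a Hall `p'`-subgroup is central. -/

namespace Cfsg.Agent.Helper3

open scoped Pointwise

universe u

variable {H : Type u} [Group H]

/-- A normal `p`-subgroup lies in every Sylow `p`-subgroup. -/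
theorem le_sylow_of_normal_isPGroup [Finite H] {p : ℕ} [Fact p.Prime] (N : Subgroup H) [N.Normal]
    (hN : IsPGroup p N) (P : Sylow p H) : N ≤ P := by
  obtain ⟨Q, hQ⟩ := hN.exists_le_sylow
  obtain ⟨g, hg⟩ := MulAction.exists_smul_eq H Q P
  have h1 : MulAut.conj g • N ≤ MulAut.conj g • (Q : Subgroup H) := by
    intro y hy
    rw [mem_conj_smul_iff] at hy ⊢
    exact hQ hy
  rw [Subgroup.Normal.conj_smul_eq_self g N] at h1
  rw [← hg]
  exact h1

theorem central_of_minimal_normal_of_normalizes [Finite H] [Group.IsSolvable H]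
    (B : Subgroup H) [hBn : B.Normal]
    (hmin : ∀ N : Subgroup H, N.Normal → N ≤ B → N = ⊥ ∨ N = B)
    (p : ℕ) [hp : Fact p.Prime] (hBp : IsPGroup p B)
    (Q : Subgroup H) (hQidx : ∃ k, Q.index = p ^ k) (hQcard : ¬ p ∣ Nat.card Q)
    (x : H) (hxB : x ∈ B) (hx1 : x ≠ 1) (hxQ : x ∈ Subgroup.normalizer (Q : Set H)) :
    B ≤ Subgroup.center H := by
  classical
  have hBbot : B ≠ ⊥ := by
    intro h
    rw [h, Subgroup.mem_bot] at hxB
    exact hx1 hxB
  -- `B ∩ Q = 1`
  have hBQ : ∀ c, c ∈ B → c ∈ Q → c = 1 := by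
    intro c hcB hcQ
    obtain ⟨j, hj⟩ := hBp ⟨c, hcB⟩
    have hj' : c ^ (p ^ j) = 1 := by
      have := congrArg Subtype.val hj
      simpa using this
    have h1 : orderOf c ∣ p ^ j := orderOf_dvd_of_pow_eq_one hj'
    have h2 : orderOf c ∣ Nat.card Q := by
      have := Subgroup.orderOf_dvd_natCard Q hcQ
      exact this
    obtain ⟨i, -, hi⟩ := (Nat.dvd_prime_pow hp.out).mp h1
    rcases Nat.eq_zero_or_pos i with h0 | hpos
    · rw [h0, pow_zero] at hi
      exact orderOf_eq_one_iff.mp hi
    · exfalso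
      apply hQcard
      rw [hi] at h2
      exact (dvd_pow_self p hpos.ne').trans h2
  -- `x` centralizes `Q`
  have hxcQ : ∀ q ∈ Q, q * x = x * q := by
    intro q hq
    have hc1 : x * q * x⁻¹ * q⁻¹ ∈ Q :=
      Q.mul_mem ((Subgroup.mem_normalizer_iff.mp hxQ q).mp hq) (Q.inv_mem hq)
    have hc2 : x * q * x⁻¹ * q⁻¹ ∈ B := by
      have : x * q * x⁻¹ * q⁻¹ = x * (q * x⁻¹ * q⁻¹) := by group
      rw [this]
      exact B.mul_mem hxB (hBn.conj_mem _ (B.inv_mem hxB) q)
    have := hBQ _ hc2 hc1
    calc q * x = (x * q * x⁻¹ * q⁻¹)⁻¹ * (x * q) := by group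
      _ = x * q := by rw [this, inv_one, one_mul]
  by_contra hcen
  set C := Subgroup.centralizer (B : Set H) with hC
  have hCtop : C ≠ ⊤ := by
    intro h
    apply hcen
    intro b hb
    rw [Subgroup.mem_center_iff]
    intro g
    have : g ∈ C := by rw [h]; exact Subgroup.mem_top g
    exact ((Subgroup.mem_centralizer_iff.mp this) b hb).symm
  have hnt : Nontrivial (H ⧸ C) := by
    obtain ⟨g, hg⟩ : ∃ g, g ∉ C := by
      by_contra h
      push Not at h
      exact hCtop (eq_top_iff.mpr (fun y _ => h y))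
    exact ⟨⟨QuotientGroup.mk' C g, 1, fun h => hg ((QuotientGroup.eq_one_iff g).mp h)⟩⟩
  have hsurj : Function.Surjective (QuotientGroup.mk' C) := QuotientGroup.mk'_surjective C
  obtain ⟨F', hF'n, hF'bot, hF'min⟩ := exists_minimal_normal (G := H ⧸ C)
  have hF'comm := commute_of_minimal_normal F' hF'bot hF'min
  obtain ⟨q, k, hq, hk, hF'card, -⟩ := card_eq_prime_pow_of_minimal_normal F' hF'bot hF'min hF'comm
  -- key: a nontrivial element of `B` centralized by a subgroup covering `F'`
  have key : ∃ (W : Subgroup H) (z : H), z ∈ B ∧ z ≠ 1 ∧ (∀ w ∈ W, w * z = z * w) ∧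
      F' ≤ W.map (QuotientGroup.mk' C) := by
    by_cases hqp : q = p
    · subst hqp
      obtain ⟨P, hBP⟩ := hBp.exists_le_sylow
      have hBP' : (B.subgroupOf P) ≠ ⊥ := by
        intro h
        rw [Subgroup.subgroupOf_eq_bot, disjoint_iff, inf_of_le_left hBP] at h
        exact hBbot h
      have hnorm : (B.subgroupOf (P : Subgroup H)).Normal := hBn.subgroupOf _
      obtain ⟨z, hzB, hzc, hz1⟩ :=
        Cfsg.Agent.Helper8.exists_mem_center_of_normal_ne_bot (G := (P : Subgroup H)) (p := q)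
          P.isPGroup' (B.subgroupOf P) hBP'
      refine ⟨P, (z : H), Subgroup.mem_subgroupOf.mp hzB, fun h => hz1 (Subtype.ext h), ?_, ?_⟩
      · intro w hw
        have := (Subgroup.mem_center_iff.mp hzc) ⟨w, hw⟩
        exact congrArg Subtype.val this
      · have hF'p : IsPGroup q F' := IsPGroup.of_card hF'card
        have := le_sylow_of_normal_isPGroup F' hF'p (P.mapSurjective hsurj)
        rwa [Sylow.coe_mapSurjective] at this
    · refine ⟨Q, x, hxB, hx1, hxcQ, ?_⟩
      apply Cfsg.Agent.Helper1.le_of_normal_pGroup_of_coprime_index F' _ hF'card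
      obtain ⟨j, hj⟩ := hQidx
      have h1 : (Q.map (QuotientGroup.mk' C)).index ∣ p ^ j := by
        rw [← hj]; exact Subgroup.index_map_dvd _ hsurj
      have h2 : (q ^ k).Coprime (p ^ j) :=
        Nat.Coprime.pow _ _ ((Nat.coprime_primes hq hp.out).mpr hqp)
      exact Nat.Coprime.of_dvd_right h1 h2
  obtain ⟨W, z, hzB, hz1, hzW, hF'W⟩ := key
  set F := F'.comap (QuotientGroup.mk' C) with hF
  have hFn : F.Normal := hF'n.comap _
  have hFW : F ≤ W ⊔ C := by
    have := Subgroup.comap_mono (f := QuotientGroup.mk' C) hF'W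
    rwa [Subgroup.comap_map_eq, QuotientGroup.ker_mk'] at this
  have hWC : W ⊔ C ≤ Subgroup.centralizer ({z} : Set H) := by
    apply sup_le
    · intro w hw
      rw [Subgroup.mem_centralizer_singleton_iff]
      exact hzW w hw
    · intro c hc
      rw [Subgroup.mem_centralizer_singleton_iff]
      exact ((Subgroup.mem_centralizer_iff.mp hc) z hzB).symm
  set X := B ⊓ Subgroup.centralizer (F : Set H) with hX
  have hXn : X.Normal := inferInstance
  have hzX : z ∈ X := by
    refine Subgroup.mem_inf.mpr ⟨hzB, ?_⟩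
    rw [Subgroup.mem_centralizer_iff]
    intro f hf
    have := hWC (hFW hf)
    rw [Subgroup.mem_centralizer_singleton_iff] at this
    exact this
  rcases hmin X hXn inf_le_left with h | h
  · rw [h, Subgroup.mem_bot] at hzX
    exact hz1 hzX
  · have hBF : B ≤ Subgroup.centralizer (F : Set H) := by
      rw [← h]; exact inf_le_right
    have hFC : F ≤ C := Subgroup.le_centralizer_iff.mp hBF
    apply hF'bot
    rw [eq_bot_iff]
    intro y hy
    obtain ⟨g, rfl⟩ := hsurj y
    have hgF : g ∈ F := hy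
    rw [Subgroup.mem_bot]
    exact (QuotientGroup.eq_one_iff g).mpr (hFC hgF)

end Cfsg.Agent.Helper3
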