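import Mathlib
import Cfsg.Agent.Lib.Helper3.Basic
import Cfsg.Agent.Lib.Helper3.Supersolvable
import Cfsg.Agent.Lib.Helper3.Supersolvable2
import Cfsg.Agent.Lib.Helper3.Hall
import Cfsg.Agent.Lib.Helper8.PGroup

set_option autoImplicit false

/-! Normal subgroups of supersolvable groups; a gluing criterion for supersolvability. -/

namespace Cfsg.Agent.Helper3

open scoped Pointwise

universe u

variable {G : Type u} [Group G]

/-- Intersecting a normal cyclic-step chain with a normal subgroup. -/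
theorem SSReach.inf_normal {K : Subgroup G} (h : SSReach K) (N : Subgroup G) [hN : N.Normal] :
    SSReach (K ⊓ N) := by
  induction h with
  | bot => rw [bot_inf_eq]; exact SSReach.bot
  | step K g _ hKn hK'n ih =>
    have hC : (K ⊔ Subgroup.zpowers g) ⊓ N ≤ K ⊔ Subgroup.zpowers g := inf_le_left
    obtain ⟨c, -, hc⟩ := exists_eq_inf_sup_zpowers K g _ hC
    have e : K ⊓ ((K ⊔ Subgroup.zpowers g) ⊓ N) = K ⊓ N := by
      rw [← inf_assoc, inf_of_le_left (le_sup_left : K ≤ K ⊔ Subgroup.zpowers g)]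
    rw [e] at hc
    have hn1 : (K ⊓ N).Normal := inferInstance
    have hn2 : ((K ⊔ Subgroup.zpowers g) ⊓ N).Normal := inferInstance
    rw [hc] at hn2 ⊢
    exact SSReach.step _ c ih hn1 hn2

/-- A nontrivial normal subgroup of a finite supersolvable group contains a normal subgroup of
prime order. -/
theorem exists_normal_prime_card_le [Finite G] (hG : Cfsg.IsSupersolvable G) (N : Subgroup G)
    [N.Normal] (hN : N ≠ ⊥) :
    ∃ N₀ : Subgroup G, N₀.Normal ∧ N₀ ≤ N ∧ (Nat.card N₀).Prime := by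
  rw [isSupersolvable_iff_ssReach] at hG
  have h1 := hG.inf_normal N
  rw [top_inf_eq] at h1
  obtain ⟨g, hg1, hgn, hgN⟩ := h1.exists_normal_zpowers hN
  have hn1 : orderOf g ≠ 1 := fun h => hg1 (orderOf_eq_one_iff.mp h)
  have hn0 : orderOf g ≠ 0 := (orderOf_pos g).ne'
  set p := (orderOf g).minFac with hp
  have hpp : p.Prime := Nat.minFac_prime hn1
  have hpd : p ∣ orderOf g := Nat.minFac_dvd _
  obtain ⟨m, hm⟩ := hpd
  have hm0 : m ≠ 0 := by rintro rfl; rw [mul_zero] at hm; exact hn0 hm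
  have hord : orderOf (g ^ m) = p := by
    rw [orderOf_pow_of_dvd hm0 ⟨p, by rw [hm, mul_comm]⟩, hm]
    exact Nat.mul_div_cancel _ (Nat.pos_of_ne_zero hm0)
  have hle : Subgroup.zpowers (g ^ m) ≤ Subgroup.zpowers g :=
    Subgroup.zpowers_le.mpr (Subgroup.npow_mem_zpowers g m)
  refine ⟨Subgroup.zpowers (g ^ m), normal_of_le_zpowers g hgn _ hle, hle.trans hgN, ?_⟩
  rw [Nat.card_zpowers, hord]; exact hpp

/-- Gluing criterion: `G = P T` with `P` a normal `p`-subgroup, `T` supersolvable, `P₂ ⊴ G`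
contained in `P ⊓ T` and `G ⧸ P₂` supersolvable. Then `G` is supersolvable. -/
theorem isSupersolvable_of_sup_aux (n : ℕ) : ∀ (G : Type u) [Group G] [Finite G],
    Nat.card G = n → ∀ (p : ℕ) [Fact p.Prime] (P P₂ T : Subgroup G) [P.Normal] [P₂.Normal],
    IsPGroup p P → P₂ ≤ P → P₂ ≤ T → Cfsg.IsSupersolvable T → P ⊔ T = ⊤ →
    Cfsg.IsSupersolvable (G ⧸ P₂) → Cfsg.IsSupersolvable G := by
  induction n using Nat.strong_induction_on with
  | _ n ih =>
  intro G _ _ hcard p hpf P P₂ T hPn hP₂n hPp hP₂P hP₂T hT hsup hq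
  classical
  by_cases hbot : P₂ = ⊥
  · subst hbot
    exact isSupersolvable_of_mulEquiv hq QuotientGroup.quotientBot
  · obtain ⟨N, -, hNmin⟩ := Finite.exists_le_minimal
      (p := fun K : Subgroup G => K.Normal ∧ K ≠ ⊥ ∧ K ≤ P₂) ⟨hP₂n, hbot, le_rfl⟩
    obtain ⟨hNn, hNbot, hNP₂⟩ := hNmin.prop
    have hmin : ∀ K : Subgroup G, K.Normal → K ≠ ⊥ → K ≤ N → K = N := by
      intro K hKn hKbot hKN
      exact le_antisymm hKN (hNmin.le_of_le ⟨hKn, hKbot, hKN.trans hNP₂⟩ hKN)
    have hNP : N ≤ P := hNP₂.trans hP₂P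
    have hNT : N ≤ T := hNP₂.trans hP₂T
    -- `N` is central in `P`
    have hNcen : ∀ x ∈ N, ∀ y ∈ P, x * y = y * x := by
      set Zp : Subgroup G := (Subgroup.center ↥P).map P.subtype with hZp
      have hZpn : Zp.Normal := ConjAct.normal_of_characteristic_of_normal
      have hNPbot : N.subgroupOf P ≠ ⊥ := by
        intro h
        rw [Subgroup.subgroupOf_eq_bot, disjoint_iff, inf_of_le_left hNP] at h
        exact hNbot h
      have hNPn : (N.subgroupOf P).Normal := hNn.subgroupOf P
      obtain ⟨z, hzN, hzc, hz1⟩ := Cfsg.Agent.Helper8.exists_mem_center_of_normal_ne_bot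
        (G := ↥P) (p := p) hPp (N.subgroupOf P) hNPbot
      have hinf : N ⊓ Zp = N := by
        apply hmin _ inferInstance _ inf_le_left
        intro h
        have hz : (z : G) ∈ N ⊓ Zp :=
          Subgroup.mem_inf.mpr ⟨Subgroup.mem_subgroupOf.mp hzN, ⟨z, hzc, rfl⟩⟩
        rw [h, Subgroup.mem_bot] at hz
        exact hz1 (Subtype.ext hz)
      intro x hx y hy
      have hxZ : x ∈ Zp := by
        have hle : N ≤ Zp := by
          calc N = N ⊓ Zp := hinf.symm
            _ ≤ Zp := inf_le_right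
        exact hle hx
      obtain ⟨x', hx'c, rfl⟩ := hxZ
      have := (Subgroup.mem_center_iff.mp hx'c) ⟨y, hy⟩
      exact (congrArg Subtype.val this).symm
    -- a normal subgroup of `T` of prime order inside `N`
    have hNTbot : N.subgroupOf T ≠ ⊥ := by
      intro h
      rw [Subgroup.subgroupOf_eq_bot, disjoint_iff, inf_of_le_left hNT] at h
      exact hNbot h
    have hNTn : (N.subgroupOf T).Normal := hNn.subgroupOf T
    obtain ⟨N₀', hN₀'n, hN₀'N, hN₀'card⟩ := exists_normal_prime_card_le hT (N.subgroupOf T) hNTbot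
    set N₀ := N₀'.map T.subtype with hN₀
    have hN₀N : N₀ ≤ N := by
      rintro _ ⟨y, hy, rfl⟩
      exact Subgroup.mem_subgroupOf.mp (hN₀'N hy)
    have hN₀card : Nat.card N₀ = Nat.card N₀' :=
      Subgroup.card_map_of_injective T.subtype_injective
    have hN₀bot : N₀ ≠ ⊥ := by
      intro h
      rw [h, Subgroup.card_bot] at hN₀card
      rw [← hN₀card] at hN₀'card
      exact Nat.not_prime_one hN₀'card
    have hN₀n : N₀.Normal := by
      rw [← Subgroup.normalizer_eq_top_iff, eq_top_iff, ← hsup]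
      apply sup_le
      · refine le_trans ?_ (Subgroup.centralizer_le_normalizer _)
        intro y hy
        rw [Subgroup.mem_centralizer_iff]
        intro x hx
        exact hNcen x (hN₀N hx) y hy
      · have h1 := Subgroup.le_normalizer_map (H := N₀') T.subtype
        rw [Subgroup.normalizer_eq_top_iff.mpr hN₀'n, ← MonoidHom.range_eq_map,
          Subgroup.range_subtype] at h1
        exact h1
    have hNN₀ : N₀ = N := hmin N₀ hN₀n hN₀bot hN₀N
    have hNcard : (Nat.card N).Prime := by rw [← hNN₀, hN₀card]; exact hN₀'card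
    have hNcyc : IsCyclic N := by
      have : Fact (Nat.card N).Prime := ⟨hNcard⟩
      exact isCyclic_of_prime_card rfl
    -- the quotient
    have hsurj : Function.Surjective (QuotientGroup.mk' N) := QuotientGroup.mk'_surjective N
    have hlt : Nat.card (G ⧸ N) < n := by
      rw [← hcard]
      exact card_quotient_lt N hNcard.one_lt
    have hP'n : (P.map (QuotientGroup.mk' N)).Normal := Subgroup.Normal.map hPn _ hsurj
    have hP₂'n : (P₂.map (QuotientGroup.mk' N)).Normal := Subgroup.Normal.map hP₂n _ hsurj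
    have hT' : Cfsg.IsSupersolvable (T.map (QuotientGroup.mk' N)) :=
      isSupersolvable_of_surjective hT ((QuotientGroup.mk' N).subgroupMap T)
        ((QuotientGroup.mk' N).subgroupMap_surjective T)
    have hsup' : P.map (QuotientGroup.mk' N) ⊔ T.map (QuotientGroup.mk' N) = ⊤ := by
      rw [← Subgroup.map_sup, hsup, ← MonoidHom.range_eq_map,
        MonoidHom.range_eq_top.mpr hsurj]
    have hq' : Cfsg.IsSupersolvable ((G ⧸ N) ⧸ P₂.map (QuotientGroup.mk' N)) :=
      isSupersolvable_of_mulEquiv hq (QuotientGroup.quotientQuotientEquivQuotient N P₂ hNP₂).symm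
    have hGN := ih _ hlt (G ⧸ N) rfl p (P.map (QuotientGroup.mk' N))
      (P₂.map (QuotientGroup.mk' N)) (T.map (QuotientGroup.mk' N)) (hPp.map _)
      (Subgroup.map_mono hP₂P) (Subgroup.map_mono hP₂T) hT' hsup' hq'
    exact isSupersolvable_of_cyclic_normal_of_quotient N hGN

theorem isSupersolvable_of_sup [Finite G] (p : ℕ) [Fact p.Prime] (P P₂ T : Subgroup G)
    [P.Normal] [P₂.Normal] (hP : IsPGroup p P) (h1 : P₂ ≤ P) (h2 : P₂ ≤ T)
    (hT : Cfsg.IsSupersolvable T) (hsup : P ⊔ T = ⊤) (hq : Cfsg.IsSupersolvable (G ⧸ P₂)) :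
    Cfsg.IsSupersolvable G :=
  isSupersolvable_of_sup_aux _ G rfl p P P₂ T hP h1 h2 hT hsup hq

end Cfsg.Agent.Helper3
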