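import Mathlib
import Cfsg.Agent.Lib.Helper3.Supersolvable5
import Cfsg.Agent.Lib.Helper10.StabChain

/-! Tools for Huppert's supersolvability criterion: an eigenvector lemma for endomorphisms of
elementary abelian groups, and the action of `g ^ (p - 1)` on normal `p`-subgroups of supersolvable
groups. -/

set_option autoImplicit false

namespace Cfsg.Agent.Helper3

universe u

open Polynomial in
/-- A linear endomorphism `f` of a nonzero finite vector space over `ZMod p` with `f ^ p = f` has an
eigenvector. -/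
theorem exists_eigenvector_of_pow_eq {p : ℕ} [Fact p.Prime] {M : Type*} [AddCommGroup M]
    [Module (ZMod p) M] [Finite M] [Nontrivial M] (f : Module.End (ZMod p) M) (hf : f ^ p = f) :
    ∃ (μ : ZMod p) (v : M), v ≠ 0 ∧ f v = μ • v := by
  have hfin : Module.Finite (ZMod p) M := Module.Finite.of_finite
  have h1 : aeval f (X ^ p - X : (ZMod p)[X]) = 0 := by
    simp [hf]
  have hdvd : minpoly (ZMod p) f ∣ (X ^ p - X : (ZMod p)[X]) := minpoly.dvd _ _ h1
  have hsplit : Splits (X ^ p - X : (ZMod p)[X]) := by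
    have := Polynomial.splits_X_pow_nat_card_sub_X (K := ZMod p)
    rwa [Nat.card_zmod] at this
  have hne : (X ^ p - X : (ZMod p)[X]) ≠ 0 :=
    FiniteField.X_pow_card_sub_X_ne_zero (ZMod p) (Fact.out : p.Prime).one_lt
  have hs : Splits (minpoly (ZMod p) f) := hsplit.of_dvd hne hdvd
  have hint : IsIntegral (ZMod p) f := Algebra.IsIntegral.isIntegral f
  have hdeg : (minpoly (ZMod p) f).degree ≠ 0 := (minpoly.degree_pos hint).ne'
  obtain ⟨μ, hμ⟩ := hs.exists_eval_eq_zero hdeg
  have hev : f.HasEigenvalue μ := Module.End.hasEigenvalue_of_isRoot hμ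
  obtain ⟨v, hv⟩ := hev.exists_hasEigenvector
  exact ⟨μ, v, hv.2, hv.apply_eq_smul⟩

theorem exists_pow_eigen_aux {p : ℕ} [Fact p.Prime] {V : Type*} [CommGroup V] [Finite V]
    [Nontrivial V] [Module (ZMod p) (Additive V)] (T : V →* V) (hT : ∀ v, T^[p] v = T v) :
    ∃ (a : ℕ) (v : V), v ≠ 1 ∧ T v = v ^ a := by
  let f : Module.End (ZMod p) (Additive V) := (MonoidHom.toAdditive T).toZModLinearMap p
  have hfx : ∀ x : Additive V, f x = Additive.ofMul (T x.toMul) := fun x => rfl
  have hiter : ∀ (n : ℕ) (x : Additive V), f^[n] x = Additive.ofMul (T^[n] x.toMul) := by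
    intro n
    induction n with
    | zero => intro x; rfl
    | succ n ih =>
      intro x
      rw [Function.iterate_succ_apply', Function.iterate_succ_apply', ih, hfx]
      rfl
  have hf : f ^ p = f := by
    ext x
    rw [Module.End.pow_apply, hiter, hT]
    rfl
  obtain ⟨μ, v, hv0, hv⟩ := exists_eigenvector_of_pow_eq f hf
  refine ⟨μ.val, v.toMul, ?_, ?_⟩
  · intro h
    apply hv0
    change Additive.ofMul v.toMul = Additive.ofMul 1
    rw [h]
  · have h1 : μ • v = (μ.val : ℕ) • v := by
      conv_lhs => rw [← ZMod.natCast_zmod_val μ]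
      rw [Nat.cast_smul_eq_nsmul]
    rw [h1] at hv
    have h2 : Additive.ofMul (T v.toMul) = Additive.ofMul (v.toMul ^ μ.val) := by
      rw [← hfx, hv]; rfl
    exact Additive.ofMul.injective h2

/-- Group version: an endomorphism `T` of a nontrivial finite elementary abelian `p`-group with
`T^p = T` maps some nontrivial element to a power of itself. -/
theorem exists_pow_eigen {p : ℕ} [Fact p.Prime] {V : Type*} [CommGroup V] [Finite V] [Nontrivial V]
    (hV : ∀ v : V, v ^ p = 1) (T : V →* V) (hT : ∀ v, T^[p] v = T v) :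
    ∃ (a : ℕ) (v : V), v ≠ 1 ∧ T v = v ^ a :=
  @exists_pow_eigen_aux p _ V _ _ _
    (AddCommGroup.zmodModule (n := p) (fun x => by
      change Additive.ofMul (x.toMul ^ p) = 0
      rw [hV]; rfl)) T hT

/-- In a finite supersolvable group, for an element `g` of order prime to `p`, `g ^ (p - 1)`
centralizes every normal `p`-subgroup. -/
theorem pow_pred_centralizes_aux (n : ℕ) : ∀ (G : Type u) [Group G] [Finite G], Nat.card G = n →
    Cfsg.IsSupersolvable G → ∀ (p : ℕ) [Fact p.Prime] (Q : Subgroup G) [Q.Normal], IsPGroup p Q →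
    ∀ g : G, (orderOf g).Coprime p → ∀ u ∈ Q, g ^ (p - 1) * u * (g ^ (p - 1))⁻¹ = u := by
  induction n using Nat.strong_induction_on with
  | _ n ih =>
  intro G _ _ hcard hG p _ Q hQn hQ g hg u hu
  by_cases hQbot : Q = ⊥
  · rw [hQbot, Subgroup.mem_bot] at hu
    rw [hu]; group
  obtain ⟨Z, hZn, hZQ, hZp⟩ := exists_normal_prime_card_le hG Q hQbot
  have hp : p.Prime := Fact.out
  have hZcard : Nat.card Z = p := by
    obtain ⟨k, hk⟩ := (hQ.to_le hZQ).exists_card_eq
    have hk0 : k ≠ 0 := by
      rintro rfl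
      rw [pow_zero] at hk
      rw [hk] at hZp
      exact Nat.not_prime_one hZp
    have : p ∣ Nat.card Z := hk ▸ dvd_pow_self p hk0
    exact ((Nat.prime_dvd_prime_iff_eq hp hZp).mp this).symm
  set j := g ^ (p - 1) with hj
  -- Step 1: `j` centralizes `Z`
  have hZcyc : IsCyclic Z := isCyclic_of_prime_card (hp := ⟨hp⟩) hZcard
  have hAut : Nat.card (MulAut Z) = p - 1 := by
    rw [IsCyclic.card_mulAut, hZcard, Nat.totient_prime hp]
  have h1 : (MulAut.conjNormal g : MulAut Z) ^ (p - 1) = 1 := by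
    rw [← hAut]; exact pow_card_eq_one'
  have hjZ : ∀ z ∈ Z, j * z * j⁻¹ = z := by
    intro z hz
    have h2 : (MulAut.conjNormal (g ^ (p - 1)) : MulAut Z) = 1 := by
      rw [map_pow]; exact h1
    have h3 : (((MulAut.conjNormal (g ^ (p - 1)) : MulAut Z) ⟨z, hz⟩ : Z) : G) = z := by
      rw [h2]; rfl
    rw [MulAut.conjNormal_apply] at h3
    exact h3
  -- Step 2: `j` centralizes `Q / Z`
  have hZ1 : 1 < Nat.card Z := hZcard ▸ hp.one_lt
  have hlt : Nat.card (G ⧸ Z) < n := hcard ▸ card_quotient_lt Z hZ1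
  have hQ' : IsPGroup p (Q.map (QuotientGroup.mk' Z)) := hQ.map _
  have hQn' : (Q.map (QuotientGroup.mk' Z)).Normal :=
    Subgroup.Normal.map hQn _ (QuotientGroup.mk'_surjective Z)
  have hg' : (orderOf (QuotientGroup.mk' Z g)).Coprime p :=
    Nat.Coprime.coprime_dvd_left (orderOf_map_dvd _ g) hg
  have hjQ : ∀ r ∈ Q, j * r * j⁻¹ * r⁻¹ ∈ Z := by
    intro r hr
    have := ih _ hlt (G ⧸ Z) rfl (isSupersolvable_quotient hG Z) p (Q.map (QuotientGroup.mk' Z)) hQ'
      (QuotientGroup.mk' Z g) hg' (QuotientGroup.mk' Z r) (Subgroup.mem_map_of_mem _ hr)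
    rw [← QuotientGroup.eq_one_iff]
    have h4 : ((j * r * j⁻¹ * r⁻¹ : G) : G ⧸ Z) =
        (QuotientGroup.mk' Z g) ^ (p - 1) * (QuotientGroup.mk' Z r) *
          ((QuotientGroup.mk' Z g) ^ (p - 1))⁻¹ * (QuotientGroup.mk' Z r)⁻¹ := by
      simp [hj]
    rw [h4, this, mul_inv_cancel]
  -- Step 3: stability
  have hjord : (orderOf j).Coprime p :=
    Nat.Coprime.coprime_dvd_left (orderOf_pow_dvd (p - 1)) hg
  let D : ℕ → Subgroup G := fun i => if i = 0 then ⊥ else if i = 1 then Z else Q
  have hD := Cfsg.Agent.Helper10.centralizes_of_stabilizes_chain (p := p) D (by simp [D])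
    (by
      intro i
      rcases i with _ | _ | i
      · simp only [D]
        exact IsPGroup.of_bot
      · simp only [D]
        exact hQ.to_le hZQ
      · have : D (i + 1 + 1) = Q := by simp [D]
        rw [this]
        exact hQ)
    hjord
    (by
      intro i r hr
      simp only [D] at hr ⊢
      rcases i with _ | _ | i
      · simp only [zero_add, one_ne_zero, if_false, if_true] at hr
        simp only [if_true]
        rw [Subgroup.mem_bot, hjZ r hr, mul_inv_cancel]
      · simp at hr
        simp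
        exact hjQ r hr
      · simp at hr
        simp
        have := hQn.conj_mem r hr j
        exact Q.mul_mem this (Q.inv_mem hr))
  have := hD 2 u (by simp [D]; exact hu)
  exact this

theorem pow_pred_centralizes {G : Type u} [Group G] [Finite G] (hG : Cfsg.IsSupersolvable G)
    (p : ℕ) [Fact p.Prime] (Q : Subgroup G) [Q.Normal] (hQ : IsPGroup p Q) (g : G)
    (hg : (orderOf g).Coprime p) (u : G) (hu : u ∈ Q) :
    g ^ (p - 1) * u * (g ^ (p - 1))⁻¹ = u :=
  pow_pred_centralizes_aux _ G rfl hG p Q hQ g hg u hu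

end Cfsg.Agent.Helper3
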