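import Mathlib
import Cfsg.Agent.Lib.Helper3.Supersolvable2

set_option autoImplicit false

/-! Supersolvable groups, part 4: `p`-groups and groups of order `2 * p ^ n`. -/

namespace Cfsg.Agent.Helper3

universe u

variable {G : Type u} [Group G]

theorem zpowers_normal_of_conj_mem (u : G) (h : ∀ g : G, g * u * g⁻¹ ∈ Subgroup.zpowers u) :
    (Subgroup.zpowers u).Normal := by
  constructor
  intro n hn g
  obtain ⟨k, rfl⟩ := Subgroup.mem_zpowers_iff.mp hn
  rw [← conj_zpow]
  exact Subgroup.zpow_mem _ (h g) k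

/-- Finite `p`-groups are supersolvable. -/
theorem isSupersolvable_of_isPGroup_aux (n : ℕ) : ∀ (G : Type u) [Group G] [Finite G] (p : ℕ)
    [Fact p.Prime], Nat.card G = n → IsPGroup p G → Cfsg.IsSupersolvable G := by
  induction n using Nat.strong_induction_on with
  | _ n ih =>
  intro G _ _ p _ hcard hG
  by_cases hnt : Nontrivial G
  · have hc := hG.center_nontrivial
    obtain ⟨⟨z, hz⟩, hz1⟩ := exists_ne (1 : Subgroup.center G)
    have hz1' : z ≠ 1 := fun h => hz1 (Subtype.ext h)
    have hzn : (Subgroup.zpowers z).Normal := by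
      apply zpowers_normal_of_conj_mem
      intro g
      have : g * z * g⁻¹ = z := by
        rw [Subgroup.mem_center_iff.mp hz g]; group
      rw [this]; exact Subgroup.mem_zpowers z
    have hlt : Nat.card (G ⧸ Subgroup.zpowers z) < n := by
      rw [← hcard]
      apply card_quotient_lt
      rw [Nat.card_zpowers]
      have := orderOf_pos z
      have : orderOf z ≠ 1 := fun h => hz1' (orderOf_eq_one_iff.mp h)
      omega
    have := ih _ hlt (G ⧸ Subgroup.zpowers z) p rfl (hG.to_quotient _)
    exact isSupersolvable_of_cyclic_normal_of_quotient (Subgroup.zpowers z) this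
  · rw [not_nontrivial_iff_subsingleton] at hnt
    exact isSupersolvable_of_subsingleton

theorem isSupersolvable_of_isPGroup [Finite G] (p : ℕ) [Fact p.Prime] (hG : IsPGroup p G) :
    Cfsg.IsSupersolvable G :=
  isSupersolvable_of_isPGroup_aux _ G p rfl hG

/-- A nontrivial normal `p`-subgroup of index 2 contains a nontrivial cyclic normal subgroup of the
whole group. -/
theorem exists_zpowers_normal_of_index_two [Finite G] (p : ℕ) [Fact p.Prime] (P : Subgroup G)
    (hP : IsPGroup p P) (hidx : P.index = 2) (hPnt : P ≠ ⊥) :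
    ∃ u ∈ P, u ≠ 1 ∧ (Subgroup.zpowers u).Normal := by
  have hPn : P.Normal := Subgroup.normal_of_index_eq_two hidx
  have : Nontrivial P := (Subgroup.nontrivial_iff_ne_bot P).mpr hPnt
  have hc := hP.center_nontrivial
  obtain ⟨⟨⟨z, hzP⟩, hz⟩, hz1⟩ := exists_ne (1 : Subgroup.center P)
  have hz1' : z ≠ 1 := fun h => hz1 (Subtype.ext (Subtype.ext h))
  have hzc : ∀ x ∈ P, x * z = z * x := by
    intro x hx
    have := Subgroup.mem_center_iff.mp hz ⟨x, hx⟩
    exact congrArg Subtype.val this
  -- an element outside P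
  have hne : P ≠ ⊤ := by
    intro h; rw [h, Subgroup.index_top] at hidx; omega
  obtain ⟨t, -, ht⟩ := SetLike.exists_of_lt (lt_top_iff_ne_top.mpr hne)
  have htt : t * t ∈ P := (Subgroup.mul_mem_iff_of_index_two hidx).mpr Iff.rfl
  have hcases : ∀ g : G, g ∈ P ∨ ∃ x ∈ P, g = t * x := by
    intro g
    by_cases hg : g ∈ P
    · exact Or.inl hg
    · right
      refine ⟨t⁻¹ * g, ?_, by group⟩
      rw [Subgroup.mul_mem_iff_of_index_two hidx, Subgroup.inv_mem_iff]
      exact ⟨fun h => absurd h ht, fun h => absurd h hg⟩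
  set z' := t * z * t⁻¹ with hz'
  have hz'P : z' ∈ P := hPn.conj_mem z hzP t
  have hz'c : ∀ x ∈ P, x * z' = z' * x := by
    intro x hx
    have h1 : t⁻¹ * x * t ∈ P := by
      have := hPn.conj_mem x hx t⁻¹
      rwa [inv_inv] at this
    have h2 := hzc _ h1
    have e1 : x * z' = t * ((t⁻¹ * x * t) * z) * t⁻¹ := by rw [hz']; group
    have e2 : z' * x = t * (z * (t⁻¹ * x * t)) * t⁻¹ := by rw [hz']; group
    rw [e1, e2, h2]
  have htz' : t * z' * t⁻¹ = z := by
    have h2 := hzc _ htt
    have e1 : t * z' * t⁻¹ = (t * t) * z * (t * t)⁻¹ := by rw [hz']; group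
    rw [e1, h2]; group
  by_cases hw : z * z' = 1
  · -- t inverts z
    have hinv : z' = z⁻¹ := (eq_inv_of_mul_eq_one_right hw)
    refine ⟨z, hzP, hz1', ?_⟩
    apply zpowers_normal_of_conj_mem
    intro g
    rcases hcases g with hg | ⟨x, hx, rfl⟩
    · have : g * z * g⁻¹ = z := by rw [hzc g hg]; group
      rw [this]; exact Subgroup.mem_zpowers z
    · have : t * x * z * (t * x)⁻¹ = z⁻¹ := by
        have e : t * x * z * (t * x)⁻¹ = t * (x * z) * x⁻¹ * t⁻¹ := by group
        rw [e, hzc x hx, ← hinv, hz']; group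
      rw [this]; exact Subgroup.inv_mem _ (Subgroup.mem_zpowers z)
  · refine ⟨z * z', P.mul_mem hzP hz'P, hw, ?_⟩
    apply zpowers_normal_of_conj_mem
    intro g
    have hPc : ∀ x ∈ P, x * (z * z') * x⁻¹ = z * z' := by
      intro x hx
      have e : x * (z * z') * x⁻¹ = (x * z) * z' * x⁻¹ := by group
      rw [e, hzc x hx, mul_assoc z x z', hz'c x hx]; group
    have htc : t * (z * z') * t⁻¹ = z * z' := by
      have e : t * (z * z') * t⁻¹ = (t * z * t⁻¹) * (t * z' * t⁻¹) := by group
      rw [e, htz', ← hz']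
      exact (hzc z' hz'P)
    have : g * (z * z') * g⁻¹ = z * z' := by
      rcases hcases g with hg | ⟨x, hx, rfl⟩
      · exact hPc g hg
      · have e : t * x * (z * z') * (t * x)⁻¹ = t * (x * (z * z') * x⁻¹) * t⁻¹ := by group
        rw [e, hPc x hx, htc]
    rw [this]; exact Subgroup.mem_zpowers _


/-- A finite group of order `2 * p ^ n` is supersolvable. -/
theorem isSupersolvable_of_card_two_mul_prime_pow_aux (n : ℕ) : ∀ (G : Type u) [Group G]
    [Finite G] (p : ℕ), p.Prime → Nat.card G = 2 * p ^ n → Cfsg.IsSupersolvable G := by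
  induction n using Nat.strong_induction_on with
  | _ n ih =>
  intro G _ _ p hp hcard
  have : Fact p.Prime := ⟨hp⟩
  by_cases hp2 : p = 2
  · subst hp2
    have hc : Nat.card G = 2 ^ (n + 1) := by rw [hcard, pow_succ]; ring
    exact isSupersolvable_of_isPGroup 2 (IsPGroup.of_card hc)
  rcases Nat.eq_zero_or_pos n with hn0 | hnpos
  · subst hn0
    rw [pow_zero, mul_one] at hcard
    have : Fact (Nat.Prime 2) := ⟨Nat.prime_two⟩
    have := isCyclic_of_prime_card (α := G) hcard
    exact isSupersolvable_of_isCyclic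
  obtain ⟨P⟩ : Nonempty (Sylow p G) := inferInstance
  have hPcard : Nat.card (P : Subgroup G) = p ^ n := by
    rw [P.card_eq_multiplicity, hcard,
      Nat.factorization_mul (by norm_num) (pow_ne_zero _ hp.ne_zero)]
    have h2 : (2 : ℕ).factorization p = 0 := by
      apply Nat.factorization_eq_zero_of_not_dvd
      intro h
      exact hp2 ((Nat.prime_dvd_prime_iff_eq hp Nat.prime_two).mp h)
    simp [h2, hp.factorization_pow]
  have hidx : (P : Subgroup G).index = 2 := by
    have := Subgroup.card_mul_index (P : Subgroup G)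
    rw [hPcard, hcard, mul_comm 2 (p ^ n)] at this
    exact Nat.eq_of_mul_eq_mul_left (pow_pos hp.pos n) this
  have hPnt : (P : Subgroup G) ≠ ⊥ := by
    intro h
    rw [h, Subgroup.card_bot] at hPcard
    have := Nat.one_lt_pow hnpos.ne' hp.one_lt
    omega
  obtain ⟨u, huP, hu1, hun⟩ := exists_zpowers_normal_of_index_two p (P : Subgroup G) P.isPGroup'
    hidx hPnt
  have hle : Subgroup.zpowers u ≤ (P : Subgroup G) := Subgroup.zpowers_le.mpr huP
  have hdvd : Nat.card (Subgroup.zpowers u) ∣ p ^ n := hPcard ▸ Subgroup.card_dvd_of_le hle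
  obtain ⟨k, hkn, hk⟩ := (Nat.dvd_prime_pow hp).mp hdvd
  have hk0 : k ≠ 0 := by
    rintro rfl
    rw [pow_zero, Nat.card_zpowers] at hk
    exact hu1 (orderOf_eq_one_iff.mp hk)
  have hQcard : Nat.card (G ⧸ Subgroup.zpowers u) = 2 * p ^ (n - k) := by
    have h1 := Subgroup.card_eq_card_quotient_mul_card_subgroup (Subgroup.zpowers u)
    rw [hk, hcard] at h1
    have h2 : 2 * p ^ n = (2 * p ^ (n - k)) * p ^ k := by
      rw [mul_assoc, ← pow_add, Nat.sub_add_cancel hkn]
    rw [h2] at h1
    exact (Nat.eq_of_mul_eq_mul_right (pow_pos hp.pos k) h1).symm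
  have hlt : n - k < n := by omega
  have := ih _ hlt (G ⧸ Subgroup.zpowers u) p hp hQcard
  exact isSupersolvable_of_cyclic_normal_of_quotient (Subgroup.zpowers u) this

end Cfsg.Agent.Helper3
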