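import Mathlib
import Cfsg.Agent.Lib.Helper3.Supersolvable3
import Cfsg.Agent.Lib.Helper3.CoverAvoid

set_option autoImplicit false

/-! In a finite supersolvable group the Sylow subgroup for the largest prime is normal;
supersolvable Hall subgroups of the same order are conjugate. -/

namespace Cfsg.Agent.Helper3

open scoped Pointwise

universe u

theorem sylow_normal_of_max_prime_aux6 (n : ℕ) : ∀ (G : Type u) [Group G] [Finite G],
    Nat.card G = n → Cfsg.IsSupersolvable G → ∀ (p : ℕ) [Fact p.Prime],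
    (∀ q : ℕ, q.Prime → q ∣ n → q ≤ p) → ∀ P : Sylow p G, (P : Subgroup G).Normal := by
  induction n using Nat.strong_induction_on with
  | _ n ih =>
  intro G _ _ hcard hG p hp hmax P
  by_cases hpn : p ∣ n
  · obtain ⟨N, hNn, hNcard⟩ :=
      exists_normal_card_eq_max_prime_aux n G hcard hG p hp.out hpn hmax
    have hlt : Nat.card (G ⧸ N) < n :=
      hcard ▸ card_quotient_lt N (by rw [hNcard]; exact hp.out.one_lt)
    have hmul : n = Nat.card (G ⧸ N) * p := by
      rw [← hcard, ← hNcard]; exact Subgroup.card_eq_card_quotient_mul_card_subgroup N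
    have hmaxQ : ∀ q : ℕ, q.Prime → q ∣ Nat.card (G ⧸ N) → q ≤ p := by
      intro q hq hqd
      exact hmax q hq (hmul ▸ Dvd.dvd.mul_right hqd p)
    let Pbar : Sylow p (G ⧸ N) := default
    have hPbar : (Pbar : Subgroup (G ⧸ N)).Normal :=
      ih _ hlt (G ⧸ N) rfl (isSupersolvable_quotient hG N) p hmaxQ Pbar
    set R := (Pbar : Subgroup (G ⧸ N)).comap (QuotientGroup.mk' N) with hR
    have hRn : R.Normal := hPbar.comap _
    have hRcard : Nat.card R = p ^ (Nat.card G).factorization p := by
      rw [hR, card_comap_mk', hNcard, Sylow.card_eq_multiplicity, hcard, hmul,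
        Nat.factorization_mul (Nat.card_pos (α := G ⧸ N)).ne' hp.out.ne_zero, Finsupp.add_apply,
        hp.out.factorization_self, pow_succ]
    have hRp : IsPGroup p R := IsPGroup.of_card hRcard
    have hle : R ≤ P := le_sylow_of_normal_isPGroup R hRp P
    have heq : R = P := Subgroup.eq_of_le_of_card_ge hle (by
      rw [hRcard, Sylow.card_eq_multiplicity])
    rw [← heq]; exact hRn
  · have hcard1 : Nat.card (P : Subgroup G) = 1 := by
      rw [Sylow.card_eq_multiplicity, hcard, Nat.factorization_eq_zero_of_not_dvd hpn, pow_zero]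
    have : (P : Subgroup G) = ⊥ := Subgroup.eq_bot_of_card_eq _ hcard1
    rw [this]; infer_instance

theorem sylow_normal_of_max_prime {G : Type u} [Group G] [Finite G] (hG : Cfsg.IsSupersolvable G)
    (p : ℕ) [Fact p.Prime] (hmax : ∀ q : ℕ, q.Prime → q ∣ Nat.card G → q ≤ p) (P : Sylow p G) :
    (P : Subgroup G).Normal :=
  sylow_normal_of_max_prime_aux6 _ G rfl hG p hmax P

/-- Conjugacy can be checked modulo a normal subgroup contained in both subgroups. -/
theorem exists_conj_of_map_mk' {G : Type u} [Group G] (N : Subgroup G) [hN : N.Normal]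
    (H K : Subgroup G) (hNH : N ≤ H) (hNK : N ≤ K)
    (h : ∃ y : G ⧸ N, MulAut.conj y • H.map (QuotientGroup.mk' N) = K.map (QuotientGroup.mk' N)) :
    ∃ x : G, MulAut.conj x • H = K := by
  obtain ⟨y, hy⟩ := h
  obtain ⟨x, rfl⟩ := QuotientGroup.mk'_surjective N y
  refine ⟨x, ?_⟩
  have h1 : (MulAut.conj x • H).map (QuotientGroup.mk' N) = K.map (QuotientGroup.mk' N) := by
    rw [← hy]
    ext z
    constructor
    · rintro ⟨_, ⟨h, hh, rfl⟩, rfl⟩
      exact ⟨QuotientGroup.mk' N h, ⟨h, hh, rfl⟩, by simp [MulAut.smul_def]⟩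
    · rintro ⟨_, ⟨h, hh, rfl⟩, rfl⟩
      exact ⟨x * h * x⁻¹, ⟨h, hh, by simp [MulAut.smul_def]⟩, by simp [MulAut.smul_def]⟩
  have h2 := congrArg (Subgroup.comap (QuotientGroup.mk' N)) h1
  rw [Subgroup.comap_map_eq, Subgroup.comap_map_eq, QuotientGroup.ker_mk'] at h2
  have hN' : N ≤ MulAut.conj x • H := by
    intro n hn
    rw [Subgroup.mem_pointwise_smul_iff_inv_smul_mem, ← map_inv, MulAut.smul_def,
      MulAut.conj_apply, inv_inv]
    exact hNH (by have := hN.conj_mem n hn x⁻¹; simpa using this)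
  rwa [sup_of_le_left hN', sup_of_le_left hNK] at h2

theorem conj_smul_map_subtype {G : Type u} [Group G] (N : Subgroup G) (A : Subgroup N) (x : N) :
    MulAut.conj (x : G) • A.map N.subtype = (MulAut.conj x • A).map N.subtype := by
  ext z
  constructor
  · rintro ⟨_, ⟨a, ha, rfl⟩, rfl⟩
    exact ⟨x * a * x⁻¹, ⟨a, ha, by simp [MulAut.smul_def]⟩, by simp [MulAut.smul_def]⟩
  · rintro ⟨_, ⟨a, ha, rfl⟩, rfl⟩
    exact ⟨a, ⟨a, ha, rfl⟩, by simp [MulAut.smul_def]⟩

/-- Inductive step: two supersolvable Hall subgroups sharing a normal Sylow subgroup `S` (Sylow in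
the whole group). -/
theorem hall_conj_step {G : Type u} [Group G] [Finite G] (n : ℕ)
    (ih : ∀ m < n, ∀ (G : Type u) [Group G] [Finite G] (H K : Subgroup G),
      Nat.card H = m → Nat.card K = m → Cfsg.IsSupersolvable H → Cfsg.IsSupersolvable K →
      (Nat.card H).Coprime H.index → ∃ x : G, MulAut.conj x • H = K)
    {p : ℕ} [hp : Fact p.Prime] (S : Sylow p G) (hS1 : 1 < Nat.card (S : Subgroup G))
    (H K : Subgroup G) (hHn : Nat.card H = n) (hKn : Nat.card K = n)
    (hH : Cfsg.IsSupersolvable H) (hK : Cfsg.IsSupersolvable K)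
    (hHall : (Nat.card H).Coprime H.index)
    (hSH : (S : Subgroup G) ≤ H) (hSK : (S : Subgroup G) ≤ K)
    (hHN : H ≤ Subgroup.normalizer ((S : Subgroup G) : Set G))
    (hKN : K ≤ Subgroup.normalizer ((S : Subgroup G) : Set G)) :
    ∃ x : G, MulAut.conj x • H = K := by
  set N := Subgroup.normalizer ((S : Subgroup G) : Set G) with hN
  set PN : Subgroup N := (S : Subgroup G).subgroupOf N with hPN
  have hPNn : PN.Normal := Subgroup.normal_in_normalizer
  set H' := H.subgroupOf N with hH'
  set K' := K.subgroupOf N with hK'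
  have hPH' : PN ≤ H' := Subgroup.comap_mono hSH
  have hPK' : PN ≤ K' := Subgroup.comap_mono hSK
  set mk := QuotientGroup.mk' PN with hmk
  have hker : mk.ker = PN := QuotientGroup.ker_mk' PN
  have hcardH' : Nat.card H' = n := by
    rw [← hHn]; exact Nat.card_congr (Subgroup.subgroupOfEquivOfLe hHN).toEquiv
  have hcardK' : Nat.card K' = n := by
    rw [← hKn]; exact Nat.card_congr (Subgroup.subgroupOfEquivOfLe hKN).toEquiv
  have hcardPN : Nat.card PN = Nat.card (S : Subgroup G) :=
    Nat.card_congr (Subgroup.subgroupOfEquivOfLe Subgroup.le_normalizer).toEquiv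
  have hmulH : n = Nat.card (H'.map mk) * Nat.card PN := by
    rw [← card_comap_mk', Subgroup.comap_map_eq, hker, sup_of_le_left hPH', hcardH']
  have hmulK : n = Nat.card (K'.map mk) * Nat.card PN := by
    rw [← card_comap_mk', Subgroup.comap_map_eq, hker, sup_of_le_left hPK', hcardK']
  have hPNpos : 0 < Nat.card PN := Nat.card_pos
  have hcardeq : Nat.card (K'.map mk) = Nat.card (H'.map mk) :=
    Nat.eq_of_mul_eq_mul_right hPNpos (hmulK.symm.trans hmulH)
  have hlt : Nat.card (H'.map mk) < n := by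
    have h0 : 0 < Nat.card (H'.map mk) := Nat.card_pos
    rw [hcardPN] at hmulH
    nlinarith
  have hSSH' : Cfsg.IsSupersolvable H' :=
    isSupersolvable_of_mulEquiv hH (Subgroup.subgroupOfEquivOfLe hHN).symm
  have hSSK' : Cfsg.IsSupersolvable K' :=
    isSupersolvable_of_mulEquiv hK (Subgroup.subgroupOfEquivOfLe hKN).symm
  have hSSHb : Cfsg.IsSupersolvable (H'.map mk) :=
    isSupersolvable_of_surjective hSSH' (mk.subgroupMap H') (mk.subgroupMap_surjective H')
  have hSSKb : Cfsg.IsSupersolvable (K'.map mk) :=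
    isSupersolvable_of_surjective hSSK' (mk.subgroupMap K') (mk.subgroupMap_surjective K')
  have hHallb : (Nat.card (H'.map mk)).Coprime (H'.map mk).index := by
    have h1 : (H'.map mk).index = H'.index :=
      Subgroup.index_map_eq H' (QuotientGroup.mk'_surjective PN) (hker.le.trans hPH')
    have h2 : H'.index ∣ H.index := Subgroup.relIndex_dvd_index_of_le hHN
    have h3 : Nat.card (H'.map mk) ∣ Nat.card H := by
      rw [hHn]; exact Dvd.intro _ hmulH.symm
    rw [h1]
    exact (hHall.coprime_dvd_left h3).coprime_dvd_right h2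
  obtain ⟨y, hy⟩ := ih _ hlt (N ⧸ PN) (H'.map mk) (K'.map mk) rfl hcardeq hSSHb hSSKb hHallb
  obtain ⟨x, hx⟩ := exists_conj_of_map_mk' PN H' K' hPH' hPK' ⟨y, hy⟩
  refine ⟨(x : G), ?_⟩
  rw [← Subgroup.map_subgroupOf_eq_of_le hHN, ← Subgroup.map_subgroupOf_eq_of_le hKN,
    conj_smul_map_subtype, hx]

theorem hall_conj_of_isSupersolvable_aux (n : ℕ) : ∀ (G : Type u) [Group G] [Finite G]
    (H K : Subgroup G), Nat.card H = n → Nat.card K = n → Cfsg.IsSupersolvable H →
    Cfsg.IsSupersolvable K → (Nat.card H).Coprime H.index →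
    ∃ x : G, MulAut.conj x • H = K := by
  induction n using Nat.strong_induction_on with
  | _ n ih =>
  intro G _ _ H K hHn hKn hH hK hHall
  by_cases hn1 : n = 1
  · have h1 : H = ⊥ := Subgroup.eq_bot_of_card_eq _ (hHn.trans hn1)
    have h2 : K = ⊥ := Subgroup.eq_bot_of_card_eq _ (hKn.trans hn1)
    exact ⟨1, by rw [h1, h2, Subgroup.smul_bot]⟩
  have hnpos : n ≠ 0 := by rw [← hHn]; exact (Nat.card_pos).ne'
  have hne : n.primeFactors.Nonempty := Nat.nonempty_primeFactors.mpr (by omega)
  set p := n.primeFactors.max' hne with hp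
  have hpmem : p ∈ n.primeFactors := Finset.max'_mem _ _
  have hpp : p.Prime := Nat.prime_of_mem_primeFactors hpmem
  have hpn : p ∣ n := Nat.dvd_of_mem_primeFactors hpmem
  have hmax : ∀ q : ℕ, q.Prime → q ∣ n → q ≤ p := fun q hq hqn =>
    Finset.le_max' _ _ (Nat.mem_primeFactors.mpr ⟨hq, hqn, hnpos⟩)
  have : Fact p.Prime := ⟨hpp⟩
  let PH : Sylow p H := default
  let PK : Sylow p K := default
  have hPHn : (PH : Subgroup H).Normal :=
    sylow_normal_of_max_prime hH p (by rw [hHn]; exact hmax) PH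
  have hPKn : (PK : Subgroup K).Normal :=
    sylow_normal_of_max_prime hK p (by rw [hKn]; exact hmax) PK
  have hKidx : K.index = H.index := by
    have h1 := Subgroup.card_mul_index H
    have h2 := Subgroup.card_mul_index K
    rw [hHn] at h1
    rw [hKn, ← h1] at h2
    exact Nat.eq_of_mul_eq_mul_left (Nat.pos_of_ne_zero hnpos) h2
  have hnotdvd : ¬ p ∣ H.index := fun h => by
    have := Nat.dvd_gcd (hHn ▸ hpn) h
    rw [hHall.gcd_eq_one] at this
    exact hpp.one_lt.ne' (Nat.dvd_one.mp this)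
  have hfacH : (Nat.card G).factorization p = n.factorization p := by
    rw [← Subgroup.card_mul_index H, Nat.factorization_mul (Nat.card_pos (α := H)).ne'
      Subgroup.index_ne_zero_of_finite, Finsupp.add_apply,
      Nat.factorization_eq_zero_of_not_dvd hnotdvd, add_zero, hHn]
  have hS₁card : Nat.card ((PH : Subgroup H).map H.subtype) =
      p ^ (Nat.card G).factorization p := by
    rw [Subgroup.card_map_of_injective H.subtype_injective, hfacH, Sylow.card_eq_multiplicity,
      hHn]
  have hS₂card : Nat.card ((PK : Subgroup K).map K.subtype) =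
      p ^ (Nat.card G).factorization p := by
    rw [Subgroup.card_map_of_injective K.subtype_injective, hfacH, Sylow.card_eq_multiplicity,
      hKn]
  let S₁ : Sylow p G := Sylow.ofCard _ hS₁card
  let S₂ : Sylow p G := Sylow.ofCard _ hS₂card
  have hS₁H : (S₁ : Subgroup G) ≤ H := by
    rw [Sylow.coe_ofCard]; exact Subgroup.map_subtype_le _
  have hS₂K : (S₂ : Subgroup G) ≤ K := by
    rw [Sylow.coe_ofCard]; exact Subgroup.map_subtype_le _
  have hHN : H ≤ Subgroup.normalizer ((S₁ : Subgroup G) : Set G) := by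
    have h1 := Subgroup.le_normalizer_map (H := (PH : Subgroup H)) H.subtype
    rw [Subgroup.normalizer_eq_top, ← MonoidHom.range_eq_map, Subgroup.range_subtype] at h1
    exact h1
  have hKN₂ : K ≤ Subgroup.normalizer ((S₂ : Subgroup G) : Set G) := by
    have h1 := Subgroup.le_normalizer_map (H := (PK : Subgroup K)) K.subtype
    rw [Subgroup.normalizer_eq_top, ← MonoidHom.range_eq_map, Subgroup.range_subtype] at h1
    exact h1
  obtain ⟨g, hg⟩ := MulAction.exists_smul_eq G S₂ S₁
  set K₁ := MulAut.conj g • K with hK₁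
  have hK₁card : Nat.card K₁ = n := by
    rw [← hKn]; exact (Nat.card_congr (Subgroup.equivSMul (MulAut.conj g) K).toEquiv).symm
  have hSSK₁ : Cfsg.IsSupersolvable K₁ :=
    isSupersolvable_of_mulEquiv hK (Subgroup.equivSMul (MulAut.conj g) K)
  have hS₁K₁ : (S₁ : Subgroup G) ≤ K₁ := by
    rw [← hg, Sylow.coe_subgroup_smul]
    rintro x ⟨s, hs, rfl⟩
    exact ⟨s, hS₂K hs, rfl⟩
  have hK₁N : K₁ ≤ Subgroup.normalizer ((S₁ : Subgroup G) : Set G) := by
    rintro x ⟨k, hk, rfl⟩
    apply Sylow.smul_eq_iff_mem_normalizer.mp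
    rw [← hg]
    change (g * k * g⁻¹) • g • S₂ = g • S₂
    rw [smul_smul, inv_mul_cancel_right, mul_smul,
      Sylow.smul_eq_iff_mem_normalizer.mpr (hKN₂ hk)]
  have hS1 : 1 < Nat.card (S₁ : Subgroup G) := by
    rw [Sylow.card_eq_multiplicity]
    apply Nat.one_lt_pow _ hpp.one_lt
    rw [hfacH]
    exact (Nat.Prime.factorization_pos_of_dvd hpp hnpos hpn).ne'
  obtain ⟨x, hx⟩ := hall_conj_step n ih S₁ hS1 H K₁ hHn hK₁card hH hSSK₁ hHall hS₁H hS₁K₁
    hHN hK₁N
  refine ⟨g⁻¹ * x, ?_⟩
  rw [map_mul, mul_smul, hx, hK₁, smul_smul, ← map_mul, inv_mul_cancel, map_one, one_smul]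

/-- Supersolvable Hall subgroups of the same order are conjugate. -/
theorem hall_conj_of_isSupersolvable {G : Type u} [Group G] [Finite G] (H K : Subgroup G)
    (hH : Cfsg.IsSupersolvable H) (hK : Cfsg.IsSupersolvable K)
    (hcard : Nat.card H = Nat.card K) (hHall : (Nat.card H).Coprime H.index) :
    ∃ x : G, MulAut.conj x • H = K :=
  hall_conj_of_isSupersolvable_aux _ G H K rfl hcard.symm hH hK hHall

end Cfsg.Agent.Helper3
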