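import Mathlib
import Cfsg.Agent.Lib.Helper3.Basic

set_option autoImplicit false

namespace Cfsg.Agent.Helper3

open scoped Pointwise

variable {G : Type*} [Group G]

/-- A normal subgroup of `G` contained in the Frattini subgroup of some subgroup `H` lies in the
Frattini subgroup of `G`. -/
theorem le_frattini_of_normal_of_le_frattini [Finite G] (H N : Subgroup G) [N.Normal]
    (hN : N ≤ (frattini H).map H.subtype) : N ≤ frattini G := by
  have hNH : N ≤ H := hN.trans (Subgroup.map_subtype_le _)
  unfold frattini Order.radical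
  apply le_iInf₂
  intro M hM
  by_contra hNM
  have htop : N ⊔ M = ⊤ := by
    have hlt : M < N ⊔ M := by
      apply lt_of_le_of_ne le_sup_right
      intro h
      apply hNM
      rw [h]
      exact le_sup_left
    exact hM.2 _ hlt
  have hH : M.subgroupOf H ⊔ frattini H = ⊤ := by
    rw [eq_top_iff]
    rintro ⟨h, hh⟩ -
    have hmem : h ∈ ((N ⊔ M : Subgroup G) : Set G) := by rw [htop]; trivial
    rw [Subgroup.normal_mul] at hmem
    obtain ⟨n, hn, m, hm, hnm⟩ := Set.mem_mul.mp hmem
    obtain ⟨n', hn', hn'eq⟩ := hN hn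
    have hmH : m ∈ H := by
      have : m = n⁻¹ * h := by rw [← hnm]; group
      rw [this]
      exact H.mul_mem (H.inv_mem (hNH hn)) hh
    have e : (⟨h, hh⟩ : H) = n' * ⟨m, hmH⟩ := by
      apply Subtype.ext
      show h = (n' : G) * m
      have : (n' : G) = n := hn'eq
      rw [this, hnm]
    rw [e]
    apply Subgroup.mul_mem
    · exact (le_sup_right : frattini H ≤ _) hn'
    · apply (le_sup_left : M.subgroupOf H ≤ _)
      rw [Subgroup.mem_subgroupOf]
      exact hm
  have h1 : M.subgroupOf H = ⊤ := frattini_nongenerating hH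
  have h2 : H ≤ M := Subgroup.subgroupOf_eq_top.mp h1
  exact hNM (hNH.trans h2)

end Cfsg.Agent.Helper3
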