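import Mathlib
import Cfsg.Prelude.Def_Transfer
import Cfsg.Agent.Lib.Helper3.Basic

set_option autoImplicit false

namespace Cfsg.Agent.Helper3

open scoped Pointwise
open Cfsg

variable {G : Type*} [Group G]

theorem isElementaryAbelian_bot (p : ℕ) : IsElementaryAbelian p (⊥ : Subgroup G) := by
  refine ⟨⟨⟨?_⟩⟩, ?_⟩
  · rintro ⟨a, ha⟩ ⟨b, hb⟩
    rw [Subgroup.mem_bot] at ha hb
    subst ha; subst hb; rfl
  · intro a ha
    rw [Subgroup.mem_bot] at ha
    subst ha; exact one_pow p

theorem isElementaryAbelian_map {G' : Type*} [Group G'] {p : ℕ} {A : Subgroup G} (φ : G →* G')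
    (hA : IsElementaryAbelian p A) : IsElementaryAbelian p (A.map φ) := by
  obtain ⟨h1, h2⟩ := hA
  refine ⟨inferInstance, ?_⟩
  rintro _ ⟨a, ha, rfl⟩
  rw [← map_pow, h2 a ha, map_one]

theorem isElementaryAbelian_mono {p : ℕ} {A B : Subgroup G} (hBA : B ≤ A)
    (hA : IsElementaryAbelian p A) : IsElementaryAbelian p B := by
  obtain ⟨h1, h2⟩ := hA
  refine ⟨⟨⟨?_⟩⟩, fun b hb => h2 b (hBA hb)⟩
  rintro ⟨a, ha⟩ ⟨b, hb⟩
  have := mul_comm' (⟨a, hBA ha⟩ : A) ⟨b, hBA hb⟩
  apply Subtype.ext
  have h3 := congrArg Subtype.val this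
  exact h3

theorem exists_mem_maxElementaryAbelianSubgroups [Finite G] (p : ℕ) :
    ∃ A : Subgroup G, A ∈ maxElementaryAbelianSubgroups p G := by
  have : Nonempty {B : Subgroup G // IsElementaryAbelian p B} := ⟨⟨⊥, isElementaryAbelian_bot p⟩⟩
  obtain ⟨⟨A, hA⟩, hmax⟩ :=
    Finite.exists_max (fun B : {B : Subgroup G // IsElementaryAbelian p B} => Nat.card (B : Subgroup G))
  exact ⟨A, hA, fun B hB => hmax ⟨B, hB⟩⟩

theorem le_thompsonSubgroup {p : ℕ} {A : Subgroup G} (hA : A ∈ maxElementaryAbelianSubgroups p G) :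
    A ≤ thompsonSubgroup p G :=
  le_sSup hA

theorem map_mem_maxElementaryAbelianSubgroups {p : ℕ} {A : Subgroup G} (φ : G ≃* G)
    (hA : A ∈ maxElementaryAbelianSubgroups p G) :
    A.map φ.toMonoidHom ∈ maxElementaryAbelianSubgroups p G := by
  obtain ⟨h1, h2⟩ := hA
  refine ⟨isElementaryAbelian_map _ h1, fun B hB => ?_⟩
  have hinj : Function.Injective φ.toMonoidHom := φ.injective
  rw [Subgroup.card_map_of_injective hinj]
  exact h2 B hB

theorem thompsonSubgroup_characteristic (p : ℕ) : (thompsonSubgroup p G).Characteristic := by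
  rw [Subgroup.characteristic_iff_map_le]
  intro φ
  rw [Subgroup.map_le_iff_le_comap]
  apply sSup_le
  intro A hA
  rw [← Subgroup.map_le_iff_le_comap]
  exact le_sSup (map_mem_maxElementaryAbelianSubgroups φ hA)

end Cfsg.Agent.Helper3

namespace Cfsg.Agent.Helper3

open scoped Pointwise
open Cfsg

variable {G : Type*} [Group G]

theorem isElementaryAbelian_subgroupOf {p : ℕ} {A : Subgroup G} (U : Subgroup G)
    (hA : IsElementaryAbelian p A) : IsElementaryAbelian p (A.subgroupOf U) := by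
  obtain ⟨h1, h2⟩ := hA
  refine ⟨inferInstance, ?_⟩
  intro a ha
  rw [Subgroup.mem_subgroupOf] at ha
  apply Subtype.ext
  have := h2 _ ha
  simpa using this

theorem card_subgroupOf_of_le {A U : Subgroup G} (h : A ≤ U) :
    Nat.card (A.subgroupOf U) = Nat.card A :=
  Nat.card_congr (Subgroup.subgroupOfEquivOfLe h).toEquiv

theorem card_map_subtype {U : Subgroup G} (B : Subgroup U) :
    Nat.card (B.map U.subtype) = Nat.card B :=
  Subgroup.card_map_of_injective (Subgroup.subtype_injective U)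

/-- If `U` contains some maximal elementary abelian subgroup `A₀` of `G`, then the maximal
elementary abelian subgroups of `U` map to maximal elementary abelian subgroups of `G`. -/
theorem map_subtype_mem_max {p : ℕ} {U A₀ : Subgroup G}
    (hA₀ : A₀ ∈ maxElementaryAbelianSubgroups p G) (hA₀U : A₀ ≤ U) {B : Subgroup U}
    (hB : B ∈ maxElementaryAbelianSubgroups p U) :
    B.map U.subtype ∈ maxElementaryAbelianSubgroups p G := by
  refine ⟨isElementaryAbelian_map _ hB.1, fun C hC => ?_⟩
  rw [card_map_subtype]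
  calc Nat.card C ≤ Nat.card A₀ := hA₀.2 C hC
    _ = Nat.card (A₀.subgroupOf U) := (card_subgroupOf_of_le hA₀U).symm
    _ ≤ Nat.card B := hB.2 _ (isElementaryAbelian_subgroupOf U hA₀.1)

theorem subgroupOf_mem_max {p : ℕ} {U A : Subgroup G}
    (hA : A ∈ maxElementaryAbelianSubgroups p G) (hAU : A ≤ U) :
    A.subgroupOf U ∈ maxElementaryAbelianSubgroups p U := by
  refine ⟨isElementaryAbelian_subgroupOf U hA.1, fun B hB => ?_⟩
  rw [card_subgroupOf_of_le hAU, ← card_map_subtype]
  exact hA.2 _ (isElementaryAbelian_map _ hB)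

/-- `J(U) = J(G)` as soon as `U` contains every maximal elementary abelian subgroup of `G`. -/
theorem thompsonSubgroupOf_eq_of_le [Finite G] {p : ℕ} {U : Subgroup G}
    (hU : ∀ A ∈ maxElementaryAbelianSubgroups p G, A ≤ U) :
    thompsonSubgroupOf p U = thompsonSubgroup p G := by
  obtain ⟨A₀, hA₀⟩ := exists_mem_maxElementaryAbelianSubgroups (G := G) p
  apply le_antisymm
  · unfold thompsonSubgroupOf
    rw [Subgroup.map_le_iff_le_comap]
    apply sSup_le
    intro B hB
    rw [← Subgroup.map_le_iff_le_comap]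
    exact le_sSup (map_subtype_mem_max hA₀ (hU A₀ hA₀) hB)
  · apply sSup_le
    intro A hA
    have h1 : A.subgroupOf U ≤ thompsonSubgroup p U := le_sSup (subgroupOf_mem_max hA (hU A hA))
    have h2 := Subgroup.map_mono (f := U.subtype) h1
    rwa [Subgroup.map_subgroupOf_eq_of_le (hU A hA)] at h2

end Cfsg.Agent.Helper3

namespace Cfsg.Agent.Helper3

open scoped Pointwise
open Cfsg

variable {G : Type*} [Group G]

theorem IsElementaryAbelian.isPGroup {p : ℕ} {A : Subgroup G} (hA : IsElementaryAbelian p A) :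
    IsPGroup p A := by
  intro a
  refine ⟨1, ?_⟩
  apply Subtype.ext
  have := hA.2 a a.2
  simpa using this

/-- Every Sylow `p`-subgroup contains a maximal elementary abelian subgroup of `G`. -/
theorem exists_max_le_sylow [Finite G] {p : ℕ} [Fact p.Prime] (S : Sylow p G) :
    ∃ A₀ ∈ maxElementaryAbelianSubgroups p G, A₀ ≤ (S : Subgroup G) := by
  obtain ⟨A₁, hA₁⟩ := exists_mem_maxElementaryAbelianSubgroups (G := G) p
  obtain ⟨Q, hQ⟩ := (IsElementaryAbelian.isPGroup hA₁.1).exists_le_sylow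
  obtain ⟨g, hg⟩ := MulAction.exists_smul_eq G Q S
  refine ⟨A₁.map (MulAut.conj g).toMonoidHom, map_mem_maxElementaryAbelianSubgroups _ hA₁, ?_⟩
  rw [← hg, Sylow.coe_subgroup_smul]
  intro x hx
  obtain ⟨a, ha, rfl⟩ := hx
  show MulAut.conj g a ∈ MulAut.conj g • (Q : Subgroup G)
  rw [MulAut.conj_apply]
  exact conj_mem_conj_smul (hQ ha)

theorem thompsonSubgroup_eq_iSup_sylow [Finite G] {p : ℕ} [Fact p.Prime] :
    thompsonSubgroup p G = ⨆ S : Sylow p G, thompsonSubgroupOf p (S : Subgroup G) := by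
  apply le_antisymm
  · apply sSup_le
    intro A hA
    obtain ⟨S, hS⟩ := (IsElementaryAbelian.isPGroup hA.1).exists_le_sylow
    refine le_trans ?_ (le_iSup _ S)
    have h1 : A.subgroupOf S ≤ thompsonSubgroup p (S : Subgroup G) :=
      le_sSup (subgroupOf_mem_max hA hS)
    have h2 := Subgroup.map_mono (f := (S : Subgroup G).subtype) h1
    rwa [Subgroup.map_subgroupOf_eq_of_le hS] at h2
  · apply iSup_le
    intro S
    obtain ⟨A₀, hA₀, hA₀S⟩ := exists_max_le_sylow S
    unfold thompsonSubgroupOf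
    rw [Subgroup.map_le_iff_le_comap]
    apply sSup_le
    intro B hB
    rw [← Subgroup.map_le_iff_le_comap]
    exact le_sSup (map_subtype_mem_max hA₀ hA₀S hB)

end Cfsg.Agent.Helper3

namespace Cfsg.Agent.Helper3

open scoped Pointwise
open Cfsg

variable {G : Type*} [Group G]

theorem IsElementaryAbelian.commute {p : ℕ} {A : Subgroup G} (hA : IsElementaryAbelian p A)
    {a b : G} (ha : a ∈ A) (hb : b ∈ A) : a * b = b * a := by
  have := hA.1
  have h := mul_comm' (⟨a, ha⟩ : A) ⟨b, hb⟩
  exact congrArg Subtype.val h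

/-- Two elementary abelian subgroups centralizing each other generate an elementary abelian
subgroup. -/
theorem isElementaryAbelian_sup {p : ℕ} {A B : Subgroup G} (hA : IsElementaryAbelian p A)
    (hB : IsElementaryAbelian p B) (hAB : B ≤ Subgroup.centralizer (A : Set G)) :
    IsElementaryAbelian p (A ⊔ B) := by
  have hcomm : ∀ x ∈ ((A : Set G) ∪ B), ∀ y ∈ ((A : Set G) ∪ B), x * y = y * x := by
    intro x hx y hy
    rcases hx with hx | hx <;> rcases hy with hy | hy
    · exact IsElementaryAbelian.commute hA hx hy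
    · exact ((Subgroup.mem_centralizer_iff.mp (hAB hy)) x hx)
    · exact ((Subgroup.mem_centralizer_iff.mp (hAB hx)) y hy).symm
    · exact IsElementaryAbelian.commute hB hx hy
  have hcl : A ⊔ B = Subgroup.closure ((A : Set G) ∪ B) := by
    rw [Subgroup.closure_union, Subgroup.closure_eq, Subgroup.closure_eq]
  have hc : IsMulCommutative (A ⊔ B : Subgroup G) := by
    rw [hcl]; exact Subgroup.isMulCommutative_closure hcomm
  refine ⟨hc, ?_⟩
  intro g hg
  have hgg : ∀ x ∈ A ⊔ B, ∀ y ∈ A ⊔ B, x * y = y * x := by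
    intro x hx y hy
    have h := mul_comm' (⟨x, hx⟩ : (A ⊔ B : Subgroup G)) ⟨y, hy⟩
    exact congrArg Subtype.val h
  rw [hcl] at hg
  induction hg using Subgroup.closure_induction with
  | mem x hx =>
    rcases hx with hx | hx
    · exact hA.2 x hx
    · exact hB.2 x hx
  | one => exact one_pow p
  | mul x y hx hy ihx ihy =>
    have hxy : Commute x y := hgg x (hcl ▸ hx) y (hcl ▸ hy)
    rw [hxy.mul_pow, ihx, ihy, one_mul]
  | inv x _ ih => rw [inv_pow, ih, inv_one]

theorem isElementaryAbelian_zpowers {p : ℕ} {x : G} (hx : x ^ p = 1) :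
    IsElementaryAbelian p (Subgroup.zpowers x) := by
  refine ⟨inferInstance, ?_⟩
  intro a ha
  obtain ⟨k, rfl⟩ := Subgroup.mem_zpowers_iff.mp ha
  rw [← zpow_natCast, ← zpow_mul, mul_comm, zpow_mul, zpow_natCast, hx, one_zpow]

/-- A maximal elementary abelian subgroup contains every element of order dividing `p` that
centralizes it. -/
theorem mem_of_mem_centralizer_of_max [Finite G] {p : ℕ} {A : Subgroup G}
    (hA : A ∈ maxElementaryAbelianSubgroups p G) {x : G} (hx : x ^ p = 1)
    (hxA : x ∈ Subgroup.centralizer (A : Set G)) : x ∈ A := by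
  have hB : IsElementaryAbelian p (A ⊔ Subgroup.zpowers x) := by
    apply isElementaryAbelian_sup hA.1 (isElementaryAbelian_zpowers hx)
    rw [Subgroup.zpowers_le]
    exact hxA
  have hcard := hA.2 _ hB
  have hle : A ≤ A ⊔ Subgroup.zpowers x := le_sup_left
  have heq : A = A ⊔ Subgroup.zpowers x :=
    Subgroup.eq_of_le_of_card_ge hle hcard
  rw [heq]
  exact (le_sup_right : Subgroup.zpowers x ≤ _) (Subgroup.mem_zpowers x)

end Cfsg.Agent.Helper3
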