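import Mathlib
import Cfsg.Agent.Lib.Helper3.Basic
import Cfsg.Agent.Lib.Helper3.Hall

set_option autoImplicit false

/-! Wielandt's theorem: the join of two subnormal subgroups of a finite group is subnormal. -/

namespace Cfsg.Agent.Helper3

open scoped Pointwise

universe u

theorem card_lt_of_lt_top {G : Type u} [Group G] [Finite G] {N : Subgroup G} (h : N < ⊤) :
    Nat.card N < Nat.card G := by
  apply lt_of_le_of_ne (Subgroup.card_le_card_group N)
  intro he
  exact h.ne (Subgroup.eq_top_of_card_eq N he)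

/-- A minimal normal subgroup normalizes every subnormal subgroup. -/
theorem minimal_normal_le_normalizer_aux (n : ℕ) : ∀ (G : Type u) [Group G] [Finite G],
    Nat.card G = n → ∀ H : Subgroup G, H.IsSubnormal → ∀ M : Subgroup G, M.Normal →
    (∀ K : Subgroup G, K.Normal → K ≤ M → K = ⊥ ∨ K = M) →
    M ≤ Subgroup.normalizer (H : Set G) := by
  induction n using Nat.strong_induction_on with
  | _ n ih =>
  intro G _ _ hcard H hH M hMn hMmin
  by_cases hHtop : H = ⊤
  · rw [hHtop, Subgroup.normalizer_eq_top_iff.mpr inferInstance]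
    exact le_top
  by_cases hMbot : M = ⊥
  · rw [hMbot]; exact bot_le
  obtain ⟨N, hNn, hHN, hNlt⟩ := hH.exists_normal_and_le_and_lt_top_of_ne hHtop
  by_cases hMN : M ⊓ N = ⊥
  · intro m hm
    apply Subgroup.centralizer_le_normalizer
    rw [Subgroup.mem_centralizer_iff]
    intro h hh
    exact ((Subgroup.commute_of_normal_of_disjoint M N hMn hNn (disjoint_iff.mpr hMN) m h hm
      (hHN hh)).eq).symm
  · have hMleN : M ≤ N := by
      rcases hMmin (M ⊓ N) inferInstance inf_le_left with h | h
      · exact absurd h hMN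
      · rw [← h]; exact inf_le_right
    have hlt : Nat.card N < n := hcard ▸ card_lt_of_lt_top hNlt
    -- a minimal normal subgroup of N inside M
    have hM' : (M.subgroupOf N).Normal ∧ M.subgroupOf N ≠ ⊥ ∧ M.subgroupOf N ≤ M.subgroupOf N := by
      refine ⟨inferInstance, ?_, le_rfl⟩
      intro h
      rw [Subgroup.subgroupOf_eq_bot, disjoint_iff, inf_of_le_left hMleN] at h
      exact hMbot h
    obtain ⟨M₁, -, hM₁⟩ := Finite.exists_le_minimal
      (p := fun K : Subgroup N => K.Normal ∧ K ≠ ⊥ ∧ K ≤ M.subgroupOf N) hM'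
    obtain ⟨hM₁n, hM₁bot, hM₁le⟩ := hM₁.prop
    have hM₁min : ∀ K : Subgroup N, K.Normal → K ≤ M₁ → K = ⊥ ∨ K = M₁ := by
      intro K hKn hK
      by_cases hKb : K = ⊥
      · exact Or.inl hKb
      · exact Or.inr (le_antisymm hK (hM₁.le_of_le ⟨hKn, hKb, hK.trans hM₁le⟩ hK))
    -- all conjugates of M₁ normalize H
    have hconj : ∀ (g : G) (x : N), x ∈ M₁ → g * (x : G) * g⁻¹ ∈ Subgroup.normalizer (H : Set G) := by
      intro g x hx
      have hsub : (MulAut.conj g⁻¹ • H).IsSubnormal := hH.smul _
      have hle : MulAut.conj g⁻¹ • H ≤ N := by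
        intro y hy
        rw [mem_conj_smul_iff, inv_inv] at hy
        have := hNn.conj_mem _ (hHN hy) g⁻¹
        have e : g⁻¹ * (g⁻¹⁻¹ * y * g⁻¹) * g⁻¹⁻¹ = y := by group
        rw [inv_inv] at e
        rw [inv_inv] at this
        have e' : g⁻¹ * (g * y * g⁻¹) * g = y := by group
        rwa [e'] at this
      have hIH := ih _ hlt N rfl ((MulAut.conj g⁻¹ • H).subgroupOf N) hsub.subgroupOf M₁ hM₁n hM₁min
      have hxN := hIH hx
      -- x normalizes g⁻¹ • H in G
      have hxG : ∀ h ∈ MulAut.conj g⁻¹ • H, (x : G) * h * (x : G)⁻¹ ∈ MulAut.conj g⁻¹ • H := by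
        intro h hh
        have h1 : (⟨h, hle hh⟩ : N) ∈ (MulAut.conj g⁻¹ • H).subgroupOf N :=
          Subgroup.mem_subgroupOf.mpr hh
        have h2 := (Subgroup.mem_normalizer_iff.mp hxN _).mp h1
        exact Subgroup.mem_subgroupOf.mp h2
      apply Subgroup.mem_normalizer_fintype
      intro h hh
      have h1 : g⁻¹ * h * g ∈ MulAut.conj g⁻¹ • H := by
        rw [mem_conj_smul_iff, inv_inv]
        have e : g * (g⁻¹ * h * g) * g⁻¹ = h := by group
        rw [e]; exact hh
      have h2 := hxG _ h1
      rw [mem_conj_smul_iff, inv_inv] at h2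
      have e : g * ((x : G) * (g⁻¹ * h * g) * (x : G)⁻¹) * g⁻¹ =
          g * (x : G) * g⁻¹ * h * (g * (x : G) * g⁻¹)⁻¹ := by group
      rw [e] at h2
      exact h2
    set J := Subgroup.normalClosure ((M₁.map N.subtype : Subgroup G) : Set G) with hJ
    have hJle : J ≤ Subgroup.normalizer (H : Set G) := by
      rw [hJ, Subgroup.normalClosure, Subgroup.closure_le]
      intro a ha
      rw [Group.mem_conjugatesOfSet_iff] at ha
      obtain ⟨b, hb, hba⟩ := ha
      obtain ⟨c, rfl⟩ := isConj_iff.mp hba
      obtain ⟨x, hx, rfl⟩ := hb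
      exact hconj c x hx
    have hJM : J ≤ M := by
      apply Subgroup.normalClosure_le_normal
      rintro _ ⟨x, hx, rfl⟩
      exact Subgroup.mem_subgroupOf.mp (hM₁le hx)
    have hJbot : J ≠ ⊥ := by
      intro h
      apply hM₁bot
      have h1 : M₁.map N.subtype ≤ J := Subgroup.le_normalClosure
      rw [h, le_bot_iff] at h1
      exact (Subgroup.map_eq_bot_iff_of_injective M₁ (Subgroup.subtype_injective N)).mp h1
    rcases hMmin J Subgroup.normalClosure_normal hJM with h | h
    · exact absurd h hJbot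
    · rw [← h]; exact hJle

theorem minimal_normal_le_normalizer {G : Type u} [Group G] [Finite G] (H : Subgroup G)
    (hH : H.IsSubnormal) (M : Subgroup G) [hMn : M.Normal]
    (hMmin : ∀ K : Subgroup G, K.Normal → K ≤ M → K = ⊥ ∨ K = M) :
    M ≤ Subgroup.normalizer (H : Set G) :=
  minimal_normal_le_normalizer_aux _ G rfl H hH M hMn hMmin

/-- **Wielandt**: the join of two subnormal subgroups of a finite group is subnormal. -/
theorem isSubnormal_sup_aux (n : ℕ) : ∀ (G : Type u) [Group G] [Finite G], Nat.card G = n →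
    ∀ A B : Subgroup G, A.IsSubnormal → B.IsSubnormal → (A ⊔ B).IsSubnormal := by
  induction n using Nat.strong_induction_on with
  | _ n ih =>
  intro G _ _ hcard A B hA hB
  by_cases hnt : Nontrivial G
  · obtain ⟨M, hMn, hMbot, hMmin⟩ := exists_minimal_normal (G := G)
    have hlt : Nat.card (G ⧸ M) < n := by
      rw [← hcard]
      apply card_quotient_lt
      have := Nat.card_pos (α := M)
      have : Nat.card M ≠ 1 := fun h => hMbot (Subgroup.card_eq_one.mp h)
      omega
    have h1 := ih _ hlt (G ⧸ M) rfl _ _ (hA.quotient (K := M)) (hB.quotient (K := M))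
    rw [← Subgroup.map_sup] at h1
    have h2 := h1.comap (QuotientGroup.mk' M)
    rw [Subgroup.comap_map_eq, QuotientGroup.ker_mk'] at h2
    have hMA := minimal_normal_le_normalizer A hA M hMmin
    have hMB := minimal_normal_le_normalizer B hB M hMmin
    have hMAB := le_normalizer_sup hMA hMB
    have hn : ((A ⊔ B).subgroupOf (M ⊔ (A ⊔ B))).Normal :=
      Subgroup.normal_subgroupOf_sup_of_le_normalizer hMAB
    rw [sup_comm M] at hn
    exact Subgroup.IsSubnormal.step _ _ le_sup_left h2 hn
  · rw [not_nontrivial_iff_subsingleton] at hnt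
    rw [Subsingleton.elim (A ⊔ B) ⊤]
    exact Subgroup.IsSubnormal.top

theorem isSubnormal_sup {G : Type u} [Group G] [Finite G] {A B : Subgroup G}
    (hA : A.IsSubnormal) (hB : B.IsSubnormal) : (A ⊔ B).IsSubnormal :=
  isSubnormal_sup_aux _ G rfl A B hA hB


theorem isSubnormal_sSup {G : Type u} [Group G] [Finite G] (T : Set (Subgroup G))
    (hT : ∀ U ∈ T, U.IsSubnormal) : (sSup T).IsSubnormal := by
  have hfin : T.Finite := Set.toFinite T
  induction T, hfin using Set.Finite.induction_on with
  | empty => rw [sSup_empty]; exact Subgroup.IsSubnormal.bot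
  | insert _ _ ih =>
    rw [sSup_insert]
    exact isSubnormal_sup (hT _ (Set.mem_insert _ _))
      (ih (fun U hU => hT U (Set.mem_insert_of_mem _ hU)))

theorem subgroupOf_isSubnormal_of_le {G : Type u} [Group G] {A B C : Subgroup G} (hBC : B ≤ C)
    (h : (A.subgroupOf C).IsSubnormal) : (A.subgroupOf B).IsSubnormal := by
  have := h.comap (Subgroup.inclusion hBC)
  rwa [Subgroup.subgroupOf, Subgroup.comap_comap, Subgroup.subtype_comp_inclusion] at this

end Cfsg.Agent.Helper3
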