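import Mathlib
import Cfsg.Agent.Lib.Helper3.Basic

set_option autoImplicit false


namespace Cfsg.Agent.Helper3
open scoped Pointwise

variable {G : Type*} [Group G]

/-- the number of cosets of `B` meeting `A` is `|A : A ∩ B|`. -/
theorem card_image_mk (A B : Subgroup G) :
    Nat.card ((QuotientGroup.mk : G → G ⧸ B) '' (A : Set G)) = B.relIndex A := by
  let ψ : A ⧸ B.subgroupOf A → G ⧸ B :=
    Quotient.map' (Subtype.val) (fun a b h => by
      rw [QuotientGroup.leftRel_apply] at h ⊢
      exact h)
  have hinj : Function.Injective ψ := by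
    refine Quotient.ind₂' ?_
    intro a b h
    have h' : (QuotientGroup.mk (a : G) : G ⧸ B) = QuotientGroup.mk (b : G) := h
    rw [QuotientGroup.eq] at h'
    apply QuotientGroup.eq.mpr
    rw [Subgroup.mem_subgroupOf]
    simpa using h'
  have hrange : Set.range ψ = (QuotientGroup.mk : G → G ⧸ B) '' (A : Set G) := by
    ext x
    constructor
    · rintro ⟨q, rfl⟩
      induction q using Quotient.inductionOn' with
      | h a => exact ⟨a, a.2, rfl⟩
    · rintro ⟨a, ha, rfl⟩
      exact ⟨QuotientGroup.mk ⟨a, ha⟩, rfl⟩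
  rw [← hrange, Nat.card_range_of_injective hinj]
  rfl

theorem card_set_mul_mul_card_inf [Finite G] (A B : Subgroup G) :
    Nat.card ((A : Set G) * (B : Set G) : Set G) * Nat.card (A ⊓ B : Subgroup G) =
      Nat.card A * Nat.card B := by
  rw [Subgroup.card_mul_eq_card_subgroup_mul_card_quotient B (A : Set G), card_image_mk]
  have h1 : Nat.card (A ⊓ B : Subgroup G) * B.relIndex A = Nat.card A := by
    rw [← Subgroup.inf_relIndex_left A B, inf_comm]
    have := card_mul_relIndex_of_le (inf_le_right : B ⊓ A ≤ A)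
    rwa [inf_comm] at this ⊢
  rw [← h1]; ring

end Cfsg.Agent.Helper3

namespace Cfsg.Agent.Helper3
open scoped Pointwise

variable {G : Type*} [Group G]

/-- If `G = A B` then `|G| |A ∩ B| = |A| |B|`. -/
theorem card_mul_card_inf_of_mul_eq_univ [Finite G] (A B : Subgroup G)
    (h : ∀ g : G, ∃ a ∈ A, ∃ b ∈ B, g = a * b) :
    Nat.card G * Nat.card (A ⊓ B : Subgroup G) = Nat.card A * Nat.card B := by
  rw [← card_set_mul_mul_card_inf A B]
  congr 1
  have : ((A : Set G) * (B : Set G) : Set G) = Set.univ := by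
    rw [Set.eq_univ_iff_forall]
    intro g
    obtain ⟨a, ha, b, hb, rfl⟩ := h g
    exact Set.mul_mem_mul ha hb
  rw [this, Nat.card_congr (Equiv.Set.univ G)]

/-- conjugating a subgroup of `H` by an element of `H`, seen in `G`. -/
theorem map_subtype_conj_smul (H : Subgroup G) (x : H) (P : Subgroup H) :
    (MulAut.conj x • P).map H.subtype = MulAut.conj (x : G) • P.map H.subtype := by
  ext g
  rw [Subgroup.mem_map, mem_conj_smul_iff, Subgroup.mem_map]
  constructor
  · rintro ⟨y, hy, rfl⟩
    rw [mem_conj_smul_iff] at hy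
    exact ⟨x⁻¹ * y * x, hy, by simp⟩
  · rintro ⟨y, hy, hyg⟩
    refine ⟨x * y * x⁻¹, ?_, ?_⟩
    · rw [mem_conj_smul_iff]
      have : x⁻¹ * (x * y * x⁻¹) * x = y := by group
      rw [this]; exact hy
    · have : (y : G) = (x : G)⁻¹ * g * x := hyg
      simp only [Subgroup.subtype_apply, Subgroup.coe_mul, Subgroup.coe_inv]
      rw [this]; group

end Cfsg.Agent.Helper3
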