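import Mathlib
import Cfsg.Agent.S4227
import Cfsg.Agent.Lib.Helper19.PLength
import Cfsg.Agent.Lib.Helper23.PSolvable
import Cfsg.Agent.Lib.Helper23.BurnsideFrattini
import Cfsg.Agent.Lib.Helper7.Cores
import Cfsg.Agent.Lib.Helper10.Cores
import Cfsg.Agent.Lib.Helper22.PPrimeCore

/-!
# B&G Theorem 3.6, reductions part 3: `p`-length one criteria (helper3)
-/

set_option autoImplicit false
set_option linter.unusedSectionVars false
set_option linter.unusedVariables false
set_option linter.style.haveILetI false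

namespace Cfsg.Agent.Helper3.BG36R

open Subgroup Cfsg
open Cfsg.Agent.Helper19.PLen

variable {K : Type*} [Group K] [Finite K] {p : ℕ} [Fact p.Prime]

/-- `p`-length one lifts through a surjection with `p'`-kernel -/
theorem plengthLE_one_of_surjective_coprime_ker {K' : Type*} [Group K'] [Finite K'] (f : K →* K')
    (hf : Function.Surjective f) (hker : (Nat.card ↥f.ker).Coprime p) (h : PLengthLE p 1 K') :
    PLengthLE p 1 K := by
  have h0 : PLengthLE p 0 ↥f.ker := plengthLE_zero_of_coprime hker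
  have h1 : PLengthLE p 1 (K ⧸ f.ker) :=
    plengthLE_of_mulEquiv (QuotientGroup.quotientKerEquivOfSurjective f hf).symm h
  have := plengthLE_add f.ker h0 h1
  simpa using this

/-- a normal `p`-subgroup of index prime to `p` forces `p`-length at most one -/
theorem plengthLE_one_of_normal_pGroup (T : Subgroup K) [T.Normal] (hT : IsPGroup p ↥T)
    (hidx : T.index.Coprime p) : PLengthLE p 1 K := by
  have h1 : PLengthLE p 1 ↥T := plengthLE_one_of_isPGroup hT
  have h0 : PLengthLE p 0 (K ⧸ T) := by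
    apply plengthLE_zero_of_coprime
    rw [← Subgroup.index_eq_card]
    exact hidx
  have := plengthLE_add T h1 h0
  simpa using this

/-- if `O_{p'}(K) = 1` and `p`-length at most one then `O_p(K)` has index prime to `p` -/
theorem index_pCore_coprime (hO : pPrimeCore p K = ⊥) (h : PLengthLE p 1 K) :
    (pCore p K).index.Coprime p := by
  haveI : (pCore p K).Characteristic := Helper7.pCore_characteristic p
  haveI : (pCore p K).Normal := inferInstance
  have h1 : PLengthLE p 0 (K ⧸ pCore p K) := plengthLE_quotient_pCore hO (k := 0) h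
  have h2 := coprime_of_plengthLE_zero h1
  rwa [← Subgroup.index_eq_card] at h2

/-- an element of `p`-power order in a subgroup of order prime to `p` is trivial -/
theorem eq_one_of_pow_of_coprime {M : Type*} [Group M] [Finite M] {S : Subgroup M} {x : M} {k : ℕ}
    (hxS : x ∈ S) (hS : (Nat.card ↥S).Coprime p) (hx : x ^ p ^ k = 1) : x = 1 := by
  have h1 : orderOf x ∣ Nat.card ↥S := by
    have := orderOf_dvd_natCard (⟨x, hxS⟩ : ↥S)
    rwa [Subgroup.orderOf_mk] at this
  have h2 : orderOf x ∣ p ^ k := orderOf_dvd_of_pow_eq_one hx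
  have h3 := Nat.dvd_gcd h1 h2
  rw [Nat.Coprime.gcd_eq_one (Nat.Coprime.pow_right k hS), Nat.dvd_one, orderOf_eq_one_iff] at h3
  exact h3

/-- if `O_{p'}(K) = 1`, then `p`-length one of `K / F`, `F ≤ Φ(O_p(K))`, implies `p`-length one
of `K` -/
theorem plengthLE_one_of_quotient_frattini [Group.IsSolvable K] (hO : pPrimeCore p K = ⊥)
    (F : Subgroup K) [F.Normal]
    (hF : F ≤ (frattini ↥(pCore p K)).map (pCore p K).subtype)
    (h : PLengthLE p 1 (K ⧸ F)) : PLengthLE p 1 K := by
  have hpp : p.Prime := Fact.out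
  haveI : (pCore p K).Characteristic := Helper7.pCore_characteristic p
  haveI hTn : (pCore p K).Normal := inferInstance
  set T : Subgroup K := pCore p K with hT
  have hTp : IsPGroup p ↥T := Helper10.pCore_isPGroup p
  set Φ : Subgroup K := (frattini ↥T).map T.subtype with hΦ
  haveI hΦn : Φ.Normal := ConjAct.normal_of_characteristic_of_normal
  have hΦT : Φ ≤ T := Subgroup.map_subtype_le _
  set π := QuotientGroup.mk' F with hπ
  have hπs : Function.Surjective π := QuotientGroup.mk'_surjective F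
  -- Step 1
  have hO' : pPrimeCore p (K ⧸ F) = ⊥ := by
    rw [eq_bot_iff]
    intro z hz
    obtain ⟨a, rfl⟩ := hπs z
    rw [Subgroup.mem_bot]
    have hAcop : (Nat.card ↥(pPrimeCore p (K ⧸ F))).Coprime p :=
      Helper22.card_pPrimeCore_coprime p
    haveI hAn : (pPrimeCore p (K ⧸ F)).Normal := Helper22.pPrimeCore_normal p
    set A : Subgroup K := (pPrimeCore p (K ⧸ F)).comap π with hA
    haveI hAnn : A.Normal := Subgroup.Normal.comap hAn π
    have haA : a ∈ A := hz
    -- `A ⊓ T ≤ F`
    have hATF : ∀ g ∈ A, g ∈ T → g ∈ F := by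
      intro g hgA hgT
      obtain ⟨k, hk⟩ := hTp ⟨g, hgT⟩
      have hk' : g ^ p ^ k = 1 := congrArg Subtype.val hk
      have h1 : (π g) ^ p ^ k = 1 := by rw [← map_pow, hk', map_one]
      have h2 : π g = 1 := eq_one_of_pow_of_coprime (S := pPrimeCore p (K ⧸ F)) hgA hAcop h1
      exact (QuotientGroup.eq_one_iff (N := F) g).mp h2
    -- the `p'`-part of `a`
    have hn0 : orderOf a ≠ 0 := (orderOf_pos a).ne'
    obtain ⟨e, m, hm, hnm⟩ := Nat.exists_eq_pow_mul_and_not_dvd hn0 p hpp.ne_one
    set a' : K := a ^ p ^ e with ha'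
    have ha'm : a' ^ m = 1 := by
      rw [ha', ← pow_mul, ← hnm, pow_orderOf_eq_one]
    set Z : Subgroup K := zpowers a' with hZ
    have hZA : Z ≤ A := by
      rw [hZ, Subgroup.zpowers_le]; exact A.pow_mem haA _
    have hZcard : (Nat.card ↥Z).Coprime p := by
      rw [hZ, Nat.card_zpowers]
      have h1 : orderOf a' ∣ m := orderOf_dvd_of_pow_eq_one ha'm
      exact Nat.Coprime.coprime_dvd_left h1
        ((Nat.Prime.coprime_iff_not_dvd hpp).mpr hm).symm
    have hZsolv : Group.IsSolvable ↥Z := inferInstance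
    have hZΦ : Z ≤ normalizer (Φ : Set K) := by
      rw [Subgroup.normalizer_eq_top]; exact le_top
    have hact : ∀ z ∈ Z, ∀ t ∈ T, z * t * z⁻¹ * t⁻¹ ∈ Φ := by
      intro z hz t ht
      apply hF
      apply hATF
      · have h1 : t * z⁻¹ * t⁻¹ ∈ A := hAnn.conj_mem _ (A.inv_mem (hZA hz)) t
        have h2 : z * t * z⁻¹ * t⁻¹ = z * (t * z⁻¹ * t⁻¹) := by group
        rw [h2]; exact A.mul_mem (hZA hz) h1
      · have h1 : z * t * z⁻¹ ∈ T := hTn.conj_mem _ ht z
        exact T.mul_mem h1 (T.inv_mem ht)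
    have hcent : T ≤ centralizer (Z : Set K) :=
      Helper23.centralizes_of_frattini T hTp Z hZcard hZsolv hZΦ hact
    have hHH : centralizer (T : Set K) ≤ T :=
      Helper23.PSolv.centralizer_pCore_le
        (Cfsg.Agent.S4227.isPSolvable_of_isSolvable inferInstance p) hO
    have ha'T : a' ∈ T := by
      apply hHH
      rw [Subgroup.mem_centralizer_iff]
      intro t ht
      have := Subgroup.mem_centralizer_iff.mp (hcent ht) a' (Subgroup.mem_zpowers a')
      exact this.symm
    obtain ⟨k, hk⟩ := hTp ⟨a', ha'T⟩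
    have hk' : a' ^ p ^ k = 1 := congrArg Subtype.val hk
    have ha'1 : a' = 1 :=
      eq_one_of_pow_of_coprime (S := Z) (Subgroup.mem_zpowers a') hZcard hk'
    have h3 : (π a) ^ p ^ e = 1 := by rw [← map_pow, ← ha', ha'1, map_one]
    exact eq_one_of_pow_of_coprime (S := pPrimeCore p (K ⧸ F)) hz hAcop h3
  -- Step 2
  have hidx := index_pCore_coprime hO' h
  -- Step 3
  haveI : (pCore p (K ⧸ F)).Characteristic := Helper7.pCore_characteristic p
  haveI hBn' : (pCore p (K ⧸ F)).Normal := inferInstance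
  set B : Subgroup K := (pCore p (K ⧸ F)).comap π with hB
  haveI hBn : B.Normal := Subgroup.Normal.comap hBn' π
  have hFT : F ≤ T := hF.trans hΦT
  have hBp : IsPGroup p ↥B := by
    rintro ⟨b, hb⟩
    have hb' : π b ∈ pCore p (K ⧸ F) := hb
    obtain ⟨k, hk⟩ := (Helper10.pCore_isPGroup (G := K ⧸ F) p) ⟨π b, hb'⟩
    have hk' : (π b) ^ p ^ k = 1 := congrArg Subtype.val hk
    have h1 : b ^ p ^ k ∈ F := by
      rw [← QuotientGroup.eq_one_iff (N := F)]
      show π (b ^ p ^ k) = 1
      rw [map_pow, hk']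
    obtain ⟨j, hj⟩ := hTp ⟨b ^ p ^ k, hFT h1⟩
    have hj' : (b ^ p ^ k) ^ p ^ j = 1 := congrArg Subtype.val hj
    refine ⟨k + j, ?_⟩
    apply Subtype.ext
    show b ^ p ^ (k + j) = 1
    rw [pow_add, pow_mul, hj']
  have hBT : B ≤ T := le_sSup ⟨hBn, hBp⟩
  -- Step 4
  have hTidx : T.index.Coprime p := by
    have h1 : T.index ∣ B.index := Subgroup.index_dvd_of_le hBT
    have h2 : B.index = (pCore p (K ⧸ F)).index := Subgroup.index_comap_of_surjective _ hπs
    rw [h2] at h1
    exact Nat.Coprime.coprime_dvd_left h1 hidx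
  exact plengthLE_one_of_normal_pGroup T hTp hTidx

end Cfsg.Agent.Helper3.BG36R
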