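import Mathlib
import Cfsg.Agent.S0027
import Cfsg.Agent.Lib.Helper3.BG36R2
import Cfsg.Agent.Lib.Helper3.BG36R3
import Cfsg.Agent.Lib.Helper22.ClassTwo
import Cfsg.Agent.Lib.Helper23.PGroup
import Cfsg.Agent.Lib.Helper7.Coprime

/-!
# B&G Theorem 3.6: the reductions (helper3)

The hypotheses of the theorem pass to quotients by normal subgroups inside `H`; strong induction
on the order reduces the theorem to the case `O_{p'}(H) = 1`, `Φ(O_p(H)) = 1`, which is the
"core" statement `CoreStmt`.
-/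

set_option autoImplicit false
set_option linter.unusedSectionVars false
set_option linter.unusedVariables false
set_option linter.style.haveILetI false

namespace Cfsg.Agent.Helper3.BG36R

open Subgroup Cfsg
open Cfsg.Agent.Helper19.PLen

universe u

/-- a characteristic subgroup of a characteristic subgroup is characteristic -/
theorem characteristic_map_subtype {K : Type*} [Group K] (T : Subgroup K) [hT : T.Characteristic]
    (F : Subgroup ↥T) [hF : F.Characteristic] : (F.map T.subtype).Characteristic := by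
  rw [Subgroup.characteristic_iff_le_comap]
  intro φ x hx
  obtain ⟨t, ht, rfl⟩ := hx
  have hmap : T.map φ.toMonoidHom = T := Subgroup.characteristic_iff_map_eq.mp hT φ
  set ψ : ↥T ≃* ↥T := (φ.subgroupMap T).trans (MulEquiv.subgroupCongr hmap) with hψ
  have h1 : ψ t ∈ F := (Subgroup.characteristic_iff_le_comap.mp hF ψ) ht
  have h2 : ((ψ t : ↥T) : K) = φ (t : K) := rfl
  show φ.toMonoidHom (T.subtype t) ∈ F.map T.subtype
  exact ⟨ψ t, h1, h2⟩

/-- the hypotheses of B&G Theorem 3.6 (in the form used for the induction) -/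
structure Hyp (G : Type u) [Group G] (H R X : Subgroup G) : Prop where
  odd : Odd (Nat.card G)
  normal : H.Normal
  hall : (Nat.card ↥H).Coprime H.index
  compl : IsComplement' H R
  le : X ≤ R
  prime : (Nat.card ↥X).Prime
  zgroup : IsZGroup ↥(H ⊓ centralizer (X : Set G))
  comm : ⁅H, R⁆ = H

section
variable {G : Type u} [Group G] {H R X : Subgroup G}

theorem Hyp.index_eq (h : Hyp G H R X) : H.index = Nat.card ↥R := h.compl.symm.index_eq_card

theorem Hyp.coprime_HR (h : Hyp G H R X) : (Nat.card ↥H).Coprime (Nat.card ↥R) := by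
  rw [← h.index_eq]; exact h.hall

theorem Hyp.coprime_XH (h : Hyp G H R X) : (Nat.card ↥X).Coprime (Nat.card ↥H) :=
  Nat.Coprime.coprime_dvd_left (Subgroup.card_dvd_of_le h.le) h.coprime_HR.symm

/-- the hypotheses pass to the quotient by a normal subgroup contained in `H` -/
theorem Hyp.quot [Finite G] [Group.IsSolvable G] (h : Hyp G H R X) (N : Subgroup G) [N.Normal]
    (hNH : N ≤ H) :
    Hyp (G ⧸ N) (H.map (QuotientGroup.mk' N)) (R.map (QuotientGroup.mk' N))
      (X.map (QuotientGroup.mk' N)) := by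
  haveI := h.normal
  set π := QuotientGroup.mk' N with hπ
  have hπs : Function.Surjective π := QuotientGroup.mk'_surjective N
  haveI hHn : (H.map π).Normal := Subgroup.Normal.map h.normal π hπs
  have hcop : (Nat.card ↥(H.map π)).Coprime (Nat.card ↥(R.map π)) := quot_coprime N H R h.coprime_HR
  have hcompl : IsComplement' (H.map π) (R.map π) := by
    apply Subgroup.isComplement'_of_disjoint_and_mul_eq_univ
    · exact Subgroup.disjoint_of_coprime_natCard hcop
    · rw [← Subgroup.normal_mul, ← Subgroup.map_sup, h.compl.sup_eq_top, ← MonoidHom.range_eq_map,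
        MonoidHom.range_eq_top.mpr hπs]
      rfl
  have hXN : (Nat.card ↥X).Coprime (Nat.card ↥N) :=
    Nat.Coprime.coprime_dvd_right (Subgroup.card_dvd_of_le hNH) h.coprime_XH
  refine ⟨quot_odd N h.odd, hHn, ?_, hcompl, Subgroup.map_mono h.le, ?_, ?_, quot_commutator N H R h.comm⟩
  · rw [hcompl.symm.index_eq_card]; exact hcop
  · rw [quot_card_eq N X hXN]; exact h.prime
  · haveI := h.zgroup
    exact quot_zgroup N H X hNH h.coprime_XH inferInstance

end


/-- the core case of B&G Theorem 3.6 (`V` plays the role of `O_p(H)`) -/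
def CoreStmt : Prop :=
  ∀ (G : Type u) [Group G] [Finite G] [Group.IsSolvable G] (hodd : Odd (Nat.card G))
    (H R X : Subgroup G) [H.Normal] (hHall : (Nat.card ↥H).Coprime H.index)
    (hR : Subgroup.IsComplement' H R) (hXR : X ≤ R) (hXp : (Nat.card ↥X).Prime)
    (hZ : IsZGroup ↥(H ⊓ Subgroup.centralizer (X : Set G))) (p : ℕ) [Fact p.Prime]
    (hHR : ⁅H, R⁆ = H) (V : Subgroup G) [V.Normal] (hVH : V ≤ H)
    (hV : Cfsg.IsElementaryAbelian p V)
    (hCV : H ⊓ Subgroup.centralizer (V : Set G) ≤ V)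
    (hmax : ∀ N : Subgroup G, N.Normal → N ≤ H → IsPGroup p ↥N → N ≤ V),
    ¬ p ∣ V.relIndex H

theorem subgroupOf_map_subtype' {G : Type*} [Group G] (H : Subgroup G) (P : Subgroup ↥H) :
    (P.map H.subtype).subgroupOf H = P :=
  Subgroup.comap_map_eq_self_of_injective (Subgroup.subtype_injective H) P

/-- the quotient step of the induction -/
theorem plengthLE_quot {G : Type u} [Group G] [Finite G] {H : Subgroup G} (N : Subgroup G)
    [N.Normal] (p : ℕ) [Fact p.Prime]
    (h1 : PLengthLE p 1 ↥(H.map (QuotientGroup.mk' N))) (P : Subgroup ↥H) [P.Normal]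
    (hP : N = P.map H.subtype) : PLengthLE p 1 (↥H ⧸ P) := by
  set f := (QuotientGroup.mk' N).subgroupMap H with hf
  have hfs : Function.Surjective f := MonoidHom.subgroupMap_surjective _ _
  have hker : f.ker = P := by
    rw [hf, ker_subgroupMap, hP, subgroupOf_map_subtype']
  have e1 : ↥H ⧸ f.ker ≃* ↥(H.map (QuotientGroup.mk' N)) :=
    QuotientGroup.quotientKerEquivOfSurjective f hfs
  have e2 : ↥H ⧸ f.ker ≃* ↥H ⧸ P := QuotientGroup.quotientMulEquivOfEq hker
  exact plengthLE_of_mulEquiv (e2.symm.trans e1).symm h1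

/-- **B&G Theorem 3.6** in the inductive form: if `G = HR` with `H` a normal Hall subgroup,
`[H,R] = H`, and `C_H(X)` is a Z-group for a subgroup `X ≤ R` of prime order, then `H` has
`p`-length at most one. -/
theorem plengthLE_one_aux (hcore : CoreStmt.{u}) (p : ℕ) [Fact p.Prime] :
    ∀ (n : ℕ) (G : Type u) [Group G] [Finite G] [Group.IsSolvable G] (H R X : Subgroup G),
      Nat.card G = n → Hyp G H R X → PLengthLE p 1 ↥H := by
  intro n
  induction n using Nat.strong_induction_on with
  | _ n IH =>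
  intro G _ _ _ H R X hn h
  have hpp : p.Prime := Fact.out
  haveI := h.normal
  -- step (b): `O_{p'}(H) = 1`
  haveI : (pPrimeCore p ↥H).Characteristic := Helper7.pPrimeCore_characteristic p
  set N : Subgroup G := (pPrimeCore p ↥H).map H.subtype with hN
  haveI hNn : N.Normal := ConjAct.normal_of_characteristic_of_normal
  have hNH : N ≤ H := Subgroup.map_subtype_le _
  by_cases hN1 : N = ⊥
  swap
  · have hq := h.quot N hNH
    have hlt : Nat.card (G ⧸ N) < n := hn ▸ quot_card_lt N hN1
    haveI : Group.IsSolvable (G ⧸ N) := solvable_of_surjective (QuotientGroup.mk'_surjective N)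
    have h1 := IH _ hlt (G ⧸ N) _ _ _ rfl hq
    apply plengthLE_one_of_surjective_coprime_ker ((QuotientGroup.mk' N).subgroupMap H)
      (MonoidHom.subgroupMap_surjective _ _) _ h1
    rw [ker_subgroupMap, hN, subgroupOf_map_subtype']
    exact Helper22.card_pPrimeCore_coprime p
  have hO : pPrimeCore p ↥H = ⊥ :=
    (Subgroup.map_eq_bot_iff_of_injective _ H.subtype_injective).mp hN1
  -- step (c): `Φ(O_p(H)) = 1`
  haveI : (pCore p ↥H).Characteristic := Helper7.pCore_characteristic p
  haveI hTn : (pCore p ↥H).Normal := inferInstance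
  set T : Subgroup ↥H := pCore p ↥H with hT
  have hTp : IsPGroup p ↥T := Helper10.pCore_isPGroup p
  set Φ' : Subgroup ↥H := (frattini ↥T).map T.subtype with hΦ'
  haveI hΦ'c : Φ'.Characteristic := characteristic_map_subtype T (frattini ↥T)
  haveI hΦ'n : Φ'.Normal := inferInstance
  set Φ : Subgroup G := Φ'.map H.subtype with hΦ
  haveI hΦn : Φ.Normal := ConjAct.normal_of_characteristic_of_normal
  have hΦH : Φ ≤ H := Subgroup.map_subtype_le _
  haveI hHsolv : Group.IsSolvable ↥H := inferInstance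
  by_cases hΦ1 : Φ = ⊥
  swap
  · have hq := h.quot Φ hΦH
    have hlt : Nat.card (G ⧸ Φ) < n := hn ▸ quot_card_lt Φ hΦ1
    haveI : Group.IsSolvable (G ⧸ Φ) := solvable_of_surjective (QuotientGroup.mk'_surjective Φ)
    have h1 := IH _ hlt (G ⧸ Φ) _ _ _ rfl hq
    have h2 : PLengthLE p 1 (↥H ⧸ Φ') := plengthLE_quot Φ p h1 Φ' hΦ
    exact plengthLE_one_of_quotient_frattini hO Φ' le_rfl h2
  have hfr : frattini ↥T = ⊥ := by
    have h1 : Φ' = ⊥ := (Subgroup.map_eq_bot_iff_of_injective _ H.subtype_injective).mp hΦ1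
    exact (Subgroup.map_eq_bot_iff_of_injective _ T.subtype_injective).mp h1
  -- step (d): the core
  have hTcomm : ∀ a b : ↥T, a * b = b * a := by
    intro a b
    have h1 : a * b * a⁻¹ * b⁻¹ ∈ _root_.commutator ↥T := by
      rw [_root_.commutator_def]
      exact Subgroup.commutator_mem_commutator (Subgroup.mem_top a) (Subgroup.mem_top b)
    have h2 := Helper23.commutator_le_frattini_pgroup p hTp h1
    rw [hfr, Subgroup.mem_bot] at h2
    calc a * b = (a * b * a⁻¹ * b⁻¹) * (b * a) := by group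
      _ = b * a := by rw [h2, one_mul]
  have hTexp : ∀ a : ↥T, a ^ p = 1 := by
    intro a
    have h1 := Helper22.pow_prime_mem_frattini hTp a
    rwa [hfr, Subgroup.mem_bot] at h1
  set V : Subgroup G := T.map H.subtype with hV
  haveI hVn : V.Normal := ConjAct.normal_of_characteristic_of_normal
  have hVH : V ≤ H := Subgroup.map_subtype_le _
  have hVel : Cfsg.IsElementaryAbelian p V := by
    refine ⟨⟨⟨?_⟩⟩, ?_⟩
    · rintro ⟨a, ha⟩ ⟨b, hb⟩
      obtain ⟨a', ha', rfl⟩ := ha
      obtain ⟨b', hb', rfl⟩ := hb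
      apply Subtype.ext
      have := hTcomm ⟨a', ha'⟩ ⟨b', hb'⟩
      have h2 := congrArg (fun z : ↥T => ((z : ↥H) : G)) this
      exact h2
    · intro a ha
      obtain ⟨a', ha', rfl⟩ := ha
      have := hTexp ⟨a', ha'⟩
      have h2 := congrArg (fun z : ↥T => ((z : ↥H) : G)) this
      exact h2
  have hHH : centralizer (T : Set ↥H) ≤ T :=
    Helper23.PSolv.centralizer_pCore_le
      (Cfsg.Agent.S4227.isPSolvable_of_isSolvable inferInstance p) hO
  have hCV : H ⊓ centralizer (V : Set G) ≤ V := by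
    rintro g ⟨hgH, hgC⟩
    have h1 : (⟨g, hgH⟩ : ↥H) ∈ centralizer (T : Set ↥H) := by
      rw [Subgroup.mem_centralizer_iff]
      intro t ht
      apply Subtype.ext
      have h2 : ((t : ↥H) : G) ∈ V := ⟨t, ht, rfl⟩
      exact Subgroup.mem_centralizer_iff.mp hgC _ h2
    exact ⟨⟨g, hgH⟩, hHH h1, rfl⟩
  have hmax : ∀ N' : Subgroup G, N'.Normal → N' ≤ H → IsPGroup p ↥N' → N' ≤ V := by
    intro N' hN'n hN'H hN'p
    haveI := hN'n
    have h1 : (N'.subgroupOf H).Normal := inferInstance
    have h2 : IsPGroup p ↥(N'.subgroupOf H) := hN'p.comap_subtype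
    have h3 : N'.subgroupOf H ≤ T := le_sSup ⟨h1, h2⟩
    intro g hg
    exact ⟨⟨g, hN'H hg⟩, h3 hg, rfl⟩
  have hnd : ¬ p ∣ V.relIndex H :=
    hcore G h.odd H R X h.hall h.compl h.le h.prime h.zgroup p h.comm V hVH hVel hCV hmax
  have hidx : T.index.Coprime p := by
    have h1 : V.relIndex H = T.index := by
      rw [Subgroup.relIndex, hV, subgroupOf_map_subtype']
    rw [h1] at hnd
    exact ((Nat.Prime.coprime_iff_not_dvd hpp).mpr hnd).symm
  exact plengthLE_one_of_normal_pGroup T hTp hidx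


/-- the hypotheses of B&G Theorem 3.6 restricted to `K = [H,R]R` -/
theorem hyp_restrict {G : Type u} [Group G] [Finite G] [Group.IsSolvable G]
    (hodd : Odd (Nat.card G)) (H R R₀ : Subgroup G) [H.Normal]
    (hHall : (Nat.card ↥H).Coprime H.index) (hR : Subgroup.IsComplement' H R) (hR₀ : R₀ ≤ R)
    (hR₀p : (Nat.card ↥R₀).Prime) (hZ : IsZGroup ↥(H ⊓ Subgroup.centralizer (R₀ : Set G))) :
    Hyp ↥(⁅H, R⁆ ⊔ R) ((⁅H, R⁆ : Subgroup G).subgroupOf (⁅H, R⁆ ⊔ R)) (R.subgroupOf (⁅H, R⁆ ⊔ R))
      (R₀.subgroupOf (⁅H, R⁆ ⊔ R)) := by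
  set L : Subgroup G := ⁅H, R⁆ with hL
  set K : Subgroup G := L ⊔ R with hK
  have hLK : L ≤ K := le_sup_left
  have hRK : R ≤ K := le_sup_right
  have hLH : L ≤ H := Subgroup.commutator_le_left H R
  have hidx : H.index = Nat.card ↥R := hR.symm.index_eq_card
  have hcopHR : (Nat.card ↥H).Coprime (Nat.card ↥R) := by rw [← hidx]; exact hHall
  have hRNH : R ≤ normalizer (H : Set G) := by rw [Subgroup.normalizer_eq_top]; exact le_top
  have hRNL : R ≤ normalizer (L : Set G) :=
    (le_inf hRNH Subgroup.le_normalizer).trans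
      (Helper7.normalizer_inf_normalizer_le_normalizer_commutator H R)
  have hKNL : K ≤ normalizer (L : Set G) := sup_le Subgroup.le_normalizer hRNL
  haveI hn : (L.subgroupOf K).Normal := (Subgroup.normal_subgroupOf_iff_le_normalizer hLK).mpr hKNL
  have hcardL : Nat.card ↥(L.subgroupOf K) = Nat.card ↥L :=
    Nat.card_congr (Subgroup.subgroupOfEquivOfLe hLK).toEquiv
  have hcardR : Nat.card ↥(R.subgroupOf K) = Nat.card ↥R :=
    Nat.card_congr (Subgroup.subgroupOfEquivOfLe hRK).toEquiv
  have hcardX : Nat.card ↥(R₀.subgroupOf K) = Nat.card ↥R₀ :=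
    Nat.card_congr (Subgroup.subgroupOfEquivOfLe (hR₀.trans hRK)).toEquiv
  have hcop : (Nat.card ↥(L.subgroupOf K)).Coprime (Nat.card ↥(R.subgroupOf K)) := by
    rw [hcardL, hcardR]
    exact Nat.Coprime.coprime_dvd_left (Subgroup.card_dvd_of_le hLH) hcopHR
  have hcompl : IsComplement' (L.subgroupOf K) (R.subgroupOf K) := by
    apply Subgroup.isComplement'_of_disjoint_and_mul_eq_univ
    · exact Subgroup.disjoint_of_coprime_natCard hcop
    · rw [← Subgroup.normal_mul, ← Subgroup.subgroupOf_sup hLK hRK, Subgroup.subgroupOf_self]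
      rfl
  refine ⟨Odd.of_dvd_nat hodd (Subgroup.card_subgroup_dvd_card K), hn, ?_, hcompl,
    Subgroup.comap_mono hR₀, ?_, ?_, ?_⟩
  · rw [hcompl.symm.index_eq_card]; exact hcop
  · rw [hcardX]; exact hR₀p
  · -- Z-group
    set D : Subgroup ↥K := L.subgroupOf K ⊓ centralizer ((R₀.subgroupOf K : Subgroup ↥K) : Set ↥K)
      with hD
    have hmem : ∀ x : ↥D, (K.subtype.comp D.subtype) x ∈ H ⊓ centralizer (R₀ : Set G) := by
      rintro ⟨x, hx1, hx2⟩
      refine ⟨hLH hx1, ?_⟩
      show (x : G) ∈ centralizer (R₀ : Set G)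
      rw [Subgroup.mem_centralizer_iff]
      intro r hr
      have h1 : (⟨r, hRK (hR₀ hr)⟩ : ↥K) ∈ R₀.subgroupOf K := hr
      have h2 := Subgroup.mem_centralizer_iff.mp hx2 _ h1
      exact congrArg Subtype.val h2
    set f : ↥D →* ↥(H ⊓ centralizer (R₀ : Set G)) :=
      (K.subtype.comp D.subtype).codRestrict _ hmem with hf
    have hfinj : Function.Injective f := by
      intro a b hab
      have h1 : ((a : ↥K) : G) = ((b : ↥K) : G) :=
        congrArg (fun z : ↥(H ⊓ centralizer (R₀ : Set G)) => (z : G)) hab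
      exact Subtype.ext (Subtype.ext h1)
    exact IsZGroup.of_injective hfinj
  · -- `[[H,R],R] = [H,R]`
    apply Subgroup.map_injective K.subtype_injective
    rw [Subgroup.map_commutator, Subgroup.map_subgroupOf_eq_of_le hLK,
      Subgroup.map_subgroupOf_eq_of_le hRK, hL]
    exact Cfsg.Agent.S0027.result R H hRNH hcopHR.symm (Or.inr inferInstance)

/-- **B&G Theorem 3.6**, modulo the core statement -/
theorem main (hcore : CoreStmt.{u}) {G : Type u} [Group G] [Finite G] [Group.IsSolvable G]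
    (hodd : Odd (Nat.card G)) (H R R₀ : Subgroup G) [H.Normal]
    (hHall : (Nat.card ↥H).Coprime H.index) (hR : Subgroup.IsComplement' H R) (hR₀ : R₀ ≤ R)
    (hR₀p : (Nat.card ↥R₀).Prime) (hZ : IsZGroup ↥(H ⊓ Subgroup.centralizer (R₀ : Set G)))
    (p : ℕ) [Fact p.Prime] : Cfsg.PLengthLE p 1 ↥⁅H, R⁆ := by
  have hyp := hyp_restrict hodd H R R₀ hHall hR hR₀ hR₀p hZ
  have h1 := plengthLE_one_aux hcore p _ ↥(⁅H, R⁆ ⊔ R) _ _ _ rfl hyp
  exact plengthLE_of_mulEquiv (Subgroup.subgroupOfEquivOfLe (le_sup_left : ⁅H, R⁆ ≤ ⁅H, R⁆ ⊔ R)) h1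

end Cfsg.Agent.Helper3.BG36R
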