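import Mathlib
import Cfsg.Agent.Lib.Helper20.E8TLat

/-!
# S2375 piece IRR (helper3): generic linear algebra over `ℚ` for an irreducible annihilating polynomial
-/

set_option autoImplicit false

open Polynomial

namespace Cfsg.Agent.Helper20.E8T

/-- `f` irreducible, `f(N) y = 0`, `y ≠ 0`: then `y, N y, ..., N^(deg f - 1) y` are linearly independent -/
theorem irr_indep (N : Matrix (Fin 8) (Fin 8) ℚ) (f : ℚ[X]) (hf : Irreducible f) (y : Fin 8 → ℚ)
    (hN : (aeval N f).mulVec y = 0) (hy : y ≠ 0) :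
    LinearIndependent ℚ (fun j : Fin f.natDegree => (N ^ j.val).mulVec y) := by
  rw [Fintype.linearIndependent_iff]
  intro c hc
  set g : ℚ[X] := ∑ j : Fin f.natDegree, C (c j) * X ^ (j : ℕ) with hg
  have hgN : (aeval N g).mulVec y = 0 := by
    rw [hg, map_sum, Matrix.sum_mulVec, ← hc]
    refine Finset.sum_congr rfl fun j _ => ?_
    rw [map_mul, aeval_C, map_pow, aeval_X, Algebra.algebraMap_eq_smul_one, smul_mul_assoc, one_mul,
      Matrix.smul_mulVec]
  have hdeg : g.degree < f.natDegree := Polynomial.degree_sum_fin_lt c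
  by_cases hg0 : g = 0
  · intro j
    have h1 : g.coeff (j : ℕ) = c j := by
      rw [hg, Polynomial.finset_sum_coeff]
      simp only [Polynomial.coeff_C_mul_X_pow]
      rw [Finset.sum_eq_single j]
      · simp
      · intro b _ hb
        rw [if_neg]
        intro hjb
        exact hb (Fin.ext hjb.symm)
      · intro h
        exact absurd (Finset.mem_univ j) h
    rw [hg0] at h1
    simpa using h1.symm
  · exfalso
    have hndvd : ¬ f ∣ g := by
      intro hdvd
      have h1 := Polynomial.degree_le_of_dvd hdvd hg0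
      rw [Polynomial.degree_eq_natDegree hf.ne_zero] at h1
      exact absurd (lt_of_le_of_lt h1 hdeg) (lt_irrefl _)
    have hcop : IsCoprime f g := (EuclideanDomain.dvd_or_coprime f g hf).resolve_left hndvd
    obtain ⟨a, b, hab⟩ := hcop
    apply hy
    have h1 : (aeval N (a * f + b * g)).mulVec y = y := by
      rw [hab, map_one, Matrix.one_mulVec]
    rw [map_add, map_mul, map_mul, Matrix.add_mulVec, ← Matrix.mulVec_mulVec, ← Matrix.mulVec_mulVec, hN, hgN,
      Matrix.mulVec_zero, Matrix.mulVec_zero, add_zero] at h1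
    exact h1.symm

/-- `irr_indep` with the degree given by a number -/
theorem e8tirr_indep (N : Matrix (Fin 8) (Fin 8) ℚ) (f : ℚ[X]) (hf : Irreducible f) (y : Fin 8 → ℚ)
    (hN : (aeval N f).mulVec y = 0) (hy : y ≠ 0) (d : ℕ) (hd : f.natDegree = d) :
    LinearIndependent ℚ (fun j : Fin d => (N ^ j.val).mulVec y) := by
  subst hd
  exact irr_indep N f hf y hN hy

/-- an integral `8 × 8` matrix of prime order `r > 9` does not exist -/
theorem tors (M : Matrix (Fin 8) (Fin 8) ℤ) (r : ℕ) (hr : r.Prime) (h9 : 9 < r) (h : M ^ r = 1) : M = 1 := by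
  by_contra hne
  set N : Matrix (Fin 8) (Fin 8) ℚ := (Int.castRingHom ℚ).mapMatrix M with hNdef
  have hNr : N ^ r = 1 := by
    rw [hNdef, ← map_pow, h, map_one]
  have hN1 : N ≠ 1 := by
    intro h1
    apply hne
    have hinj : Function.Injective ((Int.castRingHom ℚ).mapMatrix (m := Fin 8)) := by
      intro A B hAB
      ext i j
      have := congrFun (congrFun hAB i) j
      simpa using this
    apply hinj
    rw [map_one]
    exact h1
  obtain ⟨z, hz⟩ : ∃ z, (N - 1).mulVec z ≠ 0 := by
    by_contra hall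
    push Not at hall
    apply hN1
    have h0 : N - 1 = 0 := by
      ext i j
      have := congrFun (hall (Pi.single j 1)) i
      simpa using this
    exact sub_eq_zero.1 h0
  haveI : Fact r.Prime := ⟨hr⟩
  have hirr : Irreducible (cyclotomic r ℚ) := cyclotomic.irreducible_rat hr.pos
  have hkill : (aeval N (cyclotomic r ℚ)).mulVec ((N - 1).mulVec z) = 0 := by
    rw [Matrix.mulVec_mulVec]
    have h1 : aeval N (cyclotomic r ℚ) * (N - 1) = N ^ r - 1 := by
      have := congrArg (aeval N) (cyclotomic_prime_mul_X_sub_one ℚ r)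
      simpa using this
    rw [h1, hNr, sub_self, Matrix.zero_mulVec]
  have hind := irr_indep N _ hirr _ hkill hz
  have hcard := hind.fintype_card_le_finrank
  rw [natDegree_cyclotomic, Nat.totient_prime hr] at hcard
  simp at hcard
  omega

/-- the 30th cyclotomic polynomial over `ℚ` -/
theorem e8tirr_cyc30 : cyclotomic 30 ℚ = X ^ 8 + X ^ 7 - X ^ 5 - X ^ 4 - X ^ 3 + X + 1 := by
  have h2 : cyclotomic 2 ℚ = X + 1 := cyclotomic_two ℚ
  have h6 : cyclotomic 6 ℚ = X ^ 2 - X + 1 := by
    have h := cyclotomic_expand_eq_cyclotomic_mul (p := 3) (n := 2) (by norm_num) (by norm_num) ℚ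
    rw [h2] at h
    have hne : (X + 1 : ℚ[X]) ≠ 0 := (monic_X_add_C (1 : ℚ)).ne_zero
    apply mul_right_cancel₀ hne
    rw [← h]
    simp only [map_add, expand_X, map_one]
    ring
  have h := cyclotomic_expand_eq_cyclotomic_mul (p := 5) (n := 6) (by norm_num) (by norm_num) ℚ
  rw [h6] at h
  have hne : (X ^ 2 - X + 1 : ℚ[X]) ≠ 0 := by
    rw [← h6]
    exact cyclotomic_ne_zero 6 ℚ
  apply mul_right_cancel₀ hne
  have h30 : (6 * 5 : ℕ) = 30 := by norm_num
  rw [h30] at h
  rw [← h]
  simp only [map_add, map_sub, map_pow, expand_X, map_one]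
  ring

/-- the cast of `Phi30M` -/
theorem e8tirr_aeval (M : Matrix (Fin 8) (Fin 8) ℤ) :
    aeval ((Int.castRingHom ℚ).mapMatrix M) (cyclotomic 30 ℚ) = (Int.castRingHom ℚ).mapMatrix (Phi30M M) := by
  rw [e8tirr_cyc30]
  unfold Phi30M
  simp only [map_add, map_sub, map_pow, aeval_X, map_one]

theorem krylov_det_ne_zero (M : Matrix (Fin 8) (Fin 8) ℤ) (h : Phi30M M = 0) (y : Fin 8 → ℤ) (hy : y ≠ 0) :
    (krylov M y).det ≠ 0 := by
  set N : Matrix (Fin 8) (Fin 8) ℚ := (Int.castRingHom ℚ).mapMatrix M with hNdef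
  set yq : Fin 8 → ℚ := fun i => (y i : ℚ) with hyq
  have hirr : Irreducible (cyclotomic 30 ℚ) := cyclotomic.irreducible_rat (by norm_num)
  have hyq0 : yq ≠ 0 := by
    intro h0
    apply hy
    funext i
    have := congrFun h0 i
    simpa [hyq] using this
  have hkill : (aeval N (cyclotomic 30 ℚ)).mulVec yq = 0 := by
    rw [hNdef, e8tirr_aeval, h, map_zero, Matrix.zero_mulVec]
  have hdeg : (cyclotomic 30 ℚ).natDegree = 8 := by
    rw [natDegree_cyclotomic]
    decide
  have hind := e8tirr_indep N _ hirr yq hkill hyq0 8 hdeg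
  -- the columns of the cast of `krylov M y`
  have hcol : ((Int.castRingHom ℚ).mapMatrix (krylov M y)).col = fun j : Fin 8 => (N ^ j.val).mulVec yq := by
    funext j i
    have h1 : N ^ j.val = (Int.castRingHom ℚ).mapMatrix (M ^ j.val) := by
      rw [hNdef, map_pow]
    rw [h1]
    simp only [Matrix.col, Matrix.transpose_apply, RingHom.mapMatrix_apply, Matrix.map_apply, krylov,
      Matrix.of_apply, Matrix.mulVec, dotProduct, hyq]
    rw [map_sum]
    refine Finset.sum_congr rfl fun x _ => ?_
    rw [map_mul]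
    rfl
  rw [← hcol, Matrix.linearIndependent_cols_iff_isUnit, Matrix.isUnit_iff_isUnit_det] at hind
  have hdet : ((Int.castRingHom ℚ).mapMatrix (krylov M y)).det = ((krylov M y).det : ℚ) := by
    rw [← RingHom.map_det]
    rfl
  rw [hdet] at hind
  intro h0
  rw [h0] at hind
  simp at hind

/-- `1` is not an eigenvalue (`Φ₃₀(1) = 1`) -/
theorem no_fixed (M : Matrix (Fin 8) (Fin 8) ℤ) (h : Phi30M M = 0) (y : Fin 8 → ℤ) (hy : M.mulVec y = y) : y = 0 := by
  have hpow : ∀ k : ℕ, (M ^ k).mulVec y = y := by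
    intro k
    induction k with
    | zero => rw [pow_zero, Matrix.one_mulVec]
    | succ k ih => rw [pow_succ, ← Matrix.mulVec_mulVec, hy, ih]
  have h1 := congrArg (fun A : Matrix (Fin 8) (Fin 8) ℤ => A.mulVec y) h
  simp only [Phi30M, Matrix.add_mulVec, Matrix.sub_mulVec, hpow, hy, Matrix.one_mulVec, Matrix.zero_mulVec] at h1
  funext i
  have h2 := congrFun h1 i
  simp only [Pi.add_apply, Pi.sub_apply, Pi.zero_apply] at h2
  simp only [Pi.zero_apply]
  omega

end Cfsg.Agent.Helper20.E8T
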