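import Mathlib
import Cfsg.Agent.Lib.Helper20.E8TLat
import Cfsg.Agent.Lib.Helper18.E8TPD8
import Cfsg.Agent.Lib.Helper18.E8TFINORD
import Cfsg.Agent.Lib.Helper4.E8TTRDET
import Cfsg.Agent.Lib.Helper3.E8TIRR

/-!
# S2375 piece HAD (helper3): the Krylov determinant of a root is nonzero and at most `16` in absolute value
-/

set_option autoImplicit false

namespace Cfsg.Agent.Helper20.E8T

/-- the Gram matrix of the columns of `B` -/
theorem e8thad_gram (B : Matrix (Fin 8) (Fin 8) ℤ) (i j : Fin 8) :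
    (B.transpose * C8 * B) i j = ip (fun a => B a i) (fun a => B a j) := by
  simp only [Matrix.mul_apply, Matrix.transpose_apply, ip, dotProduct, Matrix.mulVec, Finset.sum_mul,
    Finset.mul_sum]
  rw [Finset.sum_comm]
  refine Finset.sum_congr rfl fun a _ => Finset.sum_congr rfl fun b _ => ?_
  ring

theorem had_bound (M : Matrix (Fin 8) (Fin 8) ℤ) (hM : IsGood M) (v : ℕ) (hv : v < 240) :
    (krylov M (rc v)).det ≠ 0 ∧ |(krylov M (rc v)).det| ≤ 16 := by
  obtain ⟨hW, hPhi⟩ := hM
  have hv0 : rc v ≠ 0 := by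
    intro h0
    have h1 := ip_rc v hv
    rw [h0, ip_zero_left] at h1
    norm_num at h1
  have hdet := krylov_det_ne_zero M hPhi (rc v) hv0
  refine ⟨hdet, ?_⟩
  set B : Matrix (Fin 8) (Fin 8) ℤ := krylov M (rc v) with hB
  set G : Matrix (Fin 8) (Fin 8) ℤ := B.transpose * C8 * B with hG
  have hdiag : ∀ j, G j j = 2 := by
    intro j
    rw [hG, e8thad_gram]
    have hcol : (fun a => B a j) = (M ^ j.val).mulVec (rc v) := by
      funext a
      rfl
    rw [hcol, isw_ip (isw_pow hW j.val), ip_rc v hv]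
  have htrace : G.trace = 16 := by
    unfold Matrix.trace
    simp only [Matrix.diag_apply, hdiag]
    simp
  have hGdet : G.det = B.det ^ 2 := by
    rw [hG, Matrix.det_mul, Matrix.det_mul, Matrix.det_transpose, c8_det]
    ring
  -- cast to the reals
  set f : ℤ →+* ℝ := Int.castRingHom ℝ with hf
  have hGR : f.mapMatrix G = (f.mapMatrix B).conjTranspose * C8.map (Int.cast : ℤ → ℝ) * f.mapMatrix B := by
    rw [Matrix.conjTranspose_eq_transpose_of_trivial, hG, map_mul, map_mul]
    rfl
  have hpsd : (f.mapMatrix G).PosSemidef := by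
    rw [hGR]
    exact c8_psd.conjTranspose_mul_mul_same _
  have h1 := trdet _ hpsd
  have hdetR : (f.mapMatrix G).det = ((B.det ^ 2 : ℤ) : ℝ) := by
    rw [← RingHom.map_det, hGdet]
    rfl
  have htrR : (f.mapMatrix G).trace = 16 := by
    have : (f.mapMatrix G).trace = f G.trace := by
      unfold Matrix.trace
      rw [map_sum]
      rfl
    rw [this, htrace]
    simp [hf]
  rw [hdetR, htrR] at h1
  have h2 : ((B.det ^ 2 : ℤ) : ℝ) ≤ ((256 : ℤ) : ℝ) := by
    refine h1.trans ?_
    norm_num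
  have h3 : B.det ^ 2 ≤ 256 := by exact_mod_cast h2
  rw [abs_le]
  constructor <;> nlinarith

end Cfsg.Agent.Helper20.E8T
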