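import Mathlib

/-!
# S0448 (helper3): arithmetic definitions for the `C(t) ≅ Z2 × A5` lattice.  See plans/S0448_proof.md.
Everything here is over an arbitrary finite index type `ι` (the irreducible characters of `G`).
-/

set_option autoImplicit false

namespace Cfsg.Agent.Helper3.J1A

variable {ι : Type*} [Fintype ι]

/-- Column orthogonality for the value functions `T U M N` (values at `t`, `w = t x`; `X(v) = (M + N√5)/2`,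
`X(v³) = (M - N√5)/2`, `v = t y`) and the degree function `D`; `g = |G|`. -/
structure Ortho (T U M N D : ι → ℤ) (g : ℕ) : Prop where
  tt : ∑ X, T X * T X = 120
  uu : ∑ X, U X * U X = 6
  mm : ∑ X, M X * M X = 20
  nn : ∑ X, N X * N X = 4
  tu : ∑ X, T X * U X = 0
  tm : ∑ X, T X * M X = 0
  tn : ∑ X, T X * N X = 0
  um : ∑ X, U X * M X = 0
  un : ∑ X, U X * N X = 0
  mn : ∑ X, M X * N X = 0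
  dt : ∑ X, D X * T X = 0
  du : ∑ X, D X * U X = 0
  dm : ∑ X, D X * M X = 0
  dn : ∑ X, D X * N X = 0
  dd : ∑ X, D X * D X = g

/-- The congruences between the values, and the conditions from the restriction to the Sylow 2-subgroup `E8`
(`o` is the principal character). -/
structure Cong (o : ι) (T U M N D : ι → ℤ) : Prop where
  c3 : ∀ X, (3 : ℤ) ∣ T X - U X
  c10 : ∀ X, (10 : ℤ) ∣ M X - 2 * T X - 5 * N X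
  e8 : ∀ X, (8 : ℤ) ∣ D X - T X
  e8a : ∀ X, X ≠ o → T X + 8 ≤ D X
  e8b : ∀ X, 0 ≤ D X + 7 * T X

/-- The class-constant equations `∑ T² · (value) / D = nInv(z) · 120² / g`. -/
structure CCEq (T U M N D : ι → ℤ) (g : ℕ) : Prop where
  t : ∑ X, ((T X : ℚ) ^ 2 * T X / D X) = 432000 / g
  u : ∑ X, ((T X : ℚ) ^ 2 * U X / D X) = 86400 / g
  m : ∑ X, ((T X : ℚ) ^ 2 * M X / D X) = 288000 / g
  n : ∑ X, ((T X : ℚ) ^ 2 * N X / D X) = 0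

/-- All the value data. -/
structure Vals (o : ι) (T U M N D : ι → ℤ) (g : ℕ) : Prop where
  oT : T o = 1
  oU : U o = 1
  oM : M o = 2
  oN : N o = 0
  oD : D o = 1
  Dpos : ∀ X, 0 < D X
  cong : Cong o T U M N D
  ortho : Ortho T U M N D g
  cceq : CCEq T U M N D g
  g8 : 8 ∣ g
  g16 : ¬ 16 ∣ g
  g120 : 120 ∣ g

/-- `T` in lattice coordinates -/
def tau (u a b c : ι → ℤ) (X : ι) : ℤ := 4 * u X + 3 * a X + 3 * b X - 5 * c X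

/-- The lattice coordinates `u a b c` (multiplicities of the induced generalized characters
`((1-ε)⊗ψ)^G`, `ψ = χ4, 1+χ3, 1+χ3', 1-χ5`): Gram matrix, degree equations, class equations, the
`E8` conditions, the principal character `o`. -/
structure Lat (o : ι) (u a b c D : ι → ℤ) (g : ℕ) : Prop where
  ou : u o = 0
  oa : a o = 1
  ob : b o = 1
  oc : c o = 1
  oD : D o = 1
  Dpos : ∀ X, 0 < D X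
  uu : ∑ X, u X * u X = 2
  aa : ∑ X, a X * a X = 4
  bb : ∑ X, b X * b X = 4
  cc : ∑ X, c X * c X = 4
  ab : ∑ X, a X * b X = 2
  ac : ∑ X, a X * c X = 2
  bc : ∑ X, b X * c X = 2
  ua : ∑ X, u X * a X = 0
  ub : ∑ X, u X * b X = 0
  uc : ∑ X, u X * c X = 0
  Du : ∑ X, D X * u X = 0
  Da : ∑ X, D X * a X = 0
  Db : ∑ X, D X * b X = 0
  Dc : ∑ X, D X * c X = 0
  Cu : ∑ X, ((tau u a b c X : ℚ) ^ 2 * u X / D X) = 0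
  Ca : ∑ X, ((tau u a b c X : ℚ) ^ 2 * a X / D X) = 144000 / g
  Cb : ∑ X, ((tau u a b c X : ℚ) ^ 2 * b X / D X) = 144000 / g
  Cc : ∑ X, ((tau u a b c X : ℚ) ^ 2 * c X / D X) = 86400 / g
  e8 : ∀ X, (8 : ℤ) ∣ D X - tau u a b c X
  e8a : ∀ X, X ≠ o → tau u a b c X + 8 ≤ D X
  e8b : ∀ X, 0 ≤ D X + 7 * tau u a b c X
  dd : ∑ X, D X * D X = g
  g8 : 8 ∣ g
  g16 : ¬ 16 ∣ g
  g120 : 120 ∣ g

/-- the `a, b, c` part of the NATURAL realization: `y 0 ↦ e(1,1,1)`, `y 1, y 2 ↦ e(1,0,0)`,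
`y 3, y 4 ↦ e(0,1,0)`, `y 5, y 6 ↦ e(0,0,1)` (coordinates `(a,b,c)`), all other vectors zero. -/
structure NatABC (o : ι) (a b c : ι → ℤ) (y : Fin 7 → ι) (e : Fin 7 → ℤ) : Prop where
  inj : Function.Injective y
  ne : ∀ i, y i ≠ o
  sign : ∀ i, e i = 1 ∨ e i = -1
  zero : ∀ X, X ≠ o → (∀ i, X ≠ y i) → a X = 0 ∧ b X = 0 ∧ c X = 0
  v0 : a (y 0) = e 0 ∧ b (y 0) = e 0 ∧ c (y 0) = e 0
  v1 : a (y 1) = e 1 ∧ b (y 1) = 0 ∧ c (y 1) = 0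
  v2 : a (y 2) = e 2 ∧ b (y 2) = 0 ∧ c (y 2) = 0
  v3 : a (y 3) = 0 ∧ b (y 3) = e 3 ∧ c (y 3) = 0
  v4 : a (y 4) = 0 ∧ b (y 4) = e 4 ∧ c (y 4) = 0
  v5 : a (y 5) = 0 ∧ b (y 5) = 0 ∧ c (y 5) = e 5
  v6 : a (y 6) = 0 ∧ b (y 6) = 0 ∧ c (y 6) = e 6

/-- the `a, b, c` part of the FANO realization: `y 0 ↦ e(1,1,0)`, `y 1 ↦ e(1,0,1)`, `y 2 ↦ e(0,1,1)`,
`y 3 ↦ e(1,0,0)`, `y 4 ↦ e(0,1,0)`, `y 5 ↦ e(0,0,1)`, all other vectors zero. -/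
structure FanoABC (o : ι) (a b c : ι → ℤ) (y : Fin 6 → ι) (e : Fin 6 → ℤ) : Prop where
  inj : Function.Injective y
  ne : ∀ i, y i ≠ o
  sign : ∀ i, e i = 1 ∨ e i = -1
  zero : ∀ X, X ≠ o → (∀ i, X ≠ y i) → a X = 0 ∧ b X = 0 ∧ c X = 0
  v0 : a (y 0) = e 0 ∧ b (y 0) = e 0 ∧ c (y 0) = 0
  v1 : a (y 1) = e 1 ∧ b (y 1) = 0 ∧ c (y 1) = e 1
  v2 : a (y 2) = 0 ∧ b (y 2) = e 2 ∧ c (y 2) = e 2
  v3 : a (y 3) = e 3 ∧ b (y 3) = 0 ∧ c (y 3) = 0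
  v4 : a (y 4) = 0 ∧ b (y 4) = e 4 ∧ c (y 4) = 0
  v5 : a (y 5) = 0 ∧ b (y 5) = 0 ∧ c (y 5) = e 5

/-- NATURAL realization: `y 0 ↦ e(0,1,1,1)`, `y 1, y 2 ↦ e(0,1,0,0)`, `y 3, y 4 ↦ e(0,0,1,0)`,
`y 5, y 6 ↦ e(0,0,0,1)`, `y 7, y 8 ↦ e(1,0,0,0)` (coordinates `(u,a,b,c)`), all other vectors zero. -/
structure NatCfg (o : ι) (u a b c : ι → ℤ) (y : Fin 9 → ι) (e : Fin 9 → ℤ) : Prop where
  inj : Function.Injective y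
  ne : ∀ i, y i ≠ o
  sign : ∀ i, e i = 1 ∨ e i = -1
  zero : ∀ X, X ≠ o → (∀ i, X ≠ y i) → u X = 0 ∧ a X = 0 ∧ b X = 0 ∧ c X = 0
  v0 : u (y 0) = 0 ∧ a (y 0) = e 0 ∧ b (y 0) = e 0 ∧ c (y 0) = e 0
  v1 : u (y 1) = 0 ∧ a (y 1) = e 1 ∧ b (y 1) = 0 ∧ c (y 1) = 0
  v2 : u (y 2) = 0 ∧ a (y 2) = e 2 ∧ b (y 2) = 0 ∧ c (y 2) = 0
  v3 : u (y 3) = 0 ∧ a (y 3) = 0 ∧ b (y 3) = e 3 ∧ c (y 3) = 0
  v4 : u (y 4) = 0 ∧ a (y 4) = 0 ∧ b (y 4) = e 4 ∧ c (y 4) = 0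
  v5 : u (y 5) = 0 ∧ a (y 5) = 0 ∧ b (y 5) = 0 ∧ c (y 5) = e 5
  v6 : u (y 6) = 0 ∧ a (y 6) = 0 ∧ b (y 6) = 0 ∧ c (y 6) = e 6
  v7 : u (y 7) = e 7 ∧ a (y 7) = 0 ∧ b (y 7) = 0 ∧ c (y 7) = 0
  v8 : u (y 8) = e 8 ∧ a (y 8) = 0 ∧ b (y 8) = 0 ∧ c (y 8) = 0

/-- FANO realization: `y 0 ↦ e(0,1,1,0)`, `y 1 ↦ e(0,1,0,1)`, `y 2 ↦ e(0,0,1,1)`, `y 3 ↦ e(0,1,0,0)`,
`y 4 ↦ e(0,0,1,0)`, `y 5 ↦ e(0,0,0,1)`, `y 6, y 7 ↦ e(1,0,0,0)`, all other vectors zero. -/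
structure FanoCfg (o : ι) (u a b c : ι → ℤ) (y : Fin 8 → ι) (e : Fin 8 → ℤ) : Prop where
  inj : Function.Injective y
  ne : ∀ i, y i ≠ o
  sign : ∀ i, e i = 1 ∨ e i = -1
  zero : ∀ X, X ≠ o → (∀ i, X ≠ y i) → u X = 0 ∧ a X = 0 ∧ b X = 0 ∧ c X = 0
  v0 : u (y 0) = 0 ∧ a (y 0) = e 0 ∧ b (y 0) = e 0 ∧ c (y 0) = 0
  v1 : u (y 1) = 0 ∧ a (y 1) = e 1 ∧ b (y 1) = 0 ∧ c (y 1) = e 1
  v2 : u (y 2) = 0 ∧ a (y 2) = 0 ∧ b (y 2) = e 2 ∧ c (y 2) = e 2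
  v3 : u (y 3) = 0 ∧ a (y 3) = e 3 ∧ b (y 3) = 0 ∧ c (y 3) = 0
  v4 : u (y 4) = 0 ∧ a (y 4) = 0 ∧ b (y 4) = e 4 ∧ c (y 4) = 0
  v5 : u (y 5) = 0 ∧ a (y 5) = 0 ∧ b (y 5) = 0 ∧ c (y 5) = e 5
  v6 : u (y 6) = e 6 ∧ a (y 6) = 0 ∧ b (y 6) = 0 ∧ c (y 6) = 0
  v7 : u (y 7) = e 7 ∧ a (y 7) = 0 ∧ b (y 7) = 0 ∧ c (y 7) = 0

/-- admissible signed degree `Y = e·D` for a row whose sign-normalized vector has `T`-value `τ`: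
`D ≡ T (mod 8)`, `D ≥ T + 8`, `D + 7T ≥ 0` with `D = |Y|`, `T = sign(Y)·τ`. -/
def Adm (τ Y : ℤ) : Prop :=
  (8 : ℤ) ∣ Y - τ ∧ ((0 < Y ∧ τ + 8 ≤ Y ∧ 0 ≤ Y + 7 * τ) ∨ (Y < 0 ∧ Y ≤ τ - 8 ∧ Y ≤ -7 * τ))

/-- the three-term system of a support `{o, y1, y2, y3}` with squared `T`-values `w1 w2 w3`:
degree equation and class equation -/
def Sys (w1 w2 w3 K : ℚ) (g : ℕ) (Y1 Y2 Y3 : ℤ) : Prop :=
  1 + Y1 + Y2 + Y3 = 0 ∧ (1 : ℚ) + w1 / Y1 + w2 / Y2 + w3 / Y3 = K / g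

/-- the arithmetic content of the NATURAL realization (`Y i = e i * D (y i)`) -/
structure NatSol (g : ℕ) (Y : Fin 9 → ℤ) : Prop where
  a0 : Adm 1 (Y 0)
  a1 : Adm 3 (Y 1)
  a2 : Adm 3 (Y 2)
  a3 : Adm 3 (Y 3)
  a4 : Adm 3 (Y 4)
  a5 : Adm (-5) (Y 5)
  a6 : Adm (-5) (Y 6)
  sa : Sys 1 9 9 144000 g (Y 0) (Y 1) (Y 2)
  sb : Sys 1 9 9 144000 g (Y 0) (Y 3) (Y 4)
  sc : Sys 1 25 25 86400 g (Y 0) (Y 5) (Y 6)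
  su : Y 7 + Y 8 = 0
  bound : 1 + ∑ i, Y i ^ 2 ≤ (g : ℤ)
  g8 : 8 ∣ g
  g16 : ¬ 16 ∣ g
  g120 : 120 ∣ g

/-- the arithmetic content of the FANO realization (`Y i = e i * D (y i)`, `i < 6`) -/
structure FanoSol (g : ℕ) (Y : Fin 6 → ℤ) : Prop where
  a0 : Adm 6 (Y 0)
  a1 : Adm (-2) (Y 1)
  a2 : Adm (-2) (Y 2)
  a3 : Adm 3 (Y 3)
  a4 : Adm 3 (Y 4)
  a5 : Adm (-5) (Y 5)
  sa : Sys 36 4 9 144000 g (Y 0) (Y 1) (Y 3)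
  sb : Sys 36 4 9 144000 g (Y 0) (Y 2) (Y 4)
  sc : Sys 4 4 25 86400 g (Y 1) (Y 2) (Y 5)
  bound : 1 + ∑ i, Y i ^ 2 ≤ (g : ℤ)
  g8 : 8 ∣ g
  g16 : ¬ 16 ∣ g
  g120 : 120 ∣ g

/-- the phantom solution of the NATURAL system (`g = 189000`) -/
structure PhSol (g : ℕ) (Y : Fin 9 → ℤ) : Prop where
  hg : g = 189000
  y0 : Y 0 = -15
  y12 : (Y 1 = 35 ∧ Y 2 = -21) ∨ (Y 1 = -21 ∧ Y 2 = 35)
  y34 : (Y 3 = 35 ∧ Y 4 = -21) ∨ (Y 3 = -21 ∧ Y 4 = 35)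
  y56 : (Y 5 = 35 ∧ Y 6 = -21) ∨ (Y 5 = -21 ∧ Y 6 = 35)

/-- The phantom table of "order 189000": `y 0 = ψ5`, `y 1 = ψ3`, `y 2 = ψ4`, `y 3, y 4 = ψ6, ψ8`,
`y 5, y 6 = ψ7, ψ9`, `y 7, y 8 = ψ1, ψ2`. -/
structure Phantom (o : ι) (T U M D : ι → ℤ) (y : Fin 9 → ι) : Prop where
  inj : Function.Injective y
  ne : ∀ i, y i ≠ o
  zero : ∀ X, X ≠ o → (∀ i, X ≠ y i) → T X = 0 ∧ U X = 0 ∧ M X = 0
  r0 : D (y 0) = 15 ∧ T (y 0) = -1 ∧ U (y 0) = -1 ∧ M (y 0) = -2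
  r1 : D (y 1) = 35 ∧ T (y 1) = -5 ∧ U (y 1) = 1 ∧ M (y 1) = 0
  r2 : D (y 2) = 21 ∧ T (y 2) = 5 ∧ U (y 2) = -1 ∧ M (y 2) = 0
  r3 : T (y 3) = 3 ∧ U (y 3) = 0 ∧ M (y 3) = 1
  r4 : T (y 4) = 3 ∧ U (y 4) = 0 ∧ M (y 4) = 1
  r5 : T (y 5) = -3 ∧ U (y 5) = 0 ∧ M (y 5) = -1
  r6 : T (y 6) = -3 ∧ U (y 6) = 0 ∧ M (y 6) = -1
  r7 : T (y 7) = 4 ∧ U (y 7) = 1 ∧ M (y 7) = -2
  r8 : T (y 8) = -4 ∧ U (y 8) = -1 ∧ M (y 8) = 2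

end Cfsg.Agent.Helper3.J1A
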