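import Mathlib
import Cfsg.Agent.Lib.Lead.SylowTools
import Cfsg.Agent.Lib.Lead.SimpleTools
import Cfsg.Agent.S0904
import Cfsg.Agent.S0991

set_option autoImplicit false

/-!
Toolkit for excluding orders of simple groups by Sylow counting.
-/

namespace Cfsg.Agent.Helper3.SmallOrd

variable {G : Type*} [Group G] [Finite G]

theorem not_comm_of_nonab (hG : ∃ x y : G, x * y ≠ y * x) : ¬ IsMulCommutative G := by
  intro h
  obtain ⟨x, y, hxy⟩ := hG
  exact hxy (h.is_comm.comm x y)

/-- In a nonabelian simple group, twice the order divides the factorial of the index of any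
proper subgroup of index at least 2 (the group embeds in the alternating group). -/
theorem two_mul_card_dvd_factorial_index [IsSimpleGroup G] (hG : ∃ x y : G, x * y ≠ y * x)
    (H : Subgroup G) (hH : H ≠ ⊤) : 2 * Nat.card G ∣ (H.index).factorial := by
  classical
  obtain ⟨f, hf⟩ := Cfsg.Agent.S0991.result (not_comm_of_nonab hG) H hH
  have h1 := Subgroup.card_dvd_of_injective f hf
  have hidx : 2 ≤ H.index := by
    rcases Nat.lt_or_ge H.index 2 with h | h
    · exfalso
      have h0 : H.index ≠ 0 := Subgroup.index_ne_zero_of_finite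
      have : H.index = 1 := by omega
      exact hH (Subgroup.index_eq_one.1 this)
    · exact h
  haveI : Nontrivial (Fin H.index) := Fin.nontrivial_iff_two_le.2 hidx
  have h2 := two_mul_card_alternatingGroup (α := Fin H.index)
  rw [Fintype.card_perm, Fintype.card_fin] at h2
  rw [← h2]
  rw [Nat.card_eq_fintype_card (α := alternatingGroup (Fin H.index))] at h1
  exact Nat.mul_dvd_mul_left 2 h1

/-- Basic Sylow data for a nonabelian simple group of order `p ^ a * m`, `p ∤ m`, `0 < a`. -/
theorem basic [IsSimpleGroup G] (hG : ∃ x y : G, x * y ≠ y * x) {p a m : ℕ} [Fact p.Prime]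
    (ha : 0 < a) (hcard : Nat.card G = p ^ a * m) (hm : ¬ p ∣ m) :
    Nat.card (Sylow p G) ∣ m ∧ Nat.card (Sylow p G) % p = 1 ∧ Nat.card (Sylow p G) ≠ 1 ∧
      2 * Nat.card G ∣ (Nat.card (Sylow p G)).factorial ∧
      ∀ P : Sylow p G, Nat.card (P : Subgroup G) = p ^ a ∧
        Nat.card (Sylow p G) * Nat.card (Subgroup.normalizer ((P : Subgroup G) : Set G)) =
          Nat.card G := by
  have hpp : p.Prime := Fact.out
  obtain ⟨h1, h2, h3⟩ := Cfsg.Agent.Lead.sylow_facts hcard hm
  have hpd : p ∣ Nat.card G := by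
    rw [hcard]
    exact Dvd.dvd.mul_right (dvd_pow_self p ha.ne') m
  obtain ⟨P⟩ : Nonempty (Sylow p G) := inferInstance
  have hN := Cfsg.Agent.Lead.sylow_normalizer_ne_top hG hpd P
  refine ⟨h2, h3, ?_, ?_, fun Q => ⟨h1 Q, Cfsg.Agent.Lead.card_sylow_mul_card_normalizer Q⟩⟩
  · intro h
    apply hN
    rw [P.card_eq_index_normalizer] at h
    exact Subgroup.index_eq_one.1 h
  · rw [P.card_eq_index_normalizer]
    exact two_mul_card_dvd_factorial_index hG _ hN

/-- For a Sylow subgroup of prime order in a nonabelian simple group of order `p * m`: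
`m / n_p` and `p - 1` are not coprime. -/
theorem prime_case [IsSimpleGroup G] (hG : ∃ x y : G, x * y ≠ y * x) {p m : ℕ} [Fact p.Prime]
    (hcard : Nat.card G = p * m) (hm : ¬ p ∣ m) :
    ¬ Nat.Coprime (m / Nat.card (Sylow p G)) (p - 1) := by
  have hpp : p.Prime := Fact.out
  have hcard' : Nat.card G = p ^ 1 * m := by rw [pow_one]; exact hcard
  obtain ⟨h1, -, -, -, h5⟩ := basic hG Nat.one_pos hcard' hm
  obtain ⟨P⟩ : Nonempty (Sylow p G) := inferInstance
  obtain ⟨hP, hN⟩ := h5 P
  rw [pow_one] at hP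
  intro hcop
  apply Cfsg.Agent.Lead.not_coprime_of_prime_sylow hG P hP
  have hnpos : 0 < Nat.card (Sylow p G) := Nat.card_pos
  obtain ⟨k, hk⟩ := h1
  have hNc : Nat.card (Subgroup.normalizer ((P : Subgroup G) : Set G)) = p * k := by
    rw [hcard, hk] at hN
    have : Nat.card (Sylow p G) * Nat.card (Subgroup.normalizer ((P : Subgroup G) : Set G)) =
        Nat.card (Sylow p G) * (p * k) := by rw [hN]; ring
    exact Nat.eq_of_mul_eq_mul_left hnpos this
  rw [hNc, Nat.mul_div_cancel_left _ hpp.pos]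
  rw [hk, Nat.mul_div_cancel_left _ hnpos] at hcop
  exact hcop

/-- For a simple group of order `q ^ b * r ^ c * p` (three distinct primes): `m / n_p` divides
`p - 1` where `m = q ^ b * r ^ c`. -/
theorem three_primes [IsSimpleGroup G] (hG : ∃ x y : G, x * y ≠ y * x) {p q r b c : ℕ}
    [Fact p.Prime] (hq : q.Prime) (hr : r.Prime) (hqr : q ≠ r) (hqp : q ≠ p) (hrp : r ≠ p)
    (hcard : Nat.card G = q ^ b * r ^ c * p) :
    (q ^ b * r ^ c) / Nat.card (Sylow p G) ∣ p - 1 := by
  have hpp : p.Prime := Fact.out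
  have hm : ¬ p ∣ q ^ b * r ^ c := by
    intro h
    rcases (Nat.Prime.dvd_mul hpp).1 h with h | h
    · exact hqp ((Nat.prime_dvd_prime_iff_eq hpp hq).1 (hpp.dvd_of_dvd_pow h)).symm
    · exact hrp ((Nat.prime_dvd_prime_iff_eq hpp hr).1 (hpp.dvd_of_dvd_pow h)).symm
  have hcard' : Nat.card G = p ^ 1 * (q ^ b * r ^ c) := by rw [pow_one, hcard]; ring
  obtain ⟨h1, -, -, -, h5⟩ := basic hG Nat.one_pos hcard' hm
  obtain ⟨P⟩ : Nonempty (Sylow p G) := inferInstance
  obtain ⟨hP, hN⟩ := h5 P
  rw [pow_one] at hP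
  have hC : Subgroup.centralizer ((P : Subgroup G) : Set G) = (P : Subgroup G) :=
    Cfsg.Agent.S0904.result q r p b c hq hr hqr hqp hrp hcard P
  have hk := Cfsg.Agent.Lead.relIndex_centralizer_normalizer_dvd P hP
  rw [hC] at hk
  have hPN : (P : Subgroup G) ≤ Subgroup.normalizer ((P : Subgroup G) : Set G) :=
    Subgroup.le_normalizer
  have hrel : (P : Subgroup G).relIndex (Subgroup.normalizer ((P : Subgroup G) : Set G)) * p =
      Nat.card (Subgroup.normalizer ((P : Subgroup G) : Set G)) := by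
    have := Subgroup.relIndex_mul_relIndex (⊥ : Subgroup G) (P : Subgroup G)
      (Subgroup.normalizer ((P : Subgroup G) : Set G)) bot_le hPN
    rw [Subgroup.relIndex_bot_left, Subgroup.relIndex_bot_left, hP] at this
    rw [← this]; ring
  have hnpos : 0 < Nat.card (Sylow p G) := Nat.card_pos
  obtain ⟨k, hk'⟩ := h1
  have hNc : Nat.card (Subgroup.normalizer ((P : Subgroup G) : Set G)) = p * k := by
    rw [hcard', pow_one, hk'] at hN
    have : Nat.card (Sylow p G) * Nat.card (Subgroup.normalizer ((P : Subgroup G) : Set G)) =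
        Nat.card (Sylow p G) * (p * k) := by rw [hN]; ring
    exact Nat.eq_of_mul_eq_mul_left hnpos this
  rw [hNc] at hrel
  have hrk : (P : Subgroup G).relIndex (Subgroup.normalizer ((P : Subgroup G) : Set G)) = k := by
    have : (P : Subgroup G).relIndex (Subgroup.normalizer ((P : Subgroup G) : Set G)) * p =
        k * p := by rw [hrel]; ring
    exact Nat.eq_of_mul_eq_mul_right hpp.pos this
  rw [hk', Nat.mul_div_cancel_left _ hnpos, ← hrk]
  exact hk

end Cfsg.Agent.Helper3.SmallOrd
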