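import Mathlib

/-!
# S3282 (abstract Brauer--Suzuki--Wall theorem): definitions for the farm-out

See `plans/S3282_proof.md` and the skeletons `plans/S3282_Skel*.lean.txt`.
-/

set_option autoImplicit false

namespace Cfsg.Agent.Helper3.BSW

universe u

/-- The hypotheses of the abstract Brauer--Suzuki--Wall theorem (statement S3282), bundled. -/
structure Hyp {G : Type u} [Group G] (t s : G) (K : Subgroup G) : Prop where
  ht : orderOf t = 2
  hKab : ∀ x ∈ K, ∀ y ∈ K, x * y = y * x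
  hKH : K ≤ Subgroup.centralizer ({t} : Set G)
  htK : t ∈ K
  hs : orderOf s = 2
  hsH : s ∈ Subgroup.centralizer ({t} : Set G)
  hsK : s ∉ K
  hH : K ⊔ Subgroup.zpowers s = Subgroup.centralizer ({t} : Set G)
  hCK : K ⊓ Subgroup.centralizer ({s} : Set G) = Subgroup.zpowers t
  hinv : ∀ x ∈ K, s * x * s⁻¹ = x⁻¹
  hTI : ∀ g : G, g ∉ Subgroup.centralizer ({t} : Set G) →
    K ⊓ K.map (MulAut.conj g).toMonoidHom = ⊥
  hconj : ∀ x y : G, orderOf x = 2 → orderOf y = 2 → IsConj x y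

/-- The conjugate `g K g⁻¹`. -/
def Kc {G : Type u} [Group G] (K : Subgroup G) (g : G) : Subgroup G :=
  K.map (MulAut.conj g).toMonoidHom

/-- `y ≠ 1` is conjugate to an element of `K`. -/
def InKK {G : Type u} [Group G] (K : Subgroup G) (y : G) : Prop :=
  y ≠ 1 ∧ ∃ g : G, g * y * g⁻¹ ∈ K

/-- `y ≠ 1` is not conjugate to an element of `K` (the set `R'` of the plan). -/
def InR {G : Type u} [Group G] (K : Subgroup G) (y : G) : Prop :=
  y ≠ 1 ∧ ∀ g : G, g * y * g⁻¹ ∉ K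

/-- The number of involutions inverting `y`. -/
noncomputable def rc {G : Type u} [Group G] (y : G) : ℕ :=
  Nat.card {u : G // orderOf u = 2 ∧ u * y * u⁻¹ = y⁻¹}

/-- The class multiplication count `#{(c₁, c₂) : (c₁ a c₁⁻¹)(c₂ b c₂⁻¹) = x}`
(the left side of `Cfsg.Agent.Helper10.BR996.class_const`). -/
noncomputable def NC {G : Type u} [Group G] (a b x : G) : ℕ :=
  Nat.card {c : G × G // (c.1 * a * c.1⁻¹) * (c.2 * b * c.2⁻¹) = x}

/-- Output of the character theory in CASE A (`q = 2k+1`): an integer valued class function `St`. -/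
structure StA {G : Type u} [Group G] [Fintype G] (K : Subgroup G) (St : G → ℤ) : Prop where
  card : (Nat.card G : ℤ) =
    2 * (Nat.card K : ℤ) * (2 * (Nat.card K : ℤ) + 1) * ((Nat.card K : ℤ) + 1)
  conj : ∀ g x : G, St (g * x * g⁻¹) = St x
  one : St 1 = 2 * (Nat.card K : ℤ) + 1
  onK : ∀ x ∈ K, x ≠ 1 → St x = 1
  sum : ∑ g : G, St g = 0
  sq : ∑ g : G, St g ^ 2 = (Nat.card G : ℤ)
  rform : ∀ y : G, InR K y → (rc y : ℤ) = 2 * (Nat.card K : ℤ) + 1 + (Nat.card K : ℤ) * St y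

/-- Output of the character theory in CASE B (`q = 2k-1`). -/
structure StB {G : Type u} [Group G] [Fintype G] (K : Subgroup G) (St : G → ℤ) : Prop where
  card : (Nat.card G : ℤ) =
    2 * (Nat.card K : ℤ) * (2 * (Nat.card K : ℤ) - 1) * ((Nat.card K : ℤ) - 1)
  conj : ∀ g x : G, St (g * x * g⁻¹) = St x
  one : St 1 = 2 * (Nat.card K : ℤ) - 1
  onK : ∀ x ∈ K, x ≠ 1 → St x = -1
  sum : ∑ g : G, St g = 0
  sq : ∑ g : G, St g ^ 2 = (Nat.card G : ℤ)
  rform : ∀ y : G, InR K y → (rc y : ℤ) = ((Nat.card K : ℤ) - 1) * St y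

/-- `A` is the centralizer of each of its non-identity elements. -/
def SelfCent {G : Type u} [Group G] (A : Subgroup G) : Prop :=
  ∀ x ∈ A, x ≠ 1 → Subgroup.centralizer ({x} : Set G) = A

/-- The conclusion of S3282. -/
def Concl (G : Type u) [Group G] : Prop :=
  ∃ Q D : Subgroup G, 2 * Nat.card G = Nat.card ↥Q * (Nat.card ↥Q + 1) * (Nat.card ↥Q - 1) ∧
    (∀ x ∈ Q, x ≠ 1 → Subgroup.centralizer ({x} : Set G) = Q) ∧
    IsMulCommutative ↥D ∧ 2 * Nat.card ↥D + 1 = Nat.card ↥Q ∧ Q ⊓ D = ⊥ ∧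
    Subgroup.normalizer (Q : Set G) = Q ⊔ D ∧
    ∀ X : Subgroup G, X ≤ D → X ≠ ⊥ →
      Subgroup.normalizer (X : Set G) = Subgroup.normalizer (D : Set G) ∧
      ∃ u : G, orderOf u = 2 ∧ u ∉ D ∧ (∀ d ∈ D, u * d * u⁻¹ = d⁻¹) ∧
        Subgroup.normalizer (D : Set G) = D ⊔ Subgroup.zpowers u

end Cfsg.Agent.Helper3.BSW
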