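import Mathlib

/-!
# S3282 (abstract Brauer--Suzuki--Wall theorem): definitions for the ARITH part of the farm-out

See `plans/S3282_proof.md` (section A) and `plans/S3282_Skel3.lean.txt`.
Index types: `ι` (for `Irr G`, with the principal character `o`), `J` (for the non-principal linear characters of `K`,
with the involution `inv` = complex conjugation whose only fixed point is `j0`).
-/

set_option autoImplicit false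

namespace Cfsg.Agent.Helper3.BSW

variable {ι J : Type*}

/-- indicator vector `e_X`. -/
def ind [DecidableEq ι] (X i : ι) : ℤ := if i = X then 1 else 0

/-- `τ(i) = -∑_j b(j,i) sgn(j)` (the value at the involution `t`). -/
def tau [Fintype J] (sgn : J → ℤ) (b : J → ι → ℤ) (i : ι) : ℤ := -∑ j, b j i * sgn j

/-- The arithmetic hypotheses: `b j i` = multiplicity of `1_K - μ_j` in `ψ_i|_K`, `deg i = ψ_i(1)`,
`a1 i` = multiplicity of `1_K` in `ψ_i|_K`, `sgn j = μ_j(t)`, `k = |K|`, `g = |G|`. -/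
structure ArithHyp [Fintype ι] [Fintype J] [DecidableEq ι] [DecidableEq J]
    (k g : ℕ) (o : ι) (inv : J → J) (j0 : J) (sgn : J → ℤ) (b : J → ι → ℤ) (deg a1 : ι → ℤ) :
    Prop where
  k_even : Even k
  k_ge : 2 ≤ k
  card_J : Fintype.card J + 1 = k
  inv_inv : ∀ j, inv (inv j) = j
  inv_fix : ∀ j, inv j = j ↔ j = j0
  sgn_sq : ∀ j, sgn j = 1 ∨ sgn j = -1
  sgn_inv : ∀ j, sgn (inv j) = sgn j
  sgn_sum : ∑ j, sgn j = -1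
  b_inv : ∀ j i, b (inv j) i = b j i
  gram : ∀ j j', ∑ i, b j i * b j' i =
    2 + (if j = j' then 1 else 0) + (if j = inv j' then 1 else 0)
  b_o : ∀ j, b j o = 1
  deg_pos : ∀ i, 0 < deg i
  deg_o : deg o = 1
  deg_sum : ∀ j, ∑ i, b j i * deg i = 0
  cong : ∀ i, deg i = (k : ℤ) * a1 i - ∑ j, b j i
  a1_nonneg : ∀ i, 0 ≤ a1 i
  sq_sum : ∑ i, deg i ^ 2 = (g : ℤ)
  eq : ∀ j, ∑ i, (b j i : ℚ) * (tau sgn b i : ℚ) ^ 2 / (deg i : ℚ) = 4 * (k : ℚ) ^ 3 / (g : ℚ)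

/-- `b j = e_o + e_{X j} - e_{Y j}` for all `j ≠ j0`. -/
structure PairData [DecidableEq ι] (o : ι) (inv : J → J) (j0 : J) (b : J → ι → ℤ) (deg : ι → ℤ)
    (X Y : J → ι) : Prop where
  Xo : ∀ j, j ≠ j0 → X j ≠ o
  Yo : ∀ j, j ≠ j0 → Y j ≠ o
  XY : ∀ j, j ≠ j0 → X j ≠ Y j
  bj : ∀ j, j ≠ j0 → ∀ i, b j i = ind o i + ind (X j) i - ind (Y j) i
  degXY : ∀ j, j ≠ j0 → deg (Y j) = deg (X j) + 1
  Xinv : ∀ j, j ≠ j0 → X (inv j) = X j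
  Yinv : ∀ j, j ≠ j0 → Y (inv j) = Y j
  inj : ∀ j j', j ≠ j0 → j' ≠ j0 → X j = X j' → Y j = Y j' → j' = j ∨ j' = inv j

/-- The shapes with a common character `P` (`ε = 1`: type A, `b j = e_o + e_P - e_{S j}`; `ε = -1`: type B,
`b j = e_o - e_P + e_{S j}`) and `b j0 = e_o + ε e_P - ε e_{Z1} - ζ e_{Z2}`
(`ζ = ε`: the good shape; `ζ = -ε`: the exotic shape 1). -/
structure Shape [DecidableEq ι] (o : ι) (inv : J → J) (j0 : J) (b : J → ι → ℤ) (deg : ι → ℤ)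
    (P : ι) (S : J → ι) (Z1 Z2 : ι) (ε ζ : ℤ) : Prop where
  Po : P ≠ o
  So : ∀ j, j ≠ j0 → S j ≠ o
  SP : ∀ j, j ≠ j0 → S j ≠ P
  Z1o : Z1 ≠ o
  Z2o : Z2 ≠ o
  Z1P : Z1 ≠ P
  Z2P : Z2 ≠ P
  Z12 : Z1 ≠ Z2
  SZ1 : ∀ j, j ≠ j0 → S j ≠ Z1
  SZ2 : ∀ j, j ≠ j0 → S j ≠ Z2
  Sinj : ∀ j j', j ≠ j0 → j' ≠ j0 → S j = S j' → j' = j ∨ j' = inv j
  Sinv : ∀ j, j ≠ j0 → S (inv j) = S j
  bj : ∀ j, j ≠ j0 → ∀ i, b j i = ind o i + ε * ind P i - ε * ind (S j) i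
  bj0 : ∀ i, b j0 i = ind o i + ε * ind P i - ε * ind Z1 i - ζ * ind Z2 i
  degS : ∀ j, j ≠ j0 → deg (S j) = deg P + ε
  degZ : ε * deg P - ε * deg Z1 - ζ * deg Z2 = -1

/-- The exotic shape 2 (`k = 6`): `b j = e_o + ε e_P - ε e_{S j}`, `J - {j0} = {j1, inv j1, j2, inv j2}`,
`b j0 = e_o - ε e_{S j1} - ε e_{S j2} + ε e_Z`. -/
structure ShapeE2 [DecidableEq ι] (o : ι) (inv : J → J) (j0 : J) (b : J → ι → ℤ) (deg : ι → ℤ)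
    (P : ι) (S : J → ι) (Z : ι) (j1 j2 : J) (ε : ℤ) : Prop where
  j1ne : j1 ≠ j0
  j2ne : j2 ≠ j0
  j12 : j2 ≠ j1
  j12' : j2 ≠ inv j1
  all : ∀ j, j ≠ j0 → j = j1 ∨ j = inv j1 ∨ j = j2 ∨ j = inv j2
  Po : P ≠ o
  So : ∀ j, j ≠ j0 → S j ≠ o
  SP : ∀ j, j ≠ j0 → S j ≠ P
  S12 : S j1 ≠ S j2
  Zo : Z ≠ o
  ZP : Z ≠ P
  ZS : ∀ j, j ≠ j0 → S j ≠ Z
  Sinv : ∀ j, j ≠ j0 → S (inv j) = S j
  bj : ∀ j, j ≠ j0 → ∀ i, b j i = ind o i + ε * ind P i - ε * ind (S j) i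
  bj0 : ∀ i, b j0 i = ind o i - ε * ind (S j1) i - ε * ind (S j2) i + ε * ind Z i
  degS : ∀ j, j ≠ j0 → deg (S j) = deg P + ε

/-- The final output of ARITH: the good shape with `ζ = ε` and the numbers
`deg P = 2k + ε`, `deg (S j) = 2k + 2ε`, `deg Z = k + ε`, `g = 2k(2k+ε)(k+ε)`. -/
structure Good [DecidableEq ι] (k g : ℕ) (o : ι) (inv : J → J) (j0 : J) (b : J → ι → ℤ)
    (deg : ι → ℤ) (P : ι) (S : J → ι) (Z1 Z2 : ι) (ε : ℤ) : Prop where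
  shape : Shape o inv j0 b deg P S Z1 Z2 ε ε
  degP : deg P = 2 * (k : ℤ) + ε
  degZ1 : deg Z1 = (k : ℤ) + ε
  degZ2 : deg Z2 = (k : ℤ) + ε
  g_eq : (g : ℤ) = 2 * (k : ℤ) * (2 * (k : ℤ) + ε) * ((k : ℤ) + ε)

end Cfsg.Agent.Helper3.BSW
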