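import Mathlib
import Cfsg.Agent.Lib.Helper19.Ord720A3
import Cfsg.Agent.Lib.Helper19.Ord720A4
import Cfsg.Agent.Lib.Helper21.Ord720B1
import Cfsg.Agent.Lib.Helper21.Ord720B4
import Cfsg.Agent.Lib.Helper25.Ord720B3
import Cfsg.Agent.S0344

set_option autoImplicit false
open Cfsg

/-!
No simple group of order 720: assembly of the pieces.
-/

namespace Cfsg.Agent.Helper3.SmallOrd

variable {G : Type*} [Group G] [Finite G] [IsSimpleGroup G]

theorem c720_nonTI (h : Nat.card G = 720) (P R : Sylow 3 G) (hPR : P ≠ R)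
    (hne : (P : Subgroup G) ⊓ (R : Subgroup G) ≠ ⊥) : False := by
  obtain ⟨D, hD, hM, hC⟩ := c720_A3 h P R hPR hne
  exact c720_A4 h D hD hM hC

theorem c720_TI (h : Nat.card G = 720)
    (hTI : ∀ P R : Sylow 3 G, P ≠ R → (P : Subgroup G) ⊓ (R : Subgroup G) = ⊥) : False := by
  obtain ⟨h10, hreg⟩ := c720_B1 h hTI
  obtain ⟨hZ, h8⟩ := Cfsg.Agent.Helper25.Ord720.B3_aux h h10 hreg
  have hnt : ∃ P R : Sylow 3 G, P ≠ R := by
    by_contra hcon
    push Not at hcon
    haveI : Subsingleton (Sylow 3 G) := ⟨fun a b => hcon a b⟩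
    have : Nat.card (Sylow 3 G) ≤ 1 := Finite.card_le_one_iff_subsingleton.2 inferInstance
    omega
  obtain ⟨P, R, hPR⟩ := hnt
  obtain ⟨F, hF, hFin, -, ⟨e⟩⟩ := Cfsg.Agent.S0344.result hZ hPR (by rw [h8 P R hPR]; decide)
  exact card_psl2_ne_720 F (by rw [← Nat.card_congr e.toEquiv, h])

theorem no_simple_720 (h : Nat.card G = 720) : False := by
  by_cases hTI : ∀ P R : Sylow 3 G, P ≠ R → (P : Subgroup G) ⊓ (R : Subgroup G) = ⊥
  · exact c720_TI h hTI
  · push Not at hTI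
    obtain ⟨P, R, hPR, hne⟩ := hTI
    exact c720_nonTI h P R hPR hne

end Cfsg.Agent.Helper3.SmallOrd
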