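import Mathlib

set_option autoImplicit false
set_option maxRecDepth 8000

/-!
Arithmetic classification of the numbers up to 1092 (generated).
-/

namespace Cfsg.Agent.Helper3.SmallOrd

/-- The arithmetic alternatives. -/
def Cls (n : ℕ) : Prop :=
  (∃ p q a b : ℕ, p.Prime ∧ q.Prime ∧ n = p ^ a * q ^ b) ∨
  (∃ m : ℕ, Odd m ∧ 3 ≤ m ∧ n = 2 * m) ∨
  (Even n ∧ ¬ (12 ∣ n ∨ 16 ∣ n ∨ 56 ∣ n)) ∨
  (∃ p : ℕ, n.minFac = p ∧ ¬ p ^ 3 ∣ n ∧ ¬ 12 ∣ n) ∨
  (∃ p q r : ℕ, p.Prime ∧ q.Prime ∧ r.Prime ∧ n = p ^ 2 * q * r) ∨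
  n ∈ ([60, 120, 168, 180, 240, 252, 264, 280, 300, 312, 336, 360, 396, 408, 420, 456, 468, 480, 504, 528, 540, 552, 560, 588, 600, 612, 616, 624, 660, 672, 684, 696, 720, 728, 744, 756, 780, 792, 816, 828, 840, 880, 888, 900, 912, 924, 936, 945, 952, 960, 984, 1008, 1020, 1032, 1040, 1044, 1056, 1064, 1080, 1092] : List ℕ)


theorem cls_1_150 (n : ℕ) (h1 : 1 ≤ n) (h2 : n ≤ 150) : Cls n := by
  unfold Cls
  interval_cases n
  · exact Or.inl ⟨2, 3, 0, 0, by norm_num, by norm_num, by norm_num⟩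
  · exact Or.inl ⟨2, 3, 1, 0, by norm_num, by norm_num, by norm_num⟩
  · exact Or.inl ⟨3, 2, 1, 0, by norm_num, by norm_num, by norm_num⟩
  · exact Or.inl ⟨2, 3, 2, 0, by norm_num, by norm_num, by norm_num⟩
  · exact Or.inl ⟨5, 2, 1, 0, by norm_num, by norm_num, by norm_num⟩
  · exact Or.inl ⟨2, 3, 1, 1, by norm_num, by norm_num, by norm_num⟩
  · exact Or.inl ⟨7, 2, 1, 0, by norm_num, by norm_num, by norm_num⟩
  · exact Or.inl ⟨2, 3, 3, 0, by norm_num, by norm_num, by norm_num⟩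
  · exact Or.inl ⟨3, 2, 2, 0, by norm_num, by norm_num, by norm_num⟩
  · exact Or.inl ⟨2, 5, 1, 1, by norm_num, by norm_num, by norm_num⟩
  · exact Or.inl ⟨11, 2, 1, 0, by norm_num, by norm_num, by norm_num⟩
  · exact Or.inl ⟨2, 3, 2, 1, by norm_num, by norm_num, by norm_num⟩
  · exact Or.inl ⟨13, 2, 1, 0, by norm_num, by norm_num, by norm_num⟩
  · exact Or.inl ⟨2, 7, 1, 1, by norm_num, by norm_num, by norm_num⟩
  · exact Or.inl ⟨3, 5, 1, 1, by norm_num, by norm_num, by norm_num⟩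
  · exact Or.inl ⟨2, 3, 4, 0, by norm_num, by norm_num, by norm_num⟩
  · exact Or.inl ⟨17, 2, 1, 0, by norm_num, by norm_num, by norm_num⟩
  · exact Or.inl ⟨2, 3, 1, 2, by norm_num, by norm_num, by norm_num⟩
  · exact Or.inl ⟨19, 2, 1, 0, by norm_num, by norm_num, by norm_num⟩
  · exact Or.inl ⟨2, 5, 2, 1, by norm_num, by norm_num, by norm_num⟩
  · exact Or.inl ⟨3, 7, 1, 1, by norm_num, by norm_num, by norm_num⟩
  · exact Or.inl ⟨2, 11, 1, 1, by norm_num, by norm_num, by norm_num⟩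
  · exact Or.inl ⟨23, 2, 1, 0, by norm_num, by norm_num, by norm_num⟩
  · exact Or.inl ⟨2, 3, 3, 1, by norm_num, by norm_num, by norm_num⟩
  · exact Or.inl ⟨5, 2, 2, 0, by norm_num, by norm_num, by norm_num⟩
  · exact Or.inl ⟨2, 13, 1, 1, by norm_num, by norm_num, by norm_num⟩
  · exact Or.inl ⟨3, 2, 3, 0, by norm_num, by norm_num, by norm_num⟩
  · exact Or.inl ⟨2, 7, 2, 1, by norm_num, by norm_num, by norm_num⟩
  · exact Or.inl ⟨29, 2, 1, 0, by norm_num, by norm_num, by norm_num⟩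
  · exact Or.inr (Or.inl ⟨15, by decide, by norm_num, by norm_num⟩)
  · exact Or.inl ⟨31, 2, 1, 0, by norm_num, by norm_num, by norm_num⟩
  · exact Or.inl ⟨2, 3, 5, 0, by norm_num, by norm_num, by norm_num⟩
  · exact Or.inl ⟨3, 11, 1, 1, by norm_num, by norm_num, by norm_num⟩
  · exact Or.inl ⟨2, 17, 1, 1, by norm_num, by norm_num, by norm_num⟩
  · exact Or.inl ⟨5, 7, 1, 1, by norm_num, by norm_num, by norm_num⟩
  · exact Or.inl ⟨2, 3, 2, 2, by norm_num, by norm_num, by norm_num⟩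
  · exact Or.inl ⟨37, 2, 1, 0, by norm_num, by norm_num, by norm_num⟩
  · exact Or.inl ⟨2, 19, 1, 1, by norm_num, by norm_num, by norm_num⟩
  · exact Or.inl ⟨3, 13, 1, 1, by norm_num, by norm_num, by norm_num⟩
  · exact Or.inl ⟨2, 5, 3, 1, by norm_num, by norm_num, by norm_num⟩
  · exact Or.inl ⟨41, 2, 1, 0, by norm_num, by norm_num, by norm_num⟩
  · exact Or.inr (Or.inl ⟨21, by decide, by norm_num, by norm_num⟩)
  · exact Or.inl ⟨43, 2, 1, 0, by norm_num, by norm_num, by norm_num⟩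
  · exact Or.inl ⟨2, 11, 2, 1, by norm_num, by norm_num, by norm_num⟩
  · exact Or.inl ⟨3, 5, 2, 1, by norm_num, by norm_num, by norm_num⟩
  · exact Or.inl ⟨2, 23, 1, 1, by norm_num, by norm_num, by norm_num⟩
  · exact Or.inl ⟨47, 2, 1, 0, by norm_num, by norm_num, by norm_num⟩
  · exact Or.inl ⟨2, 3, 4, 1, by norm_num, by norm_num, by norm_num⟩
  · exact Or.inl ⟨7, 2, 2, 0, by norm_num, by norm_num, by norm_num⟩
  · exact Or.inl ⟨2, 5, 1, 2, by norm_num, by norm_num, by norm_num⟩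
  · exact Or.inl ⟨3, 17, 1, 1, by norm_num, by norm_num, by norm_num⟩
  · exact Or.inl ⟨2, 13, 2, 1, by norm_num, by norm_num, by norm_num⟩
  · exact Or.inl ⟨53, 2, 1, 0, by norm_num, by norm_num, by norm_num⟩
  · exact Or.inl ⟨2, 3, 1, 3, by norm_num, by norm_num, by norm_num⟩
  · exact Or.inl ⟨5, 11, 1, 1, by norm_num, by norm_num, by norm_num⟩
  · exact Or.inl ⟨2, 7, 3, 1, by norm_num, by norm_num, by norm_num⟩
  · exact Or.inl ⟨3, 19, 1, 1, by norm_num, by norm_num, by norm_num⟩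
  · exact Or.inl ⟨2, 29, 1, 1, by norm_num, by norm_num, by norm_num⟩
  · exact Or.inl ⟨59, 2, 1, 0, by norm_num, by norm_num, by norm_num⟩
  · exact Or.inr (Or.inr (Or.inr (Or.inr (Or.inr (by decide)))))
  · exact Or.inl ⟨61, 2, 1, 0, by norm_num, by norm_num, by norm_num⟩
  · exact Or.inl ⟨2, 31, 1, 1, by norm_num, by norm_num, by norm_num⟩
  · exact Or.inl ⟨3, 7, 2, 1, by norm_num, by norm_num, by norm_num⟩
  · exact Or.inl ⟨2, 3, 6, 0, by norm_num, by norm_num, by norm_num⟩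
  · exact Or.inl ⟨5, 13, 1, 1, by norm_num, by norm_num, by norm_num⟩
  · exact Or.inr (Or.inl ⟨33, by decide, by norm_num, by norm_num⟩)
  · exact Or.inl ⟨67, 2, 1, 0, by norm_num, by norm_num, by norm_num⟩
  · exact Or.inl ⟨2, 17, 2, 1, by norm_num, by norm_num, by norm_num⟩
  · exact Or.inl ⟨3, 23, 1, 1, by norm_num, by norm_num, by norm_num⟩
  · exact Or.inr (Or.inl ⟨35, by decide, by norm_num, by norm_num⟩)
  · exact Or.inl ⟨71, 2, 1, 0, by norm_num, by norm_num, by norm_num⟩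
  · exact Or.inl ⟨2, 3, 3, 2, by norm_num, by norm_num, by norm_num⟩
  · exact Or.inl ⟨73, 2, 1, 0, by norm_num, by norm_num, by norm_num⟩
  · exact Or.inl ⟨2, 37, 1, 1, by norm_num, by norm_num, by norm_num⟩
  · exact Or.inl ⟨3, 5, 1, 2, by norm_num, by norm_num, by norm_num⟩
  · exact Or.inl ⟨2, 19, 2, 1, by norm_num, by norm_num, by norm_num⟩
  · exact Or.inl ⟨7, 11, 1, 1, by norm_num, by norm_num, by norm_num⟩
  · exact Or.inr (Or.inl ⟨39, by decide, by norm_num, by norm_num⟩)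
  · exact Or.inl ⟨79, 2, 1, 0, by norm_num, by norm_num, by norm_num⟩
  · exact Or.inl ⟨2, 5, 4, 1, by norm_num, by norm_num, by norm_num⟩
  · exact Or.inl ⟨3, 2, 4, 0, by norm_num, by norm_num, by norm_num⟩
  · exact Or.inl ⟨2, 41, 1, 1, by norm_num, by norm_num, by norm_num⟩
  · exact Or.inl ⟨83, 2, 1, 0, by norm_num, by norm_num, by norm_num⟩
  · exact Or.inr (Or.inr (Or.inr (Or.inr (Or.inl ⟨2, 3, 7, by norm_num, by norm_num, by norm_num, by norm_num⟩))))
  · exact Or.inl ⟨5, 17, 1, 1, by norm_num, by norm_num, by norm_num⟩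
  · exact Or.inl ⟨2, 43, 1, 1, by norm_num, by norm_num, by norm_num⟩
  · exact Or.inl ⟨3, 29, 1, 1, by norm_num, by norm_num, by norm_num⟩
  · exact Or.inl ⟨2, 11, 3, 1, by norm_num, by norm_num, by norm_num⟩
  · exact Or.inl ⟨89, 2, 1, 0, by norm_num, by norm_num, by norm_num⟩
  · exact Or.inr (Or.inl ⟨45, by decide, by norm_num, by norm_num⟩)
  · exact Or.inl ⟨7, 13, 1, 1, by norm_num, by norm_num, by norm_num⟩
  · exact Or.inl ⟨2, 23, 2, 1, by norm_num, by norm_num, by norm_num⟩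
  · exact Or.inl ⟨3, 31, 1, 1, by norm_num, by norm_num, by norm_num⟩
  · exact Or.inl ⟨2, 47, 1, 1, by norm_num, by norm_num, by norm_num⟩
  · exact Or.inl ⟨5, 19, 1, 1, by norm_num, by norm_num, by norm_num⟩
  · exact Or.inl ⟨2, 3, 5, 1, by norm_num, by norm_num, by norm_num⟩
  · exact Or.inl ⟨97, 2, 1, 0, by norm_num, by norm_num, by norm_num⟩
  · exact Or.inl ⟨2, 7, 1, 2, by norm_num, by norm_num, by norm_num⟩
  · exact Or.inl ⟨3, 11, 2, 1, by norm_num, by norm_num, by norm_num⟩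
  · exact Or.inl ⟨2, 5, 2, 2, by norm_num, by norm_num, by norm_num⟩
  · exact Or.inl ⟨101, 2, 1, 0, by norm_num, by norm_num, by norm_num⟩
  · exact Or.inr (Or.inl ⟨51, by decide, by norm_num, by norm_num⟩)
  · exact Or.inl ⟨103, 2, 1, 0, by norm_num, by norm_num, by norm_num⟩
  · exact Or.inl ⟨2, 13, 3, 1, by norm_num, by norm_num, by norm_num⟩
  · exact Or.inr (Or.inr (Or.inr (Or.inl ⟨3, by norm_num, by norm_num, by norm_num⟩)))
  · exact Or.inl ⟨2, 53, 1, 1, by norm_num, by norm_num, by norm_num⟩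
  · exact Or.inl ⟨107, 2, 1, 0, by norm_num, by norm_num, by norm_num⟩
  · exact Or.inl ⟨2, 3, 2, 3, by norm_num, by norm_num, by norm_num⟩
  · exact Or.inl ⟨109, 2, 1, 0, by norm_num, by norm_num, by norm_num⟩
  · exact Or.inr (Or.inl ⟨55, by decide, by norm_num, by norm_num⟩)
  · exact Or.inl ⟨3, 37, 1, 1, by norm_num, by norm_num, by norm_num⟩
  · exact Or.inl ⟨2, 7, 4, 1, by norm_num, by norm_num, by norm_num⟩
  · exact Or.inl ⟨113, 2, 1, 0, by norm_num, by norm_num, by norm_num⟩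
  · exact Or.inr (Or.inl ⟨57, by decide, by norm_num, by norm_num⟩)
  · exact Or.inl ⟨5, 23, 1, 1, by norm_num, by norm_num, by norm_num⟩
  · exact Or.inl ⟨2, 29, 2, 1, by norm_num, by norm_num, by norm_num⟩
  · exact Or.inl ⟨3, 13, 2, 1, by norm_num, by norm_num, by norm_num⟩
  · exact Or.inl ⟨2, 59, 1, 1, by norm_num, by norm_num, by norm_num⟩
  · exact Or.inl ⟨7, 17, 1, 1, by norm_num, by norm_num, by norm_num⟩
  · exact Or.inr (Or.inr (Or.inr (Or.inr (Or.inr (by decide)))))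
  · exact Or.inl ⟨11, 2, 2, 0, by norm_num, by norm_num, by norm_num⟩
  · exact Or.inl ⟨2, 61, 1, 1, by norm_num, by norm_num, by norm_num⟩
  · exact Or.inl ⟨3, 41, 1, 1, by norm_num, by norm_num, by norm_num⟩
  · exact Or.inl ⟨2, 31, 2, 1, by norm_num, by norm_num, by norm_num⟩
  · exact Or.inl ⟨5, 2, 3, 0, by norm_num, by norm_num, by norm_num⟩
  · exact Or.inr (Or.inl ⟨63, by decide, by norm_num, by norm_num⟩)
  · exact Or.inl ⟨127, 2, 1, 0, by norm_num, by norm_num, by norm_num⟩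
  · exact Or.inl ⟨2, 3, 7, 0, by norm_num, by norm_num, by norm_num⟩
  · exact Or.inl ⟨3, 43, 1, 1, by norm_num, by norm_num, by norm_num⟩
  · exact Or.inr (Or.inl ⟨65, by decide, by norm_num, by norm_num⟩)
  · exact Or.inl ⟨131, 2, 1, 0, by norm_num, by norm_num, by norm_num⟩
  · exact Or.inr (Or.inr (Or.inr (Or.inr (Or.inl ⟨2, 3, 11, by norm_num, by norm_num, by norm_num, by norm_num⟩))))
  · exact Or.inl ⟨7, 19, 1, 1, by norm_num, by norm_num, by norm_num⟩
  · exact Or.inl ⟨2, 67, 1, 1, by norm_num, by norm_num, by norm_num⟩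
  · exact Or.inl ⟨3, 5, 3, 1, by norm_num, by norm_num, by norm_num⟩
  · exact Or.inl ⟨2, 17, 3, 1, by norm_num, by norm_num, by norm_num⟩
  · exact Or.inl ⟨137, 2, 1, 0, by norm_num, by norm_num, by norm_num⟩
  · exact Or.inr (Or.inl ⟨69, by decide, by norm_num, by norm_num⟩)
  · exact Or.inl ⟨139, 2, 1, 0, by norm_num, by norm_num, by norm_num⟩
  · exact Or.inr (Or.inr (Or.inl ⟨by decide, by omega⟩))
  · exact Or.inl ⟨3, 47, 1, 1, by norm_num, by norm_num, by norm_num⟩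
  · exact Or.inl ⟨2, 71, 1, 1, by norm_num, by norm_num, by norm_num⟩
  · exact Or.inl ⟨11, 13, 1, 1, by norm_num, by norm_num, by norm_num⟩
  · exact Or.inl ⟨2, 3, 4, 2, by norm_num, by norm_num, by norm_num⟩
  · exact Or.inl ⟨5, 29, 1, 1, by norm_num, by norm_num, by norm_num⟩
  · exact Or.inl ⟨2, 73, 1, 1, by norm_num, by norm_num, by norm_num⟩
  · exact Or.inl ⟨3, 7, 1, 2, by norm_num, by norm_num, by norm_num⟩
  · exact Or.inl ⟨2, 37, 2, 1, by norm_num, by norm_num, by norm_num⟩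
  · exact Or.inl ⟨149, 2, 1, 0, by norm_num, by norm_num, by norm_num⟩
  · exact Or.inr (Or.inl ⟨75, by decide, by norm_num, by norm_num⟩)

theorem cls_151_300 (n : ℕ) (h1 : 151 ≤ n) (h2 : n ≤ 300) : Cls n := by
  unfold Cls
  interval_cases n
  · exact Or.inl ⟨151, 2, 1, 0, by norm_num, by norm_num, by norm_num⟩
  · exact Or.inl ⟨2, 19, 3, 1, by norm_num, by norm_num, by norm_num⟩
  · exact Or.inl ⟨3, 17, 2, 1, by norm_num, by norm_num, by norm_num⟩
  · exact Or.inr (Or.inl ⟨77, by decide, by norm_num, by norm_num⟩)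
  · exact Or.inl ⟨5, 31, 1, 1, by norm_num, by norm_num, by norm_num⟩
  · exact Or.inr (Or.inr (Or.inr (Or.inr (Or.inl ⟨2, 3, 13, by norm_num, by norm_num, by norm_num, by norm_num⟩))))
  · exact Or.inl ⟨157, 2, 1, 0, by norm_num, by norm_num, by norm_num⟩
  · exact Or.inl ⟨2, 79, 1, 1, by norm_num, by norm_num, by norm_num⟩
  · exact Or.inl ⟨3, 53, 1, 1, by norm_num, by norm_num, by norm_num⟩
  · exact Or.inl ⟨2, 5, 5, 1, by norm_num, by norm_num, by norm_num⟩
  · exact Or.inl ⟨7, 23, 1, 1, by norm_num, by norm_num, by norm_num⟩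
  · exact Or.inl ⟨2, 3, 1, 4, by norm_num, by norm_num, by norm_num⟩
  · exact Or.inl ⟨163, 2, 1, 0, by norm_num, by norm_num, by norm_num⟩
  · exact Or.inl ⟨2, 41, 2, 1, by norm_num, by norm_num, by norm_num⟩
  · exact Or.inr (Or.inr (Or.inr (Or.inl ⟨3, by norm_num, by norm_num, by norm_num⟩)))
  · exact Or.inl ⟨2, 83, 1, 1, by norm_num, by norm_num, by norm_num⟩
  · exact Or.inl ⟨167, 2, 1, 0, by norm_num, by norm_num, by norm_num⟩
  · exact Or.inr (Or.inr (Or.inr (Or.inr (Or.inr (by decide)))))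
  · exact Or.inl ⟨13, 2, 2, 0, by norm_num, by norm_num, by norm_num⟩
  · exact Or.inr (Or.inl ⟨85, by decide, by norm_num, by norm_num⟩)
  · exact Or.inl ⟨3, 19, 2, 1, by norm_num, by norm_num, by norm_num⟩
  · exact Or.inl ⟨2, 43, 2, 1, by norm_num, by norm_num, by norm_num⟩
  · exact Or.inl ⟨173, 2, 1, 0, by norm_num, by norm_num, by norm_num⟩
  · exact Or.inr (Or.inl ⟨87, by decide, by norm_num, by norm_num⟩)
  · exact Or.inl ⟨5, 7, 2, 1, by norm_num, by norm_num, by norm_num⟩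
  · exact Or.inl ⟨2, 11, 4, 1, by norm_num, by norm_num, by norm_num⟩
  · exact Or.inl ⟨3, 59, 1, 1, by norm_num, by norm_num, by norm_num⟩
  · exact Or.inl ⟨2, 89, 1, 1, by norm_num, by norm_num, by norm_num⟩
  · exact Or.inl ⟨179, 2, 1, 0, by norm_num, by norm_num, by norm_num⟩
  · exact Or.inr (Or.inr (Or.inr (Or.inr (Or.inr (by decide)))))
  · exact Or.inl ⟨181, 2, 1, 0, by norm_num, by norm_num, by norm_num⟩
  · exact Or.inr (Or.inl ⟨91, by decide, by norm_num, by norm_num⟩)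
  · exact Or.inl ⟨3, 61, 1, 1, by norm_num, by norm_num, by norm_num⟩
  · exact Or.inl ⟨2, 23, 3, 1, by norm_num, by norm_num, by norm_num⟩
  · exact Or.inl ⟨5, 37, 1, 1, by norm_num, by norm_num, by norm_num⟩
  · exact Or.inr (Or.inl ⟨93, by decide, by norm_num, by norm_num⟩)
  · exact Or.inl ⟨11, 17, 1, 1, by norm_num, by norm_num, by norm_num⟩
  · exact Or.inl ⟨2, 47, 2, 1, by norm_num, by norm_num, by norm_num⟩
  · exact Or.inl ⟨3, 7, 3, 1, by norm_num, by norm_num, by norm_num⟩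
  · exact Or.inr (Or.inl ⟨95, by decide, by norm_num, by norm_num⟩)
  · exact Or.inl ⟨191, 2, 1, 0, by norm_num, by norm_num, by norm_num⟩
  · exact Or.inl ⟨2, 3, 6, 1, by norm_num, by norm_num, by norm_num⟩
  · exact Or.inl ⟨193, 2, 1, 0, by norm_num, by norm_num, by norm_num⟩
  · exact Or.inl ⟨2, 97, 1, 1, by norm_num, by norm_num, by norm_num⟩
  · exact Or.inr (Or.inr (Or.inr (Or.inl ⟨3, by norm_num, by norm_num, by norm_num⟩)))
  · exact Or.inl ⟨2, 7, 2, 2, by norm_num, by norm_num, by norm_num⟩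
  · exact Or.inl ⟨197, 2, 1, 0, by norm_num, by norm_num, by norm_num⟩
  · exact Or.inr (Or.inl ⟨99, by decide, by norm_num, by norm_num⟩)
  · exact Or.inl ⟨199, 2, 1, 0, by norm_num, by norm_num, by norm_num⟩
  · exact Or.inl ⟨2, 5, 3, 2, by norm_num, by norm_num, by norm_num⟩
  · exact Or.inl ⟨3, 67, 1, 1, by norm_num, by norm_num, by norm_num⟩
  · exact Or.inl ⟨2, 101, 1, 1, by norm_num, by norm_num, by norm_num⟩
  · exact Or.inl ⟨7, 29, 1, 1, by norm_num, by norm_num, by norm_num⟩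
  · exact Or.inr (Or.inr (Or.inr (Or.inr (Or.inl ⟨2, 3, 17, by norm_num, by norm_num, by norm_num, by norm_num⟩))))
  · exact Or.inl ⟨5, 41, 1, 1, by norm_num, by norm_num, by norm_num⟩
  · exact Or.inl ⟨2, 103, 1, 1, by norm_num, by norm_num, by norm_num⟩
  · exact Or.inl ⟨3, 23, 2, 1, by norm_num, by norm_num, by norm_num⟩
  · exact Or.inl ⟨2, 13, 4, 1, by norm_num, by norm_num, by norm_num⟩
  · exact Or.inl ⟨11, 19, 1, 1, by norm_num, by norm_num, by norm_num⟩
  · exact Or.inr (Or.inl ⟨105, by decide, by norm_num, by norm_num⟩)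
  · exact Or.inl ⟨211, 2, 1, 0, by norm_num, by norm_num, by norm_num⟩
  · exact Or.inl ⟨2, 53, 2, 1, by norm_num, by norm_num, by norm_num⟩
  · exact Or.inl ⟨3, 71, 1, 1, by norm_num, by norm_num, by norm_num⟩
  · exact Or.inl ⟨2, 107, 1, 1, by norm_num, by norm_num, by norm_num⟩
  · exact Or.inl ⟨5, 43, 1, 1, by norm_num, by norm_num, by norm_num⟩
  · exact Or.inl ⟨2, 3, 3, 3, by norm_num, by norm_num, by norm_num⟩
  · exact Or.inl ⟨7, 31, 1, 1, by norm_num, by norm_num, by norm_num⟩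
  · exact Or.inl ⟨2, 109, 1, 1, by norm_num, by norm_num, by norm_num⟩
  · exact Or.inl ⟨3, 73, 1, 1, by norm_num, by norm_num, by norm_num⟩
  · exact Or.inr (Or.inr (Or.inl ⟨by decide, by omega⟩))
  · exact Or.inl ⟨13, 17, 1, 1, by norm_num, by norm_num, by norm_num⟩
  · exact Or.inr (Or.inl ⟨111, by decide, by norm_num, by norm_num⟩)
  · exact Or.inl ⟨223, 2, 1, 0, by norm_num, by norm_num, by norm_num⟩
  · exact Or.inl ⟨2, 7, 5, 1, by norm_num, by norm_num, by norm_num⟩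
  · exact Or.inl ⟨3, 5, 2, 2, by norm_num, by norm_num, by norm_num⟩
  · exact Or.inl ⟨2, 113, 1, 1, by norm_num, by norm_num, by norm_num⟩
  · exact Or.inl ⟨227, 2, 1, 0, by norm_num, by norm_num, by norm_num⟩
  · exact Or.inr (Or.inr (Or.inr (Or.inr (Or.inl ⟨2, 3, 19, by norm_num, by norm_num, by norm_num, by norm_num⟩))))
  · exact Or.inl ⟨229, 2, 1, 0, by norm_num, by norm_num, by norm_num⟩
  · exact Or.inr (Or.inl ⟨115, by decide, by norm_num, by norm_num⟩)
  · exact Or.inr (Or.inr (Or.inr (Or.inl ⟨3, by norm_num, by norm_num, by norm_num⟩)))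
  · exact Or.inl ⟨2, 29, 3, 1, by norm_num, by norm_num, by norm_num⟩
  · exact Or.inl ⟨233, 2, 1, 0, by norm_num, by norm_num, by norm_num⟩
  · exact Or.inr (Or.inl ⟨117, by decide, by norm_num, by norm_num⟩)
  · exact Or.inl ⟨5, 47, 1, 1, by norm_num, by norm_num, by norm_num⟩
  · exact Or.inl ⟨2, 59, 2, 1, by norm_num, by norm_num, by norm_num⟩
  · exact Or.inl ⟨3, 79, 1, 1, by norm_num, by norm_num, by norm_num⟩
  · exact Or.inr (Or.inl ⟨119, by decide, by norm_num, by norm_num⟩)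
  · exact Or.inl ⟨239, 2, 1, 0, by norm_num, by norm_num, by norm_num⟩
  · exact Or.inr (Or.inr (Or.inr (Or.inr (Or.inr (by decide)))))
  · exact Or.inl ⟨241, 2, 1, 0, by norm_num, by norm_num, by norm_num⟩
  · exact Or.inl ⟨2, 11, 1, 2, by norm_num, by norm_num, by norm_num⟩
  · exact Or.inl ⟨3, 2, 5, 0, by norm_num, by norm_num, by norm_num⟩
  · exact Or.inl ⟨2, 61, 2, 1, by norm_num, by norm_num, by norm_num⟩
  · exact Or.inl ⟨5, 7, 1, 2, by norm_num, by norm_num, by norm_num⟩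
  · exact Or.inr (Or.inl ⟨123, by decide, by norm_num, by norm_num⟩)
  · exact Or.inl ⟨13, 19, 1, 1, by norm_num, by norm_num, by norm_num⟩
  · exact Or.inl ⟨2, 31, 3, 1, by norm_num, by norm_num, by norm_num⟩
  · exact Or.inl ⟨3, 83, 1, 1, by norm_num, by norm_num, by norm_num⟩
  · exact Or.inl ⟨2, 5, 1, 3, by norm_num, by norm_num, by norm_num⟩
  · exact Or.inl ⟨251, 2, 1, 0, by norm_num, by norm_num, by norm_num⟩
  · exact Or.inr (Or.inr (Or.inr (Or.inr (Or.inr (by decide)))))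
  · exact Or.inl ⟨11, 23, 1, 1, by norm_num, by norm_num, by norm_num⟩
  · exact Or.inl ⟨2, 127, 1, 1, by norm_num, by norm_num, by norm_num⟩
  · exact Or.inr (Or.inr (Or.inr (Or.inl ⟨3, by norm_num, by norm_num, by norm_num⟩)))
  · exact Or.inl ⟨2, 3, 8, 0, by norm_num, by norm_num, by norm_num⟩
  · exact Or.inl ⟨257, 2, 1, 0, by norm_num, by norm_num, by norm_num⟩
  · exact Or.inr (Or.inl ⟨129, by decide, by norm_num, by norm_num⟩)
  · exact Or.inl ⟨7, 37, 1, 1, by norm_num, by norm_num, by norm_num⟩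
  · exact Or.inr (Or.inr (Or.inl ⟨by decide, by omega⟩))
  · exact Or.inl ⟨3, 29, 2, 1, by norm_num, by norm_num, by norm_num⟩
  · exact Or.inl ⟨2, 131, 1, 1, by norm_num, by norm_num, by norm_num⟩
  · exact Or.inl ⟨263, 2, 1, 0, by norm_num, by norm_num, by norm_num⟩
  · exact Or.inr (Or.inr (Or.inr (Or.inr (Or.inr (by decide)))))
  · exact Or.inl ⟨5, 53, 1, 1, by norm_num, by norm_num, by norm_num⟩
  · exact Or.inr (Or.inl ⟨133, by decide, by norm_num, by norm_num⟩)
  · exact Or.inl ⟨3, 89, 1, 1, by norm_num, by norm_num, by norm_num⟩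
  · exact Or.inl ⟨2, 67, 2, 1, by norm_num, by norm_num, by norm_num⟩
  · exact Or.inl ⟨269, 2, 1, 0, by norm_num, by norm_num, by norm_num⟩
  · exact Or.inr (Or.inl ⟨135, by decide, by norm_num, by norm_num⟩)
  · exact Or.inl ⟨271, 2, 1, 0, by norm_num, by norm_num, by norm_num⟩
  · exact Or.inl ⟨2, 17, 4, 1, by norm_num, by norm_num, by norm_num⟩
  · exact Or.inr (Or.inr (Or.inr (Or.inl ⟨3, by norm_num, by norm_num, by norm_num⟩)))
  · exact Or.inl ⟨2, 137, 1, 1, by norm_num, by norm_num, by norm_num⟩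
  · exact Or.inl ⟨5, 11, 2, 1, by norm_num, by norm_num, by norm_num⟩
  · exact Or.inr (Or.inr (Or.inr (Or.inr (Or.inl ⟨2, 3, 23, by norm_num, by norm_num, by norm_num, by norm_num⟩))))
  · exact Or.inl ⟨277, 2, 1, 0, by norm_num, by norm_num, by norm_num⟩
  · exact Or.inl ⟨2, 139, 1, 1, by norm_num, by norm_num, by norm_num⟩
  · exact Or.inl ⟨3, 31, 2, 1, by norm_num, by norm_num, by norm_num⟩
  · exact Or.inr (Or.inr (Or.inr (Or.inr (Or.inr (by decide)))))
  · exact Or.inl ⟨281, 2, 1, 0, by norm_num, by norm_num, by norm_num⟩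
  · exact Or.inr (Or.inl ⟨141, by decide, by norm_num, by norm_num⟩)
  · exact Or.inl ⟨283, 2, 1, 0, by norm_num, by norm_num, by norm_num⟩
  · exact Or.inl ⟨2, 71, 2, 1, by norm_num, by norm_num, by norm_num⟩
  · exact Or.inr (Or.inr (Or.inr (Or.inl ⟨3, by norm_num, by norm_num, by norm_num⟩)))
  · exact Or.inr (Or.inl ⟨143, by decide, by norm_num, by norm_num⟩)
  · exact Or.inl ⟨7, 41, 1, 1, by norm_num, by norm_num, by norm_num⟩
  · exact Or.inl ⟨2, 3, 5, 2, by norm_num, by norm_num, by norm_num⟩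
  · exact Or.inl ⟨17, 2, 2, 0, by norm_num, by norm_num, by norm_num⟩
  · exact Or.inr (Or.inl ⟨145, by decide, by norm_num, by norm_num⟩)
  · exact Or.inl ⟨3, 97, 1, 1, by norm_num, by norm_num, by norm_num⟩
  · exact Or.inl ⟨2, 73, 2, 1, by norm_num, by norm_num, by norm_num⟩
  · exact Or.inl ⟨293, 2, 1, 0, by norm_num, by norm_num, by norm_num⟩
  · exact Or.inr (Or.inl ⟨147, by decide, by norm_num, by norm_num⟩)
  · exact Or.inl ⟨5, 59, 1, 1, by norm_num, by norm_num, by norm_num⟩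
  · exact Or.inl ⟨2, 37, 3, 1, by norm_num, by norm_num, by norm_num⟩
  · exact Or.inl ⟨3, 11, 3, 1, by norm_num, by norm_num, by norm_num⟩
  · exact Or.inl ⟨2, 149, 1, 1, by norm_num, by norm_num, by norm_num⟩
  · exact Or.inl ⟨13, 23, 1, 1, by norm_num, by norm_num, by norm_num⟩
  · exact Or.inr (Or.inr (Or.inr (Or.inr (Or.inr (by decide)))))

theorem cls_301_450 (n : ℕ) (h1 : 301 ≤ n) (h2 : n ≤ 450) : Cls n := by
  unfold Cls
  interval_cases n
  · exact Or.inl ⟨7, 43, 1, 1, by norm_num, by norm_num, by norm_num⟩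
  · exact Or.inl ⟨2, 151, 1, 1, by norm_num, by norm_num, by norm_num⟩
  · exact Or.inl ⟨3, 101, 1, 1, by norm_num, by norm_num, by norm_num⟩
  · exact Or.inl ⟨2, 19, 4, 1, by norm_num, by norm_num, by norm_num⟩
  · exact Or.inl ⟨5, 61, 1, 1, by norm_num, by norm_num, by norm_num⟩
  · exact Or.inr (Or.inl ⟨153, by decide, by norm_num, by norm_num⟩)
  · exact Or.inl ⟨307, 2, 1, 0, by norm_num, by norm_num, by norm_num⟩
  · exact Or.inr (Or.inr (Or.inl ⟨by decide, by omega⟩))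
  · exact Or.inl ⟨3, 103, 1, 1, by norm_num, by norm_num, by norm_num⟩
  · exact Or.inr (Or.inl ⟨155, by decide, by norm_num, by norm_num⟩)
  · exact Or.inl ⟨311, 2, 1, 0, by norm_num, by norm_num, by norm_num⟩
  · exact Or.inr (Or.inr (Or.inr (Or.inr (Or.inr (by decide)))))
  · exact Or.inl ⟨313, 2, 1, 0, by norm_num, by norm_num, by norm_num⟩
  · exact Or.inl ⟨2, 157, 1, 1, by norm_num, by norm_num, by norm_num⟩
  · exact Or.inr (Or.inr (Or.inr (Or.inl ⟨3, by norm_num, by norm_num, by norm_num⟩)))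
  · exact Or.inl ⟨2, 79, 2, 1, by norm_num, by norm_num, by norm_num⟩
  · exact Or.inl ⟨317, 2, 1, 0, by norm_num, by norm_num, by norm_num⟩
  · exact Or.inr (Or.inl ⟨159, by decide, by norm_num, by norm_num⟩)
  · exact Or.inl ⟨11, 29, 1, 1, by norm_num, by norm_num, by norm_num⟩
  · exact Or.inl ⟨2, 5, 6, 1, by norm_num, by norm_num, by norm_num⟩
  · exact Or.inl ⟨3, 107, 1, 1, by norm_num, by norm_num, by norm_num⟩
  · exact Or.inr (Or.inl ⟨161, by decide, by norm_num, by norm_num⟩)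
  · exact Or.inl ⟨17, 19, 1, 1, by norm_num, by norm_num, by norm_num⟩
  · exact Or.inl ⟨2, 3, 2, 4, by norm_num, by norm_num, by norm_num⟩
  · exact Or.inl ⟨5, 13, 2, 1, by norm_num, by norm_num, by norm_num⟩
  · exact Or.inl ⟨2, 163, 1, 1, by norm_num, by norm_num, by norm_num⟩
  · exact Or.inl ⟨3, 109, 1, 1, by norm_num, by norm_num, by norm_num⟩
  · exact Or.inl ⟨2, 41, 3, 1, by norm_num, by norm_num, by norm_num⟩
  · exact Or.inl ⟨7, 47, 1, 1, by norm_num, by norm_num, by norm_num⟩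
  · exact Or.inr (Or.inl ⟨165, by decide, by norm_num, by norm_num⟩)
  · exact Or.inl ⟨331, 2, 1, 0, by norm_num, by norm_num, by norm_num⟩
  · exact Or.inl ⟨2, 83, 2, 1, by norm_num, by norm_num, by norm_num⟩
  · exact Or.inl ⟨3, 37, 2, 1, by norm_num, by norm_num, by norm_num⟩
  · exact Or.inl ⟨2, 167, 1, 1, by norm_num, by norm_num, by norm_num⟩
  · exact Or.inl ⟨5, 67, 1, 1, by norm_num, by norm_num, by norm_num⟩
  · exact Or.inr (Or.inr (Or.inr (Or.inr (Or.inr (by decide)))))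
  · exact Or.inl ⟨337, 2, 1, 0, by norm_num, by norm_num, by norm_num⟩
  · exact Or.inl ⟨2, 13, 1, 2, by norm_num, by norm_num, by norm_num⟩
  · exact Or.inl ⟨3, 113, 1, 1, by norm_num, by norm_num, by norm_num⟩
  · exact Or.inr (Or.inr (Or.inl ⟨by decide, by omega⟩))
  · exact Or.inl ⟨11, 31, 1, 1, by norm_num, by norm_num, by norm_num⟩
  · exact Or.inr (Or.inl ⟨171, by decide, by norm_num, by norm_num⟩)
  · exact Or.inl ⟨7, 2, 3, 0, by norm_num, by norm_num, by norm_num⟩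
  · exact Or.inl ⟨2, 43, 3, 1, by norm_num, by norm_num, by norm_num⟩
  · exact Or.inr (Or.inr (Or.inr (Or.inl ⟨3, by norm_num, by norm_num, by norm_num⟩)))
  · exact Or.inl ⟨2, 173, 1, 1, by norm_num, by norm_num, by norm_num⟩
  · exact Or.inl ⟨347, 2, 1, 0, by norm_num, by norm_num, by norm_num⟩
  · exact Or.inr (Or.inr (Or.inr (Or.inr (Or.inl ⟨2, 3, 29, by norm_num, by norm_num, by norm_num, by norm_num⟩))))
  · exact Or.inl ⟨349, 2, 1, 0, by norm_num, by norm_num, by norm_num⟩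
  · exact Or.inr (Or.inl ⟨175, by decide, by norm_num, by norm_num⟩)
  · exact Or.inl ⟨3, 13, 3, 1, by norm_num, by norm_num, by norm_num⟩
  · exact Or.inl ⟨2, 11, 5, 1, by norm_num, by norm_num, by norm_num⟩
  · exact Or.inl ⟨353, 2, 1, 0, by norm_num, by norm_num, by norm_num⟩
  · exact Or.inr (Or.inl ⟨177, by decide, by norm_num, by norm_num⟩)
  · exact Or.inl ⟨5, 71, 1, 1, by norm_num, by norm_num, by norm_num⟩
  · exact Or.inl ⟨2, 89, 2, 1, by norm_num, by norm_num, by norm_num⟩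
  · exact Or.inr (Or.inr (Or.inr (Or.inl ⟨3, by norm_num, by norm_num, by norm_num⟩)))
  · exact Or.inl ⟨2, 179, 1, 1, by norm_num, by norm_num, by norm_num⟩
  · exact Or.inl ⟨359, 2, 1, 0, by norm_num, by norm_num, by norm_num⟩
  · exact Or.inr (Or.inr (Or.inr (Or.inr (Or.inr (by decide)))))
  · exact Or.inl ⟨19, 2, 2, 0, by norm_num, by norm_num, by norm_num⟩
  · exact Or.inl ⟨2, 181, 1, 1, by norm_num, by norm_num, by norm_num⟩
  · exact Or.inl ⟨3, 11, 1, 2, by norm_num, by norm_num, by norm_num⟩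
  · exact Or.inr (Or.inr (Or.inl ⟨by decide, by omega⟩))
  · exact Or.inl ⟨5, 73, 1, 1, by norm_num, by norm_num, by norm_num⟩
  · exact Or.inr (Or.inl ⟨183, by decide, by norm_num, by norm_num⟩)
  · exact Or.inl ⟨367, 2, 1, 0, by norm_num, by norm_num, by norm_num⟩
  · exact Or.inl ⟨2, 23, 4, 1, by norm_num, by norm_num, by norm_num⟩
  · exact Or.inl ⟨3, 41, 2, 1, by norm_num, by norm_num, by norm_num⟩
  · exact Or.inr (Or.inl ⟨185, by decide, by norm_num, by norm_num⟩)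
  · exact Or.inl ⟨7, 53, 1, 1, by norm_num, by norm_num, by norm_num⟩
  · exact Or.inr (Or.inr (Or.inr (Or.inr (Or.inl ⟨2, 3, 31, by norm_num, by norm_num, by norm_num, by norm_num⟩))))
  · exact Or.inl ⟨373, 2, 1, 0, by norm_num, by norm_num, by norm_num⟩
  · exact Or.inr (Or.inl ⟨187, by decide, by norm_num, by norm_num⟩)
  · exact Or.inl ⟨3, 5, 1, 3, by norm_num, by norm_num, by norm_num⟩
  · exact Or.inl ⟨2, 47, 3, 1, by norm_num, by norm_num, by norm_num⟩
  · exact Or.inl ⟨13, 29, 1, 1, by norm_num, by norm_num, by norm_num⟩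
  · exact Or.inr (Or.inl ⟨189, by decide, by norm_num, by norm_num⟩)
  · exact Or.inl ⟨379, 2, 1, 0, by norm_num, by norm_num, by norm_num⟩
  · exact Or.inr (Or.inr (Or.inl ⟨by decide, by omega⟩))
  · exact Or.inl ⟨3, 127, 1, 1, by norm_num, by norm_num, by norm_num⟩
  · exact Or.inl ⟨2, 191, 1, 1, by norm_num, by norm_num, by norm_num⟩
  · exact Or.inl ⟨383, 2, 1, 0, by norm_num, by norm_num, by norm_num⟩
  · exact Or.inl ⟨2, 3, 7, 1, by norm_num, by norm_num, by norm_num⟩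
  · exact Or.inr (Or.inr (Or.inr (Or.inl ⟨5, by norm_num, by norm_num, by norm_num⟩)))
  · exact Or.inl ⟨2, 193, 1, 1, by norm_num, by norm_num, by norm_num⟩
  · exact Or.inl ⟨3, 43, 2, 1, by norm_num, by norm_num, by norm_num⟩
  · exact Or.inl ⟨2, 97, 2, 1, by norm_num, by norm_num, by norm_num⟩
  · exact Or.inl ⟨389, 2, 1, 0, by norm_num, by norm_num, by norm_num⟩
  · exact Or.inr (Or.inl ⟨195, by decide, by norm_num, by norm_num⟩)
  · exact Or.inl ⟨17, 23, 1, 1, by norm_num, by norm_num, by norm_num⟩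
  · exact Or.inl ⟨2, 7, 3, 2, by norm_num, by norm_num, by norm_num⟩
  · exact Or.inl ⟨3, 131, 1, 1, by norm_num, by norm_num, by norm_num⟩
  · exact Or.inl ⟨2, 197, 1, 1, by norm_num, by norm_num, by norm_num⟩
  · exact Or.inl ⟨5, 79, 1, 1, by norm_num, by norm_num, by norm_num⟩
  · exact Or.inr (Or.inr (Or.inr (Or.inr (Or.inr (by decide)))))
  · exact Or.inl ⟨397, 2, 1, 0, by norm_num, by norm_num, by norm_num⟩
  · exact Or.inl ⟨2, 199, 1, 1, by norm_num, by norm_num, by norm_num⟩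
  · exact Or.inr (Or.inr (Or.inr (Or.inl ⟨3, by norm_num, by norm_num, by norm_num⟩)))
  · exact Or.inl ⟨2, 5, 4, 2, by norm_num, by norm_num, by norm_num⟩
  · exact Or.inl ⟨401, 2, 1, 0, by norm_num, by norm_num, by norm_num⟩
  · exact Or.inr (Or.inl ⟨201, by decide, by norm_num, by norm_num⟩)
  · exact Or.inl ⟨13, 31, 1, 1, by norm_num, by norm_num, by norm_num⟩
  · exact Or.inl ⟨2, 101, 2, 1, by norm_num, by norm_num, by norm_num⟩
  · exact Or.inl ⟨3, 5, 4, 1, by norm_num, by norm_num, by norm_num⟩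
  · exact Or.inr (Or.inl ⟨203, by decide, by norm_num, by norm_num⟩)
  · exact Or.inl ⟨11, 37, 1, 1, by norm_num, by norm_num, by norm_num⟩
  · exact Or.inr (Or.inr (Or.inr (Or.inr (Or.inr (by decide)))))
  · exact Or.inl ⟨409, 2, 1, 0, by norm_num, by norm_num, by norm_num⟩
  · exact Or.inr (Or.inl ⟨205, by decide, by norm_num, by norm_num⟩)
  · exact Or.inl ⟨3, 137, 1, 1, by norm_num, by norm_num, by norm_num⟩
  · exact Or.inl ⟨2, 103, 2, 1, by norm_num, by norm_num, by norm_num⟩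
  · exact Or.inl ⟨7, 59, 1, 1, by norm_num, by norm_num, by norm_num⟩
  · exact Or.inr (Or.inl ⟨207, by decide, by norm_num, by norm_num⟩)
  · exact Or.inl ⟨5, 83, 1, 1, by norm_num, by norm_num, by norm_num⟩
  · exact Or.inl ⟨2, 13, 5, 1, by norm_num, by norm_num, by norm_num⟩
  · exact Or.inl ⟨3, 139, 1, 1, by norm_num, by norm_num, by norm_num⟩
  · exact Or.inr (Or.inl ⟨209, by decide, by norm_num, by norm_num⟩)
  · exact Or.inl ⟨419, 2, 1, 0, by norm_num, by norm_num, by norm_num⟩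
  · exact Or.inr (Or.inr (Or.inr (Or.inr (Or.inr (by decide)))))
  · exact Or.inl ⟨421, 2, 1, 0, by norm_num, by norm_num, by norm_num⟩
  · exact Or.inl ⟨2, 211, 1, 1, by norm_num, by norm_num, by norm_num⟩
  · exact Or.inl ⟨3, 47, 2, 1, by norm_num, by norm_num, by norm_num⟩
  · exact Or.inl ⟨2, 53, 3, 1, by norm_num, by norm_num, by norm_num⟩
  · exact Or.inl ⟨5, 17, 2, 1, by norm_num, by norm_num, by norm_num⟩
  · exact Or.inr (Or.inl ⟨213, by decide, by norm_num, by norm_num⟩)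
  · exact Or.inl ⟨7, 61, 1, 1, by norm_num, by norm_num, by norm_num⟩
  · exact Or.inl ⟨2, 107, 2, 1, by norm_num, by norm_num, by norm_num⟩
  · exact Or.inr (Or.inr (Or.inr (Or.inl ⟨3, by norm_num, by norm_num, by norm_num⟩)))
  · exact Or.inr (Or.inl ⟨215, by decide, by norm_num, by norm_num⟩)
  · exact Or.inl ⟨431, 2, 1, 0, by norm_num, by norm_num, by norm_num⟩
  · exact Or.inl ⟨2, 3, 4, 3, by norm_num, by norm_num, by norm_num⟩
  · exact Or.inl ⟨433, 2, 1, 0, by norm_num, by norm_num, by norm_num⟩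
  · exact Or.inr (Or.inl ⟨217, by decide, by norm_num, by norm_num⟩)
  · exact Or.inr (Or.inr (Or.inr (Or.inl ⟨3, by norm_num, by norm_num, by norm_num⟩)))
  · exact Or.inl ⟨2, 109, 2, 1, by norm_num, by norm_num, by norm_num⟩
  · exact Or.inl ⟨19, 23, 1, 1, by norm_num, by norm_num, by norm_num⟩
  · exact Or.inr (Or.inl ⟨219, by decide, by norm_num, by norm_num⟩)
  · exact Or.inl ⟨439, 2, 1, 0, by norm_num, by norm_num, by norm_num⟩
  · exact Or.inr (Or.inr (Or.inl ⟨by decide, by omega⟩))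
  · exact Or.inl ⟨3, 7, 2, 2, by norm_num, by norm_num, by norm_num⟩
  · exact Or.inr (Or.inl ⟨221, by decide, by norm_num, by norm_num⟩)
  · exact Or.inl ⟨443, 2, 1, 0, by norm_num, by norm_num, by norm_num⟩
  · exact Or.inr (Or.inr (Or.inr (Or.inr (Or.inl ⟨2, 3, 37, by norm_num, by norm_num, by norm_num, by norm_num⟩))))
  · exact Or.inl ⟨5, 89, 1, 1, by norm_num, by norm_num, by norm_num⟩
  · exact Or.inl ⟨2, 223, 1, 1, by norm_num, by norm_num, by norm_num⟩
  · exact Or.inl ⟨3, 149, 1, 1, by norm_num, by norm_num, by norm_num⟩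
  · exact Or.inl ⟨2, 7, 6, 1, by norm_num, by norm_num, by norm_num⟩
  · exact Or.inl ⟨449, 2, 1, 0, by norm_num, by norm_num, by norm_num⟩
  · exact Or.inr (Or.inl ⟨225, by decide, by norm_num, by norm_num⟩)

theorem cls_451_600 (n : ℕ) (h1 : 451 ≤ n) (h2 : n ≤ 600) : Cls n := by
  unfold Cls
  interval_cases n
  · exact Or.inl ⟨11, 41, 1, 1, by norm_num, by norm_num, by norm_num⟩
  · exact Or.inl ⟨2, 113, 2, 1, by norm_num, by norm_num, by norm_num⟩
  · exact Or.inl ⟨3, 151, 1, 1, by norm_num, by norm_num, by norm_num⟩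
  · exact Or.inl ⟨2, 227, 1, 1, by norm_num, by norm_num, by norm_num⟩
  · exact Or.inr (Or.inr (Or.inr (Or.inl ⟨5, by norm_num, by norm_num, by norm_num⟩)))
  · exact Or.inr (Or.inr (Or.inr (Or.inr (Or.inr (by decide)))))
  · exact Or.inl ⟨457, 2, 1, 0, by norm_num, by norm_num, by norm_num⟩
  · exact Or.inl ⟨2, 229, 1, 1, by norm_num, by norm_num, by norm_num⟩
  · exact Or.inl ⟨3, 17, 3, 1, by norm_num, by norm_num, by norm_num⟩
  · exact Or.inr (Or.inr (Or.inl ⟨by decide, by omega⟩))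
  · exact Or.inl ⟨461, 2, 1, 0, by norm_num, by norm_num, by norm_num⟩
  · exact Or.inr (Or.inl ⟨231, by decide, by norm_num, by norm_num⟩)
  · exact Or.inl ⟨463, 2, 1, 0, by norm_num, by norm_num, by norm_num⟩
  · exact Or.inl ⟨2, 29, 4, 1, by norm_num, by norm_num, by norm_num⟩
  · exact Or.inr (Or.inr (Or.inr (Or.inl ⟨3, by norm_num, by norm_num, by norm_num⟩)))
  · exact Or.inl ⟨2, 233, 1, 1, by norm_num, by norm_num, by norm_num⟩
  · exact Or.inl ⟨467, 2, 1, 0, by norm_num, by norm_num, by norm_num⟩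
  · exact Or.inr (Or.inr (Or.inr (Or.inr (Or.inr (by decide)))))
  · exact Or.inl ⟨7, 67, 1, 1, by norm_num, by norm_num, by norm_num⟩
  · exact Or.inr (Or.inl ⟨235, by decide, by norm_num, by norm_num⟩)
  · exact Or.inl ⟨3, 157, 1, 1, by norm_num, by norm_num, by norm_num⟩
  · exact Or.inl ⟨2, 59, 3, 1, by norm_num, by norm_num, by norm_num⟩
  · exact Or.inl ⟨11, 43, 1, 1, by norm_num, by norm_num, by norm_num⟩
  · exact Or.inr (Or.inl ⟨237, by decide, by norm_num, by norm_num⟩)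
  · exact Or.inl ⟨5, 19, 2, 1, by norm_num, by norm_num, by norm_num⟩
  · exact Or.inr (Or.inr (Or.inl ⟨by decide, by omega⟩))
  · exact Or.inl ⟨3, 53, 2, 1, by norm_num, by norm_num, by norm_num⟩
  · exact Or.inl ⟨2, 239, 1, 1, by norm_num, by norm_num, by norm_num⟩
  · exact Or.inl ⟨479, 2, 1, 0, by norm_num, by norm_num, by norm_num⟩
  · exact Or.inr (Or.inr (Or.inr (Or.inr (Or.inr (by decide)))))
  · exact Or.inl ⟨13, 37, 1, 1, by norm_num, by norm_num, by norm_num⟩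
  · exact Or.inl ⟨2, 241, 1, 1, by norm_num, by norm_num, by norm_num⟩
  · exact Or.inr (Or.inr (Or.inr (Or.inl ⟨3, by norm_num, by norm_num, by norm_num⟩)))
  · exact Or.inl ⟨2, 11, 2, 2, by norm_num, by norm_num, by norm_num⟩
  · exact Or.inl ⟨5, 97, 1, 1, by norm_num, by norm_num, by norm_num⟩
  · exact Or.inl ⟨2, 3, 1, 5, by norm_num, by norm_num, by norm_num⟩
  · exact Or.inl ⟨487, 2, 1, 0, by norm_num, by norm_num, by norm_num⟩
  · exact Or.inl ⟨2, 61, 3, 1, by norm_num, by norm_num, by norm_num⟩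
  · exact Or.inl ⟨3, 163, 1, 1, by norm_num, by norm_num, by norm_num⟩
  · exact Or.inr (Or.inl ⟨245, by decide, by norm_num, by norm_num⟩)
  · exact Or.inl ⟨491, 2, 1, 0, by norm_num, by norm_num, by norm_num⟩
  · exact Or.inr (Or.inr (Or.inr (Or.inr (Or.inl ⟨2, 3, 41, by norm_num, by norm_num, by norm_num, by norm_num⟩))))
  · exact Or.inl ⟨17, 29, 1, 1, by norm_num, by norm_num, by norm_num⟩
  · exact Or.inr (Or.inl ⟨247, by decide, by norm_num, by norm_num⟩)
  · exact Or.inr (Or.inr (Or.inr (Or.inl ⟨3, by norm_num, by norm_num, by norm_num⟩)))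
  · exact Or.inl ⟨2, 31, 4, 1, by norm_num, by norm_num, by norm_num⟩
  · exact Or.inl ⟨7, 71, 1, 1, by norm_num, by norm_num, by norm_num⟩
  · exact Or.inr (Or.inl ⟨249, by decide, by norm_num, by norm_num⟩)
  · exact Or.inl ⟨499, 2, 1, 0, by norm_num, by norm_num, by norm_num⟩
  · exact Or.inl ⟨2, 5, 2, 3, by norm_num, by norm_num, by norm_num⟩
  · exact Or.inl ⟨3, 167, 1, 1, by norm_num, by norm_num, by norm_num⟩
  · exact Or.inl ⟨2, 251, 1, 1, by norm_num, by norm_num, by norm_num⟩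
  · exact Or.inl ⟨503, 2, 1, 0, by norm_num, by norm_num, by norm_num⟩
  · exact Or.inr (Or.inr (Or.inr (Or.inr (Or.inr (by decide)))))
  · exact Or.inl ⟨5, 101, 1, 1, by norm_num, by norm_num, by norm_num⟩
  · exact Or.inr (Or.inl ⟨253, by decide, by norm_num, by norm_num⟩)
  · exact Or.inl ⟨3, 13, 1, 2, by norm_num, by norm_num, by norm_num⟩
  · exact Or.inl ⟨2, 127, 2, 1, by norm_num, by norm_num, by norm_num⟩
  · exact Or.inl ⟨509, 2, 1, 0, by norm_num, by norm_num, by norm_num⟩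
  · exact Or.inr (Or.inl ⟨255, by decide, by norm_num, by norm_num⟩)
  · exact Or.inl ⟨7, 73, 1, 1, by norm_num, by norm_num, by norm_num⟩
  · exact Or.inl ⟨2, 3, 9, 0, by norm_num, by norm_num, by norm_num⟩
  · exact Or.inl ⟨3, 19, 3, 1, by norm_num, by norm_num, by norm_num⟩
  · exact Or.inl ⟨2, 257, 1, 1, by norm_num, by norm_num, by norm_num⟩
  · exact Or.inl ⟨5, 103, 1, 1, by norm_num, by norm_num, by norm_num⟩
  · exact Or.inr (Or.inr (Or.inr (Or.inr (Or.inl ⟨2, 3, 43, by norm_num, by norm_num, by norm_num, by norm_num⟩))))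
  · exact Or.inl ⟨11, 47, 1, 1, by norm_num, by norm_num, by norm_num⟩
  · exact Or.inr (Or.inl ⟨259, by decide, by norm_num, by norm_num⟩)
  · exact Or.inl ⟨3, 173, 1, 1, by norm_num, by norm_num, by norm_num⟩
  · exact Or.inr (Or.inr (Or.inl ⟨by decide, by omega⟩))
  · exact Or.inl ⟨521, 2, 1, 0, by norm_num, by norm_num, by norm_num⟩
  · exact Or.inr (Or.inl ⟨261, by decide, by norm_num, by norm_num⟩)
  · exact Or.inl ⟨523, 2, 1, 0, by norm_num, by norm_num, by norm_num⟩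
  · exact Or.inl ⟨2, 131, 2, 1, by norm_num, by norm_num, by norm_num⟩
  · exact Or.inr (Or.inr (Or.inr (Or.inl ⟨3, by norm_num, by norm_num, by norm_num⟩)))
  · exact Or.inl ⟨2, 263, 1, 1, by norm_num, by norm_num, by norm_num⟩
  · exact Or.inl ⟨17, 31, 1, 1, by norm_num, by norm_num, by norm_num⟩
  · exact Or.inr (Or.inr (Or.inr (Or.inr (Or.inr (by decide)))))
  · exact Or.inl ⟨23, 2, 2, 0, by norm_num, by norm_num, by norm_num⟩
  · exact Or.inr (Or.inl ⟨265, by decide, by norm_num, by norm_num⟩)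
  · exact Or.inl ⟨3, 59, 2, 1, by norm_num, by norm_num, by norm_num⟩
  · exact Or.inr (Or.inr (Or.inl ⟨by decide, by omega⟩))
  · exact Or.inl ⟨13, 41, 1, 1, by norm_num, by norm_num, by norm_num⟩
  · exact Or.inr (Or.inl ⟨267, by decide, by norm_num, by norm_num⟩)
  · exact Or.inl ⟨5, 107, 1, 1, by norm_num, by norm_num, by norm_num⟩
  · exact Or.inl ⟨2, 67, 3, 1, by norm_num, by norm_num, by norm_num⟩
  · exact Or.inl ⟨3, 179, 1, 1, by norm_num, by norm_num, by norm_num⟩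
  · exact Or.inl ⟨2, 269, 1, 1, by norm_num, by norm_num, by norm_num⟩
  · exact Or.inl ⟨7, 11, 2, 1, by norm_num, by norm_num, by norm_num⟩
  · exact Or.inr (Or.inr (Or.inr (Or.inr (Or.inr (by decide)))))
  · exact Or.inl ⟨541, 2, 1, 0, by norm_num, by norm_num, by norm_num⟩
  · exact Or.inl ⟨2, 271, 1, 1, by norm_num, by norm_num, by norm_num⟩
  · exact Or.inl ⟨3, 181, 1, 1, by norm_num, by norm_num, by norm_num⟩
  · exact Or.inl ⟨2, 17, 5, 1, by norm_num, by norm_num, by norm_num⟩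
  · exact Or.inl ⟨5, 109, 1, 1, by norm_num, by norm_num, by norm_num⟩
  · exact Or.inr (Or.inl ⟨273, by decide, by norm_num, by norm_num⟩)
  · exact Or.inl ⟨547, 2, 1, 0, by norm_num, by norm_num, by norm_num⟩
  · exact Or.inl ⟨2, 137, 2, 1, by norm_num, by norm_num, by norm_num⟩
  · exact Or.inl ⟨3, 61, 2, 1, by norm_num, by norm_num, by norm_num⟩
  · exact Or.inr (Or.inl ⟨275, by decide, by norm_num, by norm_num⟩)
  · exact Or.inl ⟨19, 29, 1, 1, by norm_num, by norm_num, by norm_num⟩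
  · exact Or.inr (Or.inr (Or.inr (Or.inr (Or.inr (by decide)))))
  · exact Or.inl ⟨7, 79, 1, 1, by norm_num, by norm_num, by norm_num⟩
  · exact Or.inl ⟨2, 277, 1, 1, by norm_num, by norm_num, by norm_num⟩
  · exact Or.inr (Or.inr (Or.inr (Or.inl ⟨3, by norm_num, by norm_num, by norm_num⟩)))
  · exact Or.inl ⟨2, 139, 2, 1, by norm_num, by norm_num, by norm_num⟩
  · exact Or.inl ⟨557, 2, 1, 0, by norm_num, by norm_num, by norm_num⟩
  · exact Or.inr (Or.inl ⟨279, by decide, by norm_num, by norm_num⟩)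
  · exact Or.inl ⟨13, 43, 1, 1, by norm_num, by norm_num, by norm_num⟩
  · exact Or.inr (Or.inr (Or.inr (Or.inr (Or.inr (by decide)))))
  · exact Or.inr (Or.inr (Or.inr (Or.inl ⟨3, by norm_num, by norm_num, by norm_num⟩)))
  · exact Or.inl ⟨2, 281, 1, 1, by norm_num, by norm_num, by norm_num⟩
  · exact Or.inl ⟨563, 2, 1, 0, by norm_num, by norm_num, by norm_num⟩
  · exact Or.inr (Or.inr (Or.inr (Or.inr (Or.inl ⟨2, 3, 47, by norm_num, by norm_num, by norm_num, by norm_num⟩))))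
  · exact Or.inl ⟨5, 113, 1, 1, by norm_num, by norm_num, by norm_num⟩
  · exact Or.inl ⟨2, 283, 1, 1, by norm_num, by norm_num, by norm_num⟩
  · exact Or.inl ⟨3, 7, 4, 1, by norm_num, by norm_num, by norm_num⟩
  · exact Or.inl ⟨2, 71, 3, 1, by norm_num, by norm_num, by norm_num⟩
  · exact Or.inl ⟨569, 2, 1, 0, by norm_num, by norm_num, by norm_num⟩
  · exact Or.inr (Or.inl ⟨285, by decide, by norm_num, by norm_num⟩)
  · exact Or.inl ⟨571, 2, 1, 0, by norm_num, by norm_num, by norm_num⟩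
  · exact Or.inr (Or.inr (Or.inl ⟨by decide, by omega⟩))
  · exact Or.inl ⟨3, 191, 1, 1, by norm_num, by norm_num, by norm_num⟩
  · exact Or.inr (Or.inl ⟨287, by decide, by norm_num, by norm_num⟩)
  · exact Or.inl ⟨5, 23, 2, 1, by norm_num, by norm_num, by norm_num⟩
  · exact Or.inl ⟨2, 3, 6, 2, by norm_num, by norm_num, by norm_num⟩
  · exact Or.inl ⟨577, 2, 1, 0, by norm_num, by norm_num, by norm_num⟩
  · exact Or.inl ⟨2, 17, 1, 2, by norm_num, by norm_num, by norm_num⟩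
  · exact Or.inl ⟨3, 193, 1, 1, by norm_num, by norm_num, by norm_num⟩
  · exact Or.inr (Or.inr (Or.inl ⟨by decide, by omega⟩))
  · exact Or.inl ⟨7, 83, 1, 1, by norm_num, by norm_num, by norm_num⟩
  · exact Or.inr (Or.inl ⟨291, by decide, by norm_num, by norm_num⟩)
  · exact Or.inl ⟨11, 53, 1, 1, by norm_num, by norm_num, by norm_num⟩
  · exact Or.inl ⟨2, 73, 3, 1, by norm_num, by norm_num, by norm_num⟩
  · exact Or.inr (Or.inr (Or.inr (Or.inl ⟨3, by norm_num, by norm_num, by norm_num⟩)))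
  · exact Or.inl ⟨2, 293, 1, 1, by norm_num, by norm_num, by norm_num⟩
  · exact Or.inl ⟨587, 2, 1, 0, by norm_num, by norm_num, by norm_num⟩
  · exact Or.inr (Or.inr (Or.inr (Or.inr (Or.inr (by decide)))))
  · exact Or.inl ⟨19, 31, 1, 1, by norm_num, by norm_num, by norm_num⟩
  · exact Or.inr (Or.inl ⟨295, by decide, by norm_num, by norm_num⟩)
  · exact Or.inl ⟨3, 197, 1, 1, by norm_num, by norm_num, by norm_num⟩
  · exact Or.inl ⟨2, 37, 4, 1, by norm_num, by norm_num, by norm_num⟩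
  · exact Or.inl ⟨593, 2, 1, 0, by norm_num, by norm_num, by norm_num⟩
  · exact Or.inr (Or.inl ⟨297, by decide, by norm_num, by norm_num⟩)
  · exact Or.inr (Or.inr (Or.inr (Or.inl ⟨5, by norm_num, by norm_num, by norm_num⟩)))
  · exact Or.inl ⟨2, 149, 2, 1, by norm_num, by norm_num, by norm_num⟩
  · exact Or.inl ⟨3, 199, 1, 1, by norm_num, by norm_num, by norm_num⟩
  · exact Or.inr (Or.inl ⟨299, by decide, by norm_num, by norm_num⟩)
  · exact Or.inl ⟨599, 2, 1, 0, by norm_num, by norm_num, by norm_num⟩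
  · exact Or.inr (Or.inr (Or.inr (Or.inr (Or.inr (by decide)))))

theorem cls_601_750 (n : ℕ) (h1 : 601 ≤ n) (h2 : n ≤ 750) : Cls n := by
  unfold Cls
  interval_cases n
  · exact Or.inl ⟨601, 2, 1, 0, by norm_num, by norm_num, by norm_num⟩
  · exact Or.inr (Or.inl ⟨301, by decide, by norm_num, by norm_num⟩)
  · exact Or.inl ⟨3, 67, 2, 1, by norm_num, by norm_num, by norm_num⟩
  · exact Or.inl ⟨2, 151, 2, 1, by norm_num, by norm_num, by norm_num⟩
  · exact Or.inl ⟨5, 11, 1, 2, by norm_num, by norm_num, by norm_num⟩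
  · exact Or.inr (Or.inl ⟨303, by decide, by norm_num, by norm_num⟩)
  · exact Or.inl ⟨607, 2, 1, 0, by norm_num, by norm_num, by norm_num⟩
  · exact Or.inl ⟨2, 19, 5, 1, by norm_num, by norm_num, by norm_num⟩
  · exact Or.inr (Or.inr (Or.inr (Or.inl ⟨3, by norm_num, by norm_num, by norm_num⟩)))
  · exact Or.inr (Or.inl ⟨305, by decide, by norm_num, by norm_num⟩)
  · exact Or.inl ⟨13, 47, 1, 1, by norm_num, by norm_num, by norm_num⟩
  · exact Or.inr (Or.inr (Or.inr (Or.inr (Or.inr (by decide)))))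
  · exact Or.inl ⟨613, 2, 1, 0, by norm_num, by norm_num, by norm_num⟩
  · exact Or.inl ⟨2, 307, 1, 1, by norm_num, by norm_num, by norm_num⟩
  · exact Or.inr (Or.inr (Or.inr (Or.inl ⟨3, by norm_num, by norm_num, by norm_num⟩)))
  · exact Or.inr (Or.inr (Or.inr (Or.inr (Or.inr (by decide)))))
  · exact Or.inl ⟨617, 2, 1, 0, by norm_num, by norm_num, by norm_num⟩
  · exact Or.inr (Or.inl ⟨309, by decide, by norm_num, by norm_num⟩)
  · exact Or.inl ⟨619, 2, 1, 0, by norm_num, by norm_num, by norm_num⟩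
  · exact Or.inr (Or.inr (Or.inl ⟨by decide, by omega⟩))
  · exact Or.inl ⟨3, 23, 3, 1, by norm_num, by norm_num, by norm_num⟩
  · exact Or.inl ⟨2, 311, 1, 1, by norm_num, by norm_num, by norm_num⟩
  · exact Or.inl ⟨7, 89, 1, 1, by norm_num, by norm_num, by norm_num⟩
  · exact Or.inr (Or.inr (Or.inr (Or.inr (Or.inr (by decide)))))
  · exact Or.inl ⟨5, 2, 4, 0, by norm_num, by norm_num, by norm_num⟩
  · exact Or.inl ⟨2, 313, 1, 1, by norm_num, by norm_num, by norm_num⟩
  · exact Or.inr (Or.inr (Or.inr (Or.inl ⟨3, by norm_num, by norm_num, by norm_num⟩)))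
  · exact Or.inl ⟨2, 157, 2, 1, by norm_num, by norm_num, by norm_num⟩
  · exact Or.inl ⟨17, 37, 1, 1, by norm_num, by norm_num, by norm_num⟩
  · exact Or.inr (Or.inl ⟨315, by decide, by norm_num, by norm_num⟩)
  · exact Or.inl ⟨631, 2, 1, 0, by norm_num, by norm_num, by norm_num⟩
  · exact Or.inl ⟨2, 79, 3, 1, by norm_num, by norm_num, by norm_num⟩
  · exact Or.inl ⟨3, 211, 1, 1, by norm_num, by norm_num, by norm_num⟩
  · exact Or.inl ⟨2, 317, 1, 1, by norm_num, by norm_num, by norm_num⟩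
  · exact Or.inl ⟨5, 127, 1, 1, by norm_num, by norm_num, by norm_num⟩
  · exact Or.inr (Or.inr (Or.inr (Or.inr (Or.inl ⟨2, 3, 53, by norm_num, by norm_num, by norm_num, by norm_num⟩))))
  · exact Or.inl ⟨7, 13, 2, 1, by norm_num, by norm_num, by norm_num⟩
  · exact Or.inr (Or.inl ⟨319, by decide, by norm_num, by norm_num⟩)
  · exact Or.inl ⟨3, 71, 2, 1, by norm_num, by norm_num, by norm_num⟩
  · exact Or.inl ⟨2, 5, 7, 1, by norm_num, by norm_num, by norm_num⟩
  · exact Or.inl ⟨641, 2, 1, 0, by norm_num, by norm_num, by norm_num⟩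
  · exact Or.inr (Or.inl ⟨321, by decide, by norm_num, by norm_num⟩)
  · exact Or.inl ⟨643, 2, 1, 0, by norm_num, by norm_num, by norm_num⟩
  · exact Or.inr (Or.inr (Or.inl ⟨by decide, by omega⟩))
  · exact Or.inr (Or.inr (Or.inr (Or.inl ⟨3, by norm_num, by norm_num, by norm_num⟩)))
  · exact Or.inr (Or.inl ⟨323, by decide, by norm_num, by norm_num⟩)
  · exact Or.inl ⟨647, 2, 1, 0, by norm_num, by norm_num, by norm_num⟩
  · exact Or.inl ⟨2, 3, 3, 4, by norm_num, by norm_num, by norm_num⟩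
  · exact Or.inl ⟨11, 59, 1, 1, by norm_num, by norm_num, by norm_num⟩
  · exact Or.inr (Or.inl ⟨325, by decide, by norm_num, by norm_num⟩)
  · exact Or.inr (Or.inr (Or.inr (Or.inl ⟨3, by norm_num, by norm_num, by norm_num⟩)))
  · exact Or.inl ⟨2, 163, 2, 1, by norm_num, by norm_num, by norm_num⟩
  · exact Or.inl ⟨653, 2, 1, 0, by norm_num, by norm_num, by norm_num⟩
  · exact Or.inr (Or.inl ⟨327, by decide, by norm_num, by norm_num⟩)
  · exact Or.inl ⟨5, 131, 1, 1, by norm_num, by norm_num, by norm_num⟩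
  · exact Or.inl ⟨2, 41, 4, 1, by norm_num, by norm_num, by norm_num⟩
  · exact Or.inl ⟨3, 73, 2, 1, by norm_num, by norm_num, by norm_num⟩
  · exact Or.inr (Or.inl ⟨329, by decide, by norm_num, by norm_num⟩)
  · exact Or.inl ⟨659, 2, 1, 0, by norm_num, by norm_num, by norm_num⟩
  · exact Or.inr (Or.inr (Or.inr (Or.inr (Or.inr (by decide)))))
  · exact Or.inl ⟨661, 2, 1, 0, by norm_num, by norm_num, by norm_num⟩
  · exact Or.inl ⟨2, 331, 1, 1, by norm_num, by norm_num, by norm_num⟩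
  · exact Or.inr (Or.inr (Or.inr (Or.inl ⟨3, by norm_num, by norm_num, by norm_num⟩)))
  · exact Or.inl ⟨2, 83, 3, 1, by norm_num, by norm_num, by norm_num⟩
  · exact Or.inr (Or.inr (Or.inr (Or.inl ⟨5, by norm_num, by norm_num, by norm_num⟩)))
  · exact Or.inr (Or.inl ⟨333, by decide, by norm_num, by norm_num⟩)
  · exact Or.inl ⟨23, 29, 1, 1, by norm_num, by norm_num, by norm_num⟩
  · exact Or.inl ⟨2, 167, 2, 1, by norm_num, by norm_num, by norm_num⟩
  · exact Or.inl ⟨3, 223, 1, 1, by norm_num, by norm_num, by norm_num⟩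
  · exact Or.inr (Or.inl ⟨335, by decide, by norm_num, by norm_num⟩)
  · exact Or.inl ⟨11, 61, 1, 1, by norm_num, by norm_num, by norm_num⟩
  · exact Or.inr (Or.inr (Or.inr (Or.inr (Or.inr (by decide)))))
  · exact Or.inl ⟨673, 2, 1, 0, by norm_num, by norm_num, by norm_num⟩
  · exact Or.inl ⟨2, 337, 1, 1, by norm_num, by norm_num, by norm_num⟩
  · exact Or.inl ⟨3, 5, 3, 2, by norm_num, by norm_num, by norm_num⟩
  · exact Or.inl ⟨2, 13, 2, 2, by norm_num, by norm_num, by norm_num⟩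
  · exact Or.inl ⟨677, 2, 1, 0, by norm_num, by norm_num, by norm_num⟩
  · exact Or.inr (Or.inl ⟨339, by decide, by norm_num, by norm_num⟩)
  · exact Or.inl ⟨7, 97, 1, 1, by norm_num, by norm_num, by norm_num⟩
  · exact Or.inr (Or.inr (Or.inl ⟨by decide, by omega⟩))
  · exact Or.inl ⟨3, 227, 1, 1, by norm_num, by norm_num, by norm_num⟩
  · exact Or.inr (Or.inl ⟨341, by decide, by norm_num, by norm_num⟩)
  · exact Or.inl ⟨683, 2, 1, 0, by norm_num, by norm_num, by norm_num⟩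
  · exact Or.inr (Or.inr (Or.inr (Or.inr (Or.inr (by decide)))))
  · exact Or.inl ⟨5, 137, 1, 1, by norm_num, by norm_num, by norm_num⟩
  · exact Or.inl ⟨2, 7, 1, 3, by norm_num, by norm_num, by norm_num⟩
  · exact Or.inl ⟨3, 229, 1, 1, by norm_num, by norm_num, by norm_num⟩
  · exact Or.inl ⟨2, 43, 4, 1, by norm_num, by norm_num, by norm_num⟩
  · exact Or.inl ⟨13, 53, 1, 1, by norm_num, by norm_num, by norm_num⟩
  · exact Or.inr (Or.inl ⟨345, by decide, by norm_num, by norm_num⟩)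
  · exact Or.inl ⟨691, 2, 1, 0, by norm_num, by norm_num, by norm_num⟩
  · exact Or.inl ⟨2, 173, 2, 1, by norm_num, by norm_num, by norm_num⟩
  · exact Or.inr (Or.inr (Or.inr (Or.inl ⟨3, by norm_num, by norm_num, by norm_num⟩)))
  · exact Or.inl ⟨2, 347, 1, 1, by norm_num, by norm_num, by norm_num⟩
  · exact Or.inl ⟨5, 139, 1, 1, by norm_num, by norm_num, by norm_num⟩
  · exact Or.inr (Or.inr (Or.inr (Or.inr (Or.inr (by decide)))))
  · exact Or.inl ⟨17, 41, 1, 1, by norm_num, by norm_num, by norm_num⟩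
  · exact Or.inl ⟨2, 349, 1, 1, by norm_num, by norm_num, by norm_num⟩
  · exact Or.inl ⟨3, 233, 1, 1, by norm_num, by norm_num, by norm_num⟩
  · exact Or.inr (Or.inr (Or.inl ⟨by decide, by omega⟩))
  · exact Or.inl ⟨701, 2, 1, 0, by norm_num, by norm_num, by norm_num⟩
  · exact Or.inr (Or.inl ⟨351, by decide, by norm_num, by norm_num⟩)
  · exact Or.inl ⟨19, 37, 1, 1, by norm_num, by norm_num, by norm_num⟩
  · exact Or.inl ⟨2, 11, 6, 1, by norm_num, by norm_num, by norm_num⟩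
  · exact Or.inr (Or.inr (Or.inr (Or.inl ⟨3, by norm_num, by norm_num, by norm_num⟩)))
  · exact Or.inl ⟨2, 353, 1, 1, by norm_num, by norm_num, by norm_num⟩
  · exact Or.inl ⟨7, 101, 1, 1, by norm_num, by norm_num, by norm_num⟩
  · exact Or.inr (Or.inr (Or.inr (Or.inr (Or.inl ⟨2, 3, 59, by norm_num, by norm_num, by norm_num, by norm_num⟩))))
  · exact Or.inl ⟨709, 2, 1, 0, by norm_num, by norm_num, by norm_num⟩
  · exact Or.inr (Or.inl ⟨355, by decide, by norm_num, by norm_num⟩)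
  · exact Or.inl ⟨3, 79, 2, 1, by norm_num, by norm_num, by norm_num⟩
  · exact Or.inl ⟨2, 89, 3, 1, by norm_num, by norm_num, by norm_num⟩
  · exact Or.inl ⟨23, 31, 1, 1, by norm_num, by norm_num, by norm_num⟩
  · exact Or.inr (Or.inl ⟨357, by decide, by norm_num, by norm_num⟩)
  · exact Or.inr (Or.inr (Or.inr (Or.inl ⟨5, by norm_num, by norm_num, by norm_num⟩)))
  · exact Or.inl ⟨2, 179, 2, 1, by norm_num, by norm_num, by norm_num⟩
  · exact Or.inl ⟨3, 239, 1, 1, by norm_num, by norm_num, by norm_num⟩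
  · exact Or.inl ⟨2, 359, 1, 1, by norm_num, by norm_num, by norm_num⟩
  · exact Or.inl ⟨719, 2, 1, 0, by norm_num, by norm_num, by norm_num⟩
  · exact Or.inr (Or.inr (Or.inr (Or.inr (Or.inr (by decide)))))
  · exact Or.inl ⟨7, 103, 1, 1, by norm_num, by norm_num, by norm_num⟩
  · exact Or.inl ⟨2, 19, 1, 2, by norm_num, by norm_num, by norm_num⟩
  · exact Or.inl ⟨3, 241, 1, 1, by norm_num, by norm_num, by norm_num⟩
  · exact Or.inl ⟨2, 181, 2, 1, by norm_num, by norm_num, by norm_num⟩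
  · exact Or.inl ⟨5, 29, 2, 1, by norm_num, by norm_num, by norm_num⟩
  · exact Or.inr (Or.inl ⟨363, by decide, by norm_num, by norm_num⟩)
  · exact Or.inl ⟨727, 2, 1, 0, by norm_num, by norm_num, by norm_num⟩
  · exact Or.inr (Or.inr (Or.inr (Or.inr (Or.inr (by decide)))))
  · exact Or.inl ⟨3, 2, 6, 0, by norm_num, by norm_num, by norm_num⟩
  · exact Or.inr (Or.inl ⟨365, by decide, by norm_num, by norm_num⟩)
  · exact Or.inl ⟨17, 43, 1, 1, by norm_num, by norm_num, by norm_num⟩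
  · exact Or.inr (Or.inr (Or.inr (Or.inr (Or.inl ⟨2, 3, 61, by norm_num, by norm_num, by norm_num, by norm_num⟩))))
  · exact Or.inl ⟨733, 2, 1, 0, by norm_num, by norm_num, by norm_num⟩
  · exact Or.inl ⟨2, 367, 1, 1, by norm_num, by norm_num, by norm_num⟩
  · exact Or.inr (Or.inr (Or.inr (Or.inl ⟨3, by norm_num, by norm_num, by norm_num⟩)))
  · exact Or.inl ⟨2, 23, 5, 1, by norm_num, by norm_num, by norm_num⟩
  · exact Or.inl ⟨11, 67, 1, 1, by norm_num, by norm_num, by norm_num⟩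
  · exact Or.inr (Or.inl ⟨369, by decide, by norm_num, by norm_num⟩)
  · exact Or.inl ⟨739, 2, 1, 0, by norm_num, by norm_num, by norm_num⟩
  · exact Or.inr (Or.inr (Or.inl ⟨by decide, by omega⟩))
  · exact Or.inr (Or.inr (Or.inr (Or.inl ⟨3, by norm_num, by norm_num, by norm_num⟩)))
  · exact Or.inr (Or.inl ⟨371, by decide, by norm_num, by norm_num⟩)
  · exact Or.inl ⟨743, 2, 1, 0, by norm_num, by norm_num, by norm_num⟩
  · exact Or.inr (Or.inr (Or.inr (Or.inr (Or.inr (by decide)))))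
  · exact Or.inl ⟨5, 149, 1, 1, by norm_num, by norm_num, by norm_num⟩
  · exact Or.inl ⟨2, 373, 1, 1, by norm_num, by norm_num, by norm_num⟩
  · exact Or.inl ⟨3, 83, 2, 1, by norm_num, by norm_num, by norm_num⟩
  · exact Or.inr (Or.inr (Or.inl ⟨by decide, by omega⟩))
  · exact Or.inl ⟨7, 107, 1, 1, by norm_num, by norm_num, by norm_num⟩
  · exact Or.inr (Or.inl ⟨375, by decide, by norm_num, by norm_num⟩)

theorem cls_751_900 (n : ℕ) (h1 : 751 ≤ n) (h2 : n ≤ 900) : Cls n := by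
  unfold Cls
  interval_cases n
  · exact Or.inl ⟨751, 2, 1, 0, by norm_num, by norm_num, by norm_num⟩
  · exact Or.inl ⟨2, 47, 4, 1, by norm_num, by norm_num, by norm_num⟩
  · exact Or.inl ⟨3, 251, 1, 1, by norm_num, by norm_num, by norm_num⟩
  · exact Or.inr (Or.inl ⟨377, by decide, by norm_num, by norm_num⟩)
  · exact Or.inl ⟨5, 151, 1, 1, by norm_num, by norm_num, by norm_num⟩
  · exact Or.inr (Or.inr (Or.inr (Or.inr (Or.inr (by decide)))))
  · exact Or.inl ⟨757, 2, 1, 0, by norm_num, by norm_num, by norm_num⟩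
  · exact Or.inl ⟨2, 379, 1, 1, by norm_num, by norm_num, by norm_num⟩
  · exact Or.inr (Or.inr (Or.inr (Or.inl ⟨3, by norm_num, by norm_num, by norm_num⟩)))
  · exact Or.inr (Or.inr (Or.inl ⟨by decide, by omega⟩))
  · exact Or.inl ⟨761, 2, 1, 0, by norm_num, by norm_num, by norm_num⟩
  · exact Or.inr (Or.inl ⟨381, by decide, by norm_num, by norm_num⟩)
  · exact Or.inl ⟨7, 109, 1, 1, by norm_num, by norm_num, by norm_num⟩
  · exact Or.inl ⟨2, 191, 2, 1, by norm_num, by norm_num, by norm_num⟩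
  · exact Or.inr (Or.inr (Or.inr (Or.inl ⟨3, by norm_num, by norm_num, by norm_num⟩)))
  · exact Or.inl ⟨2, 383, 1, 1, by norm_num, by norm_num, by norm_num⟩
  · exact Or.inl ⟨13, 59, 1, 1, by norm_num, by norm_num, by norm_num⟩
  · exact Or.inl ⟨2, 3, 8, 1, by norm_num, by norm_num, by norm_num⟩
  · exact Or.inl ⟨769, 2, 1, 0, by norm_num, by norm_num, by norm_num⟩
  · exact Or.inr (Or.inl ⟨385, by decide, by norm_num, by norm_num⟩)
  · exact Or.inl ⟨3, 257, 1, 1, by norm_num, by norm_num, by norm_num⟩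
  · exact Or.inl ⟨2, 193, 2, 1, by norm_num, by norm_num, by norm_num⟩
  · exact Or.inl ⟨773, 2, 1, 0, by norm_num, by norm_num, by norm_num⟩
  · exact Or.inr (Or.inl ⟨387, by decide, by norm_num, by norm_num⟩)
  · exact Or.inl ⟨5, 31, 2, 1, by norm_num, by norm_num, by norm_num⟩
  · exact Or.inl ⟨2, 97, 3, 1, by norm_num, by norm_num, by norm_num⟩
  · exact Or.inr (Or.inr (Or.inr (Or.inl ⟨3, by norm_num, by norm_num, by norm_num⟩)))
  · exact Or.inl ⟨2, 389, 1, 1, by norm_num, by norm_num, by norm_num⟩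
  · exact Or.inl ⟨19, 41, 1, 1, by norm_num, by norm_num, by norm_num⟩
  · exact Or.inr (Or.inr (Or.inr (Or.inr (Or.inr (by decide)))))
  · exact Or.inl ⟨11, 71, 1, 1, by norm_num, by norm_num, by norm_num⟩
  · exact Or.inr (Or.inl ⟨391, by decide, by norm_num, by norm_num⟩)
  · exact Or.inl ⟨3, 29, 3, 1, by norm_num, by norm_num, by norm_num⟩
  · exact Or.inl ⟨2, 7, 4, 2, by norm_num, by norm_num, by norm_num⟩
  · exact Or.inl ⟨5, 157, 1, 1, by norm_num, by norm_num, by norm_num⟩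
  · exact Or.inr (Or.inl ⟨393, by decide, by norm_num, by norm_num⟩)
  · exact Or.inl ⟨787, 2, 1, 0, by norm_num, by norm_num, by norm_num⟩
  · exact Or.inl ⟨2, 197, 2, 1, by norm_num, by norm_num, by norm_num⟩
  · exact Or.inl ⟨3, 263, 1, 1, by norm_num, by norm_num, by norm_num⟩
  · exact Or.inr (Or.inl ⟨395, by decide, by norm_num, by norm_num⟩)
  · exact Or.inl ⟨7, 113, 1, 1, by norm_num, by norm_num, by norm_num⟩
  · exact Or.inr (Or.inr (Or.inr (Or.inr (Or.inr (by decide)))))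
  · exact Or.inl ⟨13, 61, 1, 1, by norm_num, by norm_num, by norm_num⟩
  · exact Or.inl ⟨2, 397, 1, 1, by norm_num, by norm_num, by norm_num⟩
  · exact Or.inr (Or.inr (Or.inr (Or.inl ⟨3, by norm_num, by norm_num, by norm_num⟩)))
  · exact Or.inl ⟨2, 199, 2, 1, by norm_num, by norm_num, by norm_num⟩
  · exact Or.inl ⟨797, 2, 1, 0, by norm_num, by norm_num, by norm_num⟩
  · exact Or.inr (Or.inl ⟨399, by decide, by norm_num, by norm_num⟩)
  · exact Or.inl ⟨17, 47, 1, 1, by norm_num, by norm_num, by norm_num⟩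
  · exact Or.inl ⟨2, 5, 5, 2, by norm_num, by norm_num, by norm_num⟩
  · exact Or.inl ⟨3, 89, 2, 1, by norm_num, by norm_num, by norm_num⟩
  · exact Or.inl ⟨2, 401, 1, 1, by norm_num, by norm_num, by norm_num⟩
  · exact Or.inl ⟨11, 73, 1, 1, by norm_num, by norm_num, by norm_num⟩
  · exact Or.inr (Or.inr (Or.inr (Or.inr (Or.inl ⟨2, 3, 67, by norm_num, by norm_num, by norm_num, by norm_num⟩))))
  · exact Or.inr (Or.inr (Or.inr (Or.inl ⟨5, by norm_num, by norm_num, by norm_num⟩)))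
  · exact Or.inr (Or.inl ⟨403, by decide, by norm_num, by norm_num⟩)
  · exact Or.inl ⟨3, 269, 1, 1, by norm_num, by norm_num, by norm_num⟩
  · exact Or.inl ⟨2, 101, 3, 1, by norm_num, by norm_num, by norm_num⟩
  · exact Or.inl ⟨809, 2, 1, 0, by norm_num, by norm_num, by norm_num⟩
  · exact Or.inr (Or.inl ⟨405, by decide, by norm_num, by norm_num⟩)
  · exact Or.inl ⟨811, 2, 1, 0, by norm_num, by norm_num, by norm_num⟩
  · exact Or.inr (Or.inr (Or.inl ⟨by decide, by omega⟩))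
  · exact Or.inl ⟨3, 271, 1, 1, by norm_num, by norm_num, by norm_num⟩
  · exact Or.inr (Or.inl ⟨407, by decide, by norm_num, by norm_num⟩)
  · exact Or.inl ⟨5, 163, 1, 1, by norm_num, by norm_num, by norm_num⟩
  · exact Or.inr (Or.inr (Or.inr (Or.inr (Or.inr (by decide)))))
  · exact Or.inl ⟨19, 43, 1, 1, by norm_num, by norm_num, by norm_num⟩
  · exact Or.inl ⟨2, 409, 1, 1, by norm_num, by norm_num, by norm_num⟩
  · exact Or.inr (Or.inr (Or.inr (Or.inl ⟨3, by norm_num, by norm_num, by norm_num⟩)))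
  · exact Or.inr (Or.inr (Or.inl ⟨by decide, by omega⟩))
  · exact Or.inl ⟨821, 2, 1, 0, by norm_num, by norm_num, by norm_num⟩
  · exact Or.inr (Or.inl ⟨411, by decide, by norm_num, by norm_num⟩)
  · exact Or.inl ⟨823, 2, 1, 0, by norm_num, by norm_num, by norm_num⟩
  · exact Or.inl ⟨2, 103, 3, 1, by norm_num, by norm_num, by norm_num⟩
  · exact Or.inr (Or.inr (Or.inr (Or.inl ⟨3, by norm_num, by norm_num, by norm_num⟩)))
  · exact Or.inr (Or.inl ⟨413, by decide, by norm_num, by norm_num⟩)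
  · exact Or.inl ⟨827, 2, 1, 0, by norm_num, by norm_num, by norm_num⟩
  · exact Or.inr (Or.inr (Or.inr (Or.inr (Or.inr (by decide)))))
  · exact Or.inl ⟨829, 2, 1, 0, by norm_num, by norm_num, by norm_num⟩
  · exact Or.inr (Or.inl ⟨415, by decide, by norm_num, by norm_num⟩)
  · exact Or.inl ⟨3, 277, 1, 1, by norm_num, by norm_num, by norm_num⟩
  · exact Or.inl ⟨2, 13, 6, 1, by norm_num, by norm_num, by norm_num⟩
  · exact Or.inl ⟨7, 17, 2, 1, by norm_num, by norm_num, by norm_num⟩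
  · exact Or.inr (Or.inl ⟨417, by decide, by norm_num, by norm_num⟩)
  · exact Or.inl ⟨5, 167, 1, 1, by norm_num, by norm_num, by norm_num⟩
  · exact Or.inr (Or.inr (Or.inl ⟨by decide, by omega⟩))
  · exact Or.inl ⟨3, 31, 3, 1, by norm_num, by norm_num, by norm_num⟩
  · exact Or.inl ⟨2, 419, 1, 1, by norm_num, by norm_num, by norm_num⟩
  · exact Or.inl ⟨839, 2, 1, 0, by norm_num, by norm_num, by norm_num⟩
  · exact Or.inr (Or.inr (Or.inr (Or.inr (Or.inr (by decide)))))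
  · exact Or.inl ⟨29, 2, 2, 0, by norm_num, by norm_num, by norm_num⟩
  · exact Or.inl ⟨2, 421, 1, 1, by norm_num, by norm_num, by norm_num⟩
  · exact Or.inl ⟨3, 281, 1, 1, by norm_num, by norm_num, by norm_num⟩
  · exact Or.inl ⟨2, 211, 2, 1, by norm_num, by norm_num, by norm_num⟩
  · exact Or.inl ⟨5, 13, 1, 2, by norm_num, by norm_num, by norm_num⟩
  · exact Or.inr (Or.inl ⟨423, by decide, by norm_num, by norm_num⟩)
  · exact Or.inl ⟨7, 11, 1, 2, by norm_num, by norm_num, by norm_num⟩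
  · exact Or.inl ⟨2, 53, 4, 1, by norm_num, by norm_num, by norm_num⟩
  · exact Or.inl ⟨3, 283, 1, 1, by norm_num, by norm_num, by norm_num⟩
  · exact Or.inr (Or.inl ⟨425, by decide, by norm_num, by norm_num⟩)
  · exact Or.inl ⟨23, 37, 1, 1, by norm_num, by norm_num, by norm_num⟩
  · exact Or.inr (Or.inr (Or.inr (Or.inr (Or.inl ⟨2, 3, 71, by norm_num, by norm_num, by norm_num, by norm_num⟩))))
  · exact Or.inl ⟨853, 2, 1, 0, by norm_num, by norm_num, by norm_num⟩
  · exact Or.inr (Or.inl ⟨427, by decide, by norm_num, by norm_num⟩)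
  · exact Or.inr (Or.inr (Or.inr (Or.inl ⟨3, by norm_num, by norm_num, by norm_num⟩)))
  · exact Or.inl ⟨2, 107, 3, 1, by norm_num, by norm_num, by norm_num⟩
  · exact Or.inl ⟨857, 2, 1, 0, by norm_num, by norm_num, by norm_num⟩
  · exact Or.inr (Or.inl ⟨429, by decide, by norm_num, by norm_num⟩)
  · exact Or.inl ⟨859, 2, 1, 0, by norm_num, by norm_num, by norm_num⟩
  · exact Or.inr (Or.inr (Or.inl ⟨by decide, by omega⟩))
  · exact Or.inr (Or.inr (Or.inr (Or.inl ⟨3, by norm_num, by norm_num, by norm_num⟩)))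
  · exact Or.inl ⟨2, 431, 1, 1, by norm_num, by norm_num, by norm_num⟩
  · exact Or.inl ⟨863, 2, 1, 0, by norm_num, by norm_num, by norm_num⟩
  · exact Or.inl ⟨2, 3, 5, 3, by norm_num, by norm_num, by norm_num⟩
  · exact Or.inl ⟨5, 173, 1, 1, by norm_num, by norm_num, by norm_num⟩
  · exact Or.inl ⟨2, 433, 1, 1, by norm_num, by norm_num, by norm_num⟩
  · exact Or.inl ⟨3, 17, 1, 2, by norm_num, by norm_num, by norm_num⟩
  · exact Or.inr (Or.inr (Or.inl ⟨by decide, by omega⟩))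
  · exact Or.inl ⟨11, 79, 1, 1, by norm_num, by norm_num, by norm_num⟩
  · exact Or.inr (Or.inl ⟨435, by decide, by norm_num, by norm_num⟩)
  · exact Or.inl ⟨13, 67, 1, 1, by norm_num, by norm_num, by norm_num⟩
  · exact Or.inl ⟨2, 109, 3, 1, by norm_num, by norm_num, by norm_num⟩
  · exact Or.inl ⟨3, 97, 2, 1, by norm_num, by norm_num, by norm_num⟩
  · exact Or.inr (Or.inl ⟨437, by decide, by norm_num, by norm_num⟩)
  · exact Or.inl ⟨5, 7, 3, 1, by norm_num, by norm_num, by norm_num⟩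
  · exact Or.inr (Or.inr (Or.inr (Or.inr (Or.inl ⟨2, 3, 73, by norm_num, by norm_num, by norm_num, by norm_num⟩))))
  · exact Or.inl ⟨877, 2, 1, 0, by norm_num, by norm_num, by norm_num⟩
  · exact Or.inl ⟨2, 439, 1, 1, by norm_num, by norm_num, by norm_num⟩
  · exact Or.inl ⟨3, 293, 1, 1, by norm_num, by norm_num, by norm_num⟩
  · exact Or.inr (Or.inr (Or.inr (Or.inr (Or.inr (by decide)))))
  · exact Or.inl ⟨881, 2, 1, 0, by norm_num, by norm_num, by norm_num⟩
  · exact Or.inr (Or.inl ⟨441, by decide, by norm_num, by norm_num⟩)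
  · exact Or.inl ⟨883, 2, 1, 0, by norm_num, by norm_num, by norm_num⟩
  · exact Or.inr (Or.inr (Or.inl ⟨by decide, by omega⟩))
  · exact Or.inr (Or.inr (Or.inr (Or.inl ⟨3, by norm_num, by norm_num, by norm_num⟩)))
  · exact Or.inl ⟨2, 443, 1, 1, by norm_num, by norm_num, by norm_num⟩
  · exact Or.inl ⟨887, 2, 1, 0, by norm_num, by norm_num, by norm_num⟩
  · exact Or.inr (Or.inr (Or.inr (Or.inr (Or.inr (by decide)))))
  · exact Or.inl ⟨7, 127, 1, 1, by norm_num, by norm_num, by norm_num⟩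
  · exact Or.inr (Or.inl ⟨445, by decide, by norm_num, by norm_num⟩)
  · exact Or.inl ⟨3, 11, 4, 1, by norm_num, by norm_num, by norm_num⟩
  · exact Or.inl ⟨2, 223, 2, 1, by norm_num, by norm_num, by norm_num⟩
  · exact Or.inl ⟨19, 47, 1, 1, by norm_num, by norm_num, by norm_num⟩
  · exact Or.inr (Or.inl ⟨447, by decide, by norm_num, by norm_num⟩)
  · exact Or.inl ⟨5, 179, 1, 1, by norm_num, by norm_num, by norm_num⟩
  · exact Or.inl ⟨2, 7, 7, 1, by norm_num, by norm_num, by norm_num⟩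
  · exact Or.inr (Or.inr (Or.inr (Or.inl ⟨3, by norm_num, by norm_num, by norm_num⟩)))
  · exact Or.inl ⟨2, 449, 1, 1, by norm_num, by norm_num, by norm_num⟩
  · exact Or.inl ⟨29, 31, 1, 1, by norm_num, by norm_num, by norm_num⟩
  · exact Or.inr (Or.inr (Or.inr (Or.inr (Or.inr (by decide)))))

theorem cls_901_1000 (n : ℕ) (h1 : 901 ≤ n) (h2 : n ≤ 1000) : Cls n := by
  unfold Cls
  interval_cases n
  · exact Or.inl ⟨17, 53, 1, 1, by norm_num, by norm_num, by norm_num⟩
  · exact Or.inr (Or.inl ⟨451, by decide, by norm_num, by norm_num⟩)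
  · exact Or.inr (Or.inr (Or.inr (Or.inl ⟨3, by norm_num, by norm_num, by norm_num⟩)))
  · exact Or.inl ⟨2, 113, 3, 1, by norm_num, by norm_num, by norm_num⟩
  · exact Or.inl ⟨5, 181, 1, 1, by norm_num, by norm_num, by norm_num⟩
  · exact Or.inr (Or.inl ⟨453, by decide, by norm_num, by norm_num⟩)
  · exact Or.inl ⟨907, 2, 1, 0, by norm_num, by norm_num, by norm_num⟩
  · exact Or.inl ⟨2, 227, 2, 1, by norm_num, by norm_num, by norm_num⟩
  · exact Or.inl ⟨3, 101, 2, 1, by norm_num, by norm_num, by norm_num⟩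
  · exact Or.inr (Or.inl ⟨455, by decide, by norm_num, by norm_num⟩)
  · exact Or.inl ⟨911, 2, 1, 0, by norm_num, by norm_num, by norm_num⟩
  · exact Or.inr (Or.inr (Or.inr (Or.inr (Or.inr (by decide)))))
  · exact Or.inl ⟨11, 83, 1, 1, by norm_num, by norm_num, by norm_num⟩
  · exact Or.inl ⟨2, 457, 1, 1, by norm_num, by norm_num, by norm_num⟩
  · exact Or.inr (Or.inr (Or.inr (Or.inl ⟨3, by norm_num, by norm_num, by norm_num⟩)))
  · exact Or.inl ⟨2, 229, 2, 1, by norm_num, by norm_num, by norm_num⟩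
  · exact Or.inl ⟨7, 131, 1, 1, by norm_num, by norm_num, by norm_num⟩
  · exact Or.inr (Or.inl ⟨459, by decide, by norm_num, by norm_num⟩)
  · exact Or.inl ⟨919, 2, 1, 0, by norm_num, by norm_num, by norm_num⟩
  · exact Or.inr (Or.inr (Or.inl ⟨by decide, by omega⟩))
  · exact Or.inl ⟨3, 307, 1, 1, by norm_num, by norm_num, by norm_num⟩
  · exact Or.inl ⟨2, 461, 1, 1, by norm_num, by norm_num, by norm_num⟩
  · exact Or.inl ⟨13, 71, 1, 1, by norm_num, by norm_num, by norm_num⟩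
  · exact Or.inr (Or.inr (Or.inr (Or.inr (Or.inr (by decide)))))
  · exact Or.inl ⟨5, 37, 2, 1, by norm_num, by norm_num, by norm_num⟩
  · exact Or.inl ⟨2, 463, 1, 1, by norm_num, by norm_num, by norm_num⟩
  · exact Or.inl ⟨3, 103, 2, 1, by norm_num, by norm_num, by norm_num⟩
  · exact Or.inl ⟨2, 29, 5, 1, by norm_num, by norm_num, by norm_num⟩
  · exact Or.inl ⟨929, 2, 1, 0, by norm_num, by norm_num, by norm_num⟩
  · exact Or.inr (Or.inl ⟨465, by decide, by norm_num, by norm_num⟩)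
  · exact Or.inl ⟨7, 19, 2, 1, by norm_num, by norm_num, by norm_num⟩
  · exact Or.inl ⟨2, 233, 2, 1, by norm_num, by norm_num, by norm_num⟩
  · exact Or.inl ⟨3, 311, 1, 1, by norm_num, by norm_num, by norm_num⟩
  · exact Or.inl ⟨2, 467, 1, 1, by norm_num, by norm_num, by norm_num⟩
  · exact Or.inr (Or.inr (Or.inr (Or.inl ⟨5, by norm_num, by norm_num, by norm_num⟩)))
  · exact Or.inr (Or.inr (Or.inr (Or.inr (Or.inr (by decide)))))
  · exact Or.inl ⟨937, 2, 1, 0, by norm_num, by norm_num, by norm_num⟩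
  · exact Or.inr (Or.inl ⟨469, by decide, by norm_num, by norm_num⟩)
  · exact Or.inl ⟨3, 313, 1, 1, by norm_num, by norm_num, by norm_num⟩
  · exact Or.inr (Or.inr (Or.inl ⟨by decide, by omega⟩))
  · exact Or.inl ⟨941, 2, 1, 0, by norm_num, by norm_num, by norm_num⟩
  · exact Or.inr (Or.inl ⟨471, by decide, by norm_num, by norm_num⟩)
  · exact Or.inl ⟨23, 41, 1, 1, by norm_num, by norm_num, by norm_num⟩
  · exact Or.inl ⟨2, 59, 4, 1, by norm_num, by norm_num, by norm_num⟩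
  · exact Or.inr (Or.inr (Or.inr (Or.inr (Or.inr (by decide)))))
  · exact Or.inr (Or.inl ⟨473, by decide, by norm_num, by norm_num⟩)
  · exact Or.inl ⟨947, 2, 1, 0, by norm_num, by norm_num, by norm_num⟩
  · exact Or.inr (Or.inr (Or.inr (Or.inr (Or.inl ⟨2, 3, 79, by norm_num, by norm_num, by norm_num, by norm_num⟩))))
  · exact Or.inl ⟨13, 73, 1, 1, by norm_num, by norm_num, by norm_num⟩
  · exact Or.inr (Or.inl ⟨475, by decide, by norm_num, by norm_num⟩)
  · exact Or.inl ⟨3, 317, 1, 1, by norm_num, by norm_num, by norm_num⟩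
  · exact Or.inr (Or.inr (Or.inr (Or.inr (Or.inr (by decide)))))
  · exact Or.inl ⟨953, 2, 1, 0, by norm_num, by norm_num, by norm_num⟩
  · exact Or.inr (Or.inl ⟨477, by decide, by norm_num, by norm_num⟩)
  · exact Or.inl ⟨5, 191, 1, 1, by norm_num, by norm_num, by norm_num⟩
  · exact Or.inl ⟨2, 239, 2, 1, by norm_num, by norm_num, by norm_num⟩
  · exact Or.inr (Or.inr (Or.inr (Or.inl ⟨3, by norm_num, by norm_num, by norm_num⟩)))
  · exact Or.inl ⟨2, 479, 1, 1, by norm_num, by norm_num, by norm_num⟩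
  · exact Or.inl ⟨7, 137, 1, 1, by norm_num, by norm_num, by norm_num⟩
  · exact Or.inr (Or.inr (Or.inr (Or.inr (Or.inr (by decide)))))
  · exact Or.inl ⟨31, 2, 2, 0, by norm_num, by norm_num, by norm_num⟩
  · exact Or.inr (Or.inl ⟨481, by decide, by norm_num, by norm_num⟩)
  · exact Or.inl ⟨3, 107, 2, 1, by norm_num, by norm_num, by norm_num⟩
  · exact Or.inl ⟨2, 241, 2, 1, by norm_num, by norm_num, by norm_num⟩
  · exact Or.inl ⟨5, 193, 1, 1, by norm_num, by norm_num, by norm_num⟩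
  · exact Or.inr (Or.inl ⟨483, by decide, by norm_num, by norm_num⟩)
  · exact Or.inl ⟨967, 2, 1, 0, by norm_num, by norm_num, by norm_num⟩
  · exact Or.inl ⟨2, 11, 3, 2, by norm_num, by norm_num, by norm_num⟩
  · exact Or.inr (Or.inr (Or.inr (Or.inl ⟨3, by norm_num, by norm_num, by norm_num⟩)))
  · exact Or.inr (Or.inl ⟨485, by decide, by norm_num, by norm_num⟩)
  · exact Or.inl ⟨971, 2, 1, 0, by norm_num, by norm_num, by norm_num⟩
  · exact Or.inl ⟨2, 3, 2, 5, by norm_num, by norm_num, by norm_num⟩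
  · exact Or.inl ⟨7, 139, 1, 1, by norm_num, by norm_num, by norm_num⟩
  · exact Or.inl ⟨2, 487, 1, 1, by norm_num, by norm_num, by norm_num⟩
  · exact Or.inr (Or.inr (Or.inr (Or.inl ⟨3, by norm_num, by norm_num, by norm_num⟩)))
  · exact Or.inl ⟨2, 61, 4, 1, by norm_num, by norm_num, by norm_num⟩
  · exact Or.inl ⟨977, 2, 1, 0, by norm_num, by norm_num, by norm_num⟩
  · exact Or.inr (Or.inl ⟨489, by decide, by norm_num, by norm_num⟩)
  · exact Or.inl ⟨11, 89, 1, 1, by norm_num, by norm_num, by norm_num⟩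
  · exact Or.inr (Or.inr (Or.inl ⟨by decide, by omega⟩))
  · exact Or.inl ⟨3, 109, 2, 1, by norm_num, by norm_num, by norm_num⟩
  · exact Or.inl ⟨2, 491, 1, 1, by norm_num, by norm_num, by norm_num⟩
  · exact Or.inl ⟨983, 2, 1, 0, by norm_num, by norm_num, by norm_num⟩
  · exact Or.inr (Or.inr (Or.inr (Or.inr (Or.inr (by decide)))))
  · exact Or.inl ⟨5, 197, 1, 1, by norm_num, by norm_num, by norm_num⟩
  · exact Or.inr (Or.inl ⟨493, by decide, by norm_num, by norm_num⟩)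
  · exact Or.inr (Or.inr (Or.inr (Or.inl ⟨3, by norm_num, by norm_num, by norm_num⟩)))
  · exact Or.inr (Or.inr (Or.inl ⟨by decide, by omega⟩))
  · exact Or.inl ⟨23, 43, 1, 1, by norm_num, by norm_num, by norm_num⟩
  · exact Or.inr (Or.inl ⟨495, by decide, by norm_num, by norm_num⟩)
  · exact Or.inl ⟨991, 2, 1, 0, by norm_num, by norm_num, by norm_num⟩
  · exact Or.inl ⟨2, 31, 5, 1, by norm_num, by norm_num, by norm_num⟩
  · exact Or.inl ⟨3, 331, 1, 1, by norm_num, by norm_num, by norm_num⟩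
  · exact Or.inr (Or.inl ⟨497, by decide, by norm_num, by norm_num⟩)
  · exact Or.inl ⟨5, 199, 1, 1, by norm_num, by norm_num, by norm_num⟩
  · exact Or.inr (Or.inr (Or.inr (Or.inr (Or.inl ⟨2, 3, 83, by norm_num, by norm_num, by norm_num, by norm_num⟩))))
  · exact Or.inl ⟨997, 2, 1, 0, by norm_num, by norm_num, by norm_num⟩
  · exact Or.inl ⟨2, 499, 1, 1, by norm_num, by norm_num, by norm_num⟩
  · exact Or.inl ⟨3, 37, 3, 1, by norm_num, by norm_num, by norm_num⟩
  · exact Or.inl ⟨2, 5, 3, 3, by norm_num, by norm_num, by norm_num⟩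

theorem cls_1001_1092 (n : ℕ) (h1 : 1001 ≤ n) (h2 : n ≤ 1092) : Cls n := by
  unfold Cls
  interval_cases n
  · exact Or.inr (Or.inr (Or.inr (Or.inl ⟨7, by norm_num, by norm_num, by norm_num⟩)))
  · exact Or.inr (Or.inl ⟨501, by decide, by norm_num, by norm_num⟩)
  · exact Or.inl ⟨17, 59, 1, 1, by norm_num, by norm_num, by norm_num⟩
  · exact Or.inl ⟨2, 251, 2, 1, by norm_num, by norm_num, by norm_num⟩
  · exact Or.inr (Or.inr (Or.inr (Or.inl ⟨3, by norm_num, by norm_num, by norm_num⟩)))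
  · exact Or.inl ⟨2, 503, 1, 1, by norm_num, by norm_num, by norm_num⟩
  · exact Or.inl ⟨19, 53, 1, 1, by norm_num, by norm_num, by norm_num⟩
  · exact Or.inr (Or.inr (Or.inr (Or.inr (Or.inr (by decide)))))
  · exact Or.inl ⟨1009, 2, 1, 0, by norm_num, by norm_num, by norm_num⟩
  · exact Or.inr (Or.inl ⟨505, by decide, by norm_num, by norm_num⟩)
  · exact Or.inl ⟨3, 337, 1, 1, by norm_num, by norm_num, by norm_num⟩
  · exact Or.inr (Or.inr (Or.inl ⟨by decide, by omega⟩))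
  · exact Or.inl ⟨1013, 2, 1, 0, by norm_num, by norm_num, by norm_num⟩
  · exact Or.inr (Or.inl ⟨507, by decide, by norm_num, by norm_num⟩)
  · exact Or.inr (Or.inr (Or.inr (Or.inl ⟨5, by norm_num, by norm_num, by norm_num⟩)))
  · exact Or.inl ⟨2, 127, 3, 1, by norm_num, by norm_num, by norm_num⟩
  · exact Or.inl ⟨3, 113, 2, 1, by norm_num, by norm_num, by norm_num⟩
  · exact Or.inl ⟨2, 509, 1, 1, by norm_num, by norm_num, by norm_num⟩
  · exact Or.inl ⟨1019, 2, 1, 0, by norm_num, by norm_num, by norm_num⟩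
  · exact Or.inr (Or.inr (Or.inr (Or.inr (Or.inr (by decide)))))
  · exact Or.inl ⟨1021, 2, 1, 0, by norm_num, by norm_num, by norm_num⟩
  · exact Or.inr (Or.inl ⟨511, by decide, by norm_num, by norm_num⟩)
  · exact Or.inr (Or.inr (Or.inr (Or.inl ⟨3, by norm_num, by norm_num, by norm_num⟩)))
  · exact Or.inl ⟨2, 3, 10, 0, by norm_num, by norm_num, by norm_num⟩
  · exact Or.inl ⟨5, 41, 2, 1, by norm_num, by norm_num, by norm_num⟩
  · exact Or.inr (Or.inl ⟨513, by decide, by norm_num, by norm_num⟩)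
  · exact Or.inl ⟨13, 79, 1, 1, by norm_num, by norm_num, by norm_num⟩
  · exact Or.inl ⟨2, 257, 2, 1, by norm_num, by norm_num, by norm_num⟩
  · exact Or.inl ⟨3, 7, 1, 3, by norm_num, by norm_num, by norm_num⟩
  · exact Or.inr (Or.inl ⟨515, by decide, by norm_num, by norm_num⟩)
  · exact Or.inl ⟨1031, 2, 1, 0, by norm_num, by norm_num, by norm_num⟩
  · exact Or.inr (Or.inr (Or.inr (Or.inr (Or.inr (by decide)))))
  · exact Or.inl ⟨1033, 2, 1, 0, by norm_num, by norm_num, by norm_num⟩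
  · exact Or.inr (Or.inl ⟨517, by decide, by norm_num, by norm_num⟩)
  · exact Or.inr (Or.inr (Or.inr (Or.inl ⟨3, by norm_num, by norm_num, by norm_num⟩)))
  · exact Or.inr (Or.inr (Or.inl ⟨by decide, by omega⟩))
  · exact Or.inl ⟨17, 61, 1, 1, by norm_num, by norm_num, by norm_num⟩
  · exact Or.inr (Or.inl ⟨519, by decide, by norm_num, by norm_num⟩)
  · exact Or.inl ⟨1039, 2, 1, 0, by norm_num, by norm_num, by norm_num⟩
  · exact Or.inr (Or.inr (Or.inr (Or.inr (Or.inr (by decide)))))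
  · exact Or.inl ⟨3, 347, 1, 1, by norm_num, by norm_num, by norm_num⟩
  · exact Or.inl ⟨2, 521, 1, 1, by norm_num, by norm_num, by norm_num⟩
  · exact Or.inl ⟨7, 149, 1, 1, by norm_num, by norm_num, by norm_num⟩
  · exact Or.inr (Or.inr (Or.inr (Or.inr (Or.inr (by decide)))))
  · exact Or.inr (Or.inr (Or.inr (Or.inl ⟨5, by norm_num, by norm_num, by norm_num⟩)))
  · exact Or.inl ⟨2, 523, 1, 1, by norm_num, by norm_num, by norm_num⟩
  · exact Or.inl ⟨3, 349, 1, 1, by norm_num, by norm_num, by norm_num⟩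
  · exact Or.inl ⟨2, 131, 3, 1, by norm_num, by norm_num, by norm_num⟩
  · exact Or.inl ⟨1049, 2, 1, 0, by norm_num, by norm_num, by norm_num⟩
  · exact Or.inr (Or.inl ⟨525, by decide, by norm_num, by norm_num⟩)
  · exact Or.inl ⟨1051, 2, 1, 0, by norm_num, by norm_num, by norm_num⟩
  · exact Or.inl ⟨2, 263, 2, 1, by norm_num, by norm_num, by norm_num⟩
  · exact Or.inl ⟨3, 13, 4, 1, by norm_num, by norm_num, by norm_num⟩
  · exact Or.inr (Or.inl ⟨527, by decide, by norm_num, by norm_num⟩)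
  · exact Or.inl ⟨5, 211, 1, 1, by norm_num, by norm_num, by norm_num⟩
  · exact Or.inr (Or.inr (Or.inr (Or.inr (Or.inr (by decide)))))
  · exact Or.inl ⟨7, 151, 1, 1, by norm_num, by norm_num, by norm_num⟩
  · exact Or.inl ⟨2, 23, 1, 2, by norm_num, by norm_num, by norm_num⟩
  · exact Or.inl ⟨3, 353, 1, 1, by norm_num, by norm_num, by norm_num⟩
  · exact Or.inr (Or.inr (Or.inl ⟨by decide, by omega⟩))
  · exact Or.inl ⟨1061, 2, 1, 0, by norm_num, by norm_num, by norm_num⟩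
  · exact Or.inr (Or.inl ⟨531, by decide, by norm_num, by norm_num⟩)
  · exact Or.inl ⟨1063, 2, 1, 0, by norm_num, by norm_num, by norm_num⟩
  · exact Or.inr (Or.inr (Or.inr (Or.inr (Or.inr (by decide)))))
  · exact Or.inr (Or.inr (Or.inr (Or.inl ⟨3, by norm_num, by norm_num, by norm_num⟩)))
  · exact Or.inr (Or.inl ⟨533, by decide, by norm_num, by norm_num⟩)
  · exact Or.inl ⟨11, 97, 1, 1, by norm_num, by norm_num, by norm_num⟩
  · exact Or.inr (Or.inr (Or.inr (Or.inr (Or.inl ⟨2, 3, 89, by norm_num, by norm_num, by norm_num, by norm_num⟩))))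
  · exact Or.inl ⟨1069, 2, 1, 0, by norm_num, by norm_num, by norm_num⟩
  · exact Or.inr (Or.inl ⟨535, by decide, by norm_num, by norm_num⟩)
  · exact Or.inr (Or.inr (Or.inr (Or.inl ⟨3, by norm_num, by norm_num, by norm_num⟩)))
  · exact Or.inl ⟨2, 67, 4, 1, by norm_num, by norm_num, by norm_num⟩
  · exact Or.inl ⟨29, 37, 1, 1, by norm_num, by norm_num, by norm_num⟩
  · exact Or.inr (Or.inl ⟨537, by decide, by norm_num, by norm_num⟩)
  · exact Or.inl ⟨5, 43, 2, 1, by norm_num, by norm_num, by norm_num⟩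
  · exact Or.inl ⟨2, 269, 2, 1, by norm_num, by norm_num, by norm_num⟩
  · exact Or.inl ⟨3, 359, 1, 1, by norm_num, by norm_num, by norm_num⟩
  · exact Or.inr (Or.inl ⟨539, by decide, by norm_num, by norm_num⟩)
  · exact Or.inl ⟨13, 83, 1, 1, by norm_num, by norm_num, by norm_num⟩
  · exact Or.inr (Or.inr (Or.inr (Or.inr (Or.inr (by decide)))))
  · exact Or.inl ⟨23, 47, 1, 1, by norm_num, by norm_num, by norm_num⟩
  · exact Or.inl ⟨2, 541, 1, 1, by norm_num, by norm_num, by norm_num⟩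
  · exact Or.inl ⟨3, 19, 1, 2, by norm_num, by norm_num, by norm_num⟩
  · exact Or.inl ⟨2, 271, 2, 1, by norm_num, by norm_num, by norm_num⟩
  · exact Or.inr (Or.inr (Or.inr (Or.inl ⟨5, by norm_num, by norm_num, by norm_num⟩)))
  · exact Or.inr (Or.inl ⟨543, by decide, by norm_num, by norm_num⟩)
  · exact Or.inl ⟨1087, 2, 1, 0, by norm_num, by norm_num, by norm_num⟩
  · exact Or.inl ⟨2, 17, 6, 1, by norm_num, by norm_num, by norm_num⟩
  · exact Or.inl ⟨3, 11, 2, 2, by norm_num, by norm_num, by norm_num⟩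
  · exact Or.inr (Or.inl ⟨545, by decide, by norm_num, by norm_num⟩)
  · exact Or.inl ⟨1091, 2, 1, 0, by norm_num, by norm_num, by norm_num⟩
  · exact Or.inr (Or.inr (Or.inr (Or.inr (Or.inr (by decide)))))

theorem cls (n : ℕ) (h1 : 1 ≤ n) (h2 : n ≤ 1092) : Cls n := by
  rcases Nat.lt_or_ge n 151 with h | h
  · exact cls_1_150 n (by omega) (by omega)
  clear h1; have h1 : 151 ≤ n := h; clear h
  rcases Nat.lt_or_ge n 301 with h | h
  · exact cls_151_300 n (by omega) (by omega)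
  clear h1; have h1 : 301 ≤ n := h; clear h
  rcases Nat.lt_or_ge n 451 with h | h
  · exact cls_301_450 n (by omega) (by omega)
  clear h1; have h1 : 451 ≤ n := h; clear h
  rcases Nat.lt_or_ge n 601 with h | h
  · exact cls_451_600 n (by omega) (by omega)
  clear h1; have h1 : 601 ≤ n := h; clear h
  rcases Nat.lt_or_ge n 751 with h | h
  · exact cls_601_750 n (by omega) (by omega)
  clear h1; have h1 : 751 ≤ n := h; clear h
  rcases Nat.lt_or_ge n 901 with h | h
  · exact cls_751_900 n (by omega) (by omega)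
  clear h1; have h1 : 901 ≤ n := h; clear h
  rcases Nat.lt_or_ge n 1001 with h | h
  · exact cls_901_1000 n (by omega) (by omega)
  clear h1; have h1 : 1001 ≤ n := h; clear h
  exact cls_1001_1092 n (by omega) (by omega)

end Cfsg.Agent.Helper3.SmallOrd
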