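import Mathlib
import Cfsg.Agent.Lib.Helper3.SmallOrd

set_option autoImplicit false
set_option maxRecDepth 4000

/-!
Orders excluded by generic Sylow counting (generated).
-/

namespace Cfsg.Agent.Helper3.SmallOrd

variable {G : Type*} [Group G] [Finite G] [IsSimpleGroup G]

theorem no_simple_120 (h : Nat.card G = 120) : False := by
  have hG := Cfsg.Agent.Lead.nonabelian_of_not_prime (G := G) (by rw [h]; norm_num)
  haveI : Fact (Nat.Prime 3) := ⟨by norm_num⟩
  obtain ⟨h1, h2, h3, h4, -⟩ := basic hG (p := 3) (a := 1) (m := 40) (by norm_num)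
    (h.trans (by norm_num)) (by norm_num)
  have h6 := prime_case hG (p := 3) (m := 40) (h.trans (by norm_num)) (by norm_num)
  have h7 := three_primes hG (p := 3) (q := 2) (r := 5) (b := 3) (c := 1)
    (by norm_num) (by norm_num) (by norm_num) (by norm_num) (by norm_num) (h.trans (by norm_num))
  rw [h] at h4
  have hle : Nat.card (Sylow 3 G) ≤ 40 := Nat.le_of_dvd (by norm_num) h1
  generalize Nat.card (Sylow 3 G) = d at *
  interval_cases d <;> first
    | omega
    | (exfalso; exact absurd h4 (by decide))
    | (exfalso; exact h6 (by decide))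

theorem no_simple_180 (h : Nat.card G = 180) : False := by
  have hG := Cfsg.Agent.Lead.nonabelian_of_not_prime (G := G) (by rw [h]; norm_num)
  haveI : Fact (Nat.Prime 5) := ⟨by norm_num⟩
  obtain ⟨h1, h2, h3, h4, -⟩ := basic hG (p := 5) (a := 1) (m := 36) (by norm_num)
    (h.trans (by norm_num)) (by norm_num)
  have h6 := prime_case hG (p := 5) (m := 36) (h.trans (by norm_num)) (by norm_num)
  have h7 := three_primes hG (p := 5) (q := 2) (r := 3) (b := 2) (c := 2)
    (by norm_num) (by norm_num) (by norm_num) (by norm_num) (by norm_num) (h.trans (by norm_num))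
  rw [h] at h4
  have hle : Nat.card (Sylow 5 G) ≤ 36 := Nat.le_of_dvd (by norm_num) h1
  generalize Nat.card (Sylow 5 G) = d at *
  interval_cases d <;> first
    | omega
    | (exfalso; exact h6 (by decide))

theorem no_simple_240 (h : Nat.card G = 240) : False := by
  have hG := Cfsg.Agent.Lead.nonabelian_of_not_prime (G := G) (by rw [h]; norm_num)
  haveI : Fact (Nat.Prime 5) := ⟨by norm_num⟩
  obtain ⟨h1, h2, h3, h4, -⟩ := basic hG (p := 5) (a := 1) (m := 48) (by norm_num)
    (h.trans (by norm_num)) (by norm_num)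
  have h6 := prime_case hG (p := 5) (m := 48) (h.trans (by norm_num)) (by norm_num)
  rw [h] at h4
  have hle : Nat.card (Sylow 5 G) ≤ 48 := Nat.le_of_dvd (by norm_num) h1
  generalize Nat.card (Sylow 5 G) = d at *
  interval_cases d <;> first
    | omega
    | (exfalso; exact absurd h4 (by decide))
    | (exfalso; exact h6 (by decide))

theorem no_simple_252 (h : Nat.card G = 252) : False := by
  have hG := Cfsg.Agent.Lead.nonabelian_of_not_prime (G := G) (by rw [h]; norm_num)
  haveI : Fact (Nat.Prime 7) := ⟨by norm_num⟩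
  obtain ⟨h1, h2, h3, h4, -⟩ := basic hG (p := 7) (a := 1) (m := 36) (by norm_num)
    (h.trans (by norm_num)) (by norm_num)
  have h6 := prime_case hG (p := 7) (m := 36) (h.trans (by norm_num)) (by norm_num)
  rw [h] at h4
  have hle : Nat.card (Sylow 7 G) ≤ 36 := Nat.le_of_dvd (by norm_num) h1
  generalize Nat.card (Sylow 7 G) = d at *
  interval_cases d <;> first
    | omega
    | (exfalso; exact h6 (by decide))

theorem no_simple_264 (h : Nat.card G = 264) : False := by
  have hG := Cfsg.Agent.Lead.nonabelian_of_not_prime (G := G) (by rw [h]; norm_num)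
  haveI : Fact (Nat.Prime 3) := ⟨by norm_num⟩
  obtain ⟨h1, h2, h3, h4, -⟩ := basic hG (p := 3) (a := 1) (m := 88) (by norm_num)
    (h.trans (by norm_num)) (by norm_num)
  have h6 := prime_case hG (p := 3) (m := 88) (h.trans (by norm_num)) (by norm_num)
  have h7 := three_primes hG (p := 3) (q := 2) (r := 11) (b := 3) (c := 1)
    (by norm_num) (by norm_num) (by norm_num) (by norm_num) (by norm_num) (h.trans (by norm_num))
  rw [h] at h4
  have hle : Nat.card (Sylow 3 G) ≤ 88 := Nat.le_of_dvd (by norm_num) h1
  generalize Nat.card (Sylow 3 G) = d at *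
  interval_cases d <;> first
    | omega
    | (exfalso; exact absurd h4 (by decide))
    | (exfalso; exact h6 (by decide))

theorem no_simple_280 (h : Nat.card G = 280) : False := by
  have hG := Cfsg.Agent.Lead.nonabelian_of_not_prime (G := G) (by rw [h]; norm_num)
  haveI : Fact (Nat.Prime 7) := ⟨by norm_num⟩
  obtain ⟨h1, h2, h3, h4, -⟩ := basic hG (p := 7) (a := 1) (m := 40) (by norm_num)
    (h.trans (by norm_num)) (by norm_num)
  have h6 := prime_case hG (p := 7) (m := 40) (h.trans (by norm_num)) (by norm_num)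
  rw [h] at h4
  have hle : Nat.card (Sylow 7 G) ≤ 40 := Nat.le_of_dvd (by norm_num) h1
  generalize Nat.card (Sylow 7 G) = d at *
  interval_cases d <;> first
    | omega
    | (exfalso; exact h6 (by decide))

theorem no_simple_300 (h : Nat.card G = 300) : False := by
  have hG := Cfsg.Agent.Lead.nonabelian_of_not_prime (G := G) (by rw [h]; norm_num)
  haveI : Fact (Nat.Prime 5) := ⟨by norm_num⟩
  obtain ⟨h1, h2, h3, h4, -⟩ := basic hG (p := 5) (a := 2) (m := 12) (by norm_num)
    (h.trans (by norm_num)) (by norm_num)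
  rw [h] at h4
  have hle : Nat.card (Sylow 5 G) ≤ 12 := Nat.le_of_dvd (by norm_num) h1
  generalize Nat.card (Sylow 5 G) = d at *
  interval_cases d <;> first
    | omega
    | (exfalso; exact absurd h4 (by decide))

theorem no_simple_312 (h : Nat.card G = 312) : False := by
  have hG := Cfsg.Agent.Lead.nonabelian_of_not_prime (G := G) (by rw [h]; norm_num)
  haveI : Fact (Nat.Prime 13) := ⟨by norm_num⟩
  obtain ⟨h1, h2, h3, h4, -⟩ := basic hG (p := 13) (a := 1) (m := 24) (by norm_num)
    (h.trans (by norm_num)) (by norm_num)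
  rw [h] at h4
  have hle : Nat.card (Sylow 13 G) ≤ 24 := Nat.le_of_dvd (by norm_num) h1
  generalize Nat.card (Sylow 13 G) = d at *
  interval_cases d <;> first
    | omega

theorem no_simple_336 (h : Nat.card G = 336) : False := by
  have hG := Cfsg.Agent.Lead.nonabelian_of_not_prime (G := G) (by rw [h]; norm_num)
  haveI : Fact (Nat.Prime 3) := ⟨by norm_num⟩
  obtain ⟨h1, h2, h3, h4, -⟩ := basic hG (p := 3) (a := 1) (m := 112) (by norm_num)
    (h.trans (by norm_num)) (by norm_num)
  have h6 := prime_case hG (p := 3) (m := 112) (h.trans (by norm_num)) (by norm_num)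
  have h7 := three_primes hG (p := 3) (q := 2) (r := 7) (b := 4) (c := 1)
    (by norm_num) (by norm_num) (by norm_num) (by norm_num) (by norm_num) (h.trans (by norm_num))
  rw [h] at h4
  have hle : Nat.card (Sylow 3 G) ≤ 112 := Nat.le_of_dvd (by norm_num) h1
  generalize Nat.card (Sylow 3 G) = d at *
  interval_cases d <;> first
    | omega
    | (exfalso; exact absurd h4 (by decide))
    | (exfalso; exact h6 (by decide))

theorem no_simple_396 (h : Nat.card G = 396) : False := by
  have hG := Cfsg.Agent.Lead.nonabelian_of_not_prime (G := G) (by rw [h]; norm_num)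
  haveI : Fact (Nat.Prime 11) := ⟨by norm_num⟩
  obtain ⟨h1, h2, h3, h4, -⟩ := basic hG (p := 11) (a := 1) (m := 36) (by norm_num)
    (h.trans (by norm_num)) (by norm_num)
  have h6 := prime_case hG (p := 11) (m := 36) (h.trans (by norm_num)) (by norm_num)
  rw [h] at h4
  have hle : Nat.card (Sylow 11 G) ≤ 36 := Nat.le_of_dvd (by norm_num) h1
  generalize Nat.card (Sylow 11 G) = d at *
  interval_cases d <;> first
    | omega
    | (exfalso; exact h6 (by decide))

theorem no_simple_408 (h : Nat.card G = 408) : False := by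
  have hG := Cfsg.Agent.Lead.nonabelian_of_not_prime (G := G) (by rw [h]; norm_num)
  haveI : Fact (Nat.Prime 17) := ⟨by norm_num⟩
  obtain ⟨h1, h2, h3, h4, -⟩ := basic hG (p := 17) (a := 1) (m := 24) (by norm_num)
    (h.trans (by norm_num)) (by norm_num)
  rw [h] at h4
  have hle : Nat.card (Sylow 17 G) ≤ 24 := Nat.le_of_dvd (by norm_num) h1
  generalize Nat.card (Sylow 17 G) = d at *
  interval_cases d <;> first
    | omega

theorem no_simple_456 (h : Nat.card G = 456) : False := by
  have hG := Cfsg.Agent.Lead.nonabelian_of_not_prime (G := G) (by rw [h]; norm_num)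
  haveI : Fact (Nat.Prime 19) := ⟨by norm_num⟩
  obtain ⟨h1, h2, h3, h4, -⟩ := basic hG (p := 19) (a := 1) (m := 24) (by norm_num)
    (h.trans (by norm_num)) (by norm_num)
  rw [h] at h4
  have hle : Nat.card (Sylow 19 G) ≤ 24 := Nat.le_of_dvd (by norm_num) h1
  generalize Nat.card (Sylow 19 G) = d at *
  interval_cases d <;> first
    | omega

theorem no_simple_468 (h : Nat.card G = 468) : False := by
  have hG := Cfsg.Agent.Lead.nonabelian_of_not_prime (G := G) (by rw [h]; norm_num)
  haveI : Fact (Nat.Prime 13) := ⟨by norm_num⟩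
  obtain ⟨h1, h2, h3, h4, -⟩ := basic hG (p := 13) (a := 1) (m := 36) (by norm_num)
    (h.trans (by norm_num)) (by norm_num)
  rw [h] at h4
  have hle : Nat.card (Sylow 13 G) ≤ 36 := Nat.le_of_dvd (by norm_num) h1
  generalize Nat.card (Sylow 13 G) = d at *
  interval_cases d <;> first
    | omega

theorem no_simple_480 (h : Nat.card G = 480) : False := by
  have hG := Cfsg.Agent.Lead.nonabelian_of_not_prime (G := G) (by rw [h]; norm_num)
  haveI : Fact (Nat.Prime 5) := ⟨by norm_num⟩
  obtain ⟨h1, h2, h3, h4, -⟩ := basic hG (p := 5) (a := 1) (m := 96) (by norm_num)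
    (h.trans (by norm_num)) (by norm_num)
  have h6 := prime_case hG (p := 5) (m := 96) (h.trans (by norm_num)) (by norm_num)
  have h7 := three_primes hG (p := 5) (q := 2) (r := 3) (b := 5) (c := 1)
    (by norm_num) (by norm_num) (by norm_num) (by norm_num) (by norm_num) (h.trans (by norm_num))
  rw [h] at h4
  have hle : Nat.card (Sylow 5 G) ≤ 96 := Nat.le_of_dvd (by norm_num) h1
  generalize Nat.card (Sylow 5 G) = d at *
  interval_cases d <;> first
    | omega
    | (exfalso; exact absurd h4 (by decide))
    | (exfalso; exact h6 (by decide))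

theorem no_simple_528 (h : Nat.card G = 528) : False := by
  have hG := Cfsg.Agent.Lead.nonabelian_of_not_prime (G := G) (by rw [h]; norm_num)
  haveI : Fact (Nat.Prime 11) := ⟨by norm_num⟩
  obtain ⟨h1, h2, h3, h4, -⟩ := basic hG (p := 11) (a := 1) (m := 48) (by norm_num)
    (h.trans (by norm_num)) (by norm_num)
  have h7 := three_primes hG (p := 11) (q := 2) (r := 3) (b := 4) (c := 1)
    (by norm_num) (by norm_num) (by norm_num) (by norm_num) (by norm_num) (h.trans (by norm_num))
  rw [h] at h4
  have hle : Nat.card (Sylow 11 G) ≤ 48 := Nat.le_of_dvd (by norm_num) h1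
  generalize Nat.card (Sylow 11 G) = d at *
  interval_cases d <;> first
    | omega

theorem no_simple_540 (h : Nat.card G = 540) : False := by
  have hG := Cfsg.Agent.Lead.nonabelian_of_not_prime (G := G) (by rw [h]; norm_num)
  haveI : Fact (Nat.Prime 5) := ⟨by norm_num⟩
  obtain ⟨h1, h2, h3, h4, -⟩ := basic hG (p := 5) (a := 1) (m := 108) (by norm_num)
    (h.trans (by norm_num)) (by norm_num)
  have h6 := prime_case hG (p := 5) (m := 108) (h.trans (by norm_num)) (by norm_num)
  rw [h] at h4
  have hle : Nat.card (Sylow 5 G) ≤ 108 := Nat.le_of_dvd (by norm_num) h1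
  generalize Nat.card (Sylow 5 G) = d at *
  interval_cases d <;> first
    | omega
    | (exfalso; exact absurd h4 (by decide))
    | (exfalso; exact h6 (by decide))

theorem no_simple_552 (h : Nat.card G = 552) : False := by
  have hG := Cfsg.Agent.Lead.nonabelian_of_not_prime (G := G) (by rw [h]; norm_num)
  haveI : Fact (Nat.Prime 23) := ⟨by norm_num⟩
  obtain ⟨h1, h2, h3, h4, -⟩ := basic hG (p := 23) (a := 1) (m := 24) (by norm_num)
    (h.trans (by norm_num)) (by norm_num)
  have h6 := prime_case hG (p := 23) (m := 24) (h.trans (by norm_num)) (by norm_num)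
  rw [h] at h4
  have hle : Nat.card (Sylow 23 G) ≤ 24 := Nat.le_of_dvd (by norm_num) h1
  generalize Nat.card (Sylow 23 G) = d at *
  interval_cases d <;> first
    | omega
    | (exfalso; exact h6 (by decide))

theorem no_simple_560 (h : Nat.card G = 560) : False := by
  have hG := Cfsg.Agent.Lead.nonabelian_of_not_prime (G := G) (by rw [h]; norm_num)
  haveI : Fact (Nat.Prime 7) := ⟨by norm_num⟩
  obtain ⟨h1, h2, h3, h4, -⟩ := basic hG (p := 7) (a := 1) (m := 80) (by norm_num)
    (h.trans (by norm_num)) (by norm_num)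
  have h7 := three_primes hG (p := 7) (q := 2) (r := 5) (b := 4) (c := 1)
    (by norm_num) (by norm_num) (by norm_num) (by norm_num) (by norm_num) (h.trans (by norm_num))
  rw [h] at h4
  have hle : Nat.card (Sylow 7 G) ≤ 80 := Nat.le_of_dvd (by norm_num) h1
  generalize Nat.card (Sylow 7 G) = d at *
  interval_cases d <;> first
    | omega

theorem no_simple_588 (h : Nat.card G = 588) : False := by
  have hG := Cfsg.Agent.Lead.nonabelian_of_not_prime (G := G) (by rw [h]; norm_num)
  haveI : Fact (Nat.Prime 7) := ⟨by norm_num⟩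
  obtain ⟨h1, h2, h3, h4, -⟩ := basic hG (p := 7) (a := 2) (m := 12) (by norm_num)
    (h.trans (by norm_num)) (by norm_num)
  rw [h] at h4
  have hle : Nat.card (Sylow 7 G) ≤ 12 := Nat.le_of_dvd (by norm_num) h1
  generalize Nat.card (Sylow 7 G) = d at *
  interval_cases d <;> first
    | omega

theorem no_simple_600 (h : Nat.card G = 600) : False := by
  have hG := Cfsg.Agent.Lead.nonabelian_of_not_prime (G := G) (by rw [h]; norm_num)
  haveI : Fact (Nat.Prime 5) := ⟨by norm_num⟩
  obtain ⟨h1, h2, h3, h4, -⟩ := basic hG (p := 5) (a := 2) (m := 24) (by norm_num)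
    (h.trans (by norm_num)) (by norm_num)
  rw [h] at h4
  have hle : Nat.card (Sylow 5 G) ≤ 24 := Nat.le_of_dvd (by norm_num) h1
  generalize Nat.card (Sylow 5 G) = d at *
  interval_cases d <;> first
    | omega
    | (exfalso; exact absurd h4 (by decide))

theorem no_simple_616 (h : Nat.card G = 616) : False := by
  have hG := Cfsg.Agent.Lead.nonabelian_of_not_prime (G := G) (by rw [h]; norm_num)
  haveI : Fact (Nat.Prime 11) := ⟨by norm_num⟩
  obtain ⟨h1, h2, h3, h4, -⟩ := basic hG (p := 11) (a := 1) (m := 56) (by norm_num)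
    (h.trans (by norm_num)) (by norm_num)
  have h6 := prime_case hG (p := 11) (m := 56) (h.trans (by norm_num)) (by norm_num)
  rw [h] at h4
  have hle : Nat.card (Sylow 11 G) ≤ 56 := Nat.le_of_dvd (by norm_num) h1
  generalize Nat.card (Sylow 11 G) = d at *
  interval_cases d <;> first
    | omega
    | (exfalso; exact h6 (by decide))

theorem no_simple_624 (h : Nat.card G = 624) : False := by
  have hG := Cfsg.Agent.Lead.nonabelian_of_not_prime (G := G) (by rw [h]; norm_num)
  haveI : Fact (Nat.Prime 13) := ⟨by norm_num⟩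
  obtain ⟨h1, h2, h3, h4, -⟩ := basic hG (p := 13) (a := 1) (m := 48) (by norm_num)
    (h.trans (by norm_num)) (by norm_num)
  rw [h] at h4
  have hle : Nat.card (Sylow 13 G) ≤ 48 := Nat.le_of_dvd (by norm_num) h1
  generalize Nat.card (Sylow 13 G) = d at *
  interval_cases d <;> first
    | omega

theorem no_simple_672 (h : Nat.card G = 672) : False := by
  have hG := Cfsg.Agent.Lead.nonabelian_of_not_prime (G := G) (by rw [h]; norm_num)
  haveI : Fact (Nat.Prime 7) := ⟨by norm_num⟩
  obtain ⟨h1, h2, h3, h4, -⟩ := basic hG (p := 7) (a := 1) (m := 96) (by norm_num)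
    (h.trans (by norm_num)) (by norm_num)
  have h7 := three_primes hG (p := 7) (q := 2) (r := 3) (b := 5) (c := 1)
    (by norm_num) (by norm_num) (by norm_num) (by norm_num) (by norm_num) (h.trans (by norm_num))
  rw [h] at h4
  have hle : Nat.card (Sylow 7 G) ≤ 96 := Nat.le_of_dvd (by norm_num) h1
  generalize Nat.card (Sylow 7 G) = d at *
  interval_cases d <;> first
    | omega

theorem no_simple_684 (h : Nat.card G = 684) : False := by
  have hG := Cfsg.Agent.Lead.nonabelian_of_not_prime (G := G) (by rw [h]; norm_num)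
  haveI : Fact (Nat.Prime 19) := ⟨by norm_num⟩
  obtain ⟨h1, h2, h3, h4, -⟩ := basic hG (p := 19) (a := 1) (m := 36) (by norm_num)
    (h.trans (by norm_num)) (by norm_num)
  rw [h] at h4
  have hle : Nat.card (Sylow 19 G) ≤ 36 := Nat.le_of_dvd (by norm_num) h1
  generalize Nat.card (Sylow 19 G) = d at *
  interval_cases d <;> first
    | omega

theorem no_simple_696 (h : Nat.card G = 696) : False := by
  have hG := Cfsg.Agent.Lead.nonabelian_of_not_prime (G := G) (by rw [h]; norm_num)
  haveI : Fact (Nat.Prime 29) := ⟨by norm_num⟩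
  obtain ⟨h1, h2, h3, h4, -⟩ := basic hG (p := 29) (a := 1) (m := 24) (by norm_num)
    (h.trans (by norm_num)) (by norm_num)
  rw [h] at h4
  have hle : Nat.card (Sylow 29 G) ≤ 24 := Nat.le_of_dvd (by norm_num) h1
  generalize Nat.card (Sylow 29 G) = d at *
  interval_cases d <;> first
    | omega

theorem no_simple_728 (h : Nat.card G = 728) : False := by
  have hG := Cfsg.Agent.Lead.nonabelian_of_not_prime (G := G) (by rw [h]; norm_num)
  haveI : Fact (Nat.Prime 7) := ⟨by norm_num⟩
  obtain ⟨h1, h2, h3, h4, -⟩ := basic hG (p := 7) (a := 1) (m := 104) (by norm_num)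
    (h.trans (by norm_num)) (by norm_num)
  rw [h] at h4
  have hle : Nat.card (Sylow 7 G) ≤ 104 := Nat.le_of_dvd (by norm_num) h1
  generalize Nat.card (Sylow 7 G) = d at *
  interval_cases d <;> first
    | omega
    | (exfalso; exact absurd h4 (by decide))

theorem no_simple_744 (h : Nat.card G = 744) : False := by
  have hG := Cfsg.Agent.Lead.nonabelian_of_not_prime (G := G) (by rw [h]; norm_num)
  haveI : Fact (Nat.Prime 31) := ⟨by norm_num⟩
  obtain ⟨h1, h2, h3, h4, -⟩ := basic hG (p := 31) (a := 1) (m := 24) (by norm_num)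
    (h.trans (by norm_num)) (by norm_num)
  rw [h] at h4
  have hle : Nat.card (Sylow 31 G) ≤ 24 := Nat.le_of_dvd (by norm_num) h1
  generalize Nat.card (Sylow 31 G) = d at *
  interval_cases d <;> first
    | omega

theorem no_simple_780 (h : Nat.card G = 780) : False := by
  have hG := Cfsg.Agent.Lead.nonabelian_of_not_prime (G := G) (by rw [h]; norm_num)
  haveI : Fact (Nat.Prime 13) := ⟨by norm_num⟩
  obtain ⟨h1, h2, h3, h4, -⟩ := basic hG (p := 13) (a := 1) (m := 60) (by norm_num)
    (h.trans (by norm_num)) (by norm_num)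
  rw [h] at h4
  have hle : Nat.card (Sylow 13 G) ≤ 60 := Nat.le_of_dvd (by norm_num) h1
  generalize Nat.card (Sylow 13 G) = d at *
  interval_cases d <;> first
    | omega

theorem no_simple_792 (h : Nat.card G = 792) : False := by
  have hG := Cfsg.Agent.Lead.nonabelian_of_not_prime (G := G) (by rw [h]; norm_num)
  haveI : Fact (Nat.Prime 11) := ⟨by norm_num⟩
  obtain ⟨h1, h2, h3, h4, -⟩ := basic hG (p := 11) (a := 1) (m := 72) (by norm_num)
    (h.trans (by norm_num)) (by norm_num)
  have h7 := three_primes hG (p := 11) (q := 2) (r := 3) (b := 3) (c := 2)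
    (by norm_num) (by norm_num) (by norm_num) (by norm_num) (by norm_num) (h.trans (by norm_num))
  rw [h] at h4
  have hle : Nat.card (Sylow 11 G) ≤ 72 := Nat.le_of_dvd (by norm_num) h1
  generalize Nat.card (Sylow 11 G) = d at *
  interval_cases d <;> first
    | omega

theorem no_simple_816 (h : Nat.card G = 816) : False := by
  have hG := Cfsg.Agent.Lead.nonabelian_of_not_prime (G := G) (by rw [h]; norm_num)
  haveI : Fact (Nat.Prime 17) := ⟨by norm_num⟩
  obtain ⟨h1, h2, h3, h4, -⟩ := basic hG (p := 17) (a := 1) (m := 48) (by norm_num)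
    (h.trans (by norm_num)) (by norm_num)
  rw [h] at h4
  have hle : Nat.card (Sylow 17 G) ≤ 48 := Nat.le_of_dvd (by norm_num) h1
  generalize Nat.card (Sylow 17 G) = d at *
  interval_cases d <;> first
    | omega

theorem no_simple_828 (h : Nat.card G = 828) : False := by
  have hG := Cfsg.Agent.Lead.nonabelian_of_not_prime (G := G) (by rw [h]; norm_num)
  haveI : Fact (Nat.Prime 23) := ⟨by norm_num⟩
  obtain ⟨h1, h2, h3, h4, -⟩ := basic hG (p := 23) (a := 1) (m := 36) (by norm_num)
    (h.trans (by norm_num)) (by norm_num)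
  rw [h] at h4
  have hle : Nat.card (Sylow 23 G) ≤ 36 := Nat.le_of_dvd (by norm_num) h1
  generalize Nat.card (Sylow 23 G) = d at *
  interval_cases d <;> first
    | omega

theorem no_simple_880 (h : Nat.card G = 880) : False := by
  have hG := Cfsg.Agent.Lead.nonabelian_of_not_prime (G := G) (by rw [h]; norm_num)
  haveI : Fact (Nat.Prime 11) := ⟨by norm_num⟩
  obtain ⟨h1, h2, h3, h4, -⟩ := basic hG (p := 11) (a := 1) (m := 80) (by norm_num)
    (h.trans (by norm_num)) (by norm_num)
  rw [h] at h4
  have hle : Nat.card (Sylow 11 G) ≤ 80 := Nat.le_of_dvd (by norm_num) h1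
  generalize Nat.card (Sylow 11 G) = d at *
  interval_cases d <;> first
    | omega

theorem no_simple_888 (h : Nat.card G = 888) : False := by
  have hG := Cfsg.Agent.Lead.nonabelian_of_not_prime (G := G) (by rw [h]; norm_num)
  haveI : Fact (Nat.Prime 37) := ⟨by norm_num⟩
  obtain ⟨h1, h2, h3, h4, -⟩ := basic hG (p := 37) (a := 1) (m := 24) (by norm_num)
    (h.trans (by norm_num)) (by norm_num)
  rw [h] at h4
  have hle : Nat.card (Sylow 37 G) ≤ 24 := Nat.le_of_dvd (by norm_num) h1
  generalize Nat.card (Sylow 37 G) = d at *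
  interval_cases d <;> first
    | omega

theorem no_simple_912 (h : Nat.card G = 912) : False := by
  have hG := Cfsg.Agent.Lead.nonabelian_of_not_prime (G := G) (by rw [h]; norm_num)
  haveI : Fact (Nat.Prime 19) := ⟨by norm_num⟩
  obtain ⟨h1, h2, h3, h4, -⟩ := basic hG (p := 19) (a := 1) (m := 48) (by norm_num)
    (h.trans (by norm_num)) (by norm_num)
  rw [h] at h4
  have hle : Nat.card (Sylow 19 G) ≤ 48 := Nat.le_of_dvd (by norm_num) h1
  generalize Nat.card (Sylow 19 G) = d at *
  interval_cases d <;> first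
    | omega

theorem no_simple_924 (h : Nat.card G = 924) : False := by
  have hG := Cfsg.Agent.Lead.nonabelian_of_not_prime (G := G) (by rw [h]; norm_num)
  haveI : Fact (Nat.Prime 11) := ⟨by norm_num⟩
  obtain ⟨h1, h2, h3, h4, -⟩ := basic hG (p := 11) (a := 1) (m := 84) (by norm_num)
    (h.trans (by norm_num)) (by norm_num)
  have h6 := prime_case hG (p := 11) (m := 84) (h.trans (by norm_num)) (by norm_num)
  rw [h] at h4
  have hle : Nat.card (Sylow 11 G) ≤ 84 := Nat.le_of_dvd (by norm_num) h1
  generalize Nat.card (Sylow 11 G) = d at *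
  interval_cases d <;> first
    | omega
    | (exfalso; exact h6 (by decide))

theorem no_simple_936 (h : Nat.card G = 936) : False := by
  have hG := Cfsg.Agent.Lead.nonabelian_of_not_prime (G := G) (by rw [h]; norm_num)
  haveI : Fact (Nat.Prime 13) := ⟨by norm_num⟩
  obtain ⟨h1, h2, h3, h4, -⟩ := basic hG (p := 13) (a := 1) (m := 72) (by norm_num)
    (h.trans (by norm_num)) (by norm_num)
  rw [h] at h4
  have hle : Nat.card (Sylow 13 G) ≤ 72 := Nat.le_of_dvd (by norm_num) h1
  generalize Nat.card (Sylow 13 G) = d at *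
  interval_cases d <;> first
    | omega

theorem no_simple_945 (h : Nat.card G = 945) : False := by
  have hG := Cfsg.Agent.Lead.nonabelian_of_not_prime (G := G) (by rw [h]; norm_num)
  haveI : Fact (Nat.Prime 3) := ⟨by norm_num⟩
  obtain ⟨h1, h2, h3, h4, -⟩ := basic hG (p := 3) (a := 3) (m := 35) (by norm_num)
    (h.trans (by norm_num)) (by norm_num)
  rw [h] at h4
  have hle : Nat.card (Sylow 3 G) ≤ 35 := Nat.le_of_dvd (by norm_num) h1
  generalize Nat.card (Sylow 3 G) = d at *
  interval_cases d <;> first
    | omega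
    | (exfalso; exact absurd h4 (by decide))

theorem no_simple_952 (h : Nat.card G = 952) : False := by
  have hG := Cfsg.Agent.Lead.nonabelian_of_not_prime (G := G) (by rw [h]; norm_num)
  haveI : Fact (Nat.Prime 17) := ⟨by norm_num⟩
  obtain ⟨h1, h2, h3, h4, -⟩ := basic hG (p := 17) (a := 1) (m := 56) (by norm_num)
    (h.trans (by norm_num)) (by norm_num)
  rw [h] at h4
  have hle : Nat.card (Sylow 17 G) ≤ 56 := Nat.le_of_dvd (by norm_num) h1
  generalize Nat.card (Sylow 17 G) = d at *
  interval_cases d <;> first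
    | omega

theorem no_simple_984 (h : Nat.card G = 984) : False := by
  have hG := Cfsg.Agent.Lead.nonabelian_of_not_prime (G := G) (by rw [h]; norm_num)
  haveI : Fact (Nat.Prime 41) := ⟨by norm_num⟩
  obtain ⟨h1, h2, h3, h4, -⟩ := basic hG (p := 41) (a := 1) (m := 24) (by norm_num)
    (h.trans (by norm_num)) (by norm_num)
  rw [h] at h4
  have hle : Nat.card (Sylow 41 G) ≤ 24 := Nat.le_of_dvd (by norm_num) h1
  generalize Nat.card (Sylow 41 G) = d at *
  interval_cases d <;> first
    | omega

theorem no_simple_1008 (h : Nat.card G = 1008) : False := by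
  have hG := Cfsg.Agent.Lead.nonabelian_of_not_prime (G := G) (by rw [h]; norm_num)
  haveI : Fact (Nat.Prime 7) := ⟨by norm_num⟩
  obtain ⟨h1, h2, h3, h4, -⟩ := basic hG (p := 7) (a := 1) (m := 144) (by norm_num)
    (h.trans (by norm_num)) (by norm_num)
  have h7 := three_primes hG (p := 7) (q := 2) (r := 3) (b := 4) (c := 2)
    (by norm_num) (by norm_num) (by norm_num) (by norm_num) (by norm_num) (h.trans (by norm_num))
  rw [h] at h4
  have hle : Nat.card (Sylow 7 G) ≤ 144 := Nat.le_of_dvd (by norm_num) h1
  generalize Nat.card (Sylow 7 G) = d at *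
  interval_cases d <;> first
    | omega

theorem no_simple_1020 (h : Nat.card G = 1020) : False := by
  have hG := Cfsg.Agent.Lead.nonabelian_of_not_prime (G := G) (by rw [h]; norm_num)
  haveI : Fact (Nat.Prime 17) := ⟨by norm_num⟩
  obtain ⟨h1, h2, h3, h4, -⟩ := basic hG (p := 17) (a := 1) (m := 60) (by norm_num)
    (h.trans (by norm_num)) (by norm_num)
  rw [h] at h4
  have hle : Nat.card (Sylow 17 G) ≤ 60 := Nat.le_of_dvd (by norm_num) h1
  generalize Nat.card (Sylow 17 G) = d at *
  interval_cases d <;> first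
    | omega

theorem no_simple_1032 (h : Nat.card G = 1032) : False := by
  have hG := Cfsg.Agent.Lead.nonabelian_of_not_prime (G := G) (by rw [h]; norm_num)
  haveI : Fact (Nat.Prime 43) := ⟨by norm_num⟩
  obtain ⟨h1, h2, h3, h4, -⟩ := basic hG (p := 43) (a := 1) (m := 24) (by norm_num)
    (h.trans (by norm_num)) (by norm_num)
  rw [h] at h4
  have hle : Nat.card (Sylow 43 G) ≤ 24 := Nat.le_of_dvd (by norm_num) h1
  generalize Nat.card (Sylow 43 G) = d at *
  interval_cases d <;> first
    | omega

theorem no_simple_1040 (h : Nat.card G = 1040) : False := by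
  have hG := Cfsg.Agent.Lead.nonabelian_of_not_prime (G := G) (by rw [h]; norm_num)
  haveI : Fact (Nat.Prime 5) := ⟨by norm_num⟩
  obtain ⟨h1, h2, h3, h4, -⟩ := basic hG (p := 5) (a := 1) (m := 208) (by norm_num)
    (h.trans (by norm_num)) (by norm_num)
  have h6 := prime_case hG (p := 5) (m := 208) (h.trans (by norm_num)) (by norm_num)
  have h7 := three_primes hG (p := 5) (q := 2) (r := 13) (b := 4) (c := 1)
    (by norm_num) (by norm_num) (by norm_num) (by norm_num) (by norm_num) (h.trans (by norm_num))
  rw [h] at h4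
  have hle : Nat.card (Sylow 5 G) ≤ 208 := Nat.le_of_dvd (by norm_num) h1
  generalize Nat.card (Sylow 5 G) = d at *
  interval_cases d <;> first
    | omega
    | (exfalso; exact h6 (by decide))

theorem no_simple_1044 (h : Nat.card G = 1044) : False := by
  have hG := Cfsg.Agent.Lead.nonabelian_of_not_prime (G := G) (by rw [h]; norm_num)
  haveI : Fact (Nat.Prime 29) := ⟨by norm_num⟩
  obtain ⟨h1, h2, h3, h4, -⟩ := basic hG (p := 29) (a := 1) (m := 36) (by norm_num)
    (h.trans (by norm_num)) (by norm_num)
  rw [h] at h4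
  have hle : Nat.card (Sylow 29 G) ≤ 36 := Nat.le_of_dvd (by norm_num) h1
  generalize Nat.card (Sylow 29 G) = d at *
  interval_cases d <;> first
    | omega

theorem no_simple_1056 (h : Nat.card G = 1056) : False := by
  have hG := Cfsg.Agent.Lead.nonabelian_of_not_prime (G := G) (by rw [h]; norm_num)
  haveI : Fact (Nat.Prime 11) := ⟨by norm_num⟩
  obtain ⟨h1, h2, h3, h4, -⟩ := basic hG (p := 11) (a := 1) (m := 96) (by norm_num)
    (h.trans (by norm_num)) (by norm_num)
  have h7 := three_primes hG (p := 11) (q := 2) (r := 3) (b := 5) (c := 1)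
    (by norm_num) (by norm_num) (by norm_num) (by norm_num) (by norm_num) (h.trans (by norm_num))
  rw [h] at h4
  have hle : Nat.card (Sylow 11 G) ≤ 96 := Nat.le_of_dvd (by norm_num) h1
  generalize Nat.card (Sylow 11 G) = d at *
  interval_cases d <;> first
    | omega

theorem no_simple_1064 (h : Nat.card G = 1064) : False := by
  have hG := Cfsg.Agent.Lead.nonabelian_of_not_prime (G := G) (by rw [h]; norm_num)
  haveI : Fact (Nat.Prime 19) := ⟨by norm_num⟩
  obtain ⟨h1, h2, h3, h4, -⟩ := basic hG (p := 19) (a := 1) (m := 56) (by norm_num)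
    (h.trans (by norm_num)) (by norm_num)
  rw [h] at h4
  have hle : Nat.card (Sylow 19 G) ≤ 56 := Nat.le_of_dvd (by norm_num) h1
  generalize Nat.card (Sylow 19 G) = d at *
  interval_cases d <;> first
    | omega

theorem no_simple_1080 (h : Nat.card G = 1080) : False := by
  have hG := Cfsg.Agent.Lead.nonabelian_of_not_prime (G := G) (by rw [h]; norm_num)
  haveI : Fact (Nat.Prime 5) := ⟨by norm_num⟩
  obtain ⟨h1, h2, h3, h4, -⟩ := basic hG (p := 5) (a := 1) (m := 216) (by norm_num)
    (h.trans (by norm_num)) (by norm_num)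
  have h6 := prime_case hG (p := 5) (m := 216) (h.trans (by norm_num)) (by norm_num)
  have h7 := three_primes hG (p := 5) (q := 2) (r := 3) (b := 3) (c := 3)
    (by norm_num) (by norm_num) (by norm_num) (by norm_num) (by norm_num) (h.trans (by norm_num))
  rw [h] at h4
  have hle : Nat.card (Sylow 5 G) ≤ 216 := Nat.le_of_dvd (by norm_num) h1
  generalize Nat.card (Sylow 5 G) = d at *
  interval_cases d <;> first
    | omega
    | (exfalso; exact absurd h4 (by decide))
    | (exfalso; exact h6 (by decide))

end Cfsg.Agent.Helper3.SmallOrd
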