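import Mathlib
import Cfsg.Prelude.Def_SolvableStructure
import Cfsg.Agent.Lib.Helper3.Schmidt

set_option autoImplicit false

/-! Structure of minimal non-nilpotent groups. -/

namespace Cfsg.Agent.Helper3

open scoped Pointwise

universe u

variable {G : Type u} [Group G]

/-- In a finite nilpotent group a `p`-element and a `q`-element commute, `p ≠ q`. -/
theorem commute_of_isNilpotent_of_orderOf {H : Type u} [Group H] [Finite H]
    (hH : Group.IsNilpotent H) {p q : ℕ} [hp : Fact p.Prime] [hq : Fact q.Prime] (hpq : p ≠ q)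
    (a b : H) (ha : ∃ k, orderOf a = p ^ k) (hb : ∃ k, orderOf b = q ^ k) : Commute a b := by
  obtain ⟨k, hk⟩ := ha
  obtain ⟨l, hl⟩ := hb
  have hA : IsPGroup p (Subgroup.zpowers a) := IsPGroup.of_card (by rw [Nat.card_zpowers, hk])
  have hB : IsPGroup q (Subgroup.zpowers b) := IsPGroup.of_card (by rw [Nat.card_zpowers, hl])
  obtain ⟨S, hS⟩ := hA.exists_le_sylow
  obtain ⟨T, hT⟩ := hB.exists_le_sylow
  have hall := ((Group.isNilpotent_of_finite_tfae (G := H)).out 0 3).mp hH
  have hSn : (S : Subgroup H).Normal := hall p hp S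
  have hTn : (T : Subgroup H).Normal := hall q hq T
  have hdis : Disjoint (S : Subgroup H) (T : Subgroup H) :=
    IsPGroup.disjoint_of_ne p q hpq _ _ S.isPGroup' T.isPGroup'
  exact Subgroup.commute_of_normal_of_disjoint _ _ hSn hTn hdis a b
    (hS (Subgroup.mem_zpowers a)) (hT (Subgroup.mem_zpowers b))

/-- A subgroup containing a Sylow `r`-subgroup for every prime `r` is the whole group. -/
theorem eq_top_of_forall_sylow_le [Finite G] (N : Subgroup G)
    (h : ∀ (r : ℕ) [Fact r.Prime], ∃ R : Sylow r G, (R : Subgroup G) ≤ N) : N = ⊤ := by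
  rw [← Subgroup.index_eq_one]
  by_contra hne
  obtain ⟨r, hr, hdvd⟩ := Nat.exists_prime_and_dvd hne
  have : Fact r.Prime := ⟨hr⟩
  obtain ⟨R, hR⟩ := h r
  exact R.not_dvd_index (hdvd.trans (Subgroup.index_dvd_of_le hR))

/-- If `A ⊔ B` is nilpotent, `A` a `p`-group and `B` a `q`-group with `p ≠ q`, then `A` and `B`
commute elementwise. -/
theorem commute_of_sup_nilpotent [Finite G] {p q : ℕ} [Fact p.Prime] [Fact q.Prime] (hpq : p ≠ q)
    (A B : Subgroup G) (hA : IsPGroup p A) (hB : IsPGroup q B)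
    (hnil : Group.IsNilpotent ↥(A ⊔ B)) : ∀ a ∈ A, ∀ b ∈ B, a * b = b * a := by
  intro a ha b hb
  have hoa : ∃ k, orderOf (⟨a, (le_sup_left : A ≤ A ⊔ B) ha⟩ : ↥(A ⊔ B)) = p ^ k := by
    obtain ⟨k, hk⟩ := (IsPGroup.iff_orderOf.mp hA) ⟨a, ha⟩
    refine ⟨k, ?_⟩
    rw [Subgroup.orderOf_mk] at hk ⊢
    exact hk
  have hob : ∃ k, orderOf (⟨b, (le_sup_right : B ≤ A ⊔ B) hb⟩ : ↥(A ⊔ B)) = q ^ k := by
    obtain ⟨k, hk⟩ := (IsPGroup.iff_orderOf.mp hB) ⟨b, hb⟩
    refine ⟨k, ?_⟩
    rw [Subgroup.orderOf_mk] at hk ⊢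
    exact hk
  have := commute_of_isNilpotent_of_orderOf hnil hpq _ _ hoa hob
  exact congrArg Subtype.val this.eq

/-- **Schmidt's theorem**: structure of minimal non-nilpotent groups. -/
theorem minimalNonNilpotent_structure [Finite G] (hnn : ¬ Group.IsNilpotent G)
    (hprop : ∀ H : Subgroup G, H ≠ ⊤ → Group.IsNilpotent H) :
    ∃ p q : ℕ, p.Prime ∧ q.Prime ∧ p ≠ q ∧ ∃ (P : Sylow p G) (Q : Sylow q G),
      IsCyclic P ∧ (Q : Subgroup G).Normal ∧ (P : Subgroup G) ⊔ Q = ⊤ := by
  classical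
  have hsolv : Group.IsSolvable G := isSolvable_of_proper_nilpotent hprop
  have hnt : Nontrivial G := by
    by_contra h
    rw [not_nontrivial_iff_subsingleton] at h
    exact hnn inferInstance
  obtain ⟨M, p, hMn, hp, hMidx⟩ := exists_normal_index_prime (G := G)
  have hpf : Fact p.Prime := ⟨hp⟩
  have hMtop : M ≠ ⊤ := by
    intro h
    rw [h, Subgroup.index_top] at hMidx
    exact hp.one_lt.ne hMidx
  have hMnil := hprop M hMtop
  have claimA : ∀ (r : ℕ) [Fact r.Prime], r ≠ p → ∀ R : Sylow r G, (R : Subgroup G).Normal := by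
    intro r hr hrp R
    have hRM : (R : Subgroup G) ≤ M := by
      rw [← Subgroup.relIndex_eq_one]
      have h1 : M.relIndex R ∣ p := hMidx ▸ Subgroup.relIndex_dvd_index_of_normal M R
      have h2 : M.relIndex R ∣ Nat.card R := Subgroup.relIndex_dvd_card M R
      obtain ⟨k, hk⟩ := IsPGroup.iff_card.mp R.isPGroup'
      rw [hk] at h2
      have hcop : p.Coprime (r ^ k) :=
        Nat.Coprime.pow_right _ ((Nat.coprime_primes hp hr.out).mpr (Ne.symm hrp))
      exact Nat.eq_one_of_dvd_coprimes hcop h1 h2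
    have hRMn : ((R.subtype hRM : Sylow r M) : Subgroup M).Normal :=
      (((Group.isNilpotent_of_finite_tfae (G := M)).out 0 3 rfl rfl).mp hMnil) r hr
        (R.subtype hRM)
    have hchar : ((R.subtype hRM : Sylow r M) : Subgroup M).Characteristic :=
      Sylow.characteristic_of_normal _ hRMn
    have hn := ConjAct.normal_of_characteristic_of_normal (H := M)
      (K := ((R.subtype hRM : Sylow r M) : Subgroup M))
    have e : ((R.subtype hRM : Sylow r M) : Subgroup M).map M.subtype = R := by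
      rw [Sylow.coe_subtype]
      exact Subgroup.map_subgroupOf_eq_of_le hRM
    rwa [e] at hn
  obtain ⟨P⟩ : Nonempty (Sylow p G) := inferInstance
  have claimB : ¬ (P : Subgroup G).Normal := by
    intro hPn
    apply hnn
    apply ((Group.isNilpotent_of_finite_tfae (G := G)).out 0 3).mpr
    intro r hr R
    by_cases hrp : r = p
    · subst hrp
      have := Sylow.unique_of_normal P hPn
      have : R = P := Subsingleton.elim _ _
      rw [this]; exact hPn
    · exact claimA r hrp R
  have claimC : ∃ (q : ℕ) (_ : Fact q.Prime) (Q : Sylow q G), q ≠ p ∧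
      (P : Subgroup G) ⊔ Q = ⊤ := by
    by_contra hcon
    push Not at hcon
    apply claimB
    rw [← Subgroup.normalizer_eq_top_iff]
    apply eq_top_of_forall_sylow_le
    intro r hr
    by_cases hrp : r = p
    · subst hrp; exact ⟨P, Subgroup.le_normalizer⟩
    · obtain ⟨R⟩ : Nonempty (Sylow r G) := inferInstance
      refine ⟨R, ?_⟩
      have hne := hcon r hr R hrp
      have hnil := hprop _ hne
      have hcomm := commute_of_sup_nilpotent (Ne.symm hrp) (P : Subgroup G) (R : Subgroup G)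
        P.isPGroup' R.isPGroup' hnil
      refine le_trans ?_ (Subgroup.centralizer_le_normalizer _)
      intro y hy
      rw [Subgroup.mem_centralizer_iff]
      intro x hx
      exact hcomm x hx y hy
  obtain ⟨q, hqf, Q, hqp, hPQ⟩ := claimC
  have hQn : (Q : Subgroup G).Normal := claimA q hqp Q
  refine ⟨p, q, hp, hqf.out, Ne.symm hqp, P, Q, ?_, hQn, hPQ⟩
  by_contra hncyc
  apply claimB
  rw [← Subgroup.normalizer_eq_top_iff, eq_top_iff, ← hPQ]
  apply sup_le Subgroup.le_normalizer
  refine le_trans ?_ (Subgroup.centralizer_le_normalizer _)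
  intro y hy
  rw [Subgroup.mem_centralizer_iff]
  intro x hx
  have hdis : ∀ z, z ∈ (P : Subgroup G) → z ∈ (Q : Subgroup G) → z = 1 := by
    intro z hzP hzQ
    have := (IsPGroup.disjoint_of_ne p q (Ne.symm hqp) _ _ P.isPGroup' Q.isPGroup')
    exact Subgroup.disjoint_def.mp this hzP hzQ
  have hne : Subgroup.zpowers x ⊔ (Q : Subgroup G) ≠ ⊤ := by
    intro htop
    apply hncyc
    refine ⟨⟨⟨x, hx⟩, ?_⟩⟩
    intro z
    have hz : (z : G) ∈ ((Subgroup.zpowers x ⊔ (Q : Subgroup G) : Subgroup G) : Set G) := by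
      rw [htop]; exact Set.mem_univ _
    rw [Subgroup.mul_normal] at hz
    obtain ⟨a, ha, b, hb, hab⟩ := Set.mem_mul.mp hz
    have haP : a ∈ (P : Subgroup G) := by
      obtain ⟨k, rfl⟩ := Subgroup.mem_zpowers_iff.mp ha
      exact Subgroup.zpow_mem _ hx k
    have hb1 : b = 1 := by
      apply hdis b _ hb
      have : b = a⁻¹ * z := by rw [← hab]; group
      rw [this]
      exact Subgroup.mul_mem _ (Subgroup.inv_mem _ haP) z.2
    rw [hb1, mul_one] at hab
    obtain ⟨k, hk⟩ := Subgroup.mem_zpowers_iff.mp ha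
    refine ⟨k, Subtype.ext ?_⟩
    rw [← hab, ← hk]
    simp
  have hnil := hprop _ hne
  have hxp : IsPGroup p (Subgroup.zpowers x) := by
    apply P.isPGroup'.to_le
    rw [Subgroup.zpowers_le]; exact hx
  have hcomm := commute_of_sup_nilpotent (Ne.symm hqp) (Subgroup.zpowers x) (Q : Subgroup G)
    hxp Q.isPGroup' hnil
  exact hcomm x (Subgroup.mem_zpowers x) y hy

end Cfsg.Agent.Helper3
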