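import Mathlib

/-!
# Quotients isomorphic to `C_p ≀ C_p`

`WreathQuot p U` says that `U` has a subgroup `K` of index `p ^ 2` whose core has index `p ^ (p + 1)`;
then `U` maps onto a Sylow `p`-subgroup of the symmetric group of degree `p ^ 2`.  The criterion
`wreathQuot_of_prod_ne_one` is the group theoretic heart of Yoshida's transfer theorem.
-/

set_option autoImplicit false
set_option linter.style.haveILetI false
set_option linter.unusedSectionVars false

namespace Cfsg.Agent.Helper3.Wreath

/-- `U` has a quotient isomorphic to a Sylow `p`-subgroup of the symmetric group of degree `p²`. -/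
def WreathQuot (p : ℕ) (U : Type*) [Group U] : Prop :=
  ∃ K : Subgroup U, K.index = p ^ 2 ∧ K.normalCore.index = p ^ (p + 1)

section Surj

variable {U : Type*} [Group U] [Finite U] {p : ℕ} [hp : Fact p.Prime]

theorem factorization_factorial_sq : ((p ^ 2).factorial).factorization p = p + 1 := by
  rw [Nat.factorization_def _ hp.out, pow_two, padicValNat_factorial_mul]
  have h1 : padicValNat p (p.factorial) = 1 := by
    have := padicValNat_factorial_mul (p := p) 1
    rw [mul_one] at this
    rw [this]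
    simp
  rw [h1, add_comm]

theorem WreathQuot.exists_surj (h : WreathQuot p U) :
    ∃ (W : Sylow p (Equiv.Perm (Fin (p ^ 2))))
      (f : U →* ↥(W : Subgroup (Equiv.Perm (Fin (p ^ 2))))), Function.Surjective f := by
  obtain ⟨K, hK, hcore⟩ := h
  have hcard : Nat.card (U ⧸ K) = p ^ 2 := by
    rw [← Subgroup.index_eq_card]; exact hK
  let e : (U ⧸ K) ≃ Fin (p ^ 2) := Finite.equivFinOfCardEq hcard
  let φ : U →* Equiv.Perm (Fin (p ^ 2)) :=
    e.permCongrHom.toMonoidHom.comp (MulAction.toPermHom U (U ⧸ K))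
  have hker : φ.ker = K.normalCore := by
    rw [Subgroup.normalCore_eq_ker]
    ext x
    rw [MonoidHom.mem_ker, MonoidHom.mem_ker]
    show e.permCongrHom (MulAction.toPermHom U (U ⧸ K) x) = 1 ↔ _
    rw [MulEquiv.map_eq_one_iff]
  have hrange : Nat.card φ.range = p ^ (p + 1) := by
    rw [← Subgroup.index_ker, hker, hcore]
  have hsyl : Nat.card φ.range =
      p ^ (Nat.card (Equiv.Perm (Fin (p ^ 2)))).factorization p := by
    rw [hrange, Nat.card_perm, Nat.card_fin, factorization_factorial_sq]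
  exact ⟨Sylow.ofCard φ.range hsyl, φ.rangeRestrict, φ.rangeRestrict_surjective⟩

end Surj

section Criterion

variable {U : Type*} [Group U] [Finite U] {p : ℕ} [hp : Fact p.Prime]

theorem conjNormal_of_mem (M : Subgroup U) [M.Normal] {m : U} (hm : m ∈ M) (y : ↥M) :
    MulAut.conjNormal m y = ⟨m, hm⟩ * y * ⟨m, hm⟩⁻¹ := by
  apply Subtype.ext
  rw [MulAut.conjNormal_apply]
  rfl

/-- The values `ν (t⁻ⁿ x tⁿ)` only depend on `n` modulo `p`. -/
theorem nu_conj_mod (M : Subgroup U) [M.Normal] (hM : M.index = p) (t : U)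
    (ν : ↥M →* Multiplicative (ZMod p)) (n : ℕ) (x : ↥M) :
    ν (MulAut.conjNormal ((t ^ n)⁻¹) x) = ν (MulAut.conjNormal ((t ^ (n % p))⁻¹) x) := by
  have hper : ∀ (r q : ℕ) (y : ↥M), ν (MulAut.conjNormal ((t ^ (r + p * q))⁻¹) y) =
      ν (MulAut.conjNormal ((t ^ r)⁻¹) y) := by
    intro r q y
    have hmem : (t ^ (p * q))⁻¹ ∈ M := by
      apply M.inv_mem
      rw [pow_mul, ← hM]
      exact M.pow_mem (M.pow_index_mem t) q
    have e : (t ^ (r + p * q))⁻¹ = (t ^ (p * q))⁻¹ * (t ^ r)⁻¹ := by
      rw [pow_add, mul_inv_rev]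
    have hc : ∀ a b : ↥M, ν (a * b * a⁻¹) = ν b := by
      intro a b
      rw [map_mul, map_mul, map_inv, mul_comm, ← mul_assoc, inv_mul_cancel, one_mul]
    rw [e, map_mul, MulAut.mul_apply, conjNormal_of_mem M hmem]
    exact hc _ _
  conv_lhs => rw [← Nat.mod_add_div n p]
  exact hper _ _ _

theorem nu_conj_succ (M : Subgroup U) [M.Normal] (t : U)
    (ν : ↥M →* Multiplicative (ZMod p)) (n : ℕ) (x : ↥M) :
    ν (MulAut.conjNormal ((t ^ (n + 1))⁻¹) x) =
      ν (MulAut.conjNormal ((t ^ n)⁻¹) (MulAut.conjNormal t⁻¹ x)) := by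
  have e : (t ^ (n + 1))⁻¹ = (t ^ n)⁻¹ * t⁻¹ := by
    rw [pow_succ', mul_inv_rev]
  rw [e, map_mul, MulAut.mul_apply]

/-- The homomorphism recording the values of `ν` on the `p` conjugates. -/
def eps (M : Subgroup U) [M.Normal] (t : U) (ν : ↥M →* Multiplicative (ZMod p)) :
    ↥M →* (ZMod p → Multiplicative (ZMod p)) :=
  MonoidHom.pi fun k => ν.comp (MulAut.conjNormal ((t ^ k.val)⁻¹)).toMonoidHom

theorem eps_apply (M : Subgroup U) [M.Normal] (t : U) (ν : ↥M →* Multiplicative (ZMod p))
    (x : ↥M) (k : ZMod p) : eps M t ν x k = ν (MulAut.conjNormal ((t ^ k.val)⁻¹) x) := rfl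

theorem eps_add_one (M : Subgroup U) [M.Normal] (hM : M.index = p) (t : U)
    (ν : ↥M →* Multiplicative (ZMod p)) (x : ↥M) (k : ZMod p) :
    eps M t ν x (k + 1) = eps M t ν (MulAut.conjNormal t⁻¹ x) k := by
  haveI : NeZero p := ⟨hp.out.ne_zero⟩
  haveI : Fact (1 < p) := ⟨hp.out.one_lt⟩
  rw [eps_apply, eps_apply, ZMod.val_add, ZMod.val_one, ← nu_conj_mod M hM, nu_conj_succ]

theorem eps_surjective (M : Subgroup U) [M.Normal] (hM : M.index = p) (t : U)
    (ν : ↥M →* Multiplicative (ZMod p)) (x₀ : ↥M)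
    (h : ∏ k ∈ Finset.range p, ν (MulAut.conjNormal ((t ^ k)⁻¹) x₀) ≠ 1) :
    Function.Surjective (eps M t ν) := by
  classical
  haveI : NeZero p := ⟨hp.out.ne_zero⟩
  haveI : Fact (1 < p) := ⟨hp.out.one_lt⟩
  by_contra hns
  -- the additive version
  let ê : ↥M → (ZMod p → ZMod p) := fun x k => Multiplicative.toAdd (eps M t ν x k)
  have hê_mul : ∀ x y, ê (x * y) = ê x + ê y := by
    intro x y; funext k
    show Multiplicative.toAdd (eps M t ν (x * y) k) = _
    rw [map_mul]; rfl
  have hê_one : ê 1 = 0 := by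
    funext k
    show Multiplicative.toAdd (eps M t ν 1 k) = _
    rw [map_one]; rfl
  have hê_inv : ∀ x, ê x⁻¹ = -ê x := by
    intro x; funext k
    show Multiplicative.toAdd (eps M t ν x⁻¹ k) = _
    rw [map_inv]; rfl
  let E₀ : AddSubgroup (ZMod p → ZMod p) :=
    { carrier := Set.range ê
      zero_mem' := ⟨1, hê_one⟩
      add_mem' := by
        rintro _ _ ⟨x, rfl⟩ ⟨y, rfl⟩
        exact ⟨x * y, hê_mul x y⟩
      neg_mem' := by
        rintro _ ⟨x, rfl⟩
        exact ⟨x⁻¹, hê_inv x⟩ }
  let E : Submodule (ZMod p) (ZMod p → ZMod p) := AddSubgroup.toZModSubmodule p E₀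
  have hE : E ≠ ⊤ := by
    intro htop
    apply hns
    intro w
    have hw : (fun k => Multiplicative.toAdd (w k)) ∈ E := htop ▸ Submodule.mem_top
    obtain ⟨x, hx⟩ : (fun k => Multiplicative.toAdd (w k)) ∈ E₀ := hw
    refine ⟨x, ?_⟩
    funext k
    have := congrFun hx k
    exact this
  obtain ⟨f, hf0, hfE⟩ := E.exists_le_ker_of_lt_top (lt_top_iff_ne_top.2 hE)
  let a : ZMod p → ZMod p := fun k => f (fun j => if k = j then 1 else 0)
  have hfa : ∀ v : ZMod p → ZMod p, f v = ∑ k, v k * a k := by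
    intro v
    rw [LinearMap.pi_apply_eq_sum_univ f v]
    rfl
  have ha0 : a ≠ 0 := by
    intro h0
    apply hf0
    refine LinearMap.ext fun v => ?_
    rw [hfa, h0]
    simp
  -- the relations
  let R : AddSubgroup (ZMod p → ZMod p) :=
    { carrier := {b | ∀ x : ↥M, ∑ k, ê x k * b k = 0}
      zero_mem' := by intro x; simp
      add_mem' := by
        intro b b' hb hb' x
        have : ∑ k, ê x k * (b + b') k = ∑ k, ê x k * b k + ∑ k, ê x k * b' k := by
          rw [← Finset.sum_add_distrib]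
          refine Finset.sum_congr rfl fun k _ => ?_
          rw [Pi.add_apply, mul_add]
        rw [this, hb x, hb' x, add_zero]
      neg_mem' := by
        intro b hb x
        have : ∑ k, ê x k * (-b) k = -∑ k, ê x k * b k := by
          rw [← Finset.sum_neg_distrib]
          refine Finset.sum_congr rfl fun k _ => ?_
          rw [Pi.neg_apply, mul_neg]
        rw [this, hb x, neg_zero] }
  have haR : a ∈ R := by
    intro x
    rw [← hfa]
    have hx : ê x ∈ E := ⟨x, rfl⟩
    exact hfE hx
  -- the shift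
  have hshift : ∀ b ∈ R, (fun k => b (k - 1)) ∈ R := by
    intro b hb x
    have h1 : ∑ k, ê x k * b (k - 1) = ∑ j, ê x (j + 1) * b j := by
      symm
      refine Fintype.sum_equiv (Equiv.addRight (1 : ZMod p)) _ _ fun j => ?_
      show ê x (j + 1) * b j = ê x (j + 1) * b (j + 1 - 1)
      rw [add_sub_cancel_right]
    rw [h1]
    have h2 : ∀ j, ê x (j + 1) = ê (MulAut.conjNormal t⁻¹ x) j := by
      intro j
      show Multiplicative.toAdd (eps M t ν x (j + 1)) = _
      rw [eps_add_one M hM]
    rw [Finset.sum_congr rfl fun j _ => by rw [h2 j]]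
    exact hb _
  have hshift' : ∀ b ∈ R, (fun k => b (k + 1)) ∈ R := by
    intro b hb x
    have h1 : ∑ k, ê x k * b (k + 1) = ∑ j, ê x (j - 1) * b j := by
      symm
      refine Fintype.sum_equiv (Equiv.subRight (1 : ZMod p)) _ _ fun j => ?_
      show ê x (j - 1) * b j = ê x (j - 1) * b (j - 1 + 1)
      rw [sub_add_cancel]
    rw [h1]
    have h2 : ∀ j, ê x (j - 1) = ê (MulAut.conjNormal t x) j := by
      intro j
      show Multiplicative.toAdd (eps M t ν x (j - 1)) = Multiplicative.toAdd _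
      have := eps_add_one M hM t ν (MulAut.conjNormal t x) (j - 1)
      rw [sub_add_cancel] at this
      rw [this]
      congr 2
      rw [← MulAut.mul_apply, ← map_mul, inv_mul_cancel, map_one, MulAut.one_apply]
    rw [Finset.sum_congr rfl fun j _ => by rw [h2 j]]
    exact hb _
  -- the shift as a permutation of `R`
  let σ : Equiv.Perm ↥R :=
    { toFun := fun b => ⟨fun k => b.1 (k - 1), hshift b.1 b.2⟩
      invFun := fun b => ⟨fun k => b.1 (k + 1), hshift' b.1 b.2⟩
      left_inv := fun b => Subtype.ext (funext fun k => by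
        show b.1 (k + 1 - 1) = b.1 k
        rw [add_sub_cancel_right])
      right_inv := fun b => Subtype.ext (funext fun k => by
        show b.1 (k - 1 + 1) = b.1 k
        rw [sub_add_cancel]) }
  have hσpow : ∀ (n : ℕ) (b : ↥R) (k : ZMod p), ((σ ^ n) b).1 k = b.1 (k - n) := by
    intro n
    induction n with
    | zero => intro b k; simp
    | succ n ih =>
      intro b k
      rw [pow_succ', Equiv.Perm.mul_apply]
      show ((σ ^ n) b).1 (k - 1) = _
      rw [ih, show k - ((n + 1 : ℕ) : ZMod p) = k - 1 - n by push_cast; ring]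
  have hσp : σ ^ p = 1 := by
    refine Equiv.ext fun b => Subtype.ext (funext fun k => ?_)
    rw [hσpow, ZMod.natCast_self, sub_zero, Equiv.Perm.one_apply]
  have hpg : IsPGroup p (Subgroup.zpowers σ) := by
    rintro ⟨g, hg⟩
    refine ⟨1, ?_⟩
    obtain ⟨j, rfl⟩ := Subgroup.mem_zpowers_iff.1 hg
    apply Subtype.ext
    rw [pow_one, Subgroup.coe_pow, Subgroup.coe_one, ← zpow_natCast, ← zpow_mul, mul_comm,
      zpow_mul, zpow_natCast, hσp, one_zpow]
  haveI : Finite ↥R := inferInstance
  have hdvd : p ∣ Nat.card ↥R := by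
    have hane : (⟨a, haR⟩ : ↥R) ≠ 0 := fun h0 => ha0 (congrArg Subtype.val h0)
    have hord : addOrderOf (⟨a, haR⟩ : ↥R) = p := by
      apply addOrderOf_eq_prime
      · apply Subtype.ext
        show p • a = 0
        funext k
        rw [Pi.smul_apply, Pi.zero_apply, nsmul_eq_mul, ZMod.natCast_self, zero_mul]
      · exact hane
    have h5 := addOrderOf_dvd_natCard (⟨a, haR⟩ : ↥R)
    rwa [hord] at h5
  have hfix0 : (0 : ↥R) ∈ MulAction.fixedPoints (Subgroup.zpowers σ) ↥R := by
    rintro ⟨g, hg⟩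
    obtain ⟨j, rfl⟩ := Subgroup.mem_zpowers_iff.1 hg
    show (σ ^ j) 0 = 0
    have h1 : σ 0 = 0 := Subtype.ext (funext fun k => rfl)
    exact Equiv.Perm.zpow_apply_eq_self_of_apply_eq_self h1 j
  obtain ⟨b, hbfix, hb0⟩ := hpg.exists_fixed_point_of_prime_dvd_card_of_fixed_point ↥R hdvd hfix0
  have hbσ : σ b = b := hbfix ⟨σ, Subgroup.mem_zpowers σ⟩
  -- `b` is constant
  have hbk : ∀ k : ZMod p, b.1 (k - 1) = b.1 k := by
    intro k
    exact congrFun (congrArg Subtype.val hbσ) k
  have hbn : ∀ n : ℕ, b.1 (n : ZMod p) = b.1 0 := by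
    intro n
    induction n with
    | zero => simp
    | succ n ih =>
      rw [← ih, ← hbk ((n + 1 : ℕ) : ZMod p),
        show ((n + 1 : ℕ) : ZMod p) - 1 = n by push_cast; ring]
  have hconst : ∀ k : ZMod p, b.1 k = b.1 0 := by
    intro k
    rw [← ZMod.natCast_zmod_val k]
    exact hbn _
  have hc0 : b.1 0 ≠ 0 := by
    intro h0
    apply hb0
    apply Subtype.ext
    funext k
    rw [hconst k, h0]
    rfl
  -- contradiction
  have hsum : ∑ k, ê x₀ k = 0 := by
    have := b.2 x₀
    rw [Finset.sum_congr rfl fun k _ => by rw [hconst k], ← Finset.sum_mul] at this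
    exact (mul_eq_zero.1 this).resolve_right hc0
  apply h
  have h3 : ∏ k ∈ Finset.range p, ν (MulAut.conjNormal ((t ^ k)⁻¹) x₀) =
      ∏ k : ZMod p, eps M t ν x₀ k := by
    symm
    refine Finset.prod_nbij' (fun k => k.val) (fun n => (n : ZMod p)) ?_ ?_ ?_ ?_ ?_
    · intro k _
      exact Finset.mem_range.2 (ZMod.val_lt k)
    · intro n _
      exact Finset.mem_univ _
    · intro k _
      exact ZMod.natCast_zmod_val k
    · intro n hn
      exact ZMod.val_natCast_of_lt (Finset.mem_range.1 hn)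
    · intro k _
      rfl
  rw [h3]
  have h4 : ∏ k : ZMod p, eps M t ν x₀ k = Multiplicative.ofAdd (∑ k, ê x₀ k) := by
    rw [ofAdd_sum]
    rfl
  rw [h4, hsum]
  rfl

/-- The criterion: if the "norm" of `ν` along the conjugates by `t` is non-trivial, then `U` has
a quotient `C_p ≀ C_p`. -/
theorem wreathQuot_of_prod_ne_one (M : Subgroup U) [M.Normal] (hM : M.index = p) (t : U)
    (ht : t ∉ M) (ν : ↥M →* Multiplicative (ZMod p)) (x₀ : ↥M)
    (h : ∏ k ∈ Finset.range p, ν (MulAut.conjNormal ((t ^ k)⁻¹) x₀) ≠ 1) :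
    WreathQuot p U := by
  classical
  haveI : NeZero p := ⟨hp.out.ne_zero⟩
  haveI : Fact (1 < p) := ⟨hp.out.one_lt⟩
  have hsurj := eps_surjective M hM t ν x₀ h
  have hν0 : ∀ x : ↥M, eps M t ν x 0 = ν x := by
    intro x
    rw [eps_apply, ZMod.val_zero, pow_zero, inv_one, map_one, MulAut.one_apply]
  have hνsurj : Function.Surjective ν := by
    intro c
    obtain ⟨x, hx⟩ := hsurj (fun _ => c)
    exact ⟨x, by rw [← hν0, hx]⟩
  have hc : ∀ a b : ↥M, ν (a * b * a⁻¹) = ν b := by
    intro a b
    rw [map_mul, map_mul, map_inv, mul_comm, ← mul_assoc, inv_mul_cancel, one_mul]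
  refine ⟨ν.ker.map M.subtype, ?_, ?_⟩
  · rw [Subgroup.index_map_subtype, Subgroup.index_ker, MonoidHom.range_eq_top.2 hνsurj,
      Subgroup.card_top, hM, Nat.card_eq_fintype_card]
    rw [Fintype.card_multiplicative, ZMod.card, pow_two]
  · have hcore : (ν.ker.map M.subtype).normalCore = (eps M t ν).ker.map M.subtype := by
      ext a
      constructor
      · intro ha
        have ha1 : a ∈ ν.ker.map M.subtype := by
          have := ha 1
          rwa [one_mul, inv_one, mul_one] at this
        obtain ⟨y, -, hy⟩ := ha1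
        have haM : a ∈ M := hy ▸ y.2
        refine ⟨⟨a, haM⟩, ?_, rfl⟩
        show eps M t ν ⟨a, haM⟩ = 1
        funext k
        rw [eps_apply]
        obtain ⟨z, hz, hz'⟩ := ha ((t ^ k.val)⁻¹)
        have : MulAut.conjNormal ((t ^ k.val)⁻¹) (⟨a, haM⟩ : ↥M) = z := by
          apply Subtype.ext
          rw [MulAut.conjNormal_apply]
          exact hz'.symm
        rw [this]
        exact hz
      · rintro ⟨x, hx, rfl⟩ b
        replace hx : eps M t ν x = 1 := hx
        -- write `b = m * (t ^ n)⁻¹`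
        have hcardq : Nat.card (U ⧸ M) = p := by
          rw [← Subgroup.index_eq_card]; exact hM
        have htne : (QuotientGroup.mk t : U ⧸ M) ≠ 1 := by
          intro h1
          exact ht ((QuotientGroup.eq_one_iff t).1 h1)
        have hz := zpowers_eq_top_of_prime_card hcardq htne
        have hmem : (QuotientGroup.mk b⁻¹ : U ⧸ M) ∈
            Submonoid.powers (QuotientGroup.mk t : U ⧸ M) := by
          rw [mem_powers_iff_mem_zpowers, hz]
          exact Subgroup.mem_top _
        obtain ⟨n, hn⟩ := hmem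
        replace hn : (QuotientGroup.mk t : U ⧸ M) ^ n = QuotientGroup.mk b⁻¹ := hn
        have hm : b * t ^ n ∈ M := by
          rw [← QuotientGroup.eq_one_iff, QuotientGroup.mk_mul, QuotientGroup.mk_pow, hn,
            ← QuotientGroup.mk_mul, mul_inv_cancel]
          rfl
        set y : ↥M := MulAut.conjNormal ((t ^ n)⁻¹) x with hy
        have hνy : ν y = 1 := by
          rw [hy, nu_conj_mod M hM]
          have := congrFun hx (n : ZMod p)
          rw [eps_apply, ZMod.val_natCast] at this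
          exact this
        refine ⟨⟨b * t ^ n, hm⟩ * y * ⟨b * t ^ n, hm⟩⁻¹, ?_, ?_⟩
        · show _ ∈ ν.ker
          rw [MonoidHom.mem_ker, hc, hνy]
        · show (b * t ^ n) * ((y : ↥M) : U) * (b * t ^ n)⁻¹ = b * (x : U) * b⁻¹
          rw [hy, MulAut.conjNormal_apply]
          group
    rw [hcore, Subgroup.index_map_subtype, Subgroup.index_ker, MonoidHom.range_eq_top.2 hsurj,
      Subgroup.card_top, hM, Nat.card_fun, Nat.card_eq_fintype_card, Nat.card_eq_fintype_card]
    rw [Fintype.card_multiplicative, ZMod.card, pow_succ]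

end Criterion

end Cfsg.Agent.Helper3.Wreath
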