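import Mathlib
import Cfsg.Agent.Lib.Helper3.WreathQuot

/-!
# Cocycles on a finite `U`-set with values in a commutative group

`δ : U → X → C` with `δ (a * a') z = δ a' z * δ a (a' • z)`.  Two evaluations of the products
`∏ z ∈ PP, δ v z` over invariant sets: along the cycles of `v`, and (Yoshida's argument) over an
orbit whose point stabilizers lie in a normal subgroup of index `p`.
-/

set_option autoImplicit false
set_option linter.style.haveILetI false
set_option linter.unusedSectionVars false

namespace Cfsg.Agent.Helper3.Cocycle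

open Finset Cfsg.Agent.Helper3.Wreath

variable {U : Type*} [Group U] {X : Type*} [MulAction U X] {C : Type*} [CommGroup C]

/-- The cocycle identity. -/
def IsCocycle (δ : U → X → C) : Prop := ∀ a a' z, δ (a * a') z = δ a' z * δ a (a' • z)

theorem IsCocycle.one {δ : U → X → C} (h : IsCocycle δ) (z : X) : δ 1 z = 1 := by
  have h1 := h 1 1 z
  rw [one_mul, one_smul] at h1
  exact (mul_eq_left.1 h1.symm)

theorem IsCocycle.pow {δ : U → X → C} (h : IsCocycle δ) (a : U) (n : ℕ) (z : X) :
    δ (a ^ n) z = ∏ i ∈ range n, δ a (a ^ i • z) := by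
  induction n with
  | zero => rw [pow_zero, h.one, prod_range_zero]
  | succ n ih => rw [pow_succ', h, ih, prod_range_succ]

/-- Reindexing a product over a set invariant under `a`. -/
theorem prod_smul_eq [DecidableEq X] (QQ : Finset X) (a : U) (h : ∀ z, z ∈ QQ ↔ a • z ∈ QQ)
    (g : X → C) : ∏ z ∈ QQ, g (a • z) = ∏ z ∈ QQ, g z :=
  Finset.prod_equiv (MulAction.toPerm a) (fun z => h z) (fun _ _ => rfl)

/-- **Cycle lemma.** If the cocycle takes the value `c₀ ^ k` at `(v ^ k, z)` whenever `v ^ k`
fixes `z`, then the product of `δ v` over a `v`-invariant set is a power of `c₀`. -/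
theorem prod_eq_pow_of_cycle [Finite U] [DecidableEq X] {δ : U → X → C} (h : IsCocycle δ) (v : U)
    (c₀ : C) : ∀ (n : ℕ) (PP : Finset X), PP.card = n → (∀ z ∈ PP, v • z ∈ PP) →
      (∀ z ∈ PP, ∀ k : ℕ, v ^ k • z = z → δ (v ^ k) z = c₀ ^ k) →
      ∏ z ∈ PP, δ v z = c₀ ^ PP.card := by
  intro n
  induction n using Nat.strong_induction_on with
  | _ n ih =>
    intro PP hn hinv hfix
    by_cases hne : PP = ∅
    · rw [hne, prod_empty, card_empty, pow_zero]
    · obtain ⟨z, hz⟩ := Finset.nonempty_iff_ne_empty.2 hne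
      set m := MulAction.period v z with hm
      have hmpos : 0 < m := MulAction.period_pos_of_orderOf_pos (orderOf_pos v) z
      have hmz : v ^ m • z = z := MulAction.pow_period_smul v z
      have hpow : ∀ i : ℕ, v ^ i • z ∈ PP := by
        intro i
        induction i with
        | zero => rw [pow_zero, one_smul]; exact hz
        | succ i ihi => rw [pow_succ', mul_smul]; exact hinv _ ihi
      set OO := (range m).image (fun i => v ^ i • z) with hOO
      have hinj : Set.InjOn (fun i => v ^ i • z) (range m : Set ℕ) := by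
        have key : ∀ i j : ℕ, i ≤ j → j < m → v ^ i • z = v ^ j • z → i = j := by
          intro i j hij hj he
          have h1 : v ^ (j - i) • z = z := by
            have : v ^ j = v ^ i * v ^ (j - i) := by rw [← pow_add, Nat.add_sub_cancel' hij]
            rw [this, mul_smul] at he
            exact (smul_left_cancel _ he).symm
          have h2 := MulAction.pow_smul_eq_iff_period_dvd.1 h1
          have h3 : j - i = 0 := Nat.eq_zero_of_dvd_of_lt h2 (by omega)
          omega
        intro i hi j hj he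
        rw [coe_range, Set.mem_Iio] at hi hj
        rcases le_total i j with hij | hij
        · exact key i j hij hj he
        · exact (key j i hij hi he.symm).symm
      have hsub : OO ⊆ PP := by
        intro z' hz'
        obtain ⟨i, -, rfl⟩ := mem_image.1 hz'
        exact hpow i
      have hOinv : ∀ z' ∈ PP, (z' ∈ OO ↔ v • z' ∈ OO) := by
        intro z' _
        constructor
        · intro hz'
          obtain ⟨i, hi, rfl⟩ := mem_image.1 hz'
          rw [mem_range] at hi
          by_cases him : i + 1 < m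
          · exact mem_image.2 ⟨i + 1, mem_range.2 him, by rw [pow_succ', mul_smul]⟩
          · have : i + 1 = m := by omega
            refine mem_image.2 ⟨0, mem_range.2 hmpos, ?_⟩
            rw [pow_zero, one_smul, ← mul_smul, ← pow_succ', this, hmz]
        · intro hz'
          obtain ⟨i, hi, he⟩ := mem_image.1 hz'
          rw [mem_range] at hi
          rcases Nat.eq_zero_or_pos i with h0 | hpos
          · rw [h0, pow_zero, one_smul] at he
            refine mem_image.2 ⟨m - 1, mem_range.2 (by omega), ?_⟩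
            apply smul_left_cancel v
            show v • v ^ (m - 1) • z = v • z'
            rw [← mul_smul, ← pow_succ', Nat.sub_add_cancel hmpos, hmz, he]
          · refine mem_image.2 ⟨i - 1, mem_range.2 (by omega), ?_⟩
            apply smul_left_cancel v
            show v • v ^ (i - 1) • z = v • z'
            rw [← mul_smul, ← pow_succ', Nat.sub_add_cancel hpos, he]
      have hOcard : OO.card = m := by
        rw [hOO, card_image_of_injOn hinj, card_range]
      have hOprod : ∏ z' ∈ OO, δ v z' = c₀ ^ m := by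
        rw [hOO, prod_image hinj, ← h.pow]
        exact hfix z hz m hmz
      have hcard := Finset.card_sdiff_add_card_eq_card hsub
      have hlt : (PP \ OO).card < n := by omega
      have hinv' : ∀ z' ∈ PP \ OO, v • z' ∈ PP \ OO := by
        intro z' hz'
        rw [mem_sdiff] at hz' ⊢
        exact ⟨hinv z' hz'.1, fun h' => hz'.2 ((hOinv z' hz'.1).2 h')⟩
      have hrec := ih _ hlt (PP \ OO) rfl hinv' (fun z' hz' => hfix z' (mem_sdiff.1 hz').1)
      rw [← Finset.prod_sdiff hsub, hrec, hOprod, ← pow_add, ← hOcard, hcard]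

section Wreath

variable [Finite U] [Fintype X] [DecidableEq X] {p : ℕ} [hp : Fact p.Prime]

/-- **Yoshida's lemma.** Over an orbit whose point stabilizers lie in the normal subgroup `M` of index
`p`, the product of a cocycle with values in a group of order `p` is trivial on `M`, unless `U` has
a quotient `C_p ≀ C_p`. -/
theorem prod_orbit_eq_one {δ : U → X → Multiplicative (ZMod p)} (h : IsCocycle δ)
    (M : Subgroup U) [M.Normal] (hM : M.index = p) (t : U) (ht : t ∉ M) (z₀ : X)
    (hz₀ : ∀ a : U, a • z₀ = z₀ → a ∈ M) (hW : ¬ WreathQuot p U) (x : U) (hx : x ∈ M)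
    (PP : Finset X) (hPP : ∀ z, z ∈ PP ↔ z ∈ MulAction.orbit U z₀) :
    ∏ z ∈ PP, δ x z = 1 := by
  classical
  set QQ : Finset X := univ.filter (fun z => ∃ m ∈ M, m • z₀ = z) with hQQ
  have hQmem : ∀ z, z ∈ QQ ↔ ∃ m ∈ M, m • z₀ = z := by
    intro z
    rw [hQQ, mem_filter]
    exact ⟨fun h' => h'.2, fun h' => ⟨mem_univ _, h'⟩⟩
  have hQinv : ∀ m ∈ M, ∀ z, z ∈ QQ ↔ m • z ∈ QQ := by
    intro m hm z
    rw [hQmem, hQmem]
    constructor
    · rintro ⟨m', hm', rfl⟩
      exact ⟨m * m', M.mul_mem hm hm', mul_smul _ _ _⟩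
    · rintro ⟨m', hm', he⟩
      refine ⟨m⁻¹ * m', M.mul_mem (M.inv_mem hm) hm', ?_⟩
      rw [mul_smul, he, inv_smul_smul]
  -- the homomorphism `ν`
  let ν : ↥M →* Multiplicative (ZMod p) :=
    MonoidHom.mk' (fun y => ∏ z ∈ QQ, δ (y : U) z) (by
      intro y y'
      show ∏ z ∈ QQ, δ ((y : U) * (y' : U)) z = _
      rw [Finset.prod_congr rfl fun z _ => h (y : U) (y' : U) z, Finset.prod_mul_distrib,
        prod_smul_eq QQ (y' : U) (hQinv _ y'.2) (fun z => δ (y : U) z), mul_comm])
  have hν : ∀ y : ↥M, ν y = ∏ z ∈ QQ, δ (y : U) z := fun y => rfl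
  -- the shift
  have hshift : ∀ (s : U) (y : ↥M),
      ∏ z ∈ QQ, δ (y : U) (s • z) = ν (MulAut.conjNormal s⁻¹ y) := by
    intro s y
    set y' : ↥M := MulAut.conjNormal s⁻¹ y with hy'
    have hy'v : (y' : U) = s⁻¹ * (y : U) * s := by
      rw [hy', MulAut.conjNormal_apply, inv_inv]
    have e : ∀ z, δ (y : U) (s • z) = (δ s z)⁻¹ * (δ (y' : U) z * δ s ((y' : U) • z)) := by
      intro z
      have h1 := h (y : U) s z
      have h2 := h s (y' : U) z
      have h3 : s * (y' : U) = (y : U) * s := by rw [hy'v]; group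
      rw [h3] at h2
      rw [← h2, h1, inv_mul_cancel_left]
    rw [Finset.prod_congr rfl fun z _ => e z, Finset.prod_mul_distrib, Finset.prod_mul_distrib,
      prod_smul_eq QQ (y' : U) (hQinv _ y'.2) (fun z => δ s z), Finset.prod_inv_distrib, hν,
      mul_comm (∏ z ∈ QQ, δ (y' : U) z), inv_mul_cancel_left]
  -- the quotient by `M`
  have hcardq : Nat.card (U ⧸ M) = p := by
    rw [← Subgroup.index_eq_card]; exact hM
  have htne : (QuotientGroup.mk t : U ⧸ M) ≠ 1 := fun h1 => ht ((QuotientGroup.eq_one_iff t).1 h1)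
  have hord : orderOf (QuotientGroup.mk t : U ⧸ M) = p := by
    apply orderOf_eq_prime
    · rw [← hcardq]; exact pow_card_eq_one'
    · exact htne
  have hz := zpowers_eq_top_of_prime_card hcardq htne
  set f : ℕ × X → X := fun kz => t ^ kz.1 • kz.2 with hf
  have hinj : Set.InjOn f ((range p ×ˢ QQ : Finset (ℕ × X)) : Set (ℕ × X)) := by
    rintro ⟨k, z⟩ hkz ⟨k', z'⟩ hkz' he
    rw [mem_coe, mem_product] at hkz hkz'
    obtain ⟨hk, hzQ⟩ := hkz
    obtain ⟨hk', hzQ'⟩ := hkz'
    rw [mem_range] at hk hk'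
    obtain ⟨m, hm, rfl⟩ := (hQmem _).1 hzQ
    obtain ⟨m', hm', rfl⟩ := (hQmem _).1 hzQ'
    have he' : t ^ k • m • z₀ = t ^ k' • m' • z₀ := he
    have h1 : (t ^ k' * m')⁻¹ * (t ^ k * m) ∈ M := by
      apply hz₀
      rw [mul_smul, mul_smul, he', ← mul_smul, ← mul_smul, mul_assoc, inv_mul_cancel, one_smul]
    have h2 : (QuotientGroup.mk t : U ⧸ M) ^ k = (QuotientGroup.mk t) ^ k' := by
      have h3 : (t ^ k')⁻¹ * t ^ k ∈ M := by
        have h4 : (t ^ k')⁻¹ * t ^ k = m' * ((t ^ k' * m')⁻¹ * (t ^ k * m)) * m⁻¹ := by group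
        rw [h4]
        exact M.mul_mem (M.mul_mem hm' h1) (M.inv_mem hm)
      rw [← QuotientGroup.mk_pow, ← QuotientGroup.mk_pow, eq_comm, QuotientGroup.eq]
      exact h3
    have hkk : k = k' := by
      have h5 := pow_eq_pow_iff_modEq.1 h2
      rw [hord] at h5
      exact Nat.ModEq.eq_of_lt_of_lt h5 hk hk'
    subst hkk
    have h6 := smul_left_cancel _ he'
    exact Prod.ext rfl h6
  have himage : PP = (range p ×ˢ QQ).image f := by
    ext z
    rw [hPP, mem_image]
    constructor
    · rintro ⟨a, rfl⟩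
      have hmem : (QuotientGroup.mk a : U ⧸ M) ∈
          Submonoid.powers (QuotientGroup.mk t : U ⧸ M) := by
        rw [mem_powers_iff_mem_zpowers, hz]; exact Subgroup.mem_top _
      obtain ⟨k, hk⟩ := hmem
      replace hk : (QuotientGroup.mk t : U ⧸ M) ^ k = QuotientGroup.mk a := hk
      have hk' : (QuotientGroup.mk t : U ⧸ M) ^ (k % p) = QuotientGroup.mk a := by
        rw [← hk, ← hord, pow_mod_orderOf]
      have hm : (t ^ (k % p))⁻¹ * a ∈ M := by
        rw [← QuotientGroup.eq_one_iff, QuotientGroup.mk_mul, QuotientGroup.mk_inv,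
          QuotientGroup.mk_pow, hk', inv_mul_cancel]
      refine ⟨(k % p, ((t ^ (k % p))⁻¹ * a) • z₀), ?_, ?_⟩
      · rw [mem_product, mem_range, hQmem]
        exact ⟨Nat.mod_lt _ hp.out.pos, _, hm, rfl⟩
      · show t ^ (k % p) • ((t ^ (k % p))⁻¹ * a) • z₀ = a • z₀
        rw [← mul_smul, mul_inv_cancel_left]
    · rintro ⟨⟨k, z'⟩, hkz, rfl⟩
      rw [mem_product] at hkz
      obtain ⟨m, -, rfl⟩ := (hQmem _).1 hkz.2
      exact ⟨t ^ k * m, mul_smul _ _ _⟩
  rw [himage, prod_image hinj, prod_product]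
  by_contra hne
  apply hW
  refine wreathQuot_of_prod_ne_one M hM t ht ν ⟨x, hx⟩ ?_
  intro h1
  apply hne
  rw [← h1]
  refine Finset.prod_congr rfl fun k _ => ?_
  exact hshift (t ^ k) ⟨x, hx⟩

end Wreath

end Cfsg.Agent.Helper3.Cocycle
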