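import Mathlib
import Cfsg.Agent.Lib.Helper10.PUDefs

/-!
# S2263 piece PU-NUMS1 (helper3): `p ^ t ≤ Bnd` when `p ^ (t - 1) + 1 ≤ d`.
-/

set_option autoImplicit false
set_option linter.unusedVariables false

namespace Cfsg.Agent.Helper10.PU

open Polynomial Matrix
open Cfsg.Agent.Helper10.EO (star)

theorem pu_nums1_le_two_pow (c : ℕ) (hc : 1 ≤ c) : c ≤ 2 ^ (c - 1) := by
  obtain ⟨k, rfl⟩ : ∃ k, c = k + 1 := ⟨c - 1, by omega⟩
  rw [Nat.add_sub_cancel]
  have : k < 2 ^ k := Nat.lt_two_pow_self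
  omega

theorem pu_nums1_mul_le_pow (p c : ℕ) (hp : 2 ≤ p) (hc : 1 ≤ c) : p * c ≤ p ^ c := by
  obtain ⟨k, rfl⟩ : ∃ k, c = k + 1 := ⟨c - 1, by omega⟩
  have h1 : k + 1 ≤ 2 ^ k := by
    have := pu_nums1_le_two_pow (k + 1) (by omega)
    rwa [Nat.add_sub_cancel] at this
  have h2 : 2 ^ k ≤ p ^ k := Nat.pow_le_pow_left hp k
  calc p * (k + 1) ≤ p * p ^ k := Nat.mul_le_mul_left p (le_trans h1 h2)
    _ = p ^ (k + 1) := by rw [pow_succ, mul_comm]

theorem pu_nums1_pow_pred_lt (q m : ℕ) (hq : 2 ≤ q) : q ^ m ≤ q ^ (m + 1) - 1 := by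
  have h1 : 1 ≤ q ^ m := Nat.one_le_pow _ _ (by omega)
  have h2 : q ^ (m + 1) = q * q ^ m := by rw [pow_succ, mul_comm]
  have h3 : 2 * q ^ m ≤ q * q ^ m := Nat.mul_le_mul_right _ hq
  omega

/-- PIECE PU-NUMS1. -/
theorem num_single_one (p f d t c : ℕ) (hp : p.Prime) (hf : 1 ≤ f) (hd : 3 ≤ d)
    (h32 : ¬ (d = 3 ∧ p ^ f = 2))
    (hB : (p ^ f) ^ (d - 1) - 1 ≤ Bnd p f d)
    (ht : 1 ≤ t) (hc : c = p ^ (t - 1)) (hcd : c + 1 ≤ d) :
    p ^ t ≤ Bnd p f d := by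
  have hp2 : 2 ≤ p := hp.two_le
  have hc1 : 1 ≤ c := by rw [hc]; exact Nat.one_le_pow _ _ (by omega)
  have hpt : p ^ t = p * c := by
    obtain ⟨k, rfl⟩ : ∃ k, t = k + 1 := ⟨t - 1, by omega⟩
    rw [hc, Nat.add_sub_cancel, pow_succ, mul_comm]
  have hpc : p * c ≤ p ^ c := pu_nums1_mul_le_pow p c hp2 hc1
  have hpq : p ≤ p ^ f := by
    calc p = p ^ 1 := (pow_one p).symm
      _ ≤ p ^ f := Nat.pow_le_pow_right (by omega) hf
  have hq2 : 2 ≤ p ^ f := le_trans hp2 hpq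
  have hpcq : p ^ c ≤ (p ^ f) ^ c := Nat.pow_le_pow_left hpq c
  rw [hpt]
  by_cases hcase : c + 2 ≤ d
  · -- `c ≤ d - 2`
    refine le_trans ?_ hB
    have h1 : (p ^ f) ^ c ≤ (p ^ f) ^ (d - 2) := Nat.pow_le_pow_right (by omega) (by omega)
    have h2 : (p ^ f) ^ (d - 2) ≤ (p ^ f) ^ (d - 2 + 1) - 1 := pu_nums1_pow_pred_lt _ _ hq2
    have h3 : d - 2 + 1 = d - 1 := by omega
    rw [h3] at h2
    omega
  · -- `c = d - 1`
    have hcd' : c = d - 1 := by omega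
    have hd1 : d - 1 = c := hcd'.symm
    unfold Bnd
    split_ifs with hodd hf2 hq
    · -- `d` odd, `f ≥ 2`
      rw [hd1]
      have h1 : p ^ 2 ≤ p ^ f := Nat.pow_le_pow_right (by omega) hf2
      have h2 : (p ^ 2) ^ c ≤ (p ^ f) ^ c := Nat.pow_le_pow_left h1 c
      have h3 : (p ^ 2) ^ c = p ^ c * p ^ c := by rw [← pow_mul, two_mul, pow_add]
      have h4 : 2 ≤ p ^ c := by
        calc 2 ≤ p := hp2
          _ = p ^ 1 := (pow_one p).symm
          _ ≤ p ^ c := Nat.pow_le_pow_right (by omega) hc1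
      have h5 : p * c * 2 ≤ p ^ c * p ^ c := Nat.mul_le_mul hpc h4
      have h6 : 1 ≤ p * c := by nlinarith
      omega
    · -- `d` odd, `f = 1`
      have h1 : d - 2 + 1 = c := by omega
      have h2 : (p ^ (d - 2) + 1) * p = p ^ c + p := by
        rw [add_mul, one_mul, ← pow_succ, h1]
      rw [h2]
      omega
    · -- `d` even, `q > 2`
      rw [hd1]
      omega
    · -- `d` even, `q = 2`
      have hq' : p ^ f = 2 := by omega
      have hp' : p = 2 := by omega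
      have hd4 : 4 ≤ d := by
        rcases Nat.even_or_odd d with he | ho
        · obtain ⟨k, hk⟩ := he
          omega
        · exact absurd ho hodd
      have h1 : d - 3 + 2 = c := by omega
      have h2 : 4 * (2 ^ (d - 3) + 1) = 2 ^ c + 4 := by
        rw [← h1, pow_add]
        ring
      rw [h2]
      have hpc2 : p * c ≤ 2 ^ c := by
        have := hpc
        rw [hp'] at this ⊢
        exact this
      omega

end Cfsg.Agent.Helper10.PU
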