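import Mathlib
import Cfsg.Agent.Lib.Helper10.PUDefs

/-!
# S2263 piece PU-NUMS2 (helper3): `p ^ t * wfun q n ≤ q ^ (d - 1) - 1` when
`(p ^ (t - 1) + 1) * n ≤ d`, `n ≥ 2`.
-/

set_option autoImplicit false
set_option linter.unusedVariables false

namespace Cfsg.Agent.Helper10.PU

open Polynomial Matrix
open Cfsg.Agent.Helper10.EO (star)

theorem pu_nums2_mul_le_pow (p c : ℕ) (hp : 2 ≤ p) (hc : 1 ≤ c) : p * c ≤ p ^ c := by
  obtain ⟨k, rfl⟩ : ∃ k, c = k + 1 := ⟨c - 1, by omega⟩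
  have h1 : k + 1 ≤ 2 ^ k := by
    have : k < 2 ^ k := Nat.lt_two_pow_self
    omega
  have h2 : 2 ^ k ≤ p ^ k := Nat.pow_le_pow_left hp k
  calc p * (k + 1) ≤ p * p ^ k := Nat.mul_le_mul_left p (le_trans h1 h2)
    _ = p ^ (k + 1) := by rw [pow_succ, mul_comm]

theorem pu_nums2_pow_pred_lt (q m : ℕ) (hq : 2 ≤ q) : q ^ m ≤ q ^ (m + 1) - 1 := by
  have h1 : 1 ≤ q ^ m := Nat.one_le_pow _ _ (by omega)
  have h2 : q ^ (m + 1) = q * q ^ m := by rw [pow_succ, mul_comm]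
  have h3 : 2 * q ^ m ≤ q * q ^ m := Nat.mul_le_mul_right _ hq
  omega

theorem pu_nums2_wfun_le (q n : ℕ) (hq : 2 ≤ q) (hn : 1 ≤ n) : wfun q n ≤ q ^ (n - 1) := by
  obtain ⟨k, rfl⟩ : ∃ k, n = k + 1 := ⟨n - 1, by omega⟩
  rw [Nat.add_sub_cancel]
  unfold wfun
  apply Nat.div_le_of_le_mul
  have h1 : 1 ≤ q ^ k := Nat.one_le_pow _ _ (by omega)
  have h2 : (q + 1) * q ^ k = q ^ (k + 1) + q ^ k := by rw [pow_succ]; ring
  have h3 : Efun q (k + 1) ≤ q ^ (k + 1) + 1 := by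
    unfold Efun
    split_ifs <;> omega
  omega

/-- PIECE PU-NUMS2. -/
theorem num_single_big (p f d t c n : ℕ) (hp : p.Prime) (hf : 1 ≤ f)
    (ht : 1 ≤ t) (hc : c = p ^ (t - 1)) (hn : 2 ≤ n) (hcn : (c + 1) * n ≤ d) :
    p ^ t * wfun (p ^ f) n ≤ (p ^ f) ^ (d - 1) - 1 := by
  have hp2 : 2 ≤ p := hp.two_le
  have hc1 : 1 ≤ c := by rw [hc]; exact Nat.one_le_pow _ _ (by omega)
  have hpt : p ^ t = p * c := by
    obtain ⟨k, rfl⟩ : ∃ k, t = k + 1 := ⟨t - 1, by omega⟩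
    rw [hc, Nat.add_sub_cancel, pow_succ, mul_comm]
  have hpc : p * c ≤ p ^ c := pu_nums2_mul_le_pow p c hp2 hc1
  have hpq : p ≤ p ^ f := by
    calc p = p ^ 1 := (pow_one p).symm
      _ ≤ p ^ f := Nat.pow_le_pow_right (by omega) hf
  have hq2 : 2 ≤ p ^ f := le_trans hp2 hpq
  have hpcq : p ^ c ≤ (p ^ f) ^ c := Nat.pow_le_pow_left hpq c
  have hw : wfun (p ^ f) n ≤ (p ^ f) ^ (n - 1) := pu_nums2_wfun_le _ n hq2 (by omega)
  -- `c + n - 1 + 2 ≤ d`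
  have hexp : c + (n - 1) + 2 ≤ d := by
    obtain ⟨m, rfl⟩ : ∃ m, n = m + 2 := ⟨n - 2, by omega⟩
    have e : (c + 1) * (m + 2) = c * m + 2 * c + m + 2 := by ring
    have : 0 ≤ c * m := Nat.zero_le _
    have h' : m + 2 - 1 = m + 1 := by omega
    rw [h']
    nlinarith
  calc p ^ t * wfun (p ^ f) n ≤ (p ^ f) ^ c * (p ^ f) ^ (n - 1) := by
        rw [hpt]
        exact Nat.mul_le_mul (le_trans hpc hpcq) hw
    _ = (p ^ f) ^ (c + (n - 1)) := by rw [pow_add]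
    _ ≤ (p ^ f) ^ (d - 2) := Nat.pow_le_pow_right (by omega) (by omega)
    _ ≤ (p ^ f) ^ (d - 2 + 1) - 1 := pu_nums2_pow_pred_lt _ _ hq2
    _ = (p ^ f) ^ (d - 1) - 1 := by
        have : d - 2 + 1 = d - 1 := by omega
        rw [this]

end Cfsg.Agent.Helper10.PU
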