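import Mathlib
import Cfsg.Agent.Lib.Helper11.D4IMem
import Cfsg.Agent.Lib.Helper6.SylowConj

set_option autoImplicit false
set_option linter.unusedSectionVars false
set_option linter.unusedSimpArgs false
set_option linter.unusedVariables false

namespace Cfsg.Agent.Helper11.D4I

open Cfsg Cfsg.Lie Cfsg.Agent.Lead.Chev Cfsg.Agent.Lead.Tw

namespace WEYL

variable {K : Type*} [Field K] [CharP K 2]

theorem cast_sign (w : List ℕ) (hw : ∀ i ∈ w, i < chevD4.rank) (s : ℕ) :
    ((signWord chevD4 (etaOf chevD4) w s : ℤ) : K) = 1 := by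
  rcases signWord_sq chevD4 (etaOf chevD4) w
    (fun i hi s => ((D4.hF (K := K)).nsimple i (hw i hi)).sign s) s with h | h
  · rw [h]; simp
  · rw [h]; push_cast; exact CharTwo.neg_eq 1

/-- conjugation of a root element by a Weyl group representative, characteristic two -/
theorem nconj (w : List ℕ) (hw : ∀ i ∈ w, i < chevD4.rank) (s : ℕ) (hs : s < chevD4.nroots) (t : K) :
    nWordGL chevD4 (D4.hF (K := K)).xadd w * X s t * (nWordGL chevD4 (D4.hF (K := K)).xadd w)⁻¹ =
      X (reflWord chevD4 w s) t := by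
  rw [nWordGL_conj chevD4 (D4.hF (K := K)).xadd (etaOf chevD4) (D4.hF (K := K)).nsimple w hw s hs t,
    cast_sign w hw, one_mul]

theorem conj_mul3 (n a b c : GL chevD4.Idx K) :
    n * (a * (b * c)) * n⁻¹ = (n * a * n⁻¹) * ((n * b * n⁻¹) * (n * c * n⁻¹)) := by group

end WEYL

variable {K : Type*} [Field K] [Fintype K] [CharP K 2] {q : ℕ} (hK : Fintype.card K = q ^ 3)
  (f : K ≃+* K) (hf : ∀ t, f t = t ^ q)
include hK hf

/-- PIECE WEYLB: `n = nWordGL [1]` -/
theorem weyl_b : ∃ n ∈ twistedD4 K q, (∀ t : K, n * xa f t * n⁻¹ = xab f t) ∧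
    (∀ t : K, n * xab f t * n⁻¹ = xa f t) ∧ (∀ u : K, n * x3ab u * n⁻¹ = x3a2b u) ∧
    (∀ u : K, n * x3a2b u * n⁻¹ = x3ab u) := by
  have hw : ∀ i ∈ [1], i < chevD4.rank := by decide
  have r18 : reflWord chevD4 [1] 18 = 19 := by decide +kernel
  have r13 : reflWord chevD4 [1] 13 = 16 := by decide +kernel
  have r12 : reflWord chevD4 [1] 12 = 15 := by decide +kernel
  have r19 : reflWord chevD4 [1] 19 = 18 := by decide +kernel
  have r16 : reflWord chevD4 [1] 16 = 13 := by decide +kernel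
  have r15 : reflWord chevD4 [1] 15 = 12 := by decide +kernel
  have r22 : reflWord chevD4 [1] 22 = 23 := by decide +kernel
  have r23 : reflWord chevD4 [1] 23 = 22 := by decide +kernel
  have hn : chevD4.nroots = 24 := by decide +kernel
  refine ⟨nWordGL chevD4 (D4.hF (K := K)).xadd [1], ?_, ?_, ?_, ?_, ?_⟩
  · rw [D4.twisted_eq hK f hf]
    exact (D4.orthData f).s_mem [1] (by simp [D4.S])
  · intro t
    unfold xa xab
    rw [WEYL.conj_mul3, WEYL.nconj [1] hw 18 (by rw [hn]; norm_num), WEYL.nconj [1] hw 13 (by rw [hn]; norm_num),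
      WEYL.nconj [1] hw 12 (by rw [hn]; norm_num), r18, r13, r12]
  · intro t
    unfold xa xab
    rw [WEYL.conj_mul3, WEYL.nconj [1] hw 19 (by rw [hn]; norm_num), WEYL.nconj [1] hw 16 (by rw [hn]; norm_num),
      WEYL.nconj [1] hw 15 (by rw [hn]; norm_num), r19, r16, r15]
  · intro u
    unfold x3ab x3a2b
    rw [WEYL.nconj [1] hw 22 (by rw [hn]; norm_num), r22]
  · intro u
    unfold x3ab x3a2b
    rw [WEYL.nconj [1] hw 23 (by rw [hn]; norm_num), r23]

end Cfsg.Agent.Helper11.D4I
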