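import Mathlib
import Cfsg.Agent.Lib.Helper11.D4IMem
import Cfsg.Agent.Lib.Helper6.SylowConj
import Cfsg.Agent.Lib.Helper3.D4IWEYLB

set_option autoImplicit false
set_option linter.unusedSectionVars false
set_option linter.unusedSimpArgs false
set_option linter.unusedVariables false

namespace Cfsg.Agent.Helper11.D4I

open Cfsg Cfsg.Lie Cfsg.Agent.Lead.Chev Cfsg.Agent.Lead.Tw

variable {K : Type*} [Field K] [Fintype K] [CharP K 2] {q : ℕ} (hK : Fintype.card K = q ^ 3)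
  (f : K ≃+* K) (hf : ∀ t, f t = t ^ q)
include hK hf

/-- PIECE WEYLA: `n = nWordGL [0, 2, 3]` -/
theorem weyl_a : ∃ n ∈ twistedD4 K q, (∀ u : K, n * xb u * n⁻¹ = x3ab u) ∧ (∀ u : K, n * x3ab u * n⁻¹ = xb u) ∧
    (∀ t : K, n * xab f t * n⁻¹ = x2ab f (f t)) ∧ (∀ t : K, n * x2ab f t * n⁻¹ = xab f (f (f t))) := by
  have hw : ∀ i ∈ [0, 2, 3], i < chevD4.rank := by decide
  have r14 : reflWord chevD4 [0, 2, 3] 14 = 22 := by decide +kernel
  have r22 : reflWord chevD4 [0, 2, 3] 22 = 14 := by decide +kernel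
  have r19 : reflWord chevD4 [0, 2, 3] 19 = 17 := by decide +kernel
  have r16 : reflWord chevD4 [0, 2, 3] 16 = 20 := by decide +kernel
  have r15 : reflWord chevD4 [0, 2, 3] 15 = 21 := by decide +kernel
  have r20 : reflWord chevD4 [0, 2, 3] 20 = 16 := by decide +kernel
  have r21 : reflWord chevD4 [0, 2, 3] 21 = 15 := by decide +kernel
  have r17 : reflWord chevD4 [0, 2, 3] 17 = 19 := by decide +kernel
  have hn : chevD4.nroots = 24 := by decide +kernel
  refine ⟨nWordGL chevD4 (D4.hF (K := K)).xadd [0, 2, 3], ?_, ?_, ?_, ?_, ?_⟩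
  · rw [D4.twisted_eq hK f hf]
    exact (D4.orthData f).s_mem [0, 2, 3] (by simp [D4.S])
  · intro u
    unfold xb x3ab
    rw [WEYL.nconj [0, 2, 3] hw 14 (by rw [hn]; norm_num), r14]
  · intro u
    unfold xb x3ab
    rw [WEYL.nconj [0, 2, 3] hw 22 (by rw [hn]; norm_num), r22]
  · intro t
    unfold xab x2ab
    rw [WEYL.conj_mul3, WEYL.nconj [0, 2, 3] hw 19 (by rw [hn]; norm_num),
      WEYL.nconj [0, 2, 3] hw 16 (by rw [hn]; norm_num), WEYL.nconj [0, 2, 3] hw 15 (by rw [hn]; norm_num),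
      r19, r16, r15, hf3 hK f hf, sw_17_20', sw_17_21]
  · intro t
    unfold xab x2ab
    rw [WEYL.conj_mul3, WEYL.nconj [0, 2, 3] hw 20 (by rw [hn]; norm_num),
      WEYL.nconj [0, 2, 3] hw 21 (by rw [hn]; norm_num), WEYL.nconj [0, 2, 3] hw 17 (by rw [hn]; norm_num),
      r20, r21, r17, hf3 hK f hf, sw_15_19, sw_16_19']

end Cfsg.Agent.Helper11.D4I
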