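import Mathlib
import Cfsg.Agent.Lib.Helper3.Basic
import Cfsg.Agent.Lib.Helper1.CoprimeSylow
import Cfsg.Agent.S0035
import Cfsg.Agent.S0537

set_option autoImplicit false

/-! A finite group with an abelian maximal subgroup that is a Frobenius complement is metabelian. -/

namespace Cfsg.Agent.Helper3

open scoped Pointwise commutatorElement

universe u

variable {H : Type u} [Group H]

/-- If `N ⊴ H`, `N ⊔ A = ⊤` with `A` commutative, then all commutators lie in `N`. -/
theorem commutator_mem_of_sup_eq_top (N A : Subgroup H) [hN : N.Normal]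
    (hAc : ∀ a ∈ A, ∀ b ∈ A, a * b = b * a) (hsup : N ⊔ A = ⊤) (g h : H) : ⁅g, h⁆ ∈ N := by
  have hrep : ∀ g : H, ∃ x ∈ A, (g : H ⧸ N) = x := by
    intro g
    have hg : g ∈ ((N ⊔ A : Subgroup H) : Set H) := by
      rw [hsup]; exact Set.mem_univ _
    rw [Subgroup.normal_mul] at hg
    obtain ⟨n, hn, a, ha, hna⟩ := Set.mem_mul.mp hg
    refine ⟨a, ha, ?_⟩
    rw [← hna, QuotientGroup.mk_mul, (QuotientGroup.eq_one_iff n).mpr hn, one_mul]
  apply (QuotientGroup.eq_one_iff _).mp
  have : ((⁅g, h⁆ : H) : H ⧸ N) = ⁅(g : H ⧸ N), (h : H ⧸ N)⁆ := by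
    simp [commutatorElement_def]
  rw [this, commutatorElement_eq_one_iff_mul_comm]
  obtain ⟨x, hx, hgx⟩ := hrep g
  obtain ⟨y, hy, hhy⟩ := hrep h
  rw [hgx, hhy, ← QuotientGroup.mk_mul, ← QuotientGroup.mk_mul, hAc x hx y hy]

theorem derivedSeries_two_of_frobenius [Finite H] (A : Subgroup H) (hA : IsCoatom A)
    (hAc : ∀ a ∈ A, ∀ b ∈ A, a * b = b * a) (hF : Cfsg.IsFrobeniusComplement A) :
    derivedSeries H 2 = ⊥ := by
  classical
  obtain ⟨N, -, hNn, hcompl⟩ := Cfsg.Agent.S0035.result A hF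
  obtain ⟨hAbot, hAtop, hTI⟩ := hF
  have hdisj : ∀ z, z ∈ N → z ∈ A → z = 1 := by
    intro z hzN hzA
    exact Subgroup.disjoint_def.mp hcompl.disjoint hzN hzA
  have hsup : N ⊔ A = ⊤ := hcompl.sup_eq_top
  -- (K1) nontrivial elements of `A` have trivial centralizer in `N`
  have K1 : ∀ a ∈ A, a ≠ 1 → ∀ n ∈ N, n * a = a * n → n = 1 := by
    intro a ha ha1 n hn hna
    by_cases hnA : n ∈ A
    · exact hdisj n hn hnA
    · exfalso
      have h1 := hTI n hnA
      have h2 : a ∈ A ⊓ MulAut.conj n • A := by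
        refine Subgroup.mem_inf.mpr ⟨ha, ?_⟩
        rw [mem_conj_smul_iff]
        have : n⁻¹ * a * n = a := by rw [mul_assoc, ← hna]; group
        rw [this]; exact ha
      rw [h1, Subgroup.mem_bot] at h2
      exact ha1 h2
  -- (K2) coprimality
  have K2 : (Nat.card A).Coprime (Nat.card N) := by
    by_contra hnc
    obtain ⟨r, hr, hrA, hrN⟩ := Nat.Prime.not_coprime_iff_dvd.mp hnc
    have hrf : Fact r.Prime := ⟨hr⟩
    obtain ⟨a, ha⟩ := exists_prime_orderOf_dvd_card' (G := A) r hrA
    have ha1 : (a : H) ≠ 1 := by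
      intro h
      have : a = 1 := Subtype.ext h
      rw [this, orderOf_one] at ha
      exact hr.one_lt.ne ha
    have hoa : orderOf (a : H) = r := by rw [Subgroup.orderOf_coe]; exact ha
    have hPG : IsPGroup r (Subgroup.zpowers (a : H)) :=
      IsPGroup.of_card (n := 1) (by rw [Nat.card_zpowers, hoa, pow_one])
    let _inst : MulAction (Subgroup.zpowers (a : H)) N :=
      MulAction.compHom N ((MulAut.conjNormal : H →* MulAut N).comp (Subgroup.zpowers (a : H)).subtype)
    have hsmul : ∀ (g : Subgroup.zpowers (a : H)) (n : N), ((g • n : N) : H) = g * n * (g : H)⁻¹ :=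
      fun g n => rfl
    have h1 : (1 : N) ∈ MulAction.fixedPoints (Subgroup.zpowers (a : H)) N := by
      intro g
      apply Subtype.ext
      rw [hsmul]; simp
    obtain ⟨b, hb, hb1⟩ := hPG.exists_fixed_point_of_prime_dvd_card_of_fixed_point N hrN h1
    have hba := hb ⟨(a : H), Subgroup.mem_zpowers _⟩
    have hba' : (a : H) * b * (a : H)⁻¹ = b := by
      have := congrArg Subtype.val hba
      rwa [hsmul] at this
    have hcomm : (b : H) * a = a * b := by
      calc (b : H) * a = (a * b * (a : H)⁻¹) * a := by rw [hba']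
        _ = a * b := by group
    have := K1 a a.2 ha1 b b.2 hcomm
    exact hb1 (Subtype.ext this.symm)
  -- (K3) `N` is a `q`-group
  have hNbot : N ≠ ⊥ := by
    intro h
    rw [h, bot_sup_eq] at hsup
    exact hAtop hsup
  have hAsolv : Group.IsSolvable A := by
    have hc : ∀ a b : A, a * b = b * a := fun a b => Subtype.ext (hAc a a.2 b b.2)
    exact Group.isSolvable_of_comm hc
  have hcardN : Nat.card N ≠ 1 := fun h => hNbot (Subgroup.card_eq_one.mp h)
  obtain ⟨q, hq, hqN⟩ := Nat.exists_prime_and_dvd hcardN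
  have hqf : Fact q.Prime := ⟨hq⟩
  obtain ⟨Q, hQ⟩ := Cfsg.Agent.Helper1.exists_invariant_sylow (p := q) (K := N) A
    Subgroup.le_normalizer_of_normal K2 (Or.inl hAsolv)
  set Q' := (Q : Subgroup N).map N.subtype with hQ'
  have hQ'N : Q' ≤ N := Subgroup.map_subtype_le _
  have hQ'bot : Q' ≠ ⊥ := by
    intro h
    have : (Q : Subgroup N) = ⊥ := by
      rw [hQ', Subgroup.map_eq_bot_iff_of_injective _ N.subtype_injective] at h
      exact h
    exact Sylow.ne_bot_of_dvd_card Q hqN this
  have hsup_of : ∀ R : Subgroup H, R ≤ N → R ≠ ⊥ → A ⊔ R = ⊤ := by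
    intro R hRN hRbot
    apply hA.2
    refine lt_of_le_of_ne le_sup_left ?_
    intro heq
    apply hRbot
    rw [eq_bot_iff]
    intro z hz
    rw [Subgroup.mem_bot]
    exact hdisj z (hRN hz) (heq ▸ (Subgroup.mem_sup_right hz))
  have hNQ' : N ≤ Q' := by
    intro n hn
    have hn' : n ∈ ((Q' ⊔ A : Subgroup H) : Set H) := by
      rw [sup_comm, hsup_of Q' hQ'N hQ'bot]; exact Set.mem_univ _
    rw [Subgroup.coe_mul_of_right_le_normalizer_left Q' A hQ] at hn'
    obtain ⟨u, hu, a, ha, hua⟩ := Set.mem_mul.mp hn'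
    have ha1 : a = 1 := by
      apply hdisj a _ ha
      have : a = u⁻¹ * n := by rw [← hua]; group
      rw [this]
      exact N.mul_mem (N.inv_mem (hQ'N hu)) hn
    rw [ha1, mul_one] at hua
    rw [← hua]; exact hu
  have hNq : IsPGroup q N := by
    intro n
    have hnQ' : (n : H) ∈ Q' := hNQ' n.2
    obtain ⟨y, hy, hyn⟩ := hnQ'
    have : y = n := Subtype.ext hyn
    rw [this] at hy
    obtain ⟨k, hk⟩ := Q.isPGroup' ⟨n, hy⟩
    refine ⟨k, ?_⟩
    have := congrArg Subtype.val hk
    simpa using this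
  -- (K4) `N` is commutative
  have K4 : ⁅N, N⁆ = ⊥ := by
    by_contra hne
    have hRn : (⁅N, N⁆ : Subgroup H).Normal := Subgroup.commutator_normal N N
    have hRN : ⁅N, N⁆ ≤ N := Subgroup.commutator_le_right N N
    have htop := hsup_of ⁅N, N⁆ hRN hne
    have hle := Cfsg.Agent.S0537.le_of_sup_eq_top_of_disjoint hRN
      (fun z hzA hzN => hdisj z hzN hzA) htop
    have hnt : Nontrivial N := (Subgroup.nontrivial_iff_ne_bot _).mpr hNbot
    have hsolv : Group.IsSolvable N := by
      have := hNq.isNilpotent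
      infer_instance
    have hlt := IsSolvable.commutator_lt_top_of_nontrivial N
    apply hlt.ne
    rw [eq_top_iff]
    intro x _
    have hx : (x : H) ∈ ⁅N, N⁆ := hle x.2
    rw [← Subgroup.map_subtype_commutator] at hx
    obtain ⟨y, hy, hyx⟩ := hx
    have : y = x := Subtype.ext hyx
    rw [← this]; exact hy
  -- (K5)
  have h1 : derivedSeries H 1 ≤ N := by
    rw [derivedSeries_one, commutator_def, Subgroup.commutator_le]
    intro g _ h _
    exact commutator_mem_of_sup_eq_top N A hAc hsup g h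
  rw [show (2 : ℕ) = 1 + 1 from rfl, derivedSeries_succ, eq_bot_iff, ← K4]
  exact Subgroup.commutator_mono h1 h1

end Cfsg.Agent.Helper3
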