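import Mathlib
import Cfsg.Agent.Lib.Helper29.M23IdxC

set_option autoImplicit false
open Cfsg

/-! Definitions and generic lemmas for the subgroups of small index of the group of the
length-24 code (statement S1589). Everything lives in the group of all permutations of the
24 points, where the toolkit of Helper29 lives. -/

namespace Cfsg.Agent.Helper3.M24Idx

open Cfsg.Agent.Helper27 Cfsg.Agent.Helper29 Cfsg.Agent.Helper29.M24
open Cfsg.Agent.Helper29.M23Idx
open Cfsg.Agent.Helper29.FusM23 (Q23)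
open Cfsg.Agent.Helper29.IdxTools
open Cfsg.Agent.S0358 (idx)
open scoped Pointwise

/-- the set of fixed points of a permutation of the 24 points -/
def fixF (t : Equiv.Perm GolayPt) : Finset GolayPt := Finset.univ.filter fun p => t p = p

theorem mem_fixF (t : Equiv.Perm GolayPt) (p : GolayPt) : p ∈ fixF t ↔ t p = p := by
  unfold fixF
  simp

/-- the stabilizer of a point inside a permutation group -/
def stabIn (K : Subgroup (Equiv.Perm GolayPt)) (x : GolayPt) : Subgroup (Equiv.Perm GolayPt) :=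
  K ⊓ MulAction.stabilizer (Equiv.Perm GolayPt) x

theorem mem_stabIn (K : Subgroup (Equiv.Perm GolayPt)) (x : GolayPt) (g : Equiv.Perm GolayPt) :
    g ∈ stabIn K x ↔ g ∈ K ∧ g x = x := by
  unfold stabIn
  rw [Subgroup.mem_inf]
  exact and_congr Iff.rfl MulAction.mem_stabilizer_iff

theorem stabIn_le (K : Subgroup (Equiv.Perm GolayPt)) (x : GolayPt) : stabIn K x ≤ K :=
  fun _ hg => ((mem_stabIn K x _).1 hg).1

/-- the orbit of a point under a permutation group, as a finite set -/
noncomputable def orbF (K : Subgroup (Equiv.Perm GolayPt)) (a : GolayPt) : Finset GolayPt := by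
  classical exact Finset.univ.filter fun p => ∃ g ∈ K, g a = p

theorem mem_orbF (K : Subgroup (Equiv.Perm GolayPt)) (a p : GolayPt) :
    p ∈ orbF K a ↔ ∃ g ∈ K, g a = p := by
  unfold orbF
  simp

theorem self_mem_orbF (K : Subgroup (Equiv.Perm GolayPt)) (a : GolayPt) : a ∈ orbF K a :=
  (mem_orbF K a a).2 ⟨1, K.one_mem, rfl⟩

theorem apply_mem_orbF (K : Subgroup (Equiv.Perm GolayPt)) (a : GolayPt) (g : Equiv.Perm GolayPt)
    (hg : g ∈ K) (p : GolayPt) : g p ∈ orbF K a ↔ p ∈ orbF K a := by
  rw [mem_orbF, mem_orbF]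
  constructor
  · rintro ⟨h, hh, e⟩
    refine ⟨g⁻¹ * h, K.mul_mem (K.inv_mem hg) hh, ?_⟩
    rw [Equiv.Perm.mul_apply, e]
    simp
  · rintro ⟨h, hh, e⟩
    exact ⟨g * h, K.mul_mem hg hh, by rw [Equiv.Perm.mul_apply, e]⟩

theorem smul_orbF (K : Subgroup (Equiv.Perm GolayPt)) (a : GolayPt) (g : Equiv.Perm GolayPt)
    (hg : g ∈ K) : g • orbF K a = orbF K a := by
  rw [smul_eq_iff_forall]
  exact apply_mem_orbF K a g hg

/-- the orbit-stabilizer theorem -/
theorem card_orbF (K : Subgroup (Equiv.Perm GolayPt)) (a : GolayPt) :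
    Nat.card K = (orbF K a).card * Nat.card (stabIn K a) := by
  classical
  exact card_chain_step K a (orbF K a) (fun g hg => (mem_orbF K a _).2 ⟨g, hg, rfl⟩)
    (fun q hq => (mem_orbF K a q).1 hq)

/-- an invariant set containing a point contains its orbit -/
theorem orbF_subset (K : Subgroup (Equiv.Perm GolayPt)) (a : GolayPt) (S : Finset GolayPt)
    (ha : a ∈ S) (hS : ∀ g ∈ K, g • S = S) : orbF K a ⊆ S := by
  intro p hp
  obtain ⟨g, hg, rfl⟩ := (mem_orbF K a p).1 hp
  exact ((smul_eq_iff_forall S g).1 (hS g hg) a).2 ha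

/-- transitivity on the 24 points -/
def IsTrans (K : Subgroup (Equiv.Perm GolayPt)) : Prop := ∀ p q : GolayPt, ∃ g ∈ K, g p = q

theorem isTrans_of_base (K : Subgroup (Equiv.Perm GolayPt)) (x : GolayPt)
    (h : ∀ p, ∃ g ∈ K, g x = p) : IsTrans K := by
  intro p q
  obtain ⟨g, hg, rfl⟩ := h p
  obtain ⟨k, hk, rfl⟩ := h q
  refine ⟨k * g⁻¹, K.mul_mem hk (K.inv_mem hg), ?_⟩
  simp

theorem card_univ_pt : (Finset.univ : Finset GolayPt).card = 24 := by decide

theorem card_of_isTrans (K : Subgroup (Equiv.Perm GolayPt)) (h : IsTrans K) (x : GolayPt) :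
    Nat.card K = 24 * Nat.card (stabIn K x) := by
  rw [card_orbF K x]
  have : orbF K x = Finset.univ := by
    ext p
    simp only [Finset.mem_univ, iff_true]
    exact (mem_orbF K x p).2 (h x p)
  rw [this, card_univ_pt]

/-- Cauchy: an element of prime order in a permutation group of order divisible by the prime -/
theorem exists_orderOf_eq (K : Subgroup (Equiv.Perm GolayPt)) (p : ℕ) (hp : p.Prime)
    (h : p ∣ Nat.card K) : ∃ t ∈ K, orderOf t = p := by
  haveI : Fact p.Prime := ⟨hp⟩
  obtain ⟨t, ht⟩ := exists_prime_orderOf_dvd_card' p h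
  exact ⟨t, t.2, by rw [Subgroup.orderOf_coe, ht]⟩

/-- counting modulo a prime: an invariant set and its fixed points -/
theorem card_inv_modEq (t : Equiv.Perm GolayPt) (p : ℕ) (hp : p.Prime) (ht : t ^ p = 1)
    (D : Finset GolayPt) (hD : t • D = D) : D.card ≡ (D ∩ fixF t).card [MOD p] := by
  classical
  haveI : Fact p.Prime := ⟨hp⟩
  have hD' : ∀ x, t x ∈ D ↔ x ∈ D := (smul_eq_iff_forall D t).1 hD
  have h1 : (t.subtypePerm hD') ^ p ^ 1 = 1 := by
    rw [pow_one, Equiv.Perm.subtypePerm_pow]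
    ext x
    simp [ht]
  have h2 := Equiv.Perm.card_compl_support_modEq (σ := t.subtypePerm hD') (p := p) (n := 1) h1
  have e1 : Fintype.card {x // x ∈ D} = D.card := Fintype.card_coe D
  have e2 : (t.subtypePerm hD').supportᶜ.card = (D ∩ fixF t).card := by
    rw [← Finset.card_map (Function.Embedding.subtype (fun x => x ∈ D))]
    congr 1
    ext q
    rw [Finset.mem_map, Finset.mem_inter, mem_fixF]
    constructor
    · rintro ⟨y, hy, rfl⟩
      rw [Finset.mem_compl, Equiv.Perm.mem_support, not_not] at hy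
      exact ⟨y.2, congrArg Subtype.val hy⟩
    · rintro ⟨hq, hfix⟩
      refine ⟨⟨q, hq⟩, ?_, rfl⟩
      rw [Finset.mem_compl, Equiv.Perm.mem_support, not_not]
      exact Subtype.ext hfix
  rw [e1, e2] at h2
  exact h2.symm

/-- an element of order seven fixes exactly three points -/
theorem ord7_fixF_card (t : Equiv.Perm GolayPt) (ht : t ∈ Cfsg.M24) (h7 : orderOf t = 7) :
    (fixF t).card = 3 :=
  ord7_fixed_card t ht h7

/-- the order of a point stabilizer in the group of the code -/
theorem card_stabIn_M24 (x : GolayPt) : Nat.card (stabIn Cfsg.M24 x) = 10200960 := by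
  rw [← card_stab_point x]
  symm
  apply card_of_map_eq
  ext g
  rw [Subgroup.mem_map, mem_stabIn]
  constructor
  · rintro ⟨y, hy, rfl⟩
    exact ⟨y.2, hy⟩
  · rintro ⟨h1, h2⟩
    exact ⟨⟨g, h1⟩, h2, rfl⟩

theorem stabIn_mono {K L : Subgroup (Equiv.Perm GolayPt)} (h : K ≤ L) (x : GolayPt) :
    stabIn K x ≤ stabIn L x := fun g hg =>
  (mem_stabIn L x g).2 ⟨h ((mem_stabIn K x g).1 hg).1, ((mem_stabIn K x g).1 hg).2⟩

/-- the order of a point stabilizer of a subgroup divides the order of the large one -/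
theorem card_stabIn_dvd (K : Subgroup (Equiv.Perm GolayPt)) (hKM : K ≤ Cfsg.M24) (x : GolayPt) :
    Nat.card (stabIn K x) ∣ 10200960 := by
  rw [← card_stabIn_M24 x]
  exact Subgroup.card_dvd_of_le (stabIn_mono hKM x)

/-- the pointwise stabilizer of four points in the group of the code -/
def fix4 (p q r s : GolayPt) : Subgroup (Equiv.Perm GolayPt) :=
  Cfsg.M24 ⊓ MulAction.stabilizer (Equiv.Perm GolayPt) p ⊓
    MulAction.stabilizer (Equiv.Perm GolayPt) q ⊓ MulAction.stabilizer (Equiv.Perm GolayPt) r ⊓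
    MulAction.stabilizer (Equiv.Perm GolayPt) s

theorem mem_fix4 (p q r s : GolayPt) (g : Equiv.Perm GolayPt) :
    g ∈ fix4 p q r s ↔ g ∈ Cfsg.M24 ∧ g p = p ∧ g q = q ∧ g r = r ∧ g s = s := by
  unfold fix4
  simp only [Subgroup.mem_inf, MulAction.mem_stabilizer_iff, and_assoc]
  rfl

/-- a subgroup of the same order as a finite group containing it is the whole group -/
theorem eq_of_le_of_card_eq {K L : Subgroup (Equiv.Perm GolayPt)} (h : K ≤ L)
    (hc : Nat.card K = Nat.card L) : K = L :=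
  Subgroup.eq_of_le_of_card_ge h (le_of_eq hc.symm)

/-- fixed points of a conjugate -/
theorem fixF_conj (k z : Equiv.Perm GolayPt) : fixF (k * z * k⁻¹) = k • fixF z :=
  Cfsg.Agent.Helper29.M24.fixed_conj k z

end Cfsg.Agent.Helper3.M24Idx
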