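import Mathlib

/-!
# A group with the relations of `3^{1+2}:2` has order at most 54 (piece P for S5555)
-/

set_option autoImplicit false

namespace Cfsg.Agent.Helper3.TT232

variable {G : Type*} [Group G]

/-- `u` commutes with `w⁻¹ u w`. -/
theorem comm_aux (u w : G) (hw : w ^ 3 = 1) (huw : (u * w) ^ 3 = 1)
    (huw' : (u * w⁻¹) ^ 3 = 1) : u * (w⁻¹ * u * w) = (w⁻¹ * u * w) * u := by
  have w3 : w * w * w = 1 := by rw [← hw, pow_three']
  have w2 : w * w = w⁻¹ := eq_inv_of_mul_eq_one_left w3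
  have P1 : u * (w⁻¹ * u * w) * (w * u * w⁻¹) = 1 := by
    calc u * (w⁻¹ * u * w) * (w * u * w⁻¹) = u * w⁻¹ * u * (w * w) * u * w⁻¹ := by group
      _ = u * w⁻¹ * u * w⁻¹ * u * w⁻¹ := by rw [w2]
      _ = (u * w⁻¹) ^ 3 := by rw [pow_three']; group
      _ = 1 := huw'
  have P2 : (w⁻¹ * u * w) * u * (w * u * w⁻¹) = 1 := by
    calc (w⁻¹ * u * w) * u * (w * u * w⁻¹) = w⁻¹ * (u * w) ^ 3 * (w * w)⁻¹ := by
          rw [pow_three']; group
      _ = w⁻¹ * 1 * (w⁻¹)⁻¹ := by rw [huw, w2]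
      _ = 1 := by group
  exact mul_right_cancel (P1.trans P2.symm)

theorem card_le_54_of_rel {G : Type*} [Group G] (a u w : G) (ha : a * a = 1) (hu : u ^ 3 = 1) (hw : w ^ 3 = 1) (huw : (u * w) ^ 3 = 1) (huw' : (u * w⁻¹) ^ 3 = 1) (hau : a * u * a⁻¹ = u⁻¹) (haw : a * w * a⁻¹ = w⁻¹) : (Subgroup.closure {a, u, w} : Set G).Finite ∧ Nat.card ↥(Subgroup.closure {a, u, w}) ≤ 54 := by
  -- basic consequences
  have u3 : u * u * u = 1 := by rw [← hu, pow_three']
  have w3 : w * w * w = 1 := by rw [← hw, pow_three']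
  have uinv : u⁻¹ = u ^ 2 := by
    rw [pow_two]; exact (eq_inv_of_mul_eq_one_left u3).symm
  have winv : w⁻¹ = w ^ 2 := by
    rw [pow_two]; exact (eq_inv_of_mul_eq_one_left w3).symm
  have ainv : a⁻¹ = a := (eq_inv_of_mul_eq_one_left ha).symm
  -- swapped hypotheses
  have hwu : (w * u) ^ 3 = 1 := by
    have : (w * u) ^ 3 = w * (u * w) ^ 3 * w⁻¹ := by rw [pow_three', pow_three']; group
    rw [this, huw]; group
  have hwu' : (w * u⁻¹) ^ 3 = 1 := by
    have : (w * u⁻¹) ^ 3 = ((u * w⁻¹) ^ 3)⁻¹ := by rw [pow_three', pow_three']; group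
    rw [this, huw', inv_one]
  have cu : u * (w⁻¹ * u * w) = (w⁻¹ * u * w) * u := comm_aux u w hw huw huw'
  have cw : w * (u⁻¹ * w * u) = (u⁻¹ * w * u) * w := comm_aux w u hu hwu hwu'
  -- the central commutator
  set c : G := u⁻¹ * w⁻¹ * u * w with hc
  have hcu : c * u = u * c := by
    calc c * u = u⁻¹ * ((w⁻¹ * u * w) * u) := by rw [hc]; group
      _ = u⁻¹ * (u * (w⁻¹ * u * w)) := by rw [cu]
      _ = u * c := by rw [hc]; group
  have hcw : c * w = w * c := by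
    have h1 : c⁻¹ * w = w * c⁻¹ := by
      calc c⁻¹ * w = w⁻¹ * ((u⁻¹ * w * u) * w) := by rw [hc]; group
        _ = w⁻¹ * (w * (u⁻¹ * w * u)) := by rw [cw]
        _ = w * c⁻¹ := by rw [hc]; group
    calc c * w = c * (w * c⁻¹) * c := by group
      _ = c * (c⁻¹ * w) * c := by rw [h1]
      _ = w * c := by group
  have hcomm_u : Commute c u := hcu
  have hcomm_w : Commute c w := hcw
  have hc3 : c ^ 3 = 1 := by
    have e : c = u⁻¹ * (w⁻¹ * u * w) := by rw [hc]; group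
    have hcm : Commute u⁻¹ (w⁻¹ * u * w) := by
      have : Commute u (w⁻¹ * u * w) := cu
      exact this.inv_left
    rw [e, hcm.mul_pow]
    have h1 : (u⁻¹) ^ 3 = 1 := by rw [inv_pow, hu, inv_one]
    have h2 : (w⁻¹ * u * w) ^ 3 = 1 := by
      have : (w⁻¹ * u * w) ^ 3 = w⁻¹ * u ^ 3 * w := by rw [pow_three', pow_three']; group
      rw [this, hu]; group
    rw [h1, h2, mul_one]
  have cinv : c⁻¹ = c ^ 2 := by
    have c3' : c * c * c = 1 := by rw [← hc3, pow_three']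
    rw [pow_two]; exact (eq_inv_of_mul_eq_one_left c3').symm
  have hwu1 : w * u = u * w * c⁻¹ := by rw [hc]; group
  have hac : a * c = c * a := by
    have h1 : a * c * a⁻¹ = u * w * u⁻¹ * w⁻¹ := by
      calc a * c * a⁻¹ = (a * u * a⁻¹)⁻¹ * (a * w * a⁻¹)⁻¹ * (a * u * a⁻¹) * (a * w * a⁻¹) := by
            rw [hc]; group
        _ = u * w * u⁻¹ * w⁻¹ := by rw [hau, haw, inv_inv, inv_inv]
    have h2 : u * w * u⁻¹ * w⁻¹ = c := by
      have e1 : u * w = w * u * c := by rw [hc]; group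
      calc u * w * u⁻¹ * w⁻¹ = w * u * c * u⁻¹ * w⁻¹ := by rw [e1]
        _ = w * (c * u) * u⁻¹ * w⁻¹ := by rw [hcu]; group
        _ = (w * c) * w⁻¹ := by group
        _ = c * w * w⁻¹ := by rw [hcw]
        _ = c := by group
    have h3 : a * c * a⁻¹ = c := h1.trans h2
    calc a * c = a * c * a⁻¹ * a := by group
      _ = c * a := by rw [h3]
  have hau1 : a * u = u⁻¹ * a := by
    calc a * u = a * u * a⁻¹ * a := by group
      _ = u⁻¹ * a := by rw [hau]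
  have haw1 : a * w = w⁻¹ * a := by
    calc a * w = a * w * a⁻¹ * a := by group
      _ = w⁻¹ * a := by rw [haw]
  -- power versions
  have I1 : ∀ i : ℕ, w * u ^ i = u ^ i * w * (c⁻¹) ^ i := by
    intro i
    induction i with
    | zero => simp
    | succ i ih =>
      have hc' : Commute c⁻¹ u := hcomm_u.inv_left
      calc w * u ^ (i + 1) = (w * u ^ i) * u := by rw [pow_succ]; group
        _ = u ^ i * w * (c⁻¹) ^ i * u := by rw [ih]
        _ = u ^ i * w * (u * (c⁻¹) ^ i) := by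
            have h := (hc'.pow_left i).eq
            rw [mul_assoc (u ^ i * w), h]
        _ = u ^ i * (w * u) * (c⁻¹) ^ i := by group
        _ = u ^ i * (u * w * c⁻¹) * (c⁻¹) ^ i := by rw [hwu1]
        _ = u ^ (i + 1) * w * (c⁻¹) ^ (i + 1) := by rw [pow_succ, pow_succ']; group
  have I2 : ∀ i : ℕ, a * u ^ i = (u⁻¹) ^ i * a := by
    intro i
    induction i with
    | zero => simp
    | succ i ih =>
      calc a * u ^ (i + 1) = (a * u ^ i) * u := by rw [pow_succ]; group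
        _ = (u⁻¹) ^ i * (a * u) := by rw [ih]; group
        _ = (u⁻¹) ^ i * (u⁻¹ * a) := by rw [hau1]
        _ = (u⁻¹) ^ (i + 1) * a := by rw [pow_succ]; group
  have I3 : ∀ j : ℕ, a * w ^ j = (w⁻¹) ^ j * a := by
    intro j
    induction j with
    | zero => simp
    | succ j ih =>
      calc a * w ^ (j + 1) = (a * w ^ j) * w := by rw [pow_succ]; group
        _ = (w⁻¹) ^ j * (a * w) := by rw [ih]; group
        _ = (w⁻¹) ^ j * (w⁻¹ * a) := by rw [haw1]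
        _ = (w⁻¹) ^ (j + 1) * a := by rw [pow_succ]; group
  have I4 : ∀ k : ℕ, a * c ^ k = c ^ k * a := by
    intro k
    have : Commute a c := hac
    exact (this.pow_right k).eq
  -- the normal form set
  let f : Fin 3 × Fin 3 × Fin 3 × Fin 2 → G := fun q =>
    u ^ (q.1 : ℕ) * w ^ (q.2.1 : ℕ) * c ^ (q.2.2.1 : ℕ) * a ^ (q.2.2.2 : ℕ)
  have a2 : a ^ 2 = 1 := by rw [pow_two]; exact ha
  have memT : ∀ i j k l : ℕ, u ^ i * w ^ j * c ^ k * a ^ l ∈ Set.range f := by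
    intro i j k l
    refine ⟨(⟨i % 3, Nat.mod_lt _ (by norm_num)⟩, ⟨j % 3, Nat.mod_lt _ (by norm_num)⟩,
      ⟨k % 3, Nat.mod_lt _ (by norm_num)⟩, ⟨l % 2, Nat.mod_lt _ (by norm_num)⟩), ?_⟩
    show u ^ (i % 3) * w ^ (j % 3) * c ^ (k % 3) * a ^ (l % 2) = _
    rw [← pow_eq_pow_mod i hu, ← pow_eq_pow_mod j hw, ← pow_eq_pow_mod k hc3,
      ← pow_eq_pow_mod l a2]
  have hmul_u : ∀ y ∈ Set.range f, u * y ∈ Set.range f := by
    rintro _ ⟨⟨i, j, k, l⟩, rfl⟩
    have : u * f (i, j, k, l) = u ^ ((i : ℕ) + 1) * w ^ (j : ℕ) * c ^ (k : ℕ) * a ^ (l : ℕ) := by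
      show u * (u ^ (i : ℕ) * w ^ (j : ℕ) * c ^ (k : ℕ) * a ^ (l : ℕ)) = _
      rw [pow_succ']; group
    rw [this]; exact memT _ _ _ _
  have hmul_w : ∀ y ∈ Set.range f, w * y ∈ Set.range f := by
    rintro _ ⟨⟨i, j, k, l⟩, rfl⟩
    have hcw' : ∀ m n : ℕ, c ^ m * w ^ n = w ^ n * c ^ m := fun m n =>
      ((hcomm_w.pow_left m).pow_right n).eq
    have : w * f (i, j, k, l) =
        u ^ (i : ℕ) * w ^ ((j : ℕ) + 1) * c ^ (2 * (i : ℕ) + (k : ℕ)) * a ^ (l : ℕ) := by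
      show w * (u ^ (i : ℕ) * w ^ (j : ℕ) * c ^ (k : ℕ) * a ^ (l : ℕ)) = _
      calc w * (u ^ (i : ℕ) * w ^ (j : ℕ) * c ^ (k : ℕ) * a ^ (l : ℕ))
          = (w * u ^ (i : ℕ)) * w ^ (j : ℕ) * c ^ (k : ℕ) * a ^ (l : ℕ) := by group
        _ = u ^ (i : ℕ) * w * (c⁻¹) ^ (i : ℕ) * w ^ (j : ℕ) * c ^ (k : ℕ) * a ^ (l : ℕ) := by
            rw [I1]
        _ = u ^ (i : ℕ) * w * (c ^ (2 * (i : ℕ)) * w ^ (j : ℕ)) * c ^ (k : ℕ) * a ^ (l : ℕ) := by
            rw [cinv, ← pow_mul]; group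
        _ = u ^ (i : ℕ) * w * (w ^ (j : ℕ) * c ^ (2 * (i : ℕ))) * c ^ (k : ℕ) * a ^ (l : ℕ) := by
            rw [hcw']
        _ = u ^ (i : ℕ) * w ^ ((j : ℕ) + 1) * c ^ (2 * (i : ℕ) + (k : ℕ)) * a ^ (l : ℕ) := by
            rw [pow_succ', pow_add]; group
    rw [this]; exact memT _ _ _ _
  have hmul_a : ∀ y ∈ Set.range f, a * y ∈ Set.range f := by
    rintro _ ⟨⟨i, j, k, l⟩, rfl⟩
    have : a * f (i, j, k, l) =
        u ^ (2 * (i : ℕ)) * w ^ (2 * (j : ℕ)) * c ^ (k : ℕ) * a ^ ((l : ℕ) + 1) := by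
      show a * (u ^ (i : ℕ) * w ^ (j : ℕ) * c ^ (k : ℕ) * a ^ (l : ℕ)) = _
      calc a * (u ^ (i : ℕ) * w ^ (j : ℕ) * c ^ (k : ℕ) * a ^ (l : ℕ))
          = (a * u ^ (i : ℕ)) * w ^ (j : ℕ) * c ^ (k : ℕ) * a ^ (l : ℕ) := by group
        _ = (u⁻¹) ^ (i : ℕ) * (a * w ^ (j : ℕ)) * c ^ (k : ℕ) * a ^ (l : ℕ) := by
            rw [I2]; group
        _ = (u⁻¹) ^ (i : ℕ) * (w⁻¹) ^ (j : ℕ) * (a * c ^ (k : ℕ)) * a ^ (l : ℕ) := by
            rw [I3]; group
        _ = (u⁻¹) ^ (i : ℕ) * (w⁻¹) ^ (j : ℕ) * c ^ (k : ℕ) * (a * a ^ (l : ℕ)) := by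
            rw [I4]; group
        _ = u ^ (2 * (i : ℕ)) * w ^ (2 * (j : ℕ)) * c ^ (k : ℕ) * a ^ ((l : ℕ) + 1) := by
            rw [uinv, winv, ← pow_mul, ← pow_mul, ← pow_succ']
    rw [this]; exact memT _ _ _ _
  have hsub : (Subgroup.closure {a, u, w} : Set G) ⊆ Set.range f := by
    intro x hx
    have hx' : x ∈ Subgroup.closure ({a, u, w} : Set G) := hx
    refine Subgroup.closure_induction_left (p := fun x _ => x ∈ Set.range f) ?_ ?_ ?_ hx'
    · exact ⟨(0, 0, 0, 0), by simp [f]⟩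
    · intro g hg y _ ih
      simp only [Set.mem_insert_iff, Set.mem_singleton_iff] at hg
      obtain h | h | h := hg
      · rw [h]; exact hmul_a y ih
      · rw [h]; exact hmul_u y ih
      · rw [h]; exact hmul_w y ih
    · intro g hg y _ ih
      simp only [Set.mem_insert_iff, Set.mem_singleton_iff] at hg
      obtain h | h | h := hg
      · rw [h, ainv]; exact hmul_a y ih
      · have : g⁻¹ * y = u * (u * y) := by rw [h, uinv, pow_two]; group
        rw [this]; exact hmul_u _ (hmul_u y ih)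
      · have : g⁻¹ * y = w * (w * y) := by rw [h, winv, pow_two]; group
        rw [this]; exact hmul_w _ (hmul_w y ih)
  have hfin : (Set.range f).Finite := Set.finite_range f
  refine ⟨hfin.subset hsub, ?_⟩
  have h1 : Nat.card ↥(Subgroup.closure {a, u, w}) ≤ Nat.card (Set.range f) :=
    Nat.card_mono hfin hsub
  have h2 : Nat.card (Set.range f) ≤ Nat.card (Fin 3 × Fin 3 × Fin 3 × Fin 2) :=
    Nat.card_le_card_of_surjective (Set.rangeFactorization f) Set.rangeFactorization_surjective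
  have h3 : Nat.card (Fin 3 × Fin 3 × Fin 3 × Fin 2) = 54 := by
    simp [Nat.card_eq_fintype_card]
  omega

end Cfsg.Agent.Helper3.TT232
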