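import Mathlib
import Cfsg.Prelude.Def_Characters
import Cfsg.Prelude.Def_Blocks
import Cfsg.Agent.Lib.Helper3.BSWDefs
import Cfsg.Agent.Lib.Helper3.BSWArithDefs

/-!
# S3282 (abstract Brauer--Suzuki--Wall theorem): definitions for the character part of the farm-out

See `plans/S3282_proof.md` (sections C, S) and `plans/S3282_Skel4.lean.txt`.
-/

set_option autoImplicit false

namespace Cfsg.Agent.Helper3.BSW

open Cfsg
open scoped ComplexConjugate

universe u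

variable {G : Type u} [Group G]

/-- The non-principal linear characters of `K`. -/
abbrev JK (K : Subgroup G) : Type u := {μ : ↥K →* ℂˣ // μ ≠ 1}

/-- Complex conjugation (= inversion) on `JK K`. -/
def invJ (K : Subgroup G) (μ : JK K) : JK K :=
  ⟨μ.1⁻¹, fun h => μ.2 (by
    ext x
    have h' := DFunLike.congr_fun h x
    rw [MonoidHom.inv_apply, MonoidHom.one_apply, inv_eq_one] at h'
    rw [h', MonoidHom.one_apply])⟩

/-- The multiplicity of `1_K` in `ψ|_K`. -/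
noncomputable def a1C (K : Subgroup G) [Fintype K] (ψ : G → ℂ) : ℂ :=
  (Nat.card K : ℂ)⁻¹ * ∑ x : K, ψ x

/-- The multiplicity of `1_K - μ` in `ψ|_K`: `(1/k) ∑_{x ∈ K} ψ(x) (1 - conj μ(x))`. -/
noncomputable def bC (K : Subgroup G) [Fintype K] (μ : ↥K →* ℂˣ) (ψ : G → ℂ) : ℂ :=
  (Nat.card K : ℂ)⁻¹ * ∑ x : K, ψ x * (1 - conj ((μ x : ℂˣ) : ℂ))

/-- Integer versions of `a1C`, `bC` and of `μ ↦ μ(t)`. -/
structure CharData (K : Subgroup G) [Fintype K] (t : G) (htK : t ∈ K)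
    (a1 : IrrCharacter G → ℤ) (b : JK K → IrrCharacter G → ℤ) (sgn : JK K → ℤ) : Prop where
  ha1 : ∀ ψ : IrrCharacter G, (a1 ψ : ℂ) = a1C K (ψ : G → ℂ)
  hb : ∀ (μ : JK K) (ψ : IrrCharacter G), (b μ ψ : ℂ) = bC K μ.1 (ψ : G → ℂ)
  hsgn : ∀ μ : JK K, (sgn μ : ℂ) = ((μ.1 ⟨t, htK⟩ : ℂˣ) : ℂ)

/-- The degree function on `IrrCharacter G`, integer valued. -/
noncomputable def degZ (ψ : IrrCharacter G) : ℤ := (charDegree (ψ : G → ℂ) : ℤ)

end Cfsg.Agent.Helper3.BSW
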