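import Mathlib

/-!
Leary–Stancu type realization of a fusion system by a virtually free group, built as a
concrete subgroup of a semidirect product `FreeGroup X ⋊ Sg`.  Definitions only.
-/

noncomputable section

namespace Cfsg.Agent.Helper3.LS

universe u

/-- Data inside a group `Sg`: a subgroup `S0`, and a family of subgroups `A i ≤ S0` with elements
`τ i` such that `τ i * A i * (τ i)⁻¹ ≤ S0`. -/
structure Data (Sg : Type u) [Group Sg] where
  I : Type u
  S0 : Subgroup Sg
  A : I → Subgroup Sg
  τ : I → Sg
  hA : ∀ i, A i ≤ S0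
  hB : ∀ i, (A i).map (MulAut.conj (τ i)).toMonoidHom ≤ S0

variable {Sg : Type u} [Group Sg] (D : Data Sg)

/-- `B i = τ i * A i * (τ i)⁻¹`. -/
def Data.B (i : D.I) : Subgroup Sg := (D.A i).map (MulAut.conj (D.τ i)).toMonoidHom

/-- The letters: pairs of an index `i` and a left coset of `B i`. -/
structure Data.X : Type u where
  idx : D.I
  cos : Sg ⧸ D.B idx

instance instDecEqX : DecidableEq D.X := Classical.decEq _

/-- `Sg` acts on the letters by left multiplication on the coset. -/
instance instSMulX : SMul Sg D.X := ⟨fun σ x => ⟨x.idx, σ • x.cos⟩⟩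

theorem smul_X_def (σ : Sg) (x : D.X) : σ • x = (⟨x.idx, σ • x.cos⟩ : D.X) := rfl

@[simp] theorem smul_X_idx (σ : Sg) (x : D.X) : (σ • x).idx = x.idx := rfl

@[simp] theorem smul_X_cos (σ : Sg) (x : D.X) : (σ • x).cos = σ • x.cos := rfl

instance instMulActionX : MulAction Sg D.X where
  one_smul x := by
    rcases x with ⟨i, q⟩
    rw [smul_X_def]
    simp
  mul_smul a b x := by
    rcases x with ⟨i, q⟩
    rw [smul_X_def, smul_X_def, smul_X_def]
    simp [mul_smul]

/-- The action of `Sg` on the free group on the letters, permuting the basis. -/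
def Data.θ : Sg →* MulAut (FreeGroup D.X) where
  toFun σ := FreeGroup.freeGroupCongr (MulAction.toPerm σ)
  map_one' := by
    apply MulEquiv.toMonoidHom_injective
    apply FreeGroup.ext_hom
    intro x
    simp [FreeGroup.freeGroupCongr]
  map_mul' a b := by
    apply MulEquiv.toMonoidHom_injective
    apply FreeGroup.ext_hom
    intro x
    simp [FreeGroup.freeGroupCongr, mul_smul]

theorem θ_of (σ : Sg) (x : D.X) : D.θ σ (FreeGroup.of x) = FreeGroup.of (σ • x) := by
  simp [Data.θ, FreeGroup.freeGroupCongr]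

/-- The ambient semidirect product. -/
abbrev Data.W : Type u := FreeGroup D.X ⋊[D.θ] Sg

/-- The base letter of index `i`: the trivial coset of `B i`. -/
def Data.x0 (i : D.I) : D.X := ⟨i, ((1 : Sg) : Sg ⧸ D.B i)⟩

/-- The stable letter. -/
def Data.tt (i : D.I) : D.W := ⟨FreeGroup.of (D.x0 i), D.τ i⟩

/-- The stable letter or its inverse. -/
def Data.ts (i : D.I) (b : Bool) : D.W := if b then D.tt i else (D.tt i)⁻¹

/-- The embedding of `Sg`. -/
def Data.inS : Sg →* D.W := SemidirectProduct.inr

/-- The group: generated by `S0` and the stable letters. -/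
def Data.G : Subgroup D.W := Subgroup.closure ((D.inS '' (D.S0 : Set Sg)) ∪ Set.range D.tt)

/-- The action of `W` on (the vertices of the Cayley tree of) the free group. -/
instance instSMulW : SMul D.W (FreeGroup D.X) := ⟨fun w v => w.left * D.θ w.right v⟩

theorem smul_W_def (w : D.W) (v : FreeGroup D.X) : w • v = w.left * D.θ w.right v := rfl

instance instMulActionW : MulAction D.W (FreeGroup D.X) where
  one_smul v := by simp [smul_W_def]
  mul_smul a b v := by simp [smul_W_def, mul_assoc]

/-- The fusion generated by the `τ i` on `A i`, their inverses on `B i`, and `S0`: `Fus σ P` says that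
conjugation by `σ` on the subgroup `P ≤ S0` is a composite of the generating maps. -/
inductive Data.Fus : Sg → Subgroup Sg → Prop
  | inner (s : Sg) (hs : s ∈ D.S0) (P : Subgroup Sg) (hP : P ≤ D.S0) : Data.Fus s P
  | fwd (i : D.I) (P : Subgroup Sg) (hP : P ≤ D.A i) : Data.Fus (D.τ i) P
  | bwd (i : D.I) (P : Subgroup Sg) (hP : P ≤ D.B i) : Data.Fus (D.τ i)⁻¹ P
  | comp (σ σ' : Sg) (P : Subgroup Sg) (h : Data.Fus σ P)
      (h' : Data.Fus σ' (P.map (MulAut.conj σ).toMonoidHom)) : Data.Fus (σ' * σ) P

/-- Reduced paths: `Pth g` says that `g` is a product `s₀ t^{±} s₁ t^{±} ⋯ s_k` along which the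
vertex `g • 1` moves away from `1` at every step. -/
inductive Data.Pth : D.W → Prop
  | base (s : Sg) (hs : s ∈ D.S0) : Data.Pth (D.inS s)
  | step (g : D.W) (i : D.I) (b : Bool) (s : Sg) (hs : s ∈ D.S0) (hg : Data.Pth g)
      (hn : FreeGroup.norm ((g * D.ts i b) • (1 : FreeGroup D.X)) =
        FreeGroup.norm (g • (1 : FreeGroup D.X)) + 1) :
      Data.Pth (g * D.ts i b * D.inS s)

end Cfsg.Agent.Helper3.LS
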