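import Mathlib
import Cfsg.Agent.Lib.Helper3.LSDefs

noncomputable section

namespace Cfsg.Agent.Helper3.LS

universe u

variable {Sg : Type u} [Group Sg] (D : Data Sg)

/-- The letter added by `ts i b`: `(ts i b) • 1 = FreeGroup.mk [lt i b]`. -/
def Data.lt (i : D.I) (b : Bool) : D.X × Bool := (if b then D.x0 i else (D.τ i)⁻¹ • D.x0 i, b)

end Cfsg.Agent.Helper3.LS
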