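import Mathlib

namespace Cfsg.Agent.Helper3.LS

universe u

section Word

variable {α : Type u} [DecidableEq α]

theorem w12_toWord_mk_singleton (l : α × Bool) : (FreeGroup.mk [l]).toWord = [l] := by
  rw [FreeGroup.toWord_mk]
  exact FreeGroup.IsReduced.singleton.reduce_eq

/-- appending a letter to a reduced word whose last letter does not cancel it stays reduced -/
theorem w12_isReduced_append_singleton (L : List (α × Bool)) (l : α × Bool)
    (hL : FreeGroup.IsReduced L)
    (hl : ∀ m ∈ L.getLast?, ¬ (m.1 = l.1 ∧ m.2 = !l.2)) : FreeGroup.IsReduced (L ++ [l]) := by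
  unfold FreeGroup.IsReduced at *
  rw [List.isChain_append]
  refine ⟨hL, List.isChain_singleton _, ?_⟩
  intro x hx y hy
  simp only [List.head?_cons, Option.mem_def, Option.some.injEq] at hy
  subst hy
  intro hxy
  have := hl x hx
  by_contra hne
  apply this
  refine ⟨hxy, ?_⟩
  cases hx2 : x.2 <;> cases hy2 : l.2 <;> simp_all

theorem word_mul_letter (v : FreeGroup α) (l : α × Bool) :
    (v * FreeGroup.mk [l]).toWord = v.toWord ++ [l] ∨
      v.toWord = (v * FreeGroup.mk [l]).toWord ++ [(l.1, !l.2)] := by
  rw [FreeGroup.toWord_mul, w12_toWord_mk_singleton]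
  have hred : FreeGroup.IsReduced v.toWord := FreeGroup.isReduced_toWord
  rcases List.eq_nil_or_concat v.toWord with h0 | ⟨L', m, hm⟩
  all_goals try rw [List.concat_eq_append] at hm
  · left
    rw [h0]
    simp
  · by_cases hc : m.1 = l.1 ∧ m.2 = !l.2
    · right
      rw [hm]
      have hm' : m = (l.1, !l.2) := Prod.ext hc.1 hc.2
      have hL' : FreeGroup.IsReduced L' := by
        apply hred.infix
        rw [hm]
        exact (List.prefix_append L' [m]).isInfix
      have hstep : FreeGroup.Red.Step (L' ++ [m] ++ [l]) L' := by
        have h1 : L' ++ [m] ++ [l] = L' ++ (l.1, !l.2) :: (l.1, !(!l.2)) :: [] := by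
          rw [hm']
          simp
        rw [h1]
        have := @FreeGroup.Red.Step.not α L' [] l.1 (!l.2)
        simpa using this
      have h2 : FreeGroup.reduce (L' ++ [m] ++ [l]) = FreeGroup.reduce L' :=
        FreeGroup.reduce.Step.eq hstep
      rw [h2, hL'.reduce_eq, hm']
    · left
      have : FreeGroup.IsReduced (v.toWord ++ [l]) := by
        apply w12_isReduced_append_singleton _ _ hred
        intro x hx
        rw [hm] at hx
        simp at hx
        subst hx
        exact hc
      exact this.reduce_eq

theorem w12_isReduced_map {β : Type u} (f : α → β) (hf : Function.Injective f)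
    (L : List (α × Bool)) (hL : FreeGroup.IsReduced L) :
    FreeGroup.IsReduced (L.map (Prod.map f id)) := by
  unfold FreeGroup.IsReduced at *
  rw [List.isChain_map]
  refine hL.imp ?_
  intro a b hab h
  apply hab
  exact hf h

theorem word_map (e : α ≃ α) (v : FreeGroup α) :
    (FreeGroup.freeGroupCongr e v).toWord = v.toWord.map (Prod.map e id) := by
  have h1 : FreeGroup.freeGroupCongr e v = FreeGroup.mk (v.toWord.map (Prod.map e id)) := by
    conv_lhs => rw [← FreeGroup.mk_toWord (x := v)]
    rfl
  rw [h1, FreeGroup.toWord_mk]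
  exact (w12_isReduced_map e e.injective _ FreeGroup.isReduced_toWord).reduce_eq

end Word

end Cfsg.Agent.Helper3.LS
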