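import Mathlib
import Cfsg.Agent.Lib.Helper3.LSDefs
import Cfsg.Agent.Lib.Helper3.LSDefs2
import Cfsg.Agent.Lib.Helper3.LSW12
import Cfsg.Agent.Lib.Helper19.LSACT1
import Cfsg.Agent.Lib.Helper19.LSACT2

noncomputable section

namespace Cfsg.Agent.Helper3.LS

universe u

variable {Sg : Type u} [Group Sg] (D : Data Sg)

/-! ## real -/

theorem pth_mul_inS {g : D.W} (h : D.Pth g) (s' : Sg) (hs' : s' ∈ D.S0) :
    D.Pth (g * D.inS s') := by
  cases h with
  | base s hs =>
    rw [← map_mul]
    exact Data.Pth.base _ (mul_mem hs hs')
  | step g₀ i b s hs hg hn =>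
    rw [mul_assoc, ← map_mul]
    exact Data.Pth.step g₀ i b (s * s') (mul_mem hs hs') hg hn

theorem inS_smul_one (s : Sg) : D.inS s • (1 : FreeGroup D.X) = 1 := by
  have := mul_inS_smul_one D 1 s
  simpa using this

theorem norm_eq_length (v : FreeGroup D.X) : FreeGroup.norm v = v.toWord.length := rfl

theorem ts_right (i : D.I) (b : Bool) : (D.ts i b).right = if b then D.τ i else (D.τ i)⁻¹ := by
  cases b <;> simp [Data.ts, Data.tt]

theorem pth_mul_ts {g : D.W} (h : D.Pth g) (j : D.I) (b' : Bool) : D.Pth (g * D.ts j b') := by
  have hnew := mul_ts_smul_one D g j b'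
  rcases word_mul_letter (g • (1 : FreeGroup D.X)) ((g.right • (D.lt j b').1), b') with h1 | h1
  · -- norm grows
    have hn : FreeGroup.norm ((g * D.ts j b') • (1 : FreeGroup D.X)) =
        FreeGroup.norm (g • (1 : FreeGroup D.X)) + 1 := by
      rw [hnew, norm_eq_length, norm_eq_length, h1]
      simp
    have := Data.Pth.step g j b' 1 (one_mem _) h hn
    simpa using this
  · -- cancellation
    cases h with
    | base s hs =>
      exfalso
      rw [inS_smul_one] at h1
      simp at h1
    | step g₀ i b s hs hg hn =>
      -- the vertex of g
      have hv : (g₀ * D.ts i b * D.inS s) • (1 : FreeGroup D.X) =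
          (g₀ • (1 : FreeGroup D.X)) * FreeGroup.mk [((g₀.right • (D.lt i b).1), b)] := by
        rw [mul_inS_smul_one, mul_ts_smul_one]
      have hv2 : ((g₀ • (1 : FreeGroup D.X)) *
          FreeGroup.mk [((g₀.right • (D.lt i b).1), b)]).toWord =
          (g₀ • (1 : FreeGroup D.X)).toWord ++ [((g₀.right • (D.lt i b).1), b)] := by
        rcases word_mul_letter (g₀ • (1 : FreeGroup D.X)) ((g₀.right • (D.lt i b).1), b) with h2 | h2
        · exact h2
        · exfalso
          rw [mul_ts_smul_one, norm_eq_length, norm_eq_length] at hn
          have := congrArg List.length h2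
          simp at this
          omega
      rw [hv, hv2] at h1
      have h3 := List.append_inj' h1 (by simp)
      have h4 : ((g₀.right • (D.lt i b).1), b) =
          (((g₀ * D.ts i b * D.inS s).right • (D.lt j b').1), !b') := by
        have := h3.2
        simpa using this
      have hb : b = !b' := congrArg Prod.snd h4
      have hx : g₀.right • (D.lt i b).1 = (g₀ * D.ts i b * D.inS s).right • (D.lt j b').1 :=
        congrArg Prod.fst h4
      have hr : (g₀ * D.ts i b * D.inS s).right = g₀.right * (D.ts i b).right * s := by
        simp [Data.inS]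
      rw [hr, ts_right] at hx
      cases b with
      | true =>
        have hb' : b' = false := by
          cases b' with
          | false => rfl
          | true => exact absurd hb (by decide)
        subst hb'
        simp only [Data.lt, if_true] at hx
        simp only [Bool.false_eq_true, if_false] at hx
        rw [← mul_smul] at hx
        have hij := smul_x0_idx D hx
        subst hij
        rw [smul_x0_eq_iff] at hx
        have hsB : D.τ i * s * (D.τ i)⁻¹ ∈ D.B i := by
          have : (g₀.right)⁻¹ * (g₀.right * D.τ i * s * (D.τ i)⁻¹) = D.τ i * s * (D.τ i)⁻¹ := by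
            group
          rwa [this] at hx
        have hsA : s ∈ D.A i := by
          have := (mem_B_iff D i _).1 hsB
          have h5 : (D.τ i)⁻¹ * (D.τ i * s * (D.τ i)⁻¹) * D.τ i = s := by group
          rwa [h5] at this
        have hfin : g₀ * D.ts i true * D.inS s * D.ts i false =
            g₀ * D.inS (D.τ i * s * (D.τ i)⁻¹) := by
          have := conj_tt D i s hsA
          simp only [Data.ts, if_true, Bool.false_eq_true, if_false]
          rw [← this]
          group
        rw [hfin]
        exact pth_mul_inS D hg _ (D.hB i hsB)
      | false =>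
        have hb' : b' = true := by
          cases b' with
          | true => rfl
          | false => exact absurd hb (by decide)
        subst hb'
        simp only [Data.lt, if_true] at hx
        simp only [Bool.false_eq_true, if_false] at hx
        rw [← mul_smul] at hx
        have hij := smul_x0_idx D hx
        subst hij
        rw [smul_x0_eq_iff] at hx
        have hsB : s ∈ D.B i := by
          have : (g₀.right * (D.τ i)⁻¹)⁻¹ * (g₀.right * (D.τ i)⁻¹ * s) = s := by
            group
          rwa [this] at hx
        have hsA : (D.τ i)⁻¹ * s * D.τ i ∈ D.A i := (mem_B_iff D i _).1 hsB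
        have hfin : g₀ * D.ts i false * D.inS s * D.ts i true =
            g₀ * D.inS ((D.τ i)⁻¹ * s * D.τ i) := by
          have := conj_tt_inv D i s hsB
          simp only [Data.ts, if_true, Bool.false_eq_true, if_false]
          rw [← this]
          group
        rw [hfin]
        exact pth_mul_inS D hg _ (D.hA i hsA)

theorem pth_of_mem (g : D.W) (hg : g ∈ D.G) : D.Pth g := by
  have h1 : D.Pth (1 : D.W) := by
    have := Data.Pth.base (D := D) 1 (one_mem _)
    simpa using this
  induction hg using Subgroup.closure_induction_right with
  | one => exact h1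
  | mul_right x hx y hy ih =>
    rcases hy with ⟨s, hs, rfl⟩ | ⟨i, rfl⟩
    · exact pth_mul_inS D ih s hs
    · have := pth_mul_ts D ih i true
      simpa [Data.ts] using this
  | mul_inv_cancel x hx y hy ih =>
    rcases hy with ⟨s, hs, rfl⟩ | ⟨i, rfl⟩
    · rw [← map_inv]
      exact pth_mul_inS D ih s⁻¹ (inv_mem hs)
    · have := pth_mul_ts D ih i false
      simpa [Data.ts] using this

end Cfsg.Agent.Helper3.LS
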