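import Mathlib
import Cfsg.Agent.Lib.Helper3.LSDefs
import Cfsg.Agent.Lib.Helper3.LSDefs2
import Cfsg.Agent.Lib.Helper3.LSW12
import Cfsg.Agent.Lib.Helper19.LSACT1
import Cfsg.Agent.Lib.Helper19.LSACT2
import Cfsg.Agent.Lib.Helper3.LSPATH

noncomputable section

namespace Cfsg.Agent.Helper3.LS

universe u

variable {Sg : Type u} [Group Sg] (D : Data Sg)

theorem inS_mem_G (s : Sg) (hs : s ∈ D.S0) : D.inS s ∈ D.G :=
  Subgroup.subset_closure (Or.inl ⟨s, hs, rfl⟩)

theorem tt_mem_G (i : D.I) : D.tt i ∈ D.G := Subgroup.subset_closure (Or.inr ⟨i, rfl⟩)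

theorem ts_mem_G (i : D.I) (b : Bool) : D.ts i b ∈ D.G := by
  cases b
  · simp only [Data.ts, Bool.false_eq_true, if_false]
    exact inv_mem (tt_mem_G D i)
  · simp only [Data.ts, if_true]
    exact tt_mem_G D i

theorem Pth_mem {g : D.W} (h : D.Pth g) : g ∈ D.G := by
  induction h with
  | base s hs => exact inS_mem_G D s hs
  | step g i b s hs _ _ ih => exact mul_mem (mul_mem ih (ts_mem_G D i b)) (inS_mem_G D s hs)

/-- the word of the vertex after a length-increasing step -/
theorem pth_step_word (g₀ : D.W) (i : D.I) (b : Bool)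
    (hn : FreeGroup.norm ((g₀ * D.ts i b) • (1 : FreeGroup D.X)) =
      FreeGroup.norm (g₀ • (1 : FreeGroup D.X)) + 1) :
    ((g₀ * D.ts i b) • (1 : FreeGroup D.X)).toWord =
      (g₀ • (1 : FreeGroup D.X)).toWord ++ [((g₀.right • (D.lt i b).1), b)] := by
  rw [mul_ts_smul_one] at hn ⊢
  rcases word_mul_letter (g₀ • (1 : FreeGroup D.X)) ((g₀.right • (D.lt i b).1), b) with h2 | h2
  · exact h2
  · exfalso
    rw [norm_eq_length, norm_eq_length] at hn
    have := congrArg List.length h2
    simp at this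
    omega

theorem pth_fix_one {g : D.W} (h : D.Pth g) (h1 : g • (1 : FreeGroup D.X) = 1) :
    ∃ s ∈ D.S0, g = D.inS s := by
  cases h with
  | base s hs => exact ⟨s, hs, rfl⟩
  | step g₀ i b s hs hg hn =>
    exfalso
    rw [mul_inS_smul_one] at h1
    rw [h1] at hn
    simp at hn

theorem pth_prefix {g : D.W} (h : D.Pth g) (u : FreeGroup D.X)
    (hu : u.toWord <+: (g • (1 : FreeGroup D.X)).toWord) :
    ∃ k, D.Pth k ∧ k • (1 : FreeGroup D.X) = u := by
  induction h generalizing u with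
  | base s hs =>
    refine ⟨D.inS s, Data.Pth.base s hs, ?_⟩
    rw [inS_smul_one] at hu ⊢
    rw [FreeGroup.toWord_one, List.prefix_nil] at hu
    exact (FreeGroup.toWord_eq_nil_iff.1 hu).symm
  | step g₀ i b s hs hg hn ih =>
    rw [mul_inS_smul_one, pth_step_word D g₀ i b hn, List.prefix_concat_iff] at hu
    rcases hu with hu | hu
    · refine ⟨g₀ * D.ts i b * D.inS s, Data.Pth.step g₀ i b s hs hg hn, ?_⟩
      rw [mul_inS_smul_one]
      apply FreeGroup.toWord_injective
      rw [pth_step_word D g₀ i b hn, hu]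
    · exact ih u hu

end Cfsg.Agent.Helper3.LS
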