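import Mathlib
import Cfsg.Agent.Lib.Helper3.LSW12

namespace Cfsg.Agent.Helper3.LS

universe u

section Word

variable {α : Type u} [DecidableEq α]

theorem word_prefix_iff (u v : FreeGroup α) :
    u.toWord <+: v.toWord ↔ v.toWord = u.toWord ++ (u⁻¹ * v).toWord := by
  constructor
  · rintro ⟨L, hL⟩
    have hLred : FreeGroup.IsReduced L := by
      apply (FreeGroup.isReduced_toWord (x := v)).infix
      rw [← hL]
      exact (List.suffix_append _ _).isInfix
    have hv : v = u * FreeGroup.mk L := by
      rw [← FreeGroup.mk_toWord (x := v), ← hL, ← FreeGroup.mul_mk, FreeGroup.mk_toWord]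
    have : (u⁻¹ * v).toWord = L := by
      rw [hv, inv_mul_cancel_left, FreeGroup.toWord_mk]
      exact hLred.reduce_eq
    rw [this, hL]
  · intro h
    exact ⟨_, h.symm⟩

theorem word_fixed_letter (e : α ≃ α) (v : FreeGroup α)
    (hv : FreeGroup.freeGroupCongr e v = v) (l : α × Bool) (hl : l ∈ v.toWord) : e l.1 = l.1 := by
  have h1 := word_map e v
  rw [hv] at h1
  -- v.toWord = v.toWord.map (Prod.map e id)
  have h2 : ∀ L : List (α × Bool), L = L.map (Prod.map e id) → ∀ l ∈ L, e l.1 = l.1 := by
    intro L
    induction L with
    | nil => intro _ l hl; simp at hl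
    | cons a L ih =>
      intro h l hl
      simp only [List.map_cons, List.cons.injEq] at h
      rcases List.mem_cons.1 hl with rfl | hl
      · have := congrArg Prod.fst h.1
        simpa using this.symm
      · exact ih h.2 l hl
  exact h2 _ h1 l hl

theorem word_fixed_prefix (e : α ≃ α) (v u : FreeGroup α)
    (hv : FreeGroup.freeGroupCongr e v = v) (hu : u.toWord <+: v.toWord) :
    FreeGroup.freeGroupCongr e u = u := by
  apply FreeGroup.toWord_injective
  rw [word_map]
  have h : ∀ l ∈ u.toWord, Prod.map e id l = l := by
    intro l hl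
    have := word_fixed_letter e v hv l (hu.subset hl)
    exact Prod.ext this rfl
  conv_rhs => rw [← List.map_id u.toWord]
  exact List.map_congr_left (by simpa using h)

end Word

end Cfsg.Agent.Helper3.LS
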