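import Mathlib
import Cfsg.Agent.Lib.Helper3.Basic

set_option autoImplicit false

/-! Permutable subgroups and Kegel's lemma. -/

namespace Cfsg.Agent.Helper3

open scoped Pointwise

universe u

variable {G : Type u} [Group G]

/-- `A` and `K` permute: every element of `A ⊔ K` is a product `a * k`. -/
def Permutes (A K : Subgroup G) : Prop := ∀ z ∈ A ⊔ K, ∃ a ∈ A, ∃ k ∈ K, z = a * k

theorem permutes_of_coe_eq {A K S : Subgroup G} (h : (S : Set G) = (A : Set G) * (K : Set G)) :
    S = A ⊔ K ∧ Permutes A K := by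
  have hA : A ≤ S := fun a ha => by
    have : a ∈ (S : Set G) := by rw [h]; exact ⟨a, ha, 1, K.one_mem, mul_one a⟩
    exact this
  have hK : K ≤ S := fun k hk => by
    have : k ∈ (S : Set G) := by rw [h]; exact ⟨1, A.one_mem, k, hk, one_mul k⟩
    exact this
  have hS : S ≤ A ⊔ K := fun s hs => by
    have : s ∈ (S : Set G) := hs
    rw [h] at this
    obtain ⟨a, ha, k, hk, rfl⟩ := this
    exact Subgroup.mul_mem_sup ha hk
  have heq : S = A ⊔ K := le_antisymm hS (sup_le hA hK)
  refine ⟨heq, fun z hz => ?_⟩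
  rw [← heq] at hz
  have : z ∈ (S : Set G) := hz
  rw [h] at this
  obtain ⟨a, ha, k, hk, rfl⟩ := this
  exact ⟨a, ha, k, hk, rfl⟩

theorem Permutes.coe_sup {A K : Subgroup G} (h : Permutes A K) :
    ((A ⊔ K : Subgroup G) : Set G) = (A : Set G) * (K : Set G) := by
  ext z
  constructor
  · intro hz
    obtain ⟨a, ha, k, hk, rfl⟩ := h z hz
    exact ⟨a, ha, k, hk, rfl⟩
  · rintro ⟨a, ha, k, hk, rfl⟩
    exact Subgroup.mul_mem_sup ha hk

theorem Permutes.swap_mul {A K : Subgroup G} (h : Permutes A K) {k a : G} (hk : k ∈ K)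
    (ha : a ∈ A) : ∃ a' ∈ A, ∃ k' ∈ K, k * a = a' * k' :=
  h _ (mul_mem (Subgroup.mem_sup_right hk) (Subgroup.mem_sup_left ha))

theorem Permutes.sup_left {A A' K : Subgroup G} (h : Permutes A K) (h' : Permutes A' K) :
    Permutes (A ⊔ A') K := by
  have hW : A ⊔ A' = Subgroup.closure ((A : Set G) ∪ (A' : Set G)) := by
    rw [Subgroup.closure_union, Subgroup.closure_eq, Subgroup.closure_eq]
  -- pushing an element of `K` through an element of `A ⊔ A'`
  have sub : ∀ w ∈ A ⊔ A', ∀ k₀ ∈ K, ∃ w' ∈ A ⊔ A', ∃ k' ∈ K, k₀ * w = w' * k' := by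
    intro w hw
    rw [hW] at hw
    induction hw using Subgroup.closure_induction_right with
    | one => intro k₀ hk₀; exact ⟨1, one_mem _, k₀, hk₀, by group⟩
    | mul_right x hx y hy ih =>
      intro k₀ hk₀
      obtain ⟨w', hw', k', hk', e⟩ := ih k₀ hk₀
      rcases hy with hy | hy
      · obtain ⟨a, ha, k'', hk'', e'⟩ := h.swap_mul hk' hy
        refine ⟨w' * a, mul_mem hw' (Subgroup.mem_sup_left ha), k'', hk'', ?_⟩
        rw [← mul_assoc, e, mul_assoc, e', mul_assoc]
      · obtain ⟨a, ha, k'', hk'', e'⟩ := h'.swap_mul hk' hy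
        refine ⟨w' * a, mul_mem hw' (Subgroup.mem_sup_right ha), k'', hk'', ?_⟩
        rw [← mul_assoc, e, mul_assoc, e', mul_assoc]
    | mul_inv_cancel x hx y hy ih =>
      intro k₀ hk₀
      obtain ⟨w', hw', k', hk', e⟩ := ih k₀ hk₀
      rcases hy with hy | hy
      · obtain ⟨a, ha, k'', hk'', e'⟩ := h.swap_mul hk' (A.inv_mem hy)
        refine ⟨w' * a, mul_mem hw' (Subgroup.mem_sup_left ha), k'', hk'', ?_⟩
        rw [← mul_assoc, e, mul_assoc, e', mul_assoc]
      · obtain ⟨a, ha, k'', hk'', e'⟩ := h'.swap_mul hk' (A'.inv_mem hy)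
        refine ⟨w' * a, mul_mem hw' (Subgroup.mem_sup_right ha), k'', hk'', ?_⟩
        rw [← mul_assoc, e, mul_assoc, e', mul_assoc]
  intro z hz
  have hz' : z ∈ Subgroup.closure (((A ⊔ A' : Subgroup G) : Set G) ∪ (K : Set G)) := by
    rw [Subgroup.closure_union, Subgroup.closure_eq, Subgroup.closure_eq]; exact hz
  induction hz' using Subgroup.closure_induction_left with
  | one => exact ⟨1, one_mem _, 1, one_mem _, by group⟩
  | mul_left x hx y hy ih =>
    obtain ⟨w, hw, k, hk, rfl⟩ := ih (by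
      rw [← Subgroup.closure_eq (A ⊔ A'), ← Subgroup.closure_eq K, ← Subgroup.closure_union]
      simpa using hy)
    rcases hx with hx | hx
    · exact ⟨x * w, mul_mem hx hw, k, hk, by group⟩
    · obtain ⟨w', hw', k', hk', e⟩ := sub w hw x hx
      exact ⟨w', hw', k' * k, mul_mem hk' hk, by rw [← mul_assoc, e, mul_assoc]⟩
  | inv_mul_cancel x hx y hy ih =>
    obtain ⟨w, hw, k, hk, rfl⟩ := ih (by
      rw [← Subgroup.closure_eq (A ⊔ A'), ← Subgroup.closure_eq K, ← Subgroup.closure_union]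
      simpa using hy)
    rcases hx with hx | hx
    · exact ⟨x⁻¹ * w, mul_mem (inv_mem hx) hw, k, hk, by group⟩
    · obtain ⟨w', hw', k', hk', e⟩ := sub w hw x⁻¹ (K.inv_mem hx)
      exact ⟨w', hw', k' * k, mul_mem hk' hk, by rw [← mul_assoc, e, mul_assoc]⟩

theorem Permutes.conj_smul {A K : Subgroup G} (h : Permutes A K) (g : G) :
    Permutes (MulAut.conj g • A) (MulAut.conj g • K) := by
  intro z hz
  rw [← Subgroup.smul_sup, mem_conj_smul_iff] at hz
  obtain ⟨a, ha, k, hk, e⟩ := h _ hz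
  refine ⟨g * a * g⁻¹, conj_mem_conj_smul ha, g * k * g⁻¹, conj_mem_conj_smul hk, ?_⟩
  calc z = g * (g⁻¹ * z * g) * g⁻¹ := by group
    _ = g * a * g⁻¹ * (g * k * g⁻¹) := by rw [e]; group

theorem card_conj_smul' (g : G) (A : Subgroup G) :
    Nat.card ↥(MulAut.conj g • A) = Nat.card A :=
  (Nat.card_congr (Subgroup.equivSMul (MulAut.conj g) A).toEquiv).symm

/-- **Kegel's lemma**: if `A B^x` is a proper subgroup for every `x`, then the normal closure of
`A` or of `B` is proper. -/
theorem kegel_aux [Finite G] (B : Subgroup G) (n : ℕ) : ∀ A : Subgroup G, A.index = n →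
    (∀ x : G, Permutes A (MulAut.conj x • B) ∧ A ⊔ MulAut.conj x • B ≠ ⊤) →
    Subgroup.normalClosure (A : Set G) ≠ ⊤ ∨ Subgroup.normalClosure (B : Set G) ≠ ⊤ := by
  induction n using Nat.strong_induction_on with
  | _ n ih =>
  intro A hAn h
  by_contra hcon
  push Not at hcon
  obtain ⟨hAG, hBG⟩ := hcon
  have hAnn : ¬ A.Normal := by
    intro hn
    have hA : A = ⊤ := by rw [← hAG]; exact (Subgroup.normalClosure_eq_self A).symm
    apply (h 1).2
    rw [hA, top_sup_eq]
  have hex : ∃ g : G, ∃ b ∈ MulAut.conj g • B, b ∉ Subgroup.normalizer (A : Set G) := by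
    by_contra hall
    push Not at hall
    apply hAnn
    have hle : Subgroup.normalClosure (B : Set G) ≤ Subgroup.normalizer (A : Set G) := by
      apply (Subgroup.closure_le _).mpr
      intro z hz
      obtain ⟨b, hb, hconj⟩ := Group.mem_conjugatesOfSet_iff.mp hz
      obtain ⟨c, rfl⟩ := isConj_iff.mp hconj
      exact hall c _ (conj_mem_conj_smul hb)
    rw [hBG, top_le_iff] at hle
    exact Subgroup.normalizer_eq_top_iff.mp hle
  obtain ⟨g, b, hb, hbN⟩ := hex
  set A₁ := A ⊔ MulAut.conj b • A with hA₁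
  have hlt : A < A₁ := by
    refine lt_of_le_of_ne le_sup_left ?_
    intro heq
    apply hbN
    have hle : MulAut.conj b • A ≤ A :=
      (le_sup_right : MulAut.conj b • A ≤ A₁).trans heq.symm.le
    have : MulAut.conj b • A = A :=
      Subgroup.eq_of_le_of_card_ge hle (by rw [card_conj_smul'])
    exact mem_normalizer_of_conj_smul_eq this
  have hidx : A₁.index < n := by
    rw [← hAn]; exact Subgroup.index_strictAnti hlt
  have hperm : ∀ x : G, Permutes A₁ (MulAut.conj x • B) := by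
    intro x
    apply (h x).1.sup_left
    have h1 := (h (b⁻¹ * x)).1.conj_smul b
    rwa [smul_smul, ← map_mul, mul_inv_cancel_left] at h1
  by_cases hall : ∀ y : G, A₁ ⊔ MulAut.conj y • B ≠ ⊤
  · rcases ih _ hidx A₁ rfl (fun x => ⟨hperm x, hall x⟩) with h1 | h1
    · apply h1
      rw [eq_top_iff, ← hAG]
      exact Subgroup.normalClosure_mono (SetLike.coe_subset_coe.mpr hlt.le)
    · exact h1 hBG
  · push Not at hall
    obtain ⟨y, hy⟩ := hall
    set H := A ⊔ MulAut.conj g • B with hH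
    have hHtop : H ≠ ⊤ := (h g).2
    have hA₁H : A₁ ≤ H := by
      apply sup_le le_sup_left
      intro z hz
      rw [mem_conj_smul_iff] at hz
      have hbH : b ∈ H := (le_sup_right : MulAut.conj g • B ≤ H) hb
      have : z = b * (b⁻¹ * z * b) * b⁻¹ := by group
      rw [this]
      exact H.mul_mem (H.mul_mem hbH ((le_sup_left : A ≤ H) hz)) (H.inv_mem hbH)
    have ht : g * y⁻¹ ∈ A₁ ⊔ MulAut.conj y • B := by rw [hy]; exact Subgroup.mem_top _
    obtain ⟨α, hα, β, hβ, e⟩ := hperm y _ ht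
    have hgB : MulAut.conj g • B = MulAut.conj α • MulAut.conj y • B := by
      have hg : g = α * β * y := by rw [← e]; group
      rw [hg, map_mul, map_mul, mul_smul, mul_smul,
        conj_smul_eq_of_mem_normalizer (X := MulAut.conj y • B) (Subgroup.le_normalizer hβ)]
    apply hHtop
    rw [eq_top_iff]
    calc (⊤ : Subgroup G) = MulAut.conj α • (⊤ : Subgroup G) := by
          ext z; simp
      _ = MulAut.conj α • (A₁ ⊔ MulAut.conj y • B) := by rw [hy]
      _ = MulAut.conj α • A₁ ⊔ MulAut.conj α • MulAut.conj y • B := Subgroup.smul_sup _ _ _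
      _ = A₁ ⊔ MulAut.conj g • B := by
          rw [conj_smul_eq_of_mem_normalizer (X := A₁) (Subgroup.le_normalizer hα), hgB]
      _ ≤ H := sup_le hA₁H le_sup_right

theorem kegel [Finite G] (A B : Subgroup G)
    (h : ∀ x : G, Permutes A (MulAut.conj x • B) ∧ A ⊔ MulAut.conj x • B ≠ ⊤) :
    Subgroup.normalClosure (A : Set G) ≠ ⊤ ∨ Subgroup.normalClosure (B : Set G) ≠ ⊤ :=
  kegel_aux B _ A rfl h

end Cfsg.Agent.Helper3
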