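import Mathlib
import Cfsg.Agent.Lib.Helper21.N9KDefs

/-!
# S3702 GROUP pieces OUT + NCONJ (helper3): core versions, with the statements of the pieces
they depend on (KOUT, KINA, KNCONJ, TRA, TI) as hypotheses.
-/

set_option autoImplicit false
set_option linter.unusedSectionVars false
set_option linter.unusedVariables false

namespace Cfsg.Agent.Helper21.N9

open Cfsg Cfsg.Agent.Helper16

universe u

variable {G : Type u} [Group G] [Finite G] {H J : Subgroup G}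

/-- core of PIECE S3702-GR-OUT -/
theorem cent_outside_core (c : Cfg H J)
    (hK : ∀ h : ↥K0, h ∉ J0 → h ^ 3 = 1 → ∀ x ∈ J0, x ≠ 1 → h * x = x * h → IsConj x (CK.z 2))
    (hinj : Function.Injective c.ι)
    (hex : ∀ {g : G}, g ∈ H → ∃ x : ↥K0, c.ι x = g)
    (hmemJ : ∀ x : ↥K0, c.ι x ∈ J ↔ x ∈ J0) :
    ∀ h ∈ H, h ∉ J → h ^ 3 = 1 → ∀ x ∈ J, x ≠ 1 → h * x = x * h →
      IsConj x (c.ι (CK.z 2)) := by
  intro h hH hJ h3 x hxJ hx1 hcomm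
  obtain ⟨h0, rfl⟩ := hex hH
  obtain ⟨x0, rfl⟩ := hex (c.hJH hxJ)
  have h0J : h0 ∉ J0 := fun hh => hJ ((hmemJ h0).mpr hh)
  have h03 : h0 ^ 3 = 1 := by
    apply hinj
    rw [map_pow, map_one]; exact h3
  have hx0J : x0 ∈ J0 := (hmemJ x0).mp hxJ
  have hx01 : x0 ≠ 1 := by
    intro hh
    apply hx1
    rw [hh, map_one]
  have hc0 : h0 * x0 = x0 * h0 := by
    apply hinj
    rw [map_mul, map_mul]; exact hcomm
  exact c.ι.map_isConj (hK h0 h0J h03 x0 hx0J hx01 hc0)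

/-- core of PIECE S3702-GR-NCONJ -/
theorem nconj_G_core (c : Cfg H J)
    (hinA : ∀ a : Fin 9, ∃ k : ℕ, CK.z a ^ k ∈ J0 ∧ CK.z a ^ k ≠ 1)
    (hnc : ∀ a b : Fin 9, IsConj (CK.z a) (CK.z b) → a = b)
    (hinj : Function.Injective c.ι)
    (hmem : ∀ x : ↥K0, c.ι x ∈ H)
    (hex : ∀ {g : G}, g ∈ H → ∃ x : ↥K0, c.ι x = g)
    (hmemJ : ∀ x : ↥K0, c.ι x ∈ J ↔ x ∈ J0)
    (hti : ∀ {x : G}, x ∈ H → ∀ k : ℕ, x ^ k ∈ J → x ^ k ≠ 1 → ∀ {g : G}, g * x * g⁻¹ ∈ H → g ∈ H) :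
    ∀ a b : Fin 9, IsConj (c.ι (CK.z a)) (c.ι (CK.z b)) → a = b := by
  intro a b hab
  obtain ⟨g, hg⟩ := isConj_iff.mp hab
  obtain ⟨k, hk, hk1⟩ := hinA a
  have h1 : (c.ι (CK.z a)) ^ k ∈ J := by
    rw [← map_pow]; exact (hmemJ _).mpr hk
  have h2 : (c.ι (CK.z a)) ^ k ≠ 1 := by
    rw [← map_pow]
    intro hh
    apply hk1
    apply hinj
    rw [hh, map_one]
  have hgH : g ∈ H := by
    apply hti (hmem (CK.z a)) k h1 h2
    rw [hg]; exact hmem _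
  obtain ⟨g0, rfl⟩ := hex hgH
  apply hnc
  rw [isConj_iff]
  refine ⟨g0, ?_⟩
  apply hinj
  rw [map_mul, map_mul, map_inv]
  exact hg

end Cfsg.Agent.Helper21.N9
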