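import Mathlib
import Cfsg.Agent.Lib.Helper21.N9KDefs
import Cfsg.Agent.Lib.Helper3.N9OUTCore
import Cfsg.Agent.Lib.Helper19.N9KOUT
import Cfsg.Agent.Lib.Helper22.N9TRA

/-!
# S3702 GROUP piece OUT (helper3): `cent_outside`.
-/

set_option autoImplicit false
set_option linter.unusedSectionVars false
set_option linter.unusedVariables false

namespace Cfsg.Agent.Helper21.N9

open Cfsg Cfsg.Agent.Helper16

universe u

variable {G : Type u} [Group G] [Finite G] {H J : Subgroup G}

/-- PIECE S3702-GR-OUT: transport of `cent_outside_K0` -/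
theorem cent_outside (c : Cfg H J) : ∀ h ∈ H, h ∉ J → h ^ 3 = 1 → ∀ x ∈ J, x ≠ 1 → h * x = x * h →
    IsConj x (c.ι (CK.z 2)) :=
  cent_outside_core c cent_outside_K0 (ι_injective c) (fun hg => exists_ι c hg) (ι_mem_J c)

end Cfsg.Agent.Helper21.N9
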