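import Mathlib

set_option autoImplicit false

/-!
# Doubly transitive groups of degree `p² + 1` (definitions for S2205)

`G` acts faithfully and 2-transitively on `Ω`, `|Ω| = p² + 1`, `a : Ω`, `H = G_a`.

* `IsBlk G p a B`: `B ⊆ Ω ∖ {a}` is a block of size `p` for `H`.
* `kern G a B`: the kernel of `H` on the block system `{h • B : h ∈ H}`.
* `Setup G Ω p`: the standing data (point `a`, a subgroup `P ≤ H` of order `p²` regular on
  `Ω ∖ {a}`, uniqueness of centres of lines).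
* `KData S B`: the basic facts about `kern G S.a B`.
-/

open scoped Pointwise

namespace Cfsg.Agent.Helper3.DP

variable (G : Type*) {Ω : Type*} [Group G] [MulAction G Ω]

/-- `B` is a block of size `p` for the stabilizer of `a` (acting on the points other than `a`). -/
def IsBlk (p : ℕ) (a : Ω) (B : Set Ω) : Prop :=
  a ∉ B ∧ B.ncard = p ∧ ∀ h ∈ MulAction.stabilizer G a, h • B = B ∨ Disjoint (h • B) B

/-- The kernel of `G_a` acting on the set of translates `h • B`, `h ∈ G_a`. -/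
def kern (a : Ω) (B : Set Ω) : Subgroup G where
  carrier := {k | k • a = a ∧ ∀ h ∈ MulAction.stabilizer G a, k • (h • B) = h • B}
  one_mem' := ⟨one_smul _ _, fun _ _ => one_smul _ _⟩
  mul_mem' := by
    rintro k k' ⟨hk, hkB⟩ ⟨hk', hkB'⟩
    refine ⟨by rw [mul_smul, hk', hk], fun h hh => ?_⟩
    rw [mul_smul, hkB' h hh, hkB h hh]
  inv_mem' := by
    rintro k ⟨hk, hkB⟩
    refine ⟨by rw [inv_smul_eq_iff, hk], fun h hh => ?_⟩
    rw [inv_smul_eq_iff, hkB h hh]

variable {G}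

theorem mem_kern {a : Ω} {B : Set Ω} {k : G} :
    k ∈ kern G a B ↔ k • a = a ∧ ∀ h ∈ MulAction.stabilizer G a, k • (h • B) = h • B := Iff.rfl

theorem kern_le_stabilizer (a : Ω) (B : Set Ω) : kern G a B ≤ MulAction.stabilizer G a :=
  fun _ hk => hk.1

variable (G Ω)

/-- The standing data. -/
structure Setup [Fintype Ω] (p : ℕ) where
  /-- the base point -/
  a : Ω
  /-- a Sylow `p`-subgroup of `G_a` -/
  P : Subgroup G
  prime : p.Prime
  card : Fintype.card Ω = p ^ 2 + 1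
  two : ∀ a x b y : Ω, a ≠ x → b ≠ y → ∃ g : G, g • a = b ∧ g • x = y
  P_le : P ≤ MulAction.stabilizer G a
  P_card : Nat.card P = p ^ 2
  P_reg : ∀ y : Ω, y ≠ a → ∀ g ∈ P, g • y = y → g = 1
  not_dvd : ∀ x : Ω, x ≠ a →
    ¬ p ∣ Nat.card ↥(MulAction.stabilizer G a ⊓ MulAction.stabilizer G x)
  centre : ∀ B : Set Ω, IsBlk G p a B → ∀ g : G, g • insert a B = insert a B → g • a = a

variable {G Ω}

/-- The basic facts about the kernel `kern G S.a B` of a block system. -/
structure KData [Fintype Ω] {p : ℕ} (S : Setup G Ω p) (B : Set Ω) : Prop where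
  blk : IsBlk G p S.a B
  normal : ∀ h ∈ MulAction.stabilizer G S.a, ∀ k ∈ kern G S.a B, h * k * h⁻¹ ∈ kern G S.a B
  faithful : ∀ k ∈ kern G S.a B, ∀ h ∈ MulAction.stabilizer G S.a,
    (∀ y ∈ h • B, k • y = y) → k = 1
  trans : ∀ h ∈ MulAction.stabilizer G S.a, ∀ y ∈ h • B, ∀ y' ∈ h • B,
    ∃ k ∈ S.P ⊓ kern G S.a B, k • y = y'
  card_P0 : Nat.card ↥(S.P ⊓ kern G S.a B) = p

/-- `K_x` fixes exactly one point on every block. -/
def FixOne [Fintype Ω] {p : ℕ} (S : Setup G Ω p) (B : Set Ω) (x : Ω) : Prop :=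
  ∀ h ∈ MulAction.stabilizer G S.a,
    ∃! y, y ∈ h • B ∧ ∀ k ∈ kern G S.a B, k • x = x → k • y = y

end Cfsg.Agent.Helper3.DP
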