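import Mathlib
import Cfsg.Agent.Lib.Helper3.DPDefs

set_option autoImplicit false
set_option linter.unusedSectionVars false
open scoped Pointwise
open MulAction

/-!
# S2205, Layer 0, part A: the basic toolkit for `Setup`.
-/

namespace Cfsg.Agent.Helper3.DP

variable {G Ω : Type*} [Group G] [Finite G] [Fintype Ω] [MulAction G Ω] [FaithfulSMul G Ω] {p : ℕ}

namespace Setup

theorem two_le (S : Setup G Ω p) : 2 ≤ p := S.prime.two_le

theorem P_comm (S : Setup G Ω p) : ∀ v ∈ S.P, ∀ w ∈ S.P, v * w = w * v := by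
  haveI : Fact p.Prime := ⟨S.prime⟩
  intro v hv w hw
  have h := (IsPGroup.isMulCommutative_of_card_eq_prime_sq (p := p) (G := ↥S.P) S.P_card).is_comm.comm
    ⟨v, hv⟩ ⟨w, hw⟩
  exact congrArg Subtype.val h

theorem P_smul_inj (S : Setup G Ω p) {x : Ω} (hx : x ≠ S.a) {v w : G} (hv : v ∈ S.P) (hw : w ∈ S.P)
    (h : v • x = w • x) : v = w := by
  have h1 : (w⁻¹ * v) • x = x := by rw [mul_smul, h, inv_smul_smul]
  have h2 := S.P_reg x hx (w⁻¹ * v) (S.P.mul_mem (S.P.inv_mem hw) hv) h1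
  exact (inv_mul_eq_one.mp h2).symm

theorem P_smul_ne (S : Setup G Ω p) {x : Ω} (hx : x ≠ S.a) {v : G} (hv : v ∈ S.P) : v • x ≠ S.a := by
  intro h
  have hva : v • S.a = S.a := S.P_le hv
  apply hx
  have : v • x = v • S.a := by rw [h, hva]
  exact smul_left_cancel v this

theorem card_ne (S : Setup G Ω p) : Nat.card {y : Ω // y ≠ S.a} = p ^ 2 := by
  classical
  rw [Nat.card_eq_fintype_card, Fintype.card_subtype_compl, Fintype.card_subtype_eq, S.card]
  simp

theorem exists_P_smul (S : Setup G Ω p) {x y : Ω} (hx : x ≠ S.a) (hy : y ≠ S.a) : ∃ v ∈ S.P, v • x = y := by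
  classical
  let f : ↥S.P → {y : Ω // y ≠ S.a} := fun v => ⟨(v : G) • x, S.P_smul_ne hx v.2⟩
  have hinj : Function.Injective f := by
    intro v w h
    have h' : (v : G) • x = (w : G) • x := congrArg Subtype.val h
    exact Subtype.ext (S.P_smul_inj hx v.2 w.2 h')
  have hcard : Nat.card ↥S.P = Nat.card {y : Ω // y ≠ S.a} := by rw [S.P_card, S.card_ne]
  have hbij : Function.Bijective f := (Nat.bijective_iff_injective_and_card f).mpr ⟨hinj, hcard⟩
  obtain ⟨v, hv⟩ := hbij.2 ⟨y, hy⟩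
  exact ⟨v, v.2, congrArg Subtype.val hv⟩

theorem exists_stab_smul (S : Setup G Ω p) {x y : Ω} (hx : x ≠ S.a) (hy : y ≠ S.a) :
    ∃ h ∈ stabilizer G S.a, h • x = y := by
  obtain ⟨v, hv, h⟩ := S.exists_P_smul hx hy
  exact ⟨v, S.P_le hv, h⟩

theorem stab_smul_ne (S : Setup G Ω p) {x : Ω} (hx : x ≠ S.a) {h : G} (hh : h ∈ stabilizer G S.a) :
    h • x ≠ S.a := by
  intro h1
  have hva : h • S.a = S.a := hh
  apply hx
  have : h • x = h • S.a := by rw [h1, hva]
  exact smul_left_cancel h this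

theorem stab_eq_mul (S : Setup G Ω p) {x : Ω} (hx : x ≠ S.a) {h : G} (hh : h ∈ stabilizer G S.a) :
    ∃ v ∈ S.P, ∃ δ ∈ stabilizer G S.a ⊓ stabilizer G x, h = v * δ := by
  obtain ⟨v, hv, hvx⟩ := S.exists_P_smul hx (S.stab_smul_ne hx hh)
  refine ⟨v, hv, v⁻¹ * h, ?_, by group⟩
  refine Subgroup.mem_inf.mpr ⟨(stabilizer G S.a).mul_mem ((stabilizer G S.a).inv_mem (S.P_le hv)) hh, ?_⟩
  rw [mem_stabilizer_iff, mul_smul, ← hvx, inv_smul_smul]

theorem card_stab (S : Setup G Ω p) {x : Ω} (hx : x ≠ S.a) :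
    Nat.card ↥(stabilizer G S.a) = p ^ 2 * Nat.card ↥(stabilizer G S.a ⊓ stabilizer G x) := by
  let f : ↥S.P × ↥(stabilizer G S.a ⊓ stabilizer G x) → ↥(stabilizer G S.a) := fun vd =>
    ⟨(vd.1 : G) * (vd.2 : G), (stabilizer G S.a).mul_mem (S.P_le vd.1.2) (Subgroup.mem_inf.mp vd.2.2).1⟩
  have hbij : Function.Bijective f := by
    constructor
    · rintro ⟨v, δ⟩ ⟨v', δ'⟩ h
      have h' : (v : G) * (δ : G) = (v' : G) * (δ' : G) := congrArg Subtype.val h
      have hδx : (δ : G) • x = x := (Subgroup.mem_inf.mp δ.2).2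
      have hδx' : (δ' : G) • x = x := (Subgroup.mem_inf.mp δ'.2).2
      have h1 : (v : G) • x = (v' : G) • x := by
        have := congrArg (fun g : G => g • x) h'
        simpa [mul_smul, hδx, hδx'] using this
      have hv : (v : G) = v' := S.P_smul_inj hx v.2 v'.2 h1
      have hδ : (δ : G) = δ' := by
        rw [hv] at h'
        exact mul_left_cancel h'
      exact Prod.ext (Subtype.ext hv) (Subtype.ext hδ)
    · rintro ⟨h, hh⟩
      obtain ⟨v, hv, δ, hδ, rfl⟩ := S.stab_eq_mul hx hh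
      exact ⟨(⟨v, hv⟩, ⟨δ, hδ⟩), rfl⟩
  rw [← Nat.card_congr (Equiv.ofBijective f hbij), Nat.card_prod, S.P_card]

theorem isPretransitive (S : Setup G Ω p) : IsPretransitive G Ω := by
  refine ⟨fun y z => ?_⟩
  by_cases h : y = z
  · exact ⟨1, by rw [one_smul, h]⟩
  · obtain ⟨g, hg, _⟩ := S.two y z z y h (Ne.symm h)
    exact ⟨g, hg⟩

theorem card_G (S : Setup G Ω p) : Nat.card G = (p ^ 2 + 1) * Nat.card ↥(stabilizer G S.a) := by
  haveI := S.isPretransitive
  have h1 := MulAction.index_stabilizer_of_transitive G S.a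
  have h2 := (stabilizer G S.a).card_mul_index
  rw [h1, Nat.card_eq_fintype_card (α := Ω), S.card] at h2
  rw [← h2, mul_comm]

theorem exists_swap (S : Setup G Ω p) {x : Ω} (hx : x ≠ S.a) : ∃ t : G, t • S.a = x ∧ t • x = S.a :=
  S.two S.a x x S.a (Ne.symm hx) hx

/-- the Sylow property of `P` inside `G_a`: every `p`-element of `G_a` is conjugate into `P` -/
theorem exists_conj_mem_P (S : Setup G Ω p) {g : G} (hg : g ∈ stabilizer G S.a) {n : ℕ} (hgn : g ^ p ^ n = 1) :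
    ∃ h ∈ stabilizer G S.a, h * g * h⁻¹ ∈ S.P := by
  haveI : Fact p.Prime := ⟨S.prime⟩
  obtain ⟨x, hx⟩ : ∃ x : Ω, x ≠ S.a := by
    by_contra hcon
    have hall : ∀ x : Ω, x = S.a := fun x => by
      by_contra hx
      exact hcon ⟨x, hx⟩
    have : Fintype.card Ω ≤ 1 := Fintype.card_le_one_iff.mpr (fun x y => by rw [hall x, hall y])
    rw [S.card] at this
    have := S.prime.pos
    nlinarith
  have hcardH := S.card_stab hx
  have hnd := S.not_dvd x hx
  have hd0 : Nat.card ↥(stabilizer G S.a ⊓ stabilizer G x) ≠ 0 := Nat.card_pos.ne'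
  have hcardP' : Nat.card ↥(S.P.subgroupOf (stabilizer G S.a)) =
      p ^ (Nat.card ↥(stabilizer G S.a)).factorization p := by
    rw [Nat.card_congr (Subgroup.subgroupOfEquivOfLe S.P_le).toEquiv, S.P_card, hcardH,
      Nat.factorization_mul (pow_ne_zero 2 S.prime.ne_zero) hd0, Finsupp.add_apply,
      Nat.Prime.factorization_pow S.prime, Nat.factorization_eq_zero_of_not_dvd hnd]
    simp
  let P' : Sylow p ↥(stabilizer G S.a) := Sylow.ofCard (S.P.subgroupOf (stabilizer G S.a)) hcardP'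
  have hZ : IsPGroup p ↥(Subgroup.zpowers (⟨g, hg⟩ : ↥(stabilizer G S.a))) := by
    rintro ⟨z, hz⟩
    obtain ⟨m, rfl⟩ := Subgroup.mem_zpowers_iff.mp hz
    refine ⟨n, Subtype.ext ?_⟩
    have h1 : ((⟨g, hg⟩ : ↥(stabilizer G S.a)) ^ m) ^ p ^ n = 1 := by
      rw [← zpow_natCast, ← zpow_mul, mul_comm, zpow_mul, zpow_natCast]
      have : (⟨g, hg⟩ : ↥(stabilizer G S.a)) ^ p ^ n = 1 := Subtype.ext (by simpa using hgn)
      rw [this, one_zpow]
    simpa using h1
  obtain ⟨Q, hQ⟩ := hZ.exists_le_sylow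
  obtain ⟨h, hh⟩ := MulAction.exists_smul_eq ↥(stabilizer G S.a) Q P'
  have hgQ : (⟨g, hg⟩ : ↥(stabilizer G S.a)) ∈ Q := hQ (Subgroup.mem_zpowers _)
  have h2 : h * ⟨g, hg⟩ * h⁻¹ ∈ (h • Q : Sylow p ↥(stabilizer G S.a)) := by
    have : h * ⟨g, hg⟩ * h⁻¹ ∈ (MulAut.conj h • (Q : Set ↥(stabilizer G S.a))) :=
      ⟨⟨g, hg⟩, hgQ, rfl⟩
    rw [← Sylow.coe_smul] at this
    exact this
  rw [hh] at h2
  refine ⟨h, h.2, ?_⟩
  have h3 : h * ⟨g, hg⟩ * h⁻¹ ∈ S.P.subgroupOf (stabilizer G S.a) := h2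
  rw [Subgroup.mem_subgroupOf] at h3
  simpa using h3

end Setup

end Cfsg.Agent.Helper3.DP
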