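import Mathlib
import Cfsg.Agent.Lib.Helper3.DPDefs
import Cfsg.Agent.Lib.Helper3.DPBasA

set_option autoImplicit false
set_option linter.unusedSectionVars false
open scoped Pointwise
open MulAction

/-!
# S2205, Layer 0, part B: blocks and the kernel.
-/

namespace Cfsg.Agent.Helper3.DP

variable {G Ω : Type*} [Group G] [Finite G] [Fintype Ω] [MulAction G Ω] [FaithfulSMul G Ω] {p : ℕ}

namespace Setup

theorem blk_nonempty (S : Setup G Ω p) {B : Set Ω} (hB : IsBlk G p S.a B) : B.Nonempty := by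
  rw [← Set.ncard_pos (Set.toFinite B), hB.2.1]; exact S.prime.pos

theorem blk_ne (S : Setup G Ω p) {B : Set Ω} (hB : IsBlk G p S.a B) {x : Ω} (hx : x ∈ B) : x ≠ S.a :=
  fun h => hB.1 (h ▸ hx)

theorem blk_smul (S : Setup G Ω p) {B : Set Ω} (hB : IsBlk G p S.a B) {h : G} (hh : h ∈ stabilizer G S.a) :
    IsBlk G p S.a (h • B) := by
  refine ⟨?_, ?_, ?_⟩
  · rintro ⟨y, hy, hya⟩
    have hya' : h • y = S.a := hya
    have hha : h • S.a = S.a := hh
    have : y = S.a := smul_left_cancel h (by rw [hya', hha])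
    exact hB.1 (this ▸ hy)
  · have : h • B = (fun y => h • y) '' B := rfl
    rw [this, Set.ncard_image_of_injective _ (MulAction.injective h), hB.2.1]
  · intro h' hh'
    have hm : h⁻¹ * h' * h ∈ stabilizer G S.a :=
      (stabilizer G S.a).mul_mem ((stabilizer G S.a).mul_mem ((stabilizer G S.a).inv_mem hh) hh') hh
    have e : h' • (h • B) = h • ((h⁻¹ * h' * h) • B) := by
      rw [smul_smul, smul_smul]; congr 1; group
    rcases hB.2.2 _ hm with h1 | h1
    · left; rw [e, h1]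
    · right; rw [e]; exact (Set.disjoint_smul_set).mpr h1

theorem blk_cover (S : Setup G Ω p) {B : Set Ω} (hB : IsBlk G p S.a B) {y : Ω} (hy : y ≠ S.a) :
    ∃ h ∈ stabilizer G S.a, y ∈ h • B := by
  obtain ⟨x, hx⟩ := S.blk_nonempty hB
  obtain ⟨h, hh, hxy⟩ := S.exists_stab_smul (S.blk_ne hB hx) hy
  exact ⟨h, hh, ⟨x, hx, hxy⟩⟩

theorem blk_eq_of_mem (S : Setup G Ω p) {B : Set Ω} (hB : IsBlk G p S.a B) {h h' : G}
    (hh : h ∈ stabilizer G S.a) (hh' : h' ∈ stabilizer G S.a) {y : Ω} (hy : y ∈ h • B)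
    (hy' : y ∈ h' • B) : h • B = h' • B := by
  have hm : h⁻¹ * h' ∈ stabilizer G S.a :=
    (stabilizer G S.a).mul_mem ((stabilizer G S.a).inv_mem hh) hh'
  rcases hB.2.2 _ hm with h1 | h1
  · have : h • B = h • ((h⁻¹ * h') • B) := by rw [h1]
    rw [this, smul_smul, mul_inv_cancel_left]
  · exfalso
    have h2 : h⁻¹ • y ∈ B := Set.mem_smul_set_iff_inv_smul_mem.mp hy
    have h3 : h⁻¹ • y ∈ (h⁻¹ * h') • B := by
      rw [Set.mem_smul_set_iff_inv_smul_mem, smul_smul]
      have : (h⁻¹ * h')⁻¹ * h⁻¹ = h'⁻¹ := by group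
      rw [this]
      exact Set.mem_smul_set_iff_inv_smul_mem.mp hy'
    exact (Set.disjoint_left.mp h1 h3 h2)

theorem blk_exists_P (S : Setup G Ω p) {B : Set Ω} (hB : IsBlk G p S.a B) {h : G} (hh : h ∈ stabilizer G S.a) :
    ∃ v ∈ S.P, h • B = v • B := by
  obtain ⟨x, hx⟩ := S.blk_nonempty hB
  have hxa := S.blk_ne hB hx
  obtain ⟨v, hv, hvx⟩ := S.exists_P_smul hxa (S.stab_smul_ne hxa hh)
  refine ⟨v, hv, S.blk_eq_of_mem hB hh (S.P_le hv) ⟨x, hx, rfl⟩ ⟨x, hx, hvx⟩⟩

theorem blk_ncard_translates (S : Setup G Ω p) {B : Set Ω} (hB : IsBlk G p S.a B) :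
    {B' : Set Ω | ∃ h ∈ stabilizer G S.a, B' = h • B}.ncard = p := by
  classical
  set 𝒯 : Set (Set Ω) := {B' : Set Ω | ∃ h ∈ stabilizer G S.a, B' = h • B} with h𝒯
  have hfin : 𝒯.Finite := Set.toFinite 𝒯
  let T : Finset (Set Ω) := hfin.toFinset
  have hT : ∀ B', B' ∈ T ↔ ∃ h ∈ stabilizer G S.a, B' = h • B := fun B' => by
    simp [T, 𝒯]
  have hdisj : (T : Set (Set Ω)).PairwiseDisjoint (fun B' : Set Ω => B'.toFinset) := by
    intro B₁ h1 B₂ h2 hne
    obtain ⟨h₁, hh₁, rfl⟩ := (hT B₁).mp (Finset.mem_coe.mp h1)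
    obtain ⟨h₂, hh₂, rfl⟩ := (hT B₂).mp (Finset.mem_coe.mp h2)
    change Disjoint (h₁ • B).toFinset (h₂ • B).toFinset
    rw [Set.disjoint_toFinset, Set.disjoint_left]
    intro y hy1 hy2
    exact hne (S.blk_eq_of_mem hB hh₁ hh₂ hy1 hy2)
  have hunion : T.biUnion (fun B' : Set Ω => B'.toFinset) = Finset.univ.erase S.a := by
    ext y
    simp only [Finset.mem_biUnion, Set.mem_toFinset, Finset.mem_erase, Finset.mem_univ, and_true]
    constructor
    · rintro ⟨B', hB', hy⟩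
      obtain ⟨h, hh, rfl⟩ := (hT B').mp hB'
      exact S.blk_ne (S.blk_smul hB hh) hy
    · intro hy
      obtain ⟨h, hh, hyh⟩ := S.blk_cover hB hy
      exact ⟨h • B, (hT _).mpr ⟨h, hh, rfl⟩, hyh⟩
  have hcard := Finset.card_biUnion hdisj
  rw [hunion, Finset.card_erase_of_mem (Finset.mem_univ _), Finset.card_univ, S.card] at hcard
  have hsz : ∀ B' ∈ T, (B'.toFinset).card = p := by
    intro B' hB'
    obtain ⟨h, hh, rfl⟩ := (hT B').mp hB'
    rw [← Set.ncard_eq_toFinset_card']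
    exact (S.blk_smul hB hh).2.1
  rw [Finset.sum_congr rfl hsz, Finset.sum_const, smul_eq_mul] at hcard
  have hp := S.prime.pos
  have h1 : T.card = p := by
    have : p * p = T.card * p := by
      have : p ^ 2 + 1 - 1 = p ^ 2 := by omega
      rw [← hcard, this]; ring
    exact (Nat.eq_of_mul_eq_mul_right hp this).symm
  rw [Set.ncard_eq_toFinset_card 𝒯 hfin]
  exact h1

theorem card_kern (S : Setup G Ω p) {B : Set Ω} (hK : KData S B) {y : Ω} (hy : y ≠ S.a) :
    Nat.card ↥(kern G S.a B) = p * Nat.card ↥(kern G S.a B ⊓ stabilizer G y) := by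
  obtain ⟨h, hh, hyh⟩ := S.blk_cover hK.blk hy
  let f : ↥(S.P ⊓ kern G S.a B) × ↥(kern G S.a B ⊓ stabilizer G y) → ↥(kern G S.a B) := fun zk =>
    ⟨(zk.1 : G) * (zk.2 : G), (kern G S.a B).mul_mem (Subgroup.mem_inf.mp zk.1.2).2
      (Subgroup.mem_inf.mp zk.2.2).1⟩
  have hbij : Function.Bijective f := by
    constructor
    · rintro ⟨z, k⟩ ⟨z', k'⟩ h1
      have h' : (z : G) * (k : G) = (z' : G) * (k' : G) := congrArg Subtype.val h1
      have hky : (k : G) • y = y := (Subgroup.mem_inf.mp k.2).2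
      have hky' : (k' : G) • y = y := (Subgroup.mem_inf.mp k'.2).2
      have h2 : (z : G) • y = (z' : G) • y := by
        have := congrArg (fun g : G => g • y) h'
        simpa [mul_smul, hky, hky'] using this
      have hz : (z : G) = z' :=
        S.P_smul_inj hy (Subgroup.mem_inf.mp z.2).1 (Subgroup.mem_inf.mp z'.2).1 h2
      have hk : (k : G) = k' := by
        rw [hz] at h'
        exact mul_left_cancel h'
      exact Prod.ext (Subtype.ext hz) (Subtype.ext hk)
    · rintro ⟨k, hk⟩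
      have hky : k • y ∈ h • B := by
        have := (mem_kern.mp hk).2 h hh
        rw [← this]
        exact Set.smul_mem_smul_set hyh
      obtain ⟨z, hz, hzy⟩ := hK.trans h hh y hyh (k • y) hky
      refine ⟨(⟨z, hz⟩, ⟨z⁻¹ * k, ?_⟩), ?_⟩
      · refine Subgroup.mem_inf.mpr ⟨(kern G S.a B).mul_mem
          ((kern G S.a B).inv_mem (Subgroup.mem_inf.mp hz).2) hk, ?_⟩
        rw [mem_stabilizer_iff, mul_smul, ← hzy, inv_smul_smul]
      · apply Subtype.ext
        change z * (z⁻¹ * k) = k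
        group
  rw [← Nat.card_congr (Equiv.ofBijective f hbij), Nat.card_prod, hK.card_P0]

theorem not_dvd_card_kern_inf (S : Setup G Ω p) {B : Set Ω} (hK : KData S B) {y : Ω} (hy : y ≠ S.a) :
    ¬ p ∣ Nat.card ↥(kern G S.a B ⊓ stabilizer G y) := by
  intro hdvd
  apply S.not_dvd y hy
  have hle : kern G S.a B ⊓ stabilizer G y ≤ stabilizer G S.a ⊓ stabilizer G y :=
    inf_le_inf_right _ (kern_le_stabilizer S.a B)
  exact dvd_trans hdvd (Subgroup.card_dvd_of_le hle)

end Setup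

/-- PIECE KLE. -/
theorem kern_le_P (S : Setup G Ω p) {B : Set Ω} (hK : KData S B) {x : Ω} (hx : x ∈ B)
    (hK1 : ∀ k ∈ kern G S.a B, k • x = x → k = 1) : kern G S.a B ≤ S.P := by
  have hxa := S.blk_ne hK.blk hx
  have h1 : kern G S.a B ⊓ stabilizer G x = ⊥ := by
    rw [eq_bot_iff]
    intro k hk
    exact Subgroup.mem_bot.mpr (hK1 k (Subgroup.mem_inf.mp hk).1 (Subgroup.mem_inf.mp hk).2)
  have hcard : Nat.card ↥(kern G S.a B) = p := by
    rw [S.card_kern hK hxa, h1, Subgroup.card_bot, mul_one]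
  have hle : S.P ⊓ kern G S.a B ≤ kern G S.a B := inf_le_right
  have heq : S.P ⊓ kern G S.a B = kern G S.a B :=
    Subgroup.eq_of_le_of_card_ge hle (by rw [hcard, hK.card_P0])
  rw [← heq]
  exact inf_le_left

end Cfsg.Agent.Helper3.DP
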