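import Mathlib
import Cfsg.Prelude.Def_LocalStructure

/-!
# S3875, piece NS2: in a minimal non-`p`-closed group `G = P N` with `N` a minimal normal `r`-subgroup, `r ≠ p`,
the Sylow `p`-subgroup `P` has order `p` and `|N| ≡ 1 (mod p)`.
-/

set_option autoImplicit false
set_option linter.style.haveILetI false
set_option linter.unusedVariables false
set_option linter.unusedSectionVars false
open Cfsg

namespace Cfsg.Agent.Helper15.NPC

namespace NS2

variable {G : Type*} [Group G] [Finite G] {p : ℕ} [Fact p.Prime]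

/-- a group with a normal Sylow `p`-subgroup is `p`-closed -/
theorem isPClosed_of_normal (P : Sylow p G) (h : (P : Subgroup G).Normal) : IsPClosed p G := by
  intro Q
  obtain ⟨g, rfl⟩ := MulAction.exists_smul_eq G P Q
  haveI := h
  rw [Sylow.smul_eq_of_normal]
  exact h

/-- the factorization `G = P N` -/
theorem exists_mul (P N : Subgroup G) [N.Normal] (h : P ⊔ N = ⊤) (g : G) :
    ∃ x ∈ P, ∃ y ∈ N, g = x * y := by
  have hg : g ∈ ((P ⊔ N : Subgroup G) : Set G) := by
    rw [h]
    exact Set.mem_univ g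
  rw [Subgroup.mul_normal] at hg
  obtain ⟨x, hx, y, hy, rfl⟩ := Set.mem_mul.1 hg
  exact ⟨x, hx, y, hy, rfl⟩

/-- `P` is normal in `G = P N` when `N` centralizes `P` -/
theorem normal_of_le_centralizer (P N : Subgroup G) [N.Normal] (h : P ⊔ N = ⊤)
    (hc : N ≤ Subgroup.centralizer (P : Set G)) : P.Normal := by
  constructor
  intro a ha g
  obtain ⟨x, hx, y, hy, rfl⟩ := exists_mul P N h g
  have h1 : y * a = a * y := ((Subgroup.mem_centralizer_iff.1 (hc hy)) a ha).symm
  have h2 : x * y * a * (x * y)⁻¹ = x * a * x⁻¹ := by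
    rw [mul_inv_rev, mul_assoc x y a, h1]
    group
  rw [h2]
  exact P.mul_mem (P.mul_mem hx ha) (P.inv_mem hx)

/-- a `p`-subgroup `Q` normalized by a normal `r`-subgroup `N`, `r ≠ p`, centralizes it -/
theorem commute_of_normalized {r : ℕ} [Fact r.Prime] (hrp : r ≠ p) (Q N : Subgroup G) [N.Normal]
    (hQ : IsPGroup p ↥Q) (hN : IsPGroup r ↥N) (hnorm : ∀ n ∈ N, ∀ q ∈ Q, n * q * n⁻¹ ∈ Q)
    (q : G) (hq : q ∈ Q) (n : G) (hn : n ∈ N) : q * n = n * q := by
  have hdisj : Disjoint Q N := IsPGroup.disjoint_of_ne p r (Ne.symm hrp) Q N hQ hN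
  have h1 : q * n * q⁻¹ * n⁻¹ ∈ N :=
    N.mul_mem (‹N.Normal›.conj_mem n hn q) (N.inv_mem hn)
  have h2 : q * n * q⁻¹ * n⁻¹ ∈ Q := by
    have : q * n * q⁻¹ * n⁻¹ = q * (n * q⁻¹ * n⁻¹) := by group
    rw [this]
    exact Q.mul_mem hq (hnorm n hn q⁻¹ (Q.inv_mem hq))
  have h3 : q * n * q⁻¹ * n⁻¹ = 1 := Subgroup.disjoint_def.1 hdisj h2 h1
  calc q * n = q * n * q⁻¹ * n⁻¹ * (n * q) := by group
    _ = n * q := by rw [h3, one_mul]

end NS2

theorem card_of_complement {G : Type*} [Group G] [Finite G] {p : ℕ} [Fact p.Prime]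
    (hnc : ¬ IsPClosed p G) (hsub : ∀ H : Subgroup G, H ≠ ⊤ → IsPClosed p ↥H)
    (hquo : ∀ (N : Subgroup G) [N.Normal], N ≠ ⊥ → IsPClosed p (G ⧸ N)) (P : Sylow p G)
    (N : Subgroup G) (r : ℕ) (hNn : N.Normal) (hr : r.Prime) (hrp : r ≠ p) (hN : IsPGroup r ↥N)
    (hN1 : N ≠ ⊥) (hPN : (P : Subgroup G) ⊔ N = ⊤)
    (hmin : ∀ K : Subgroup G, K.Normal → K ≤ N → K = ⊥ ∨ K = N) :
    Nat.card ↥(P : Subgroup G) = p ∧ Nat.card ↥N % p = 1 := by
  haveI := hNn
  haveI : Fact r.Prime := ⟨hr⟩
  have hp := (Fact.out : p.Prime)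
  -- `P` is not normal
  have hPnn : ¬ (P : Subgroup G).Normal := fun h => hnc (NS2.isPClosed_of_normal P h)
  have hfac := NS2.exists_mul (P : Subgroup G) N hPN
  -- `N` is abelian
  have hab : ∀ a ∈ N, ∀ b ∈ N, a * b = b * a := by
    haveI : Nontrivial ↥N := (Subgroup.nontrivial_iff_ne_bot N).2 hN1
    haveI hcn : Nontrivial ↥(Subgroup.center ↥N) := hN.center_nontrivial
    have hZn : ((Subgroup.center ↥N).map N.subtype).Normal := inferInstance
    have hZle : (Subgroup.center ↥N).map N.subtype ≤ N := Subgroup.map_subtype_le _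
    have hZ1 : (Subgroup.center ↥N).map N.subtype ≠ ⊥ := by
      intro h
      have h' : Subgroup.center ↥N = ⊥ :=
        (Subgroup.map_eq_bot_iff_of_injective _ N.subtype_injective).1 h
      exact (Subgroup.nontrivial_iff_ne_bot _).1 hcn h'
    rcases hmin _ hZn hZle with h | h
    · exact absurd h hZ1
    · intro a ha b hb
      have ha' : a ∈ (Subgroup.center ↥N).map N.subtype := by
        rw [h]
        exact ha
      obtain ⟨z, hz, rfl⟩ := ha'
      have h1 := Subgroup.mem_center_iff.1 hz ⟨b, hb⟩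
      have h2 := congrArg Subtype.val h1
      simpa using h2.symm
  -- `C_N(P) = 1`
  have hCn : (N ⊓ Subgroup.centralizer ((P : Subgroup G) : Set G)).Normal := by
    constructor
    intro n hn g
    obtain ⟨x, hx, y, hy, rfl⟩ := hfac g
    have h1 : y * n = n * y := hab y hy n (Subgroup.mem_inf.1 hn).1
    have h2 : x * n = n * x := (Subgroup.mem_centralizer_iff.1 (Subgroup.mem_inf.1 hn).2) x hx
    have h3 : x * y * n * (x * y)⁻¹ = n := by
      rw [mul_inv_rev, mul_assoc x y n, h1, ← mul_assoc x n y, h2]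
      group
    rw [h3]
    exact hn
  have hC : N ⊓ Subgroup.centralizer ((P : Subgroup G) : Set G) = ⊥ := by
    rcases hmin _ hCn inf_le_left with h | h
    · exact h
    · exfalso
      apply hPnn
      apply NS2.normal_of_le_centralizer _ N hPN
      intro y hy
      have : y ∈ N ⊓ Subgroup.centralizer ((P : Subgroup G) : Set G) := by
        rw [h]
        exact hy
      exact (Subgroup.mem_inf.1 this).2
  -- the count
  have hmod : Nat.card ↥N % p = 1 := by
    let φ : ↥(P : Subgroup G) →* MulAut ↥N :=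
      (MulAut.conjNormal (H := N)).comp (P : Subgroup G).subtype
    letI : MulAction ↥(P : Subgroup G) ↥N := MulAction.compHom ↥N φ
    have h1 := P.2.card_modEq_card_fixedPoints ↥N
    have hsm : ∀ (x : ↥(P : Subgroup G)) (n : ↥N), ((x • n : ↥N) : G) = (x : G) * n * (x : G)⁻¹ := by
      intro x n
      rfl
    have h2 : MulAction.fixedPoints ↥(P : Subgroup G) ↥N = {1} := by
      ext n
      simp only [MulAction.mem_fixedPoints, Set.mem_singleton_iff]
      constructor
      · intro h
        have hn : (n : G) ∈ N ⊓ Subgroup.centralizer ((P : Subgroup G) : Set G) := by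
          refine Subgroup.mem_inf.2 ⟨n.2, ?_⟩
          rw [Subgroup.mem_centralizer_iff]
          intro x hx
          have h3 : x * (n : G) * x⁻¹ = n := by
            have := congrArg Subtype.val (h ⟨x, hx⟩)
            rw [hsm] at this
            exact this
          calc x * (n : G) = x * n * x⁻¹ * x := by group
            _ = n * x := by rw [h3]
        rw [hC, Subgroup.mem_bot] at hn
        exact Subtype.ext hn
      · rintro rfl x
        apply Subtype.ext
        rw [hsm]
        simp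
    rw [h2] at h1
    have h3 : Nat.card ({1} : Set ↥N) = 1 := by simp
    rw [h3] at h1
    have h4 := h1
    unfold Nat.ModEq at h4
    rw [Nat.mod_eq_of_lt hp.one_lt] at h4
    exact h4
  refine ⟨?_, hmod⟩
  -- `D = P ∩ C_G(N)` is normal, hence trivial
  have hDn : ((P : Subgroup G) ⊓ Subgroup.centralizer (N : Set G)).Normal := by
    constructor
    intro d hd g
    obtain ⟨x, hx, y, hy, rfl⟩ := hfac g
    have h1 : y * d = d * y := Subgroup.mem_centralizer_iff.1 (Subgroup.mem_inf.1 hd).2 y hy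
    have h2 : x * y * d * (x * y)⁻¹ = x * d * x⁻¹ := by
      rw [mul_inv_rev, mul_assoc x y d, h1]
      group
    rw [h2]
    have hd' := Subgroup.mem_inf.1 hd
    refine Subgroup.mem_inf.2 ⟨mul_mem (mul_mem hx hd'.1) (inv_mem hx), ?_⟩
    exact (Subgroup.normal_centralizer (H := N)).conj_mem d hd'.2 x
  have hD : (P : Subgroup G) ⊓ Subgroup.centralizer (N : Set G) = ⊥ := by
    by_contra hD1
    haveI := hDn
    have hq := hquo _ hD1
    have hsurj : Function.Surjective
        (QuotientGroup.mk' ((P : Subgroup G) ⊓ Subgroup.centralizer (N : Set G))) :=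
      QuotientGroup.mk'_surjective _
    have hn := hq (P.mapSurjective hsurj)
    rw [Sylow.coe_mapSurjective] at hn
    have hcn : ((P : Subgroup G).map
        (QuotientGroup.mk' ((P : Subgroup G) ⊓ Subgroup.centralizer (N : Set G)))).comap
        (QuotientGroup.mk' ((P : Subgroup G) ⊓ Subgroup.centralizer (N : Set G))) = P := by
      rw [QuotientGroup.comap_map_mk']
      exact sup_eq_right.2 inf_le_left
    apply hPnn
    rw [← hcn]
    exact hn.comap _
  -- an element of order `p` in `P`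
  have hP1 : (P : Subgroup G) ≠ ⊥ := by
    intro h
    apply hPnn
    rw [h]
    infer_instance
  have hpdvd : p ∣ Nat.card ↥(P : Subgroup G) := by
    obtain ⟨k, hk⟩ := (IsPGroup.iff_card (p := p)).mp P.2
    rw [hk]
    rcases Nat.eq_zero_or_pos k with rfl | hk0
    · rw [pow_zero] at hk
      exact absurd (Subgroup.card_eq_one.mp hk) hP1
    · exact dvd_pow_self p hk0.ne'
  obtain ⟨x, hx⟩ := exists_prime_orderOf_dvd_card' p hpdvd
  have hxG : orderOf (x : G) = p := by
    rw [Subgroup.orderOf_coe]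
    exact hx
  have hP1le : Subgroup.zpowers (x : G) ≤ (P : Subgroup G) := by
    rw [Subgroup.zpowers_le]
    exact x.2
  have hP1p : IsPGroup p ↥(Subgroup.zpowers (x : G)) := P.2.to_le hP1le
  have hP1card : Nat.card ↥(Subgroup.zpowers (x : G)) = p := by
    rw [Nat.card_zpowers, hxG]
  -- `⟨x⟩ N = G`
  have hH : Subgroup.zpowers (x : G) ⊔ N = ⊤ := by
    by_contra hne
    have hcl := hsub _ hne
    -- a Sylow `p`-subgroup `Q` of `H = ⟨x⟩ N` containing `x`
    have hle1 : Subgroup.zpowers (x : G) ≤ Subgroup.zpowers (x : G) ⊔ N := le_sup_left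
    have hle2 : N ≤ Subgroup.zpowers (x : G) ⊔ N := le_sup_right
    have hpg : IsPGroup p ↥((Subgroup.zpowers (x : G)).subgroupOf (Subgroup.zpowers (x : G) ⊔ N)) :=
      hP1p.comap_subtype
    obtain ⟨Q, hQ⟩ := hpg.exists_le_sylow
    have hQn : (Q : Subgroup ↥(Subgroup.zpowers (x : G) ⊔ N)).Normal := hcl Q
    -- `Q' = Q` viewed in `G`
    have hQ'p : IsPGroup p ↥((Q : Subgroup ↥(Subgroup.zpowers (x : G) ⊔ N)).map
        (Subgroup.zpowers (x : G) ⊔ N).subtype) := Q.2.map _
    have hxQ' : (x : G) ∈ (Q : Subgroup ↥(Subgroup.zpowers (x : G) ⊔ N)).map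
        (Subgroup.zpowers (x : G) ⊔ N).subtype := by
      refine ⟨⟨(x : G), hle1 (Subgroup.mem_zpowers _)⟩, ?_, rfl⟩
      apply hQ
      rw [Subgroup.mem_subgroupOf]
      exact Subgroup.mem_zpowers _
    have hnorm : ∀ n ∈ N, ∀ q ∈ (Q : Subgroup ↥(Subgroup.zpowers (x : G) ⊔ N)).map
        (Subgroup.zpowers (x : G) ⊔ N).subtype, n * q * n⁻¹ ∈
        (Q : Subgroup ↥(Subgroup.zpowers (x : G) ⊔ N)).map
        (Subgroup.zpowers (x : G) ⊔ N).subtype := by
      rintro n hn _ ⟨q, hq, rfl⟩
      exact ⟨⟨n, hle2 hn⟩ * q * ⟨n, hle2 hn⟩⁻¹, hQn.conj_mem q hq _, rfl⟩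
    have hcomm : ∀ n ∈ N, (x : G) * n = n * (x : G) := fun n hn =>
      NS2.commute_of_normalized hrp _ N hQ'p hN hnorm (x : G) hxQ' n hn
    have hxD : (x : G) ∈ (P : Subgroup G) ⊓ Subgroup.centralizer (N : Set G) := by
      refine Subgroup.mem_inf.2 ⟨x.2, ?_⟩
      rw [Subgroup.mem_centralizer_iff]
      intro n hn
      exact (hcomm n hn).symm
    rw [hD, Subgroup.mem_bot] at hxD
    rw [hxD, orderOf_one] at hxG
    exact hp.one_lt.ne hxG
  -- orders
  have hc1 : Nat.card ↥(P : Subgroup G) * Nat.card ↥N = Nat.card G := by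
    have hdisj : Disjoint (P : Subgroup G) N := IsPGroup.disjoint_of_ne p r (Ne.symm hrp) _ _ P.2 hN
    have hcompl : Subgroup.IsComplement' (P : Subgroup G) N :=
      Subgroup.isComplement'_of_disjoint_and_mul_eq_univ hdisj (by
        rw [← Subgroup.mul_normal, hPN, Subgroup.coe_top])
    exact hcompl.card_mul_card
  have hc2 : Nat.card ↥(Subgroup.zpowers (x : G)) * Nat.card ↥N = Nat.card G := by
    have hdisj : Disjoint (Subgroup.zpowers (x : G)) N :=
      IsPGroup.disjoint_of_ne p r (Ne.symm hrp) _ _ hP1p hN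
    have hcompl : Subgroup.IsComplement' (Subgroup.zpowers (x : G)) N :=
      Subgroup.isComplement'_of_disjoint_and_mul_eq_univ hdisj (by
        rw [← Subgroup.mul_normal, hH, Subgroup.coe_top])
    exact hcompl.card_mul_card
  have hNpos : 0 < Nat.card ↥N := Nat.card_pos
  have := Nat.eq_of_mul_eq_mul_right hNpos (hc1.trans hc2.symm)
  rw [this, hP1card]

end Cfsg.Agent.Helper15.NPC
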