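import Mathlib
import Cfsg.Agent.Lib.Helper15.S64Defs

/-!
# S3664 piece S64-HCARD (helper3): the order of `H_N = W^N ⋊ L`.
-/

set_option autoImplicit false
set_option linter.unusedSectionVars false
set_option linter.unusedVariables false

namespace Cfsg.Agent.Helper15.S64

open Matrix Cfsg.Agent.Helper2 Cfsg.Agent.Helper2.Sz

variable {F : Type*} [Field F] [Fintype F] (S : SzData F 1)
  (hF : Fintype.card F = 2 ^ (2 * 1 + 1))

theorem s64_hcard_card_matrix (hF : Fintype.card F = 2 ^ (2 * 1 + 1)) :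
    Nat.card (Matrix (Fin 4) (Fin 4) F) = 2 ^ 48 := by
  unfold Matrix
  rw [Nat.card_fun, Nat.card_fun, Nat.card_eq_fintype_card (α := Fin 4), Fintype.card_fin,
    Nat.card_eq_fintype_card (α := F), hF]
  norm_num

/-- PIECE S64-HCARD -/
theorem card_H (hcard : Nat.card (Lgrp S hF) = 29120 * 3) (N : ℕ) :
    Nat.card (Hgrp S hF N) = (2 ^ 48) ^ N * (29120 * 3) := by
  rw [AffExt.card_aff, hcard, Nat.card_fun, s64_hcard_card_matrix hF,
    Nat.card_eq_fintype_card (α := Fin N), Fintype.card_fin]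

end Cfsg.Agent.Helper15.S64
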