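import Mathlib
import Cfsg.Agent.Lib.Helper15.S64Defs

/-!
# S3664 piece S64-HPRIMES (helper3): the primes dividing `(2^48)^N * (29120 * 3)` are `2, 3, 5, 7, 13`.
-/

set_option autoImplicit false
set_option linter.unusedSectionVars false
set_option linter.unusedVariables false

namespace Cfsg.Agent.Helper15.S64

open Matrix Cfsg.Agent.Helper2 Cfsg.Agent.Helper2.Sz

/-- PIECE S64-HPRIMES (pure arithmetic) -/
theorem primes_H (N : ℕ) {p : ℕ} (hp : p.Prime) :
    p ∣ (2 ^ 48) ^ N * (29120 * 3) ↔ (p = 2 ∨ p = 3 ∨ p = 5 ∨ p = 7 ∨ p = 13) := by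
  constructor
  · intro h
    rcases (Nat.Prime.dvd_mul hp).1 h with h1 | h1
    · left
      have h2 : p ∣ 2 ^ 48 := hp.dvd_of_dvd_pow h1
      have h3 : p ∣ 2 := hp.dvd_of_dvd_pow h2
      exact (Nat.prime_dvd_prime_iff_eq hp Nat.prime_two).1 h3
    · have e : (29120 * 3 : ℕ) = 2 ^ 6 * 3 * 5 * 7 * 13 := by norm_num
      rw [e] at h1
      rcases (Nat.Prime.dvd_mul hp).1 h1 with h2 | h2
      · rcases (Nat.Prime.dvd_mul hp).1 h2 with h3 | h3
        · rcases (Nat.Prime.dvd_mul hp).1 h3 with h4 | h4
          · rcases (Nat.Prime.dvd_mul hp).1 h4 with h5 | h5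
            · left
              exact (Nat.prime_dvd_prime_iff_eq hp Nat.prime_two).1 (hp.dvd_of_dvd_pow h5)
            · right; left
              exact (Nat.prime_dvd_prime_iff_eq hp Nat.prime_three).1 h5
          · right; right; left
            exact (Nat.prime_dvd_prime_iff_eq hp Nat.prime_five).1 h4
        · right; right; right; left
          exact (Nat.prime_dvd_prime_iff_eq hp (by norm_num)).1 h3
      · right; right; right; right
        exact (Nat.prime_dvd_prime_iff_eq hp (by norm_num)).1 h2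
  · intro h
    apply Dvd.dvd.mul_left
    rcases h with rfl | rfl | rfl | rfl | rfl <;> norm_num

end Cfsg.Agent.Helper15.S64
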