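import Mathlib
import Cfsg.Prelude.Def_JComponents
import Cfsg.Agent.Lib.Helper4.ZNDefs

/-!
# S0518, piece LIFT: from subgroups of `G` inside `H` to subgroups of the type `↥H`
-/

set_option autoImplicit false
open Cfsg

namespace Cfsg.Agent.Helper4.ZN

variable {G : Type*} [Group G]

/-- a subgroup of `↥H` is the `subgroupOf` of its image -/
theorem LIFT_subgroupOf_map (H : Subgroup G) (T : Subgroup ↥H) :
    (T.map H.subtype).subgroupOf H = T := by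
  rw [← Subgroup.comap_subtype]
  exact Subgroup.comap_map_eq_self_of_injective H.subtype_injective T

/-- normalizers in `↥H` -/
theorem LIFT_normalizer (H : Subgroup G) (T : Subgroup ↥H) :
    Subgroup.normalizer (T : Set ↥H) =
      (Subgroup.normalizer ((T.map H.subtype : Subgroup G) : Set G)).subgroupOf H := by
  have h1 : T.map H.subtype ≤ H := Subgroup.map_subtype_le T
  have h2 := Subgroup.subgroupOf_normalizer_eq h1
  rw [h2, LIFT_subgroupOf_map]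

/-- `IsTwoLocal` in `↥H` in terms of `G` -/
theorem LIFT_isTwoLocal (H V S : Subgroup G) (hV2 : IsPGroup 2 ↥V) (hV1 : V ≠ ⊥) (hVH : V ≤ H)
    (hN : Subgroup.normalizer (V : Set G) ⊓ H = S) : IsTwoLocal (S.subgroupOf H) := by
  refine ⟨V.subgroupOf H, ?_, ?_, ?_⟩
  · exact IsPGroup.of_equiv hV2 (Subgroup.subgroupOfEquivOfLe hVH).symm
  · intro h
    rw [Subgroup.subgroupOf_eq_bot, disjoint_iff, inf_eq_left.2 hVH] at h
    exact hV1 h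
  · rw [← Subgroup.subgroupOf_normalizer_eq hVH, ← hN, Subgroup.inf_subgroupOf_right]

theorem LIFT_isMaximal (H S : Subgroup G) (hS : S ≤ H)
    (hloc : ∃ V : Subgroup G, IsPGroup 2 ↥V ∧ V ≠ ⊥ ∧ V ≤ H ∧
      Subgroup.normalizer (V : Set G) ⊓ H = S)
    (hmax : ∀ R : Subgroup G, IsPGroup 2 ↥R → R ≠ ⊥ → R ≤ H →
      S ≤ Subgroup.normalizer (R : Set G) → Subgroup.normalizer (R : Set G) ⊓ H = S) :
    IsMaximalTwoLocal (S.subgroupOf H) := by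
  obtain ⟨V, hV2, hV1, hVH, hN⟩ := hloc
  refine ⟨LIFT_isTwoLocal H V S hV2 hV1 hVH hN, ?_⟩
  rintro N ⟨T, hT2, hT1, rfl⟩ hle
  set R := T.map H.subtype with hR
  have hRH : R ≤ H := Subgroup.map_subtype_le T
  have hR2 : IsPGroup 2 ↥R := hT2.map H.subtype
  have hR1 : R ≠ ⊥ := by
    intro h
    apply hT1
    rw [hR] at h
    exact (Subgroup.map_eq_bot_iff_of_injective T H.subtype_injective).1 h
  rw [LIFT_normalizer] at hle ⊢
  have hSN : S ≤ Subgroup.normalizer (R : Set G) := by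
    intro s hs
    have : (⟨s, hS hs⟩ : ↥H) ∈ S.subgroupOf H := by
      rw [Subgroup.mem_subgroupOf]; exact hs
    have h2 := hle this
    rw [Subgroup.mem_subgroupOf] at h2
    exact h2
  have h3 := hmax R hR2 hR1 hRH hSN
  rw [← h3, Subgroup.inf_subgroupOf_right]

theorem lift_to_H (H S₁ S₂ : Subgroup G) (hS₁ : S₁ ≤ H) (hS₂ : S₂ ≤ H) (hne : S₁ ≠ S₂)
    (hloc₁ : ∃ V : Subgroup G, IsPGroup 2 ↥V ∧ V ≠ ⊥ ∧ V ≤ H ∧
      Subgroup.normalizer (V : Set G) ⊓ H = S₁)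
    (hloc₂ : ∃ V : Subgroup G, IsPGroup 2 ↥V ∧ V ≠ ⊥ ∧ V ≤ H ∧
      Subgroup.normalizer (V : Set G) ⊓ H = S₂)
    (hmax₁ : ∀ R : Subgroup G, IsPGroup 2 ↥R → R ≠ ⊥ → R ≤ H →
      S₁ ≤ Subgroup.normalizer (R : Set G) → Subgroup.normalizer (R : Set G) ⊓ H = S₁)
    (hmax₂ : ∀ R : Subgroup G, IsPGroup 2 ↥R → R ≠ ⊥ → R ≤ H →
      S₂ ≤ Subgroup.normalizer (R : Set G) → Subgroup.normalizer (R : Set G) ⊓ H = S₂)
    (hi₁ : Nonempty (↥S₁ ≃* Equiv.Perm (Fin 4))) (hi₂ : Nonempty (↥S₂ ≃* Equiv.Perm (Fin 4)))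
    (hcard : Nat.card ↥(S₁ ⊓ S₂) = 8) :
    ∃ M₁ M₂ : Subgroup ↥H, M₁ ≠ M₂ ∧ IsMaximalTwoLocal M₁ ∧ IsMaximalTwoLocal M₂ ∧
      Nonempty (↥M₁ ≃* Equiv.Perm (Fin 4)) ∧ Nonempty (↥M₂ ≃* Equiv.Perm (Fin 4)) ∧
      Nat.card ↥(M₁ ⊓ M₂) = 8 := by
  refine ⟨S₁.subgroupOf H, S₂.subgroupOf H, ?_, LIFT_isMaximal H S₁ hS₁ hloc₁ hmax₁,
    LIFT_isMaximal H S₂ hS₂ hloc₂ hmax₂, ?_, ?_, ?_⟩
  · intro h
    rw [Subgroup.subgroupOf_inj, inf_eq_left.2 hS₁, inf_eq_left.2 hS₂] at h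
    exact hne h
  · obtain ⟨e⟩ := hi₁
    exact ⟨(Subgroup.subgroupOfEquivOfLe hS₁).trans e⟩
  · obtain ⟨e⟩ := hi₂
    exact ⟨(Subgroup.subgroupOfEquivOfLe hS₂).trans e⟩
  · have h1 : S₁.subgroupOf H ⊓ S₂.subgroupOf H = (S₁ ⊓ S₂).subgroupOf H := by
      ext x
      simp only [Subgroup.mem_inf, Subgroup.mem_subgroupOf]
    rw [h1, Nat.card_congr (Subgroup.subgroupOfEquivOfLe (inf_le_left.trans hS₁)).toEquiv]
    exact hcard

end Cfsg.Agent.Helper4.ZN
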