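import Mathlib
import Cfsg.Agent.Lib.Helper22.W2PDefs

/-!
# S0720, piece EIGEN: the orbital operator acts on the isotypic component of a constituent of multiplicity one of
the permutation character as a scalar, which is an algebraic integer.
-/

set_option autoImplicit false
set_option linter.unusedSectionVars false
set_option linter.unusedVariables false

namespace Cfsg.Agent.Helper22.W2P

open Cfsg Cfsg.Agent.Helper22.PermCent Cfsg.Agent.Helper24

open scoped ComplexConjugate

universe u v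

variable {G : Type u} [Group G] [Fintype G] {Ω : Type v} [Fintype Ω] [DecidableEq Ω]
  [MulAction G Ω]

namespace EIGEN

/-- the permutation character is the character of the permutation module -/
theorem theta_eq_character : theta G Ω = (Cfsg.permRep ℂ G Ω).character := by
  funext g
  rw [permRep_character]
  rfl

/-- the kernel is invariant under the group -/
theorem K_smul' {χ : G → ℂ} (hχ : IsClassFunction G χ) (g : G) (x y : Ω) :
    K χ (g • x) (g • y) = K χ x y :=
  (mem_centralizer_iff _).1 (idem_mem_invariants hχ _) g x y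

/-- the kernel is hermitian -/
theorem K_conj' {χ : G → ℂ} (hχ : IsIrrCharacter G χ) (x y : Ω) : K χ y x = conj (K χ x y) := by
  unfold K
  rw [ent_idem_transpose hχ, ent_idem, ent_idem]
  obtain ⟨n, hn, h1⟩ := irr_one_eq hχ
  rw [map_mul, map_div₀, map_sum, h1]
  simp only [map_natCast]
  congr 1
  refine Finset.sum_congr rfl fun g _ => ?_
  split_ifs <;> simp

/-- the diagonal of the kernel of a constituent of multiplicity one -/
theorem K_diag' [MulAction.IsPretransitive G Ω] {χ : G → ℂ} (hχ : IsIrrCharacter G χ)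
    (h1 : classInner (theta G Ω) χ = 1) (x : Ω) : K χ x x = χ 1 / (Fintype.card Ω : ℂ) := by
  have hcl := isClassFunction_of_isIrrCharacter hχ
  have hconst : ∀ y : Ω, K χ y y = K χ x x := by
    intro y
    obtain ⟨g, rfl⟩ := MulAction.exists_smul_eq G x y
    exact K_smul' hcl g x x
  have htr := trace_idem χ (Cfsg.permRep ℂ G Ω)
  rw [trace_eq_sum_ent, ← theta_eq_character] at htr
  have h2 : classInner χ (theta G Ω) = 1 := by
    rw [← classInner_conj_symm, h1, map_one]
  rw [h2, mul_one] at htr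
  have h3 : ∑ y : Ω, ent (idem χ (Cfsg.permRep ℂ G Ω)) y y = (Fintype.card Ω : ℂ) * K χ x x := by
    have : ∀ y : Ω, ent (idem χ (Cfsg.permRep ℂ G Ω)) y y = K χ x x := hconst
    rw [Finset.sum_congr rfl (fun y _ => this y), Finset.sum_const, Finset.card_univ, nsmul_eq_mul]
  rw [h3] at htr
  have hΩ : (Fintype.card Ω : ℂ) ≠ 0 := by
    have : 0 < Fintype.card Ω := Fintype.card_pos_iff.2 ⟨x⟩
    exact_mod_cast this.ne'
  rw [← htr]
  field_simp

open scoped Classical in
/-- the matrix of the orbital of `(a₀, b)` -/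
noncomputable def orbMat (G : Type u) [Group G] {Ω : Type v} [MulAction G Ω] (a₀ b : Ω) :
    Matrix Ω Ω ℂ :=
  Matrix.of fun x y => if ∃ g : G, g • a₀ = x ∧ g • b = y then (1 : ℂ) else 0

/-- the orbital operator of `(a₀, b)` -/
noncomputable def orbOp (G : Type u) [Group G] {Ω : Type v} [Fintype Ω] [DecidableEq Ω]
    [MulAction G Ω] (a₀ b : Ω) : Module.End ℂ (Ω → ℂ) :=
  Matrix.toLin' (orbMat G a₀ b)

open scoped Classical in
theorem ent_orbOp (a₀ b x y : Ω) :
    ent (orbOp G a₀ b) x y = if ∃ g : G, g • a₀ = x ∧ g • b = y then (1 : ℂ) else 0 := by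
  unfold ent orbOp
  rw [Matrix.toLin'_apply, Matrix.mulVec_single_one, Matrix.col_apply]
  unfold orbMat
  rw [Matrix.of_apply]
  split_ifs <;> rfl

theorem orbOp_mem (a₀ b : Ω) :
    orbOp G a₀ b ∈
      (Representation.linHom (Cfsg.permRep ℂ G Ω) (Cfsg.permRep ℂ G Ω)).invariants := by
  classical
  rw [mem_centralizer_iff]
  intro g x y
  rw [ent_orbOp, ent_orbOp]
  have h : (∃ h : G, h • a₀ = g • x ∧ h • b = g • y) ↔ (∃ h : G, h • a₀ = x ∧ h • b = y) := by
    constructor
    · rintro ⟨h, h1, h2⟩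
      refine ⟨g⁻¹ * h, ?_, ?_⟩
      · rw [mul_smul, h1, inv_smul_smul]
      · rw [mul_smul, h2, inv_smul_smul]
    · rintro ⟨h, h1, h2⟩
      exact ⟨g * h, by rw [mul_smul, h1], by rw [mul_smul, h2]⟩
  simp only [h]

theorem mem_sub_iff (a₀ b y : Ω) : y ∈ sub G a₀ b ↔ ∃ g : G, g • a₀ = a₀ ∧ g • b = y := by
  constructor
  · rintro ⟨g, rfl⟩
    exact ⟨g.1, g.2, rfl⟩
  · rintro ⟨g, hg, rfl⟩
    exact ⟨⟨g, hg⟩, rfl⟩

open scoped Classical in
/-- the orbital operator times the idempotent is a multiple of the idempotent -/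
theorem exists_scalar
    (hmf : ∀ χ : G → ℂ, IsIrrCharacter G χ →
      classInner (theta G Ω) χ = 0 ∨ classInner (theta G Ω) χ = 1)
    {χ : G → ℂ} (hχ : IsIrrCharacter G χ) (h1 : classInner (theta G Ω) χ = 1) (a₀ b : Ω) :
    ∃ lam : ℂ, orbOp G a₀ b * idem χ (Cfsg.permRep ℂ G Ω) = lam • idem χ (Cfsg.permRep ℂ G Ω) := by
  letI := irrFintype (G := G)
  have hθ : theta G Ω = (Cfsg.permRep ℂ G Ω).character := theta_eq_character
  have hmf' : ∀ χ : G → ℂ, IsIrrCharacter G χ →
      classInner (Cfsg.permRep ℂ G Ω).character χ = 0 ∨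
        classInner (Cfsg.permRep ℂ G Ω).character χ = 1 := by
    rw [← hθ]
    exact hmf
  have hA := orbOp_mem (G := G) a₀ b
  rw [← span_idem_eq (Cfsg.permRep ℂ G Ω) hmf'] at hA
  obtain ⟨c, hc⟩ := (Submodule.mem_span_range_iff_exists_fun ℂ).mp hA
  have h1' : classInner (Cfsg.permRep ℂ G Ω).character χ = 1 := by
    rw [← hθ]
    exact h1
  refine ⟨c ⟨⟨χ, hχ⟩, h1'⟩, ?_⟩
  rw [← hc, Finset.sum_mul]
  rw [Finset.sum_eq_single (⟨⟨χ, hχ⟩, h1'⟩ : {χ : IrrCharacter G //
      classInner (Cfsg.permRep ℂ G Ω).character (χ : G → ℂ) = 1})]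
  · rw [smul_mul_assoc, idem_mul_idem hχ hχ, if_pos rfl]
  · intro j _ hj
    rw [smul_mul_assoc, idem_mul_idem j.1.2 hχ, if_neg, smul_zero]
    intro h
    apply hj
    exact Subtype.ext (Subtype.ext h)
  · intro h
    exact absurd (Finset.mem_univ _) h

end EIGEN

open scoped Classical in
/-- PIECE EIGEN: the orbital operator acts on the isotypic component of a constituent of
multiplicity one as a scalar, which is an algebraic integer. -/
theorem eigen_integral [MulAction.IsPretransitive G Ω]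
    (hmf : ∀ χ : G → ℂ, IsIrrCharacter G χ →
      classInner (theta G Ω) χ = 0 ∨ classInner (theta G Ω) χ = 1)
    {χ : G → ℂ} (hχ : IsIrrCharacter G χ) (h1 : classInner (theta G Ω) χ = 1) (a₀ b : Ω) :
    IsIntegral ℤ ((Fintype.card Ω : ℂ) / χ 1 * (Nat.card (sub G a₀ b) : ℂ) * K χ a₀ b) ∧
      ∀ w : Ω → ℂ, (∀ x, ∑ y, K χ x y * w y = w x) →
        ∑ y ∈ Finset.univ.filter (fun y => y ∈ sub G a₀ b), w y =
          (Fintype.card Ω : ℂ) / χ 1 * (Nat.card (sub G a₀ b) : ℂ) * conj (K χ a₀ b) * w a₀ := by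
  have hcl := isClassFunction_of_isIrrCharacter hχ
  obtain ⟨lam, hAE⟩ := EIGEN.exists_scalar hmf hχ h1 a₀ b
  obtain ⟨n, hn, hdeg⟩ := irr_one_eq hχ
  have hχ1 : χ 1 ≠ 0 := irr_one_ne_zero hχ
  have hΩ : (Fintype.card Ω : ℂ) ≠ 0 := by
    have : 0 < Fintype.card Ω := Fintype.card_pos_iff.2 ⟨a₀⟩
    exact_mod_cast this.ne'
  -- the entries of the orbital operator in the row `a₀`
  have hrow : ∀ z, ent (EIGEN.orbOp G a₀ b) a₀ z = if z ∈ sub G a₀ b then 1 else 0 := by
    intro z
    rw [EIGEN.ent_orbOp]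
    by_cases hz : z ∈ sub G a₀ b
    · rw [if_pos hz, if_pos ((EIGEN.mem_sub_iff a₀ b z).1 hz)]
    · rw [if_neg hz, if_neg (fun h => hz ((EIGEN.mem_sub_iff a₀ b z).2 h))]
  have hcard : ((Finset.univ.filter (fun y => y ∈ sub G a₀ b)).card : ℂ) =
      (Nat.card (sub G a₀ b) : ℂ) := by
    congr 1
    symm
    apply Nat.subtype_card
    intro x
    simp
  -- the value of `lam`
  have hent := congrArg (fun T => ent T a₀ a₀) hAE
  simp only [ent_mul, ent_smul] at hent
  have hsum : ∑ z, ent (EIGEN.orbOp G a₀ b) a₀ z * ent (idem χ (Cfsg.permRep ℂ G Ω)) z a₀ =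
      (Nat.card (sub G a₀ b) : ℂ) * K χ b a₀ := by
    have h : ∀ z, ent (EIGEN.orbOp G a₀ b) a₀ z * ent (idem χ (Cfsg.permRep ℂ G Ω)) z a₀ =
        if z ∈ sub G a₀ b then K χ b a₀ else 0 := by
      intro z
      rw [hrow]
      by_cases hz : z ∈ sub G a₀ b
      · rw [if_pos hz, if_pos hz, one_mul]
        obtain ⟨g, hg, rfl⟩ := (EIGEN.mem_sub_iff a₀ b z).1 hz
        have := EIGEN.K_smul' hcl g b a₀
        rw [hg] at this
        exact this
      · rw [if_neg hz, if_neg hz, zero_mul]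
    rw [Finset.sum_congr rfl (fun z _ => h z), Finset.sum_ite, Finset.sum_const_zero, add_zero,
      Finset.sum_const, nsmul_eq_mul, hcard]
  rw [hsum] at hent
  have hdiag : ent (idem χ (Cfsg.permRep ℂ G Ω)) a₀ a₀ = χ 1 / (Fintype.card Ω : ℂ) :=
    EIGEN.K_diag' hχ h1 a₀
  rw [hdiag, EIGEN.K_conj' hχ a₀ b] at hent
  have hlam : lam = (Fintype.card Ω : ℂ) / χ 1 * (Nat.card (sub G a₀ b) : ℂ) * conj (K χ a₀ b) := by
    field_simp
    field_simp at hent
    rw [← hent]
    ring
  constructor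
  · -- integrality
    have hv : idem χ (Cfsg.permRep ℂ G Ω) (Pi.single a₀ 1) ≠ 0 := by
      intro h0
      have : ent (idem χ (Cfsg.permRep ℂ G Ω)) a₀ a₀ = 0 := by
        unfold ent
        rw [h0]
        rfl
      rw [hdiag] at this
      exact div_ne_zero hχ1 hΩ this
    have heig : (EIGEN.orbOp G a₀ b).HasEigenvalue lam := by
      apply Module.End.hasEigenvalue_of_hasEigenvector (x := idem χ (Cfsg.permRep ℂ G Ω) (Pi.single a₀ 1))
      refine ⟨?_, hv⟩
      rw [Module.End.mem_eigenspace_iff]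
      have := congrArg (fun T : Module.End ℂ (Ω → ℂ) => T (Pi.single a₀ 1)) hAE
      exact this
    have hint : IsIntegral ℤ lam := by
      refine isIntegral_of_hasEigenvalue (EIGEN.orbOp G a₀ b)
        (fun x y => if ∃ g : G, g • a₀ = x ∧ g • b = y then 1 else 0) ?_ heig
      intro x y
      rw [EIGEN.ent_orbOp]
      split_ifs <;> simp
    have hconj := map_isIntegral_int (starRingEnd ℂ) hint
    have he : (starRingEnd ℂ) lam =
        (Fintype.card Ω : ℂ) / χ 1 * (Nat.card (sub G a₀ b) : ℂ) * K χ a₀ b := by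
      rw [hlam, hdeg]
      simp only [map_mul, map_div₀, map_natCast, Complex.conj_conj]
    rw [← he]
    exact hconj
  · intro w hw
    have hEw : idem χ (Cfsg.permRep ℂ G Ω) w = w := by
      funext x
      rw [apply_eq_sum]
      exact hw x
    have h2 : EIGEN.orbOp G a₀ b w a₀ = lam * w a₀ := by
      have := congrArg (fun T : Module.End ℂ (Ω → ℂ) => T w a₀) hAE
      simp only [Module.End.mul_apply, LinearMap.smul_apply, Pi.smul_apply, smul_eq_mul, hEw] at this
      exact this
    rw [apply_eq_sum] at h2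
    rw [← hlam, ← h2]
    rw [Finset.sum_filter]
    refine Finset.sum_congr rfl fun y _ => ?_
    rw [hrow]
    split_ifs <;> simp

end Cfsg.Agent.Helper22.W2P
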