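import Mathlib
import Cfsg.Prelude.Def_Characters
import Cfsg.Prelude.Def_Blocks
import Cfsg.Agent.Lib.Helper24.CharLinear
import Cfsg.Agent.Lib.Helper15.GL23Defs
import Cfsg.Agent.Lib.Helper3.J1ArithDefs

/-!
# S0448 (helper3): definitions for the `C(t) ≅ Z2 × A5` configuration.  See plans/S0448_proof.md and
plans/S0448_Skel.lean.txt.  `nInv` (number of factorizations into two involutions) is helper15's
`Cfsg.Agent.Helper15.GL23.nInv`.
-/

set_option autoImplicit false
set_option linter.unusedSectionVars false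
set_option linter.unusedVariables false

namespace Cfsg.Agent.Helper3.J1

open Cfsg Cfsg.Agent.Helper15.GL23 Cfsg.Agent.Helper24

universe u

/-- `√5` as a complex number -/
noncomputable def sq5 : ℂ := ((Real.sqrt 5 : ℝ) : ℂ)

/-- the model of the centralizer -/
abbrev H0 : Type := Multiplicative (ZMod 2) × alternatingGroup (Fin 5)

/-- the central involution of `H0` -/
def z0 : H0 := (Multiplicative.ofAdd 1, 1)

/-- the 3-cycle `(0 1 2)` -/
def p3 : alternatingGroup (Fin 5) :=
  ⟨Equiv.swap 0 1 * Equiv.swap 1 2, Equiv.Perm.mem_alternatingGroup.mpr (by decide)⟩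

/-- the 5-cycle `(0 1 2 3 4)` -/
def p5 : alternatingGroup (Fin 5) :=
  ⟨Equiv.swap 0 1 * Equiv.swap 1 2 * Equiv.swap 2 3 * Equiv.swap 3 4, Equiv.Perm.mem_alternatingGroup.mpr (by decide)⟩

/-- the double transposition `(0 1)(2 3)` -/
def p2 : alternatingGroup (Fin 5) :=
  ⟨Equiv.swap 0 1 * Equiv.swap 2 3, Equiv.Perm.mem_alternatingGroup.mpr (by decide)⟩

/-- the double transposition `(0 2)(1 3)` -/
def p2' : alternatingGroup (Fin 5) :=
  ⟨Equiv.swap 0 2 * Equiv.swap 1 3, Equiv.Perm.mem_alternatingGroup.mpr (by decide)⟩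

/-- the double transposition `(1 4)(2 3)`, which inverts `p5` -/
def p2'' : alternatingGroup (Fin 5) :=
  ⟨Equiv.swap 1 4 * Equiv.swap 2 3, Equiv.Perm.mem_alternatingGroup.mpr (by decide)⟩

/-- element of order 3 of `H0` -/
def x0 : H0 := (1, p3)
/-- element of order 5 of `H0` -/
def y0 : H0 := (1, p5)
/-- two commuting involutions of `H0` (with `z0` they generate an `E8`) -/
def u0 : H0 := (1, p2)
/-- second involution -/
def u0' : H0 := (1, p2')
/-- an involution inverting `y0` -/
def r0 : H0 := (1, p2'')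
/-- `w0 = z0 x0` (order 6) -/
def w0 : H0 := z0 * x0
/-- `v0 = z0 y0` (order 10) -/
def v0 : H0 := z0 * y0

section Defs

variable {G : Type u} [Group G]

/-- the configuration in `G`: an embedding `f` of `H0` onto `C_G(t)` with `f z0 = t`; `w = f w0`
(order 6), `v = f v0` (order 10): centralizer orders, non-fusion of `v`, `v³`, the class constants
`nInv`, one class of involutions, `8 ‖ |G|`. -/
structure Cfg (t : G) (f : H0 →* G) : Prop where
  inj : Function.Injective f
  range_eq : f.range = Subgroup.centralizer ({t} : Set G)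
  fz : f z0 = t
  cardt : Nat.card (Subgroup.centralizer ({t} : Set G)) = 120
  cardw : Nat.card (Subgroup.centralizer ({f w0} : Set G)) = 6
  cardv : Nat.card (Subgroup.centralizer ({f v0} : Set G)) = 10
  cardv3 : Nat.card (Subgroup.centralizer ({f (v0 ^ 3)} : Set G)) = 10
  nconj_v : ¬ IsConj (f v0) (f (v0 ^ 3))
  cnt_t : nInv t = 30
  cnt_w : nInv (f w0) = 6
  cnt_v : nInv (f v0) = 10
  cnt_v3 : nInv (f (v0 ^ 3)) = 10
  one_class : ∀ s : G, orderOf s = 2 → IsConj t s
  dvd8 : 8 ∣ Nat.card G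
  ndvd16 : ¬ 16 ∣ Nat.card G

/-- the integer data of the four columns `t, w, v, v³` of the character table and the degrees, with the
congruences -/
structure ValData {t : G} {f : H0 →* G} (c : Cfg t f) (T U M N D : IrrCharacter G → ℤ) : Prop where
  hT : ∀ X : IrrCharacter G, (X : G → ℂ) t = (T X : ℂ)
  hU : ∀ X : IrrCharacter G, (X : G → ℂ) (f w0) = (U X : ℂ)
  hV : ∀ X : IrrCharacter G, (X : G → ℂ) (f v0) = ((M X : ℂ) + (N X : ℂ) * sq5) / 2
  hV3 : ∀ X : IrrCharacter G, (X : G → ℂ) (f (v0 ^ 3)) = ((M X : ℂ) - (N X : ℂ) * sq5) / 2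
  hD : ∀ X : IrrCharacter G, (X : G → ℂ) 1 = (D X : ℂ)
  cong : J1A.Cong (principalChar G) T U M N D

/-- the integer data of the columns `x` (order 3) and `y + y²` (order 5) -/
structure XiData {t : G} {f : H0 →* G} (c : Cfg t f) (Xi S : IrrCharacter G → ℤ) : Prop where
  hX : ∀ X : IrrCharacter G, (X : G → ℂ) (f x0) = (Xi X : ℂ)
  hS : ∀ X : IrrCharacter G, (X : G → ℂ) (f y0) + (X : G → ℂ) (f (y0 ^ 2)) = (S X : ℂ)

end Defs

end Cfsg.Agent.Helper3.J1
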