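import Mathlib
import Cfsg.Agent.Lib.Helper16.KF9Defs

/-!
# S3805 piece GRPA (helper3): the `S₃ × S₃` configuration exists.
-/

set_option autoImplicit false
set_option linter.unusedSectionVars false
set_option linter.unusedVariables false

namespace Cfsg.Agent.Helper16.KF9

open Cfsg

universe u

section GRPA

variable {G : Type u} [Group G] [Finite G] {T : Sylow 3 G}

/-- elements of `zpowers t` for `t` of order 3 -/
theorem grpa_mem_zpowers_three {t x : G} (ht : orderOf t = 3) (hx : x ∈ Subgroup.zpowers t) :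
    x = 1 ∨ x = t ∨ x = t⁻¹ := by
  obtain ⟨k, rfl⟩ := Subgroup.mem_zpowers_iff.mp hx
  have h3 : t ^ 3 = 1 := by rw [← ht]; exact pow_orderOf_eq_one t
  have hmod : t ^ (k % 3) = t ^ k := by
    have := zpow_mod_orderOf t k
    rw [ht] at this
    exact_mod_cast this
  have h0 : 0 ≤ k % 3 := Int.emod_nonneg _ (by norm_num)
  have h2 : k % 3 < 3 := Int.emod_lt_of_pos _ (by norm_num)
  rw [← hmod]
  obtain h | h | h : k % 3 = 0 ∨ k % 3 = 1 ∨ k % 3 = 2 := by omega
  · left; rw [h, zpow_zero]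
  · right; left; rw [h, zpow_one]
  · right; right
    rw [h, eq_inv_iff_mul_eq_one]
    have : t ^ (2:ℤ) * t = t ^ 3 := by
      rw [show (2:ℤ) = ((2:ℕ):ℤ) by norm_num, zpow_natCast, ← pow_succ]
    rw [this, h3]

/-- an element of `T` which is an involution is trivial -/
theorem grpa_eq_one_of_sq (h : Hyp T) {v : G} (hv : v ∈ (T : Subgroup G)) (hvv : v * v = 1) : v = 1 := by
  have h3 := h.exp v hv
  have : v ^ 3 = v * v * v := by rw [pow_succ, pow_two]
  rw [this, hvv, one_mul] at h3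
  exact h3

/-- a `2`-element of the normalizer is an involution -/
theorem grpa_sq_one (h : Hyp T) {v : G}
    (hv : v ∈ Subgroup.normalizer ((T : Subgroup G) : Set G)) (hv4 : v ^ 4 = 1) : v * v = 1 := by
  have hT := h.sq v hv
  apply grpa_eq_one_of_sq h hT
  have : v * v * (v * v) = v ^ 4 := by
    simp only [pow_succ, pow_zero, one_mul, mul_assoc]
  rw [this, hv4]

/-- conjugates stay in `T` -/
theorem grpa_conj_mem {v t : G} (hv : v ∈ Subgroup.normalizer ((T : Subgroup G) : Set G))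
    (ht : t ∈ (T : Subgroup G)) : v * t * v⁻¹ ∈ (T : Subgroup G) :=
  (Subgroup.mem_normalizer_iff.mp hv t).mp ht

/-- faithfulness -/
theorem grpa_faithful (h : Hyp T) {v : G}
    (hvv : v * v = 1) (hc : ∀ t ∈ (T : Subgroup G), v * t * v⁻¹ = t) : v = 1 := by
  have hmem : v ∈ Subgroup.centralizer ((T : Subgroup G) : Set G) := by
    rw [Subgroup.mem_centralizer_iff]
    intro t ht
    have := hc t ht
    have h2 : v * t = t * v := by
      calc v * t = v * t * v⁻¹ * v := by group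
        _ = t * v := by rw [this]
    exact h2.symm
  rw [h.cent] at hmem
  exact grpa_eq_one_of_sq h hmem hvv

/-- the decomposition of `T` under an involution of the normalizer -/
theorem grpa_decomp (h : Hyp T) {v : G}
    (hv : v ∈ Subgroup.normalizer ((T : Subgroup G) : Set G)) (hvv : v * v = 1)
    {t : G} (ht : t ∈ (T : Subgroup G)) :
    ∃ tp tm : G, tp ∈ (T : Subgroup G) ∧ tm ∈ (T : Subgroup G) ∧ v * tp * v⁻¹ = tp ∧
      v * tm * v⁻¹ = tm⁻¹ ∧ t = (tp * tm) * (tp * tm) := by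
  have hinv : v⁻¹ = v := inv_eq_of_mul_eq_one_left hvv
  set s := v * t * v⁻¹ with hs
  have hsT : s ∈ (T : Subgroup G) := grpa_conj_mem hv ht
  have hvs : v * s * v⁻¹ = t := by
    rw [hs, hinv]
    calc v * (v * t * v) * v = (v * v) * t * (v * v) := by group
      _ = t := by rw [hvv, one_mul, mul_one]
  have hts : t * s = s * t := h.comm t ht s hsT
  have hsiT : s⁻¹ ∈ (T : Subgroup G) := (T : Subgroup G).inv_mem hsT
  have htsi : t * s⁻¹ = s⁻¹ * t := h.comm t ht s⁻¹ hsiT
  refine ⟨t * s, t * s⁻¹, (T : Subgroup G).mul_mem ht hsT, (T : Subgroup G).mul_mem ht hsiT, ?_, ?_, ?_⟩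
  · calc v * (t * s) * v⁻¹ = (v * t * v⁻¹) * (v * s * v⁻¹) := by group
      _ = s * t := by rw [hvs]
      _ = t * s := hts.symm
  · calc v * (t * s⁻¹) * v⁻¹ = (v * t * v⁻¹) * (v * s * v⁻¹)⁻¹ := by group
      _ = s * t⁻¹ := by rw [hvs]
      _ = (t * s⁻¹)⁻¹ := by group
  · have h3 := h.exp t ht
    have e1 : t * s * (t * s⁻¹) = t * t := by
      calc t * s * (t * s⁻¹) = t * (s * t) * s⁻¹ := by group
        _ = t * (t * s) * s⁻¹ := by rw [hts]
        _ = t * t := by group
    rw [e1]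
    have : t * t * (t * t) = t ^ 3 * t := by
      simp only [pow_succ, pow_zero, one_mul, mul_assoc]
    rw [this, h3, one_mul]

/-- a Klein four-group inside the normalizer -/
theorem grpa_exists_four (h : Hyp T) :
    ∃ x y : G, x ∈ Subgroup.normalizer ((T : Subgroup G) : Set G) ∧
      y ∈ Subgroup.normalizer ((T : Subgroup G) : Set G) ∧ x * x = 1 ∧ y * y = 1 ∧
      x * y = y * x ∧ x ≠ 1 ∧ y ≠ 1 ∧ x ≠ y := by
  classical
  have hdvd : 2 ^ 2 ∣ Nat.card (Subgroup.normalizer ((T : Subgroup G) : Set G)) := by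
    rw [h.cardN]; norm_num
  haveI : Fact (Nat.Prime 2) := ⟨Nat.prime_two⟩
  obtain ⟨K, hK⟩ := Sylow.exists_subgroup_card_pow_prime 2 hdvd
  have hK4 : Nat.card K = 4 := by rw [hK]; norm_num
  haveI : Fintype K := Fintype.ofFinite K
  have hF : Fintype.card K = 4 := by rw [← Nat.card_eq_fintype_card]; exact hK4
  -- every element of K is an involution (in G)
  have hinv : ∀ k : K, ((k : Subgroup.normalizer ((T : Subgroup G) : Set G)) : G) *
      ((k : Subgroup.normalizer ((T : Subgroup G) : Set G)) : G) = 1 := by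
    intro k
    apply grpa_sq_one h (k : Subgroup.normalizer ((T : Subgroup G) : Set G)).2
    have : k ^ 4 = 1 := by
      rw [← hK4]; exact pow_card_eq_one'
    have h2 := congrArg (fun z : K => ((z : Subgroup.normalizer ((T : Subgroup G) : Set G)) : G)) this
    simpa using h2
  -- pick x ≠ 1
  have h1 : (1 : ℕ) < Fintype.card K := by rw [hF]; norm_num
  obtain ⟨x, hx⟩ := Fintype.exists_ne_of_one_lt_card h1 (1 : K)
  -- pick y outside {1, x}
  have hcard : ({1, x} : Finset K).card < (Finset.univ : Finset K).card := by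
    rw [Finset.card_univ, hF]
    calc ({1, x} : Finset K).card ≤ 2 := Finset.card_le_two
      _ < 4 := by norm_num
  obtain ⟨y, -, hy⟩ := Finset.exists_mem_notMem_of_card_lt_card hcard
  have hy1 : y ≠ 1 := fun e => hy (by rw [e]; simp)
  have hyx : y ≠ x := fun e => hy (by rw [e]; simp)
  refine ⟨((x : Subgroup.normalizer ((T : Subgroup G) : Set G)) : G),
    ((y : Subgroup.normalizer ((T : Subgroup G) : Set G)) : G),
    (x : Subgroup.normalizer ((T : Subgroup G) : Set G)).2,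
    (y : Subgroup.normalizer ((T : Subgroup G) : Set G)).2, hinv x, hinv y, ?_, ?_, ?_, ?_⟩
  · -- commutativity from (xy)^2 = 1
    have hxy := hinv (x * y)
    simp only [Subgroup.coe_mul] at hxy
    set a := ((x : Subgroup.normalizer ((T : Subgroup G) : Set G)) : G) with ha
    set b := ((y : Subgroup.normalizer ((T : Subgroup G) : Set G)) : G) with hb
    have haa : a * a = 1 := hinv x
    have hbb : b * b = 1 := hinv y
    calc a * b = a * (a * b * (a * b)) * b := by rw [hxy, mul_one]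
      _ = (a * a) * b * a * (b * b) := by group
      _ = b * a := by rw [haa, hbb, one_mul, mul_one]
  · intro e
    apply hx
    apply Subtype.ext; apply Subtype.ext
    simpa using e
  · intro e
    apply hy1
    apply Subtype.ext; apply Subtype.ext
    simpa using e
  · intro e
    apply hyx
    apply Subtype.ext; apply Subtype.ext
    simpa using e.symm

/-- the subgroup of `T` fixed by `b` -/
def grpaFix (T : Sylow 3 G) (b : G) : Subgroup G where
  carrier := {t | t ∈ (T : Subgroup G) ∧ b * t * b⁻¹ = t}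
  mul_mem' := by
    rintro s t ⟨hs, hs'⟩ ⟨ht, ht'⟩
    refine ⟨(T : Subgroup G).mul_mem hs ht, ?_⟩
    calc b * (s * t) * b⁻¹ = (b * s * b⁻¹) * (b * t * b⁻¹) := by group
      _ = s * t := by rw [hs', ht']
  one_mem' := ⟨(T : Subgroup G).one_mem, by group⟩
  inv_mem' := by
    rintro s ⟨hs, hs'⟩
    refine ⟨(T : Subgroup G).inv_mem hs, ?_⟩
    calc b * s⁻¹ * b⁻¹ = (b * s * b⁻¹)⁻¹ := by group
      _ = s⁻¹ := by rw [hs']

/-- the subgroup of `T` inverted by `b` -/
def grpaInv (h : Hyp T) (b : G) : Subgroup G where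
  carrier := {t | t ∈ (T : Subgroup G) ∧ b * t * b⁻¹ = t⁻¹}
  mul_mem' := by
    rintro s t ⟨hs, hs'⟩ ⟨ht, ht'⟩
    refine ⟨(T : Subgroup G).mul_mem hs ht, ?_⟩
    calc b * (s * t) * b⁻¹ = (b * s * b⁻¹) * (b * t * b⁻¹) := by group
      _ = s⁻¹ * t⁻¹ := by rw [hs', ht']
      _ = (t * s)⁻¹ := by group
      _ = (s * t)⁻¹ := by rw [h.comm t ht s hs]
  one_mem' := ⟨(T : Subgroup G).one_mem, by group⟩
  inv_mem' := by
    rintro s ⟨hs, hs'⟩
    refine ⟨(T : Subgroup G).inv_mem hs, ?_⟩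
    calc b * s⁻¹ * b⁻¹ = (b * s * b⁻¹)⁻¹ := by group
      _ = s⁻¹⁻¹ := by rw [hs']

theorem grpa_card_three (h : Hyp T) (H : Subgroup G) (hH : H ≤ (T : Subgroup G))
    (hne : H ≠ (T : Subgroup G)) {t : G} (ht : t ∈ H) (ht1 : t ≠ 1) : Subgroup.zpowers t = H := by
  have hTt : t ∈ (T : Subgroup G) := hH ht
  have ho : orderOf t = 3 := by
    apply orderOf_eq_prime (h.exp t hTt) ht1
  have hz : Subgroup.zpowers t ≤ H := Subgroup.zpowers_le.mpr ht
  have hcz : Nat.card (Subgroup.zpowers t) = 3 := by rw [Nat.card_zpowers, ho]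
  have hd1 : Nat.card H ∣ 9 := by
    rw [← h.card]; exact Subgroup.card_dvd_of_le hH
  have hd2 : 3 ∣ Nat.card H := by
    rw [← hcz]; exact Subgroup.card_dvd_of_le hz
  have hle : Nat.card H ≤ 9 := Nat.le_of_dvd (by norm_num) hd1
  have hcases : Nat.card H = 3 ∨ Nat.card H = 9 := by
    obtain ⟨k, hk⟩ := hd2
    obtain ⟨m, hm⟩ := hd1
    have : k * m = 3 := by
      have : 3 * (k * m) = 3 * 3 := by
        calc 3 * (k * m) = (3 * k) * m := by ring
          _ = 9 := by rw [← hk, ← hm]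
          _ = 3 * 3 := by norm_num
      exact Nat.eq_of_mul_eq_mul_left (by norm_num) this
    have hk3 : k ∣ 3 := ⟨m, this.symm⟩
    have : k = 1 ∨ k = 3 := (Nat.dvd_prime Nat.prime_three).mp hk3
    rcases this with rfl | rfl
    · left; omega
    · right; omega
  rcases hcases with h3 | h9
  · exact Subgroup.eq_of_le_of_card_ge hz (by rw [hcz, h3])
  · exfalso
    apply hne
    exact Subgroup.eq_of_le_of_card_ge hH (by rw [h.card, h9])

/-- main construction from a good pair of involutions -/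
theorem grpa_main (h : Hyp T) {a0 b : G}
    (ha0 : a0 ∈ Subgroup.normalizer ((T : Subgroup G) : Set G))
    (hb : b ∈ Subgroup.normalizer ((T : Subgroup G) : Set G))
    (haa : a0 * a0 = 1) (hbb : b * b = 1) (hab : a0 * b = b * a0)
    (ha1 : a0 ≠ 1) (hb1 : b ≠ 1) (hne : a0 ≠ b)
    {t1 : G} (ht1 : t1 ∈ (T : Subgroup G)) (ht1ne : t1 ≠ 1) (hfix : b * t1 * b⁻¹ = t1) :
    Nonempty (Cfg T) := by
  classical
  have hbinv : b⁻¹ = b := inv_eq_of_mul_eq_one_left hbb
  have hainv : a0⁻¹ = a0 := inv_eq_of_mul_eq_one_left haa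
  -- existence of an inverted element
  obtain ⟨t2, ht2, ht2ne, hinvt2⟩ : ∃ t2 : G, t2 ∈ (T : Subgroup G) ∧ t2 ≠ 1 ∧ b * t2 * b⁻¹ = t2⁻¹ := by
    by_contra hcon
    push Not at hcon
    apply hb1
    apply grpa_faithful h hbb
    intro t ht
    obtain ⟨tp, tm, htp, htm, hp, hm, e⟩ := grpa_decomp h hb hbb ht
    have htm1 : tm = 1 := by
      by_contra hne'
      exact hcon tm htm hne' hm
    rw [htm1, mul_one] at e
    rw [e]
    calc b * (tp * tp) * b⁻¹ = (b * tp * b⁻¹) * (b * tp * b⁻¹) := by group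
      _ = tp * tp := by rw [hp]
  have ho1 : orderOf t1 = 3 := orderOf_eq_prime (h.exp t1 ht1) ht1ne
  have ho2 : orderOf t2 = 3 := orderOf_eq_prime (h.exp t2 ht2) ht2ne
  -- the fixed subgroup is zpowers t1
  have hFle : grpaFix T b ≤ (T : Subgroup G) := fun t ht => ht.1
  have hFne : grpaFix T b ≠ (T : Subgroup G) := by
    intro e
    apply hb1
    apply grpa_faithful h hbb
    intro t ht
    have : t ∈ grpaFix T b := by rw [e]; exact ht
    exact this.2
  have hF : Subgroup.zpowers t1 = grpaFix T b :=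
    grpa_card_three h _ hFle hFne (t := t1) ⟨ht1, hfix⟩ ht1ne
  have hIle : grpaInv h b ≤ (T : Subgroup G) := fun t ht => ht.1
  have hIne : grpaInv h b ≠ (T : Subgroup G) := by
    intro e
    have : t1 ∈ grpaInv h b := by rw [e]; exact ht1
    have h2 : t1 = t1⁻¹ := by rw [← this.2, hfix]
    apply ht1ne
    apply grpa_eq_one_of_sq h ht1
    calc t1 * t1 = t1 * t1⁻¹ := by rw [← h2]
      _ = 1 := mul_inv_cancel t1
  have hI : Subgroup.zpowers t2 = grpaInv h b :=
    grpa_card_three h _ hIle hIne (t := t2) ⟨ht2, hinvt2⟩ ht2ne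
  -- independence
  have hind : t2 ∉ Subgroup.zpowers t1 := by
    intro hmem
    rw [hF] at hmem
    have h2 : t2 = t2⁻¹ := by rw [← hinvt2, hmem.2]
    apply ht2ne
    apply grpa_eq_one_of_sq h ht2
    calc t2 * t2 = t2 * t2⁻¹ := by rw [← h2]
      _ = 1 := mul_inv_cancel t2
  -- anything commuting with b and normalizing T preserves both parts
  have hpres1 : ∀ v : G, v ∈ Subgroup.normalizer ((T : Subgroup G) : Set G) → v * b = b * v →
      v * t1 * v⁻¹ = t1 ∨ v * t1 * v⁻¹ = t1⁻¹ := by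
    intro v hv hvb
    have hmem : v * t1 * v⁻¹ ∈ grpaFix T b := by
      refine ⟨grpa_conj_mem hv ht1, ?_⟩
      calc b * (v * t1 * v⁻¹) * b⁻¹ = (b * v) * t1 * (b * v)⁻¹ := by group
        _ = (v * b) * t1 * (v * b)⁻¹ := by rw [hvb]
        _ = v * (b * t1 * b⁻¹) * v⁻¹ := by group
        _ = v * t1 * v⁻¹ := by rw [hfix]
    rw [← hF] at hmem
    rcases grpa_mem_zpowers_three ho1 hmem with e | e | e
    · exfalso
      apply ht1ne
      have : t1 = v⁻¹ * (v * t1 * v⁻¹) * v := by group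
      rw [this, e]; group
    · left; exact e
    · right; exact e
  have hpres2 : ∀ v : G, v ∈ Subgroup.normalizer ((T : Subgroup G) : Set G) → v * b = b * v →
      v * t2 * v⁻¹ = t2 ∨ v * t2 * v⁻¹ = t2⁻¹ := by
    intro v hv hvb
    have hmem : v * t2 * v⁻¹ ∈ grpaInv h b := by
      refine ⟨grpa_conj_mem hv ht2, ?_⟩
      calc b * (v * t2 * v⁻¹) * b⁻¹ = (b * v) * t2 * (b * v)⁻¹ := by group
        _ = (v * b) * t2 * (v * b)⁻¹ := by rw [hvb]
        _ = v * (b * t2 * b⁻¹) * v⁻¹ := by group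
        _ = v * t2⁻¹ * v⁻¹ := by rw [hinvt2]
        _ = (v * t2 * v⁻¹)⁻¹ := by group
    rw [← hI] at hmem
    rcases grpa_mem_zpowers_three ho2 hmem with e | e | e
    · exfalso
      apply ht2ne
      have : t2 = v⁻¹ * (v * t2 * v⁻¹) * v := by group
      rw [this, e]; group
    · left; exact e
    · right; exact e
  -- something centralizing t1 and t2 centralizes T
  have hgen : ∀ v : G, v * t1 * v⁻¹ = t1 → v * t2 * v⁻¹ = t2 →
      ∀ t ∈ (T : Subgroup G), v * t * v⁻¹ = t := by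
    intro v hv1 hv2 t ht
    have hc : ∀ g : G, g ∈ Subgroup.centralizer ({v} : Set G) ↔ v * g * v⁻¹ = g := by
      intro g
      rw [Subgroup.mem_centralizer_iff]
      constructor
      · intro hg
        have := hg v (Set.mem_singleton v)
        calc v * g * v⁻¹ = g * v * v⁻¹ := by rw [this]
          _ = g := by group
      · intro hg x hx
        rw [Set.mem_singleton_iff] at hx
        rw [hx]
        calc v * g = v * g * v⁻¹ * v := by group
          _ = g * v := by rw [hg]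
    have hz1 : Subgroup.zpowers t1 ≤ Subgroup.centralizer ({v} : Set G) :=
      Subgroup.zpowers_le.mpr ((hc t1).mpr hv1)
    have hz2 : Subgroup.zpowers t2 ≤ Subgroup.centralizer ({v} : Set G) :=
      Subgroup.zpowers_le.mpr ((hc t2).mpr hv2)
    obtain ⟨tp, tm, htp, htm, hp, hm, e⟩ := grpa_decomp h hb hbb ht
    have htp' : tp ∈ Subgroup.centralizer ({v} : Set G) := by
      apply hz1; rw [hF]; exact ⟨htp, hp⟩
    have htm' : tm ∈ Subgroup.centralizer ({v} : Set G) := by
      apply hz2; rw [hI]; exact ⟨htm, hm⟩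
    rw [← hc, e]
    exact Subgroup.mul_mem _ (Subgroup.mul_mem _ htp' htm') (Subgroup.mul_mem _ htp' htm')
  -- the four cases for a0
  have hab' : a0 * b = b * a0 := hab
  rcases hpres1 a0 ha0 hab with e1 | e1 <;> rcases hpres2 a0 ha0 hab with e2 | e2
  · -- a0 centralizes T
    exfalso
    exact ha1 (grpa_faithful h haa (hgen a0 e1 e2))
  · -- a0 acts like b
    exfalso
    have hprod : (a0 * b) * (a0 * b) = 1 := by
      calc (a0 * b) * (a0 * b) = a0 * (b * a0) * b := by group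
        _ = a0 * (a0 * b) * b := by rw [hab]
        _ = (a0 * a0) * (b * b) := by group
        _ = 1 := by rw [haa, hbb, one_mul]
    have hc1 : (a0 * b) * t1 * (a0 * b)⁻¹ = t1 := by
      calc (a0 * b) * t1 * (a0 * b)⁻¹ = a0 * (b * t1 * b⁻¹) * a0⁻¹ := by group
        _ = t1 := by rw [hfix, e1]
    have hc2 : (a0 * b) * t2 * (a0 * b)⁻¹ = t2 := by
      calc (a0 * b) * t2 * (a0 * b)⁻¹ = a0 * (b * t2 * b⁻¹) * a0⁻¹ := by group
        _ = a0 * t2⁻¹ * a0⁻¹ := by rw [hinvt2]
        _ = (a0 * t2 * a0⁻¹)⁻¹ := by group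
        _ = t2 := by rw [e2, inv_inv]
    have : a0 * b = 1 := grpa_faithful h hprod (hgen (a0 * b) hc1 hc2)
    apply hne
    calc a0 = a0 * b * b⁻¹ := by group
      _ = b := by rw [this, one_mul, hbinv]
  · -- a0 is the right one
    exact ⟨{ t1 := t1, t2 := t2, a := a0, b := b, ht1 := ht1, ht2 := ht2, o1 := ho1, o2 := ho2,
             ind := hind, ha := ha0, hb := hb, a1 := e1, a2 := e2, b1 := hfix, b2 := hinvt2,
             aa := haa, bb := hbb, ab := hab }⟩
  · -- a0 * b is the right one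
    have hmem : a0 * b ∈ Subgroup.normalizer ((T : Subgroup G) : Set G) := Subgroup.mul_mem _ ha0 hb
    have hprod : (a0 * b) * (a0 * b) = 1 := by
      calc (a0 * b) * (a0 * b) = a0 * (b * a0) * b := by group
        _ = a0 * (a0 * b) * b := by rw [hab]
        _ = (a0 * a0) * (b * b) := by group
        _ = 1 := by rw [haa, hbb, one_mul]
    have hc1 : (a0 * b) * t1 * (a0 * b)⁻¹ = t1⁻¹ := by
      calc (a0 * b) * t1 * (a0 * b)⁻¹ = a0 * (b * t1 * b⁻¹) * a0⁻¹ := by group
        _ = t1⁻¹ := by rw [hfix, e1]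
    have hc2 : (a0 * b) * t2 * (a0 * b)⁻¹ = t2 := by
      calc (a0 * b) * t2 * (a0 * b)⁻¹ = a0 * (b * t2 * b⁻¹) * a0⁻¹ := by group
        _ = a0 * t2⁻¹ * a0⁻¹ := by rw [hinvt2]
        _ = (a0 * t2 * a0⁻¹)⁻¹ := by group
        _ = t2 := by rw [e2, inv_inv]
    have hcomm : (a0 * b) * b = b * (a0 * b) := by
      calc (a0 * b) * b = (b * a0) * b := by rw [hab]
        _ = b * (a0 * b) := by group
    exact ⟨{ t1 := t1, t2 := t2, a := a0 * b, b := b, ht1 := ht1, ht2 := ht2, o1 := ho1, o2 := ho2,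
             ind := hind, ha := hmem, hb := hb, a1 := hc1, a2 := hc2, b1 := hfix, b2 := hinvt2,
             aa := hprod, bb := hbb, ab := hcomm }⟩

/-- PIECE GRPA: the `S₃ × S₃` configuration exists -/
theorem exists_cfg (h : Hyp T) : Nonempty (Cfg T) := by
  classical
  obtain ⟨x, y, hxN, hyN, hxx, hyy, hxy, hx1, hy1, hxne⟩ := grpa_exists_four h
  by_cases hx : ∃ t ∈ (T : Subgroup G), t ≠ 1 ∧ x * t * x⁻¹ = t
  · obtain ⟨t1, ht1, ht1ne, hfix⟩ := hx
    exact grpa_main h hyN hxN hyy hxx hxy.symm hy1 hx1 (Ne.symm hxne) ht1 ht1ne hfix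
  by_cases hy : ∃ t ∈ (T : Subgroup G), t ≠ 1 ∧ y * t * y⁻¹ = t
  · obtain ⟨t1, ht1, ht1ne, hfix⟩ := hy
    exact grpa_main h hxN hyN hxx hyy hxy hx1 hy1 hxne ht1 ht1ne hfix
  exfalso
  push Not at hx hy
  -- both invert T
  have inv_of : ∀ v : G, v ∈ Subgroup.normalizer ((T : Subgroup G) : Set G) → v * v = 1 →
      (∀ t ∈ (T : Subgroup G), t ≠ 1 → v * t * v⁻¹ ≠ t) →
      ∀ t ∈ (T : Subgroup G), v * t * v⁻¹ = t⁻¹ := by
    intro v hv hvv hno t ht
    obtain ⟨tp, tm, htp, htm, hp, hm, e⟩ := grpa_decomp h hv hvv ht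
    have htp1 : tp = 1 := by
      by_contra hne'
      exact hno tp htp hne' hp
    rw [htp1, one_mul] at e
    rw [e]
    calc v * (tm * tm) * v⁻¹ = (v * tm * v⁻¹) * (v * tm * v⁻¹) := by group
      _ = tm⁻¹ * tm⁻¹ := by rw [hm]
      _ = (tm * tm)⁻¹ := by group
  have hxi := inv_of x hxN hxx hx
  have hyi := inv_of y hyN hyy hy
  have hprod : (x * y) * (x * y) = 1 := by
    calc (x * y) * (x * y) = x * (y * x) * y := by group
      _ = x * (x * y) * y := by rw [hxy]
      _ = (x * x) * (y * y) := by group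
      _ = 1 := by rw [hxx, hyy, one_mul]
  have hcent : ∀ t ∈ (T : Subgroup G), (x * y) * t * (x * y)⁻¹ = t := by
    intro t ht
    have hti : t⁻¹ ∈ (T : Subgroup G) := (T : Subgroup G).inv_mem ht
    calc (x * y) * t * (x * y)⁻¹ = x * (y * t * y⁻¹) * x⁻¹ := by group
      _ = x * t⁻¹ * x⁻¹ := by rw [hyi t ht]
      _ = t⁻¹⁻¹ := hxi t⁻¹ hti
      _ = t := inv_inv t
  have h1 : x * y = 1 := grpa_faithful h hprod hcent
  apply hxne
  have hyinv : y⁻¹ = y := inv_eq_of_mul_eq_one_left hyy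
  calc x = x * y * y⁻¹ := by group
    _ = y := by rw [h1, one_mul, hyinv]

end GRPA

end Cfsg.Agent.Helper16.KF9
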