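import Mathlib
import Cfsg.Prelude.Def_FusionSystem
import Cfsg.Agent.Lib.Helper25.Fusion

/-!
# Subsystems of `p`-power index: the interface with the group of the characteristic biset

`Park p F M ι V`: the saturated fusion system `F` over `S` is realized by `ι : S →* 𝒢` (`𝒢` a finite
group, `ι S` not necessarily a Sylow subgroup), and `V : 𝒢 →* C` is a homomorphism to a commutative
group of exponent `p` whose kernel meets `ι S` in `ι M`, with `𝒢 = ι(S) ker V`, and killing the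
centralizers of the `ι Q` for the deep subgroups `Q ≤ M`.

`grpSys ι K M`: the fusion system over `M` of the conjugations by the elements of `K ≤ 𝒢`.
-/

set_option autoImplicit false

namespace Cfsg.Agent.Helper3.PPow

open Cfsg Cfsg.FusionSystem Cfsg.Agent.Helper25

universe u v w

variable {Ω : Type u} [Group Ω] {S : Subgroup Ω}

/-- `Q` is deep with respect to `M`: the centralizer in `S` of every `F`-conjugate of `Q` lies in `M`. -/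
def Deep (F : FusionSystem S) (M Q : Subgroup Ω) : Prop :=
  ∀ ρ : Q →* Ω, ρ ∈ F.Hom Q → ∀ d ∈ S, (∀ x : Q, d * ρ x = ρ x * d) → d ∈ M

/-- The data extracted from the characteristic biset. -/
structure Park (p : ℕ) (F : FusionSystem S) (M : Subgroup Ω) {𝒢 : Type v} [Group 𝒢] (ι : S →* 𝒢)
    {C : Type w} [CommGroup C] (V : 𝒢 →* C) : Prop where
  le : M ≤ S
  real : F.IsRealizedBy ι
  exp : ∀ x : C, x ^ p = 1
  mem_iff : ∀ g : S, V (ι g) = 1 ↔ (g : Ω) ∈ M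
  gen : ∀ f : 𝒢, ∃ g : S, V (ι g) = V f
  idx : ∀ z : S, (z : Ω) ∉ M → ∀ g : S, ∃ i : ℕ, ((g * z ^ i : S) : Ω) ∈ M
  cent : ∀ Q : Subgroup Ω, Q ≤ M → Deep F M Q → ∀ c : 𝒢,
    (∀ (x : Q) (hx : (x : Ω) ∈ S), c * ι ⟨x, hx⟩ = ι ⟨x, hx⟩ * c) → V c = 1

variable {𝒢 : Type v} [Group 𝒢]

/-- The fusion system over `M ≤ S` of the conjugations by the elements of `K ≤ 𝒢`, read through the
injective homomorphism `ι : S →* 𝒢`. -/
def grpSys (ι : S →* 𝒢) (hι : Function.Injective ι) (K : Subgroup 𝒢) (M : Subgroup Ω) (hMS : M ≤ S)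
    (hMK : ∀ g : S, (g : Ω) ∈ M → ι g ∈ K) : FusionSystem M where
  Hom P := {φ | P ≤ M ∧ (∀ x : P, φ x ∈ M) ∧ ∃ k ∈ K, ∀ (x : P) (hx : (x : Ω) ∈ S) (hφ : φ x ∈ S),
    ι ⟨φ x, hφ⟩ = k * ι ⟨x, hx⟩ * k⁻¹}
  le_of_mem h := ⟨h.1, h.2.1⟩
  injective_of_mem := by
    rintro P φ ⟨hPM, hφM, k, -, hk⟩ x y hxy
    have hx := hk x (hMS (hPM x.2)) (hMS (hφM x))
    have hy := hk y (hMS (hPM y.2)) (hMS (hφM y))
    have e : (⟨φ x, hMS (hφM x)⟩ : S) = ⟨φ y, hMS (hφM y)⟩ := Subtype.ext hxy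
    rw [e, hy] at hx
    have h1 : ι ⟨y, hMS (hPM y.2)⟩ = ι ⟨x, hMS (hPM x.2)⟩ := by
      have := congrArg (fun t => k⁻¹ * t * k) hx
      simpa [mul_assoc] using this
    have h2 := hι h1
    exact Subtype.ext (congrArg (fun t : S => (t : Ω)) h2).symm
  conj_mem := by
    intro P g hPM hgM
    refine ⟨hPM, fun x => ?_, ι ⟨g, hMS hgM⟩, hMK _ hgM, fun x hx hφ => ?_⟩
    · exact M.mul_mem (M.mul_mem hgM (hPM x.2)) (M.inv_mem hgM)
    · rw [← map_inv, ← map_mul, ← map_mul]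
      rfl
  comp_mem := by
    rintro P Q φ ψ ⟨hPM, hφM, k, hkK, hk⟩ ⟨hQM, hψM, k', hk'K, hk'⟩ h
    refine ⟨hPM, fun x => hψM _, k' * k, K.mul_mem hk'K hkK, fun x hx hφ => ?_⟩
    have h1 := hk x hx (hMS (hφM x))
    have h2 := hk' ⟨φ x, h x⟩ (hMS (hφM x)) hφ
    show ι ⟨ψ ⟨φ x, h x⟩, hφ⟩ = _
    rw [h2, h1, mul_inv_rev]
    simp only [mul_assoc]
  inv_mem := by
    rintro P φ ⟨hPM, hφM, k, hkK, hk⟩
    have hinj : Function.Injective φ := by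
      intro x y hxy
      have hx := hk x (hMS (hPM x.2)) (hMS (hφM x))
      have hy := hk y (hMS (hPM y.2)) (hMS (hφM y))
      have e : (⟨φ x, hMS (hφM x)⟩ : S) = ⟨φ y, hMS (hφM y)⟩ := Subtype.ext hxy
      rw [e, hy] at hx
      have h1 : ι ⟨y, hMS (hPM y.2)⟩ = ι ⟨x, hMS (hPM x.2)⟩ := by
        have := congrArg (fun t => k⁻¹ * t * k) hx
        simpa [mul_assoc] using this
      have h2 := hι h1
      exact Subtype.ext (congrArg (fun t : S => (t : Ω)) h2).symm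
    let e : P ≃* φ.range := MonoidHom.ofInjective hinj
    have he : ∀ x : P, e.symm ⟨φ x, ⟨x, rfl⟩⟩ = x := fun x => e.symm_apply_apply x
    refine ⟨P.subtype.comp e.symm.toMonoidHom, ⟨?_, fun y => hPM (e.symm y).2, k⁻¹, K.inv_mem hkK,
      ?_⟩, fun x => ?_⟩
    · rintro _ ⟨x, rfl⟩
      exact hφM x
    · rintro ⟨_, x, rfl⟩ hx hφ
      have h1 := hk x (hMS (hPM x.2)) hx
      have h2 : ((P.subtype.comp e.symm.toMonoidHom) ⟨φ x, ⟨x, rfl⟩⟩ : Ω) = x := by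
        show ((e.symm ⟨φ x, ⟨x, rfl⟩⟩ : P) : Ω) = x
        rw [he]
      have h3 : (⟨(P.subtype.comp e.symm.toMonoidHom) ⟨φ x, ⟨x, rfl⟩⟩, hφ⟩ : S) =
          ⟨x, hMS (hPM x.2)⟩ := Subtype.ext h2
      rw [h3, h1, inv_inv]
      simp only [mul_assoc, inv_mul_cancel_left, inv_mul_cancel, mul_one]
    · show ((e.symm ⟨φ x, ⟨x, rfl⟩⟩ : P) : Ω) = x
      rw [he]

theorem mem_grpSys {ι : S →* 𝒢} {hι : Function.Injective ι} {K : Subgroup 𝒢} {M : Subgroup Ω}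
    {hMS : M ≤ S} {hMK : ∀ g : S, (g : Ω) ∈ M → ι g ∈ K} {P : Subgroup Ω} {φ : P →* Ω} :
    φ ∈ (grpSys ι hι K M hMS hMK).Hom P ↔ P ≤ M ∧ (∀ x : P, φ x ∈ M) ∧
      ∃ k ∈ K, ∀ (x : P) (hx : (x : Ω) ∈ S) (hφ : φ x ∈ S), ι ⟨φ x, hφ⟩ = k * ι ⟨x, hx⟩ * k⁻¹ :=
  Iff.rfl

/-- The candidate subsystem of `p`-power index attached to the data. -/
def Park.sys {p : ℕ} {F : FusionSystem S} {M : Subgroup Ω} {ι : S →* 𝒢} {C : Type w} [CommGroup C]
    {V : 𝒢 →* C} (h : Park p F M ι V) : FusionSystem M :=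
  grpSys ι h.real.1 V.ker M h.le (fun g hg => MonoidHom.mem_ker.2 ((h.mem_iff g).2 hg))

theorem Park.mem_sys {p : ℕ} {F : FusionSystem S} {M : Subgroup Ω} {ι : S →* 𝒢} {C : Type w}
    [CommGroup C] {V : 𝒢 →* C} (h : Park p F M ι V) {P : Subgroup Ω} {φ : P →* Ω} :
    φ ∈ h.sys.Hom P ↔ P ≤ M ∧ (∀ x : P, φ x ∈ M) ∧
      ∃ k : 𝒢, V k = 1 ∧ ∀ (x : P) (hx : (x : Ω) ∈ S) (hφ : φ x ∈ S),
        ι ⟨φ x, hφ⟩ = k * ι ⟨x, hx⟩ * k⁻¹ := by
  unfold Park.sys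
  rw [mem_grpSys]
  simp only [MonoidHom.mem_ker]

end Cfsg.Agent.Helper3.PPow
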