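import Mathlib
import Cfsg.Agent.Lib.Helper23.ZS4Defs

/-!
# S3222 piece INVOLM (helper3): `invol_CM_le`.
-/

set_option autoImplicit false

namespace Cfsg.Agent.Helper23.ZS4

variable {G : Type*} [Group G]

/-- PIECE INVOLM. -/
theorem invol_CM_le {t z v τ : G} {T : Subgroup G} (L : Loc t z v τ T) (M : Subgroup G)
    (hM2 : M.index = 2) (htM : t ∉ M) :
    Set.ncard {x : G | x ∈ Subgroup.centralizer ({t} : Set G) ∧ x ∈ M ∧ orderOf x = 2} ≤ 9 := by
  classical
  set U : Set G := {x : G | x ∈ Subgroup.centralizer ({t} : Set G) ∧ orderOf x = 2} with hU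
  set A : Set G := {x : G | x ∈ Subgroup.centralizer ({t} : Set G) ∧ x ∈ M ∧ orderOf x = 2} with hA
  have hUfin : U.Finite := by
    apply Set.finite_of_ncard_ne_zero
    rw [L.invol_C]; norm_num
  have ht2 : t * t = 1 := by
    have := pow_orderOf_eq_one t
    rw [L.ht, pow_two] at this
    exact this
  have ht1 : t ≠ 1 := by
    intro h
    have := L.ht
    rw [h, orderOf_one] at this
    norm_num at this
  have htC : t ∈ Subgroup.centralizer ({t} : Set G) := by
    rw [Subgroup.mem_centralizer_iff]
    intro x hx
    rw [Set.mem_singleton_iff] at hx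
    rw [hx]
  -- B = image of A under x ↦ t * x
  set B : Set G := (fun x => t * x) '' A with hB
  have hAU : A ⊆ U := fun x hx => ⟨hx.1, hx.2.2⟩
  have hBU : B ⊆ U := by
    rintro y ⟨x, hx, rfl⟩
    obtain ⟨hxC, hxM, hx2⟩ := hx
    have hcomm : t * x = x * t := by
      have := (Subgroup.mem_centralizer_iff.mp hxC) t (Set.mem_singleton t)
      exact this
    have hxx : x * x = 1 := by
      have := pow_orderOf_eq_one x
      rw [hx2, pow_two] at this
      exact this
    refine ⟨Subgroup.mul_mem _ htC hxC, ?_⟩
    rw [orderOf_eq_iff (by norm_num)]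
    constructor
    · rw [pow_two]
      calc t * x * (t * x) = t * x * (x * t) := by rw [hcomm]
        _ = t * (x * x) * t := by group
        _ = 1 := by rw [hxx, mul_one, ht2]
    · intro m hm hm0
      have hm1 : m = 1 := by omega
      subst hm1
      rw [pow_one]
      intro h
      have hxt : x = t := by
        have : x = t⁻¹ := by
          rw [eq_inv_iff_mul_eq_one, ← hcomm]; exact h
        rw [this]
        exact inv_eq_of_mul_eq_one_right ht2
      exact htM (hxt ▸ hxM)
  have hAfin : A.Finite := hUfin.subset hAU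
  have hBfin : B.Finite := hUfin.subset hBU
  have hcardB : B.ncard = A.ncard := by
    rw [hB]
    apply Set.ncard_image_of_injective
    intro a b hab
    exact mul_left_cancel hab
  -- A, B, {t} pairwise disjoint
  have hBM : ∀ y ∈ B, y ∉ M := by
    rintro y ⟨x, hx, rfl⟩
    rw [Subgroup.mul_mem_iff_of_index_two hM2]
    intro h
    exact htM (h.mpr hx.2.1)
  have hBt : ∀ y ∈ B, y ≠ t := by
    rintro y ⟨x, hx, rfl⟩ h
    have hx1 : x = 1 := by
      have h' : t * x = t := h
      have : t * x = t * 1 := by rw [h', mul_one]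
      exact mul_left_cancel this
    have := hx.2.2
    rw [hx1, orderOf_one] at this
    norm_num at this
  have hdisj : Disjoint A B := by
    rw [Set.disjoint_left]
    intro x hxA hxB
    exact hBM x hxB hxA.2.1
  have htU : t ∈ U := ⟨htC, L.ht⟩
  have htA : t ∉ A := fun h => htM h.2.1
  have htB : t ∉ B := fun h => hBt t h rfl
  have hsub : insert t (A ∪ B) ⊆ U := by
    intro x hx
    rcases hx with rfl | hx | hx
    · exact htU
    · exact hAU hx
    · exact hBU hx
  have hle : (insert t (A ∪ B)).ncard ≤ U.ncard := Set.ncard_le_ncard hsub hUfin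
  have hun : (A ∪ B).ncard = A.ncard + B.ncard := Set.ncard_union_eq hdisj hAfin hBfin
  have hins : (insert t (A ∪ B)).ncard = (A ∪ B).ncard + 1 := by
    apply Set.ncard_insert_of_notMem
    · intro h
      rcases h with h | h
      · exact htA h
      · exact htB h
    · exact hAfin.union hBfin
  rw [hins, hun, hcardB, L.invol_C] at hle
  omega

end Cfsg.Agent.Helper23.ZS4
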