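import Mathlib
import Cfsg.Agent.Lib.Helper23.ZS4Defs

/-!
# S3222 piece MEMM (helper3): `mem_M`.
-/

set_option autoImplicit false

namespace Cfsg.Agent.Helper23.ZS4

variable {G : Type*} [Group G]

/-- aux: every commutator lies in a normal subgroup of index 2. -/
theorem memm_comm_mem (M : Subgroup G) [M.Normal] (hM2 : M.index = 2) (a b : G) :
    a * b * a⁻¹ * b⁻¹ ∈ M := by
  rw [Subgroup.mul_mem_iff_of_index_two hM2]
  constructor
  · intro h
    have : a⁻¹ * (a * b * a⁻¹) * a⁻¹⁻¹ ∈ M := Subgroup.Normal.conj_mem inferInstance _ h a⁻¹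
    have h2 : a⁻¹ * (a * b * a⁻¹) * a⁻¹⁻¹ = b := by group
    rw [h2] at this
    exact M.inv_mem this
  · intro h
    have hb : b ∈ M := by simpa using M.inv_mem h
    exact Subgroup.Normal.conj_mem inferInstance _ hb a

/-- PIECE MEMM. -/
theorem mem_M {t z v τ : G} {T : Subgroup G} (L : Loc t z v τ T) (M : Subgroup G) [M.Normal]
    (hM2 : M.index = 2) (htM : t ∉ M) :
    z ∈ M ∧ v ∈ M ∧ z * v ∈ M ∧ ∃ τ' : G, (τ' = τ ∨ τ' = t * τ) ∧ τ' ∈ M := by
  have hz : z ∈ M := by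
    have hle : ⁅T, T⁆ ≤ M := by
      rw [Subgroup.commutator_le]
      intro a _ b _
      rw [commutatorElement_def]
      exact memm_comm_mem M hM2 a b
    exact hle L.z_comm
  have hv : v ∈ M := by
    obtain ⟨c, _, hc⟩ := L.v_conj
    rw [hc]
    exact Subgroup.Normal.conj_mem inferInstance _ hz c
  refine ⟨hz, hv, M.mul_mem hz hv, ?_⟩
  by_cases hτ : τ ∈ M
  · exact ⟨τ, Or.inl rfl, hτ⟩
  · refine ⟨t * τ, Or.inr rfl, ?_⟩
    rw [Subgroup.mul_mem_iff_of_index_two hM2]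
    exact ⟨fun h => absurd h htM, fun h => absurd h hτ⟩

end Cfsg.Agent.Helper23.ZS4
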