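import Mathlib
import Cfsg.Agent.Lib.Helper18.BG13P4
import Cfsg.Agent.Lib.Helper14.BGUniqM
import Cfsg.Agent.Lib.Helper7.TypeP
import Cfsg.Agent.Lib.Helper22.BG13F
import Cfsg.Agent.Lib.Helper22.BG13F

/-!
# Bender-Glauberman 13.7 (S1428), the piece `q ∉ τ₂(H)` (helper3)

Setting of helper18's proof of S1428: `M`, `H` maximal, `q ∈ σ(M)`, `P` a nontrivial subgroup of
`H_σ`, `Q` a nontrivial Sylow `q`-subgroup of `M_σ ∩ H` centralizing `P`.  Then `q ∉ τ₂(H)`.

Proof.  Otherwise `C_{H_σ}(A) = 1` for every `A ≤ H` elementary abelian of order `q ^ 2` (S1417),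
so `Q` is cyclic; its subgroup `X` of order `q` lies in a complement `E` of `H_σ`, hence in the
normal `E_{q^2}`-subgroup of `E` (S1418), and `C_G(X) ≤ H` since `X` centralizes `P ≠ 1`.  For a Sylow
`q`-subgroup `T ≥ Q` of `M_σ` we get `C_T(X) ≤ M_σ ∩ H`, so `C_T(X) = Q`; the centre of `T` lies in
`C_T(X) = Q`, so contains `X`; hence `T = C_T(X) = Q` is a cyclic Sylow `q`-subgroup of `G`, while `H`
has `q`-rank 2.
-/

set_option autoImplicit false
set_option linter.style.haveILetI false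
set_option linter.unusedSectionVars false

namespace Cfsg.Agent.Helper3.BG13T2

open Cfsg Subgroup
open Cfsg.Agent.Helper14.BGTrans Cfsg.Agent.Helper14.BGUniq
open Cfsg.Agent.Helper10 (IsPiNum)
open Cfsg.Agent.Helper15 (IsSylowIn isSylowIn_of_sylow_le isSylowIn_map_subtype isSylowIn_top
  map_conj_eq_of_mem_normalizer map_conj_map_conj card_map_conj map_conj_one
  map_conj_map_conj_inv map_conj_inv_map_conj isPGroup_map_conj map_conj_mono
  map_conj_eq_self_of_mem exists_isSylowIn_ge exists_isSylowIn isSylowIn_of_not_dvd_relIndex)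
open Cfsg.Agent.Helper22.BG13
open Cfsg.Agent.Helper18.BG13P

universe u

variable {G : Type u} [Group G] [Finite G]

/-- a subgroup of exponent dividing `p` is a `p`-group -/
theorem isPGroup_of_pow_eq_one {H : Type*} [Group H] {p : ℕ} (A : Subgroup H)
    (hA : ∀ a ∈ A, a ^ p = 1) : IsPGroup p ↥A := by
  intro a
  refine ⟨1, ?_⟩
  rw [pow_one]
  exact Subtype.ext (by simpa using hA a a.2)

/-- for `p ∈ τ₂(M)` there is an elementary abelian subgroup of order `p ^ 2` in `M` -/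
theorem exists_elemAb_sq_of_mem_tau2 {M : Subgroup G} {p : ℕ} (hp : p ∈ tau2 M) :
    ∃ A : Subgroup G, A ≤ M ∧ IsElementaryAbelian p A ∧ Nat.card ↥A = p ^ 2 := by
  obtain ⟨hpp, -, hr2, hr1⟩ := hp
  haveI : Fact p.Prime := ⟨hpp⟩
  unfold PRankLE at hr1
  push Not at hr1
  obtain ⟨A₀, hc, he, hcard⟩ := hr1
  have hle := hr2 A₀ hc he
  obtain ⟨k, hk⟩ := (isPGroup_of_pow_eq_one A₀ he).exists_card_eq
  have hk2 : k = 2 := by
    rw [hk] at hcard hle
    have h1 : 1 < k := by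
      by_contra h
      push Not at h
      exact absurd (Nat.pow_le_pow_right hpp.pos h) (not_le.mpr hcard)
    have h2 : k ≤ 2 := (Nat.pow_le_pow_iff_right hpp.one_lt).mp hle
    omega
  refine ⟨A₀.map M.subtype, Subgroup.map_subtype_le _, ⟨?_, ?_⟩, ?_⟩
  · haveI := hc
    exact Subgroup.map_isMulCommutative A₀ M.subtype
  · rintro _ ⟨a, ha, rfl⟩
    have := he a ha
    simpa using congrArg Subtype.val this
  · rw [Subgroup.card_map_of_injective M.subtype_injective, hk, hk2]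

omit [Finite G] in
/-- a cyclic subgroup centralizes each of its subgroups -/
theorem le_centralizer_of_isCyclic {Q X : Subgroup G} (hQ : IsCyclic ↥Q) (hXQ : X ≤ Q) :
    Q ≤ centralizer (X : Set G) := by
  haveI := hQ
  intro a ha
  rw [Subgroup.mem_centralizer_iff]
  intro z hz
  have hcomm : ∀ a b : ↥Q, a * b = b * a := fun a b =>
    (IsCyclic.commGroup (α := ↥Q)).mul_comm a b
  have := congrArg Subtype.val (hcomm ⟨z, hXQ hz⟩ ⟨a, ha⟩)
  simpa using this

/-- a nontrivial `q`-subgroup has a subgroup of order `q` -/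
theorem exists_le_card_eq_prime {q : ℕ} [Fact q.Prime] {Z : Subgroup G} (hZ : IsPGroup q ↥Z)
    (hZ1 : Z ≠ ⊥) : ∃ X : Subgroup G, X ≤ Z ∧ Nat.card ↥X = q := by
  have hdvd : q ∣ Nat.card ↥Z := dvd_card_of_isPGroup_ne_bot hZ hZ1
  obtain ⟨x, hx⟩ := exists_prime_orderOf_dvd_card' q hdvd
  refine ⟨zpowers (x : G), ?_, ?_⟩
  · rw [Subgroup.zpowers_le]; exact x.2
  · rw [Nat.card_zpowers, Subgroup.orderOf_coe, hx]

/-- the centre of a nontrivial `q`-subgroup `T`, as a subgroup of `G` -/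
theorem exists_central_card_eq_prime {q : ℕ} [Fact q.Prime] {T : Subgroup G} (hT : IsPGroup q ↥T)
    (hT1 : T ≠ ⊥) : ∃ X : Subgroup G, X ≤ T ∧ Nat.card ↥X = q ∧ T ≤ centralizer (X : Set G) := by
  haveI : Nontrivial ↥T := (Subgroup.nontrivial_iff_ne_bot T).mpr hT1
  have hcn : Nontrivial ↥(center ↥T) := hT.center_nontrivial
  set Z := (center ↥T).map T.subtype with hZ
  have hZT : Z ≤ T := Subgroup.map_subtype_le _
  have hZ1 : Z ≠ ⊥ := by
    intro h
    have h2 := (Subgroup.map_eq_bot_iff_of_injective _ T.subtype_injective).mp h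
    exact (Subgroup.nontrivial_iff_ne_bot _).mp hcn h2
  obtain ⟨X, hXZ, hXc⟩ := exists_le_card_eq_prime (hT.to_le hZT) hZ1
  refine ⟨X, hXZ.trans hZT, hXc, ?_⟩
  intro t ht
  rw [Subgroup.mem_centralizer_iff]
  intro x hx
  obtain ⟨z, hz, rfl⟩ := hXZ hx
  have := Subgroup.mem_center_iff.mp hz ⟨t, ht⟩
  have h2 := congrArg Subtype.val this
  simpa using h2.symm

/-- **the piece `q ∉ τ₂(H)` of S1428** -/
theorem not_mem_tau2 (hG : IsMinSimpleOddOrder G) (h1350 : Hyp1350 G) (h1417 : Hyp1417 G)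
    (h1418 : Hyp1418 G) {M H P Q : Subgroup G} {q : ℕ} [Fact q.Prime]
    (hM : IsCoatom M) (hH : IsCoatom H) (hqM : q ∈ sigma M)
    (hPH : P ≤ sigmaCore H) (hP1 : P ≠ ⊥)
    (hQ : IsSylowIn q Q (sigmaCore M ⊓ H)) (hQ1 : Q ≠ ⊥)
    (hQP : Q ≤ centralizer (P : Set G)) : q ∉ tau2 H := by
  intro hτ
  have hq : q.Prime := Fact.out
  have hqH : q ∉ sigma H := hτ.2.1
  have hQY : Q ≤ sigmaCore M ⊓ H := hQ.le
  have hQM : Q ≤ sigmaCore M := hQY.trans inf_le_left
  have hQH : Q ≤ H := hQY.trans inf_le_right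
  have hQq : IsPGroup q ↥Q := hQ.isPGroup
  have hqQ : q ∣ Nat.card ↥Q := dvd_card_of_isPGroup_ne_bot hQq hQ1
  have hq2 : q ≠ 2 :=
    prime_ne_two_of_dvd hG (hqQ.trans (Subgroup.card_subgroup_dvd_card Q))
  have hPcent : ∀ {X : Subgroup G}, X ≤ Q → P ≤ centralizer (X : Set G) := fun hX =>
    Subgroup.le_centralizer_iff.mp (hX.trans hQP)
  have hPne : ∀ {X : Subgroup G}, X ≤ Q → sigmaCore H ⊓ centralizer (X : Set G) ≠ ⊥ := by
    intro X hX h0
    have : P ≤ sigmaCore H ⊓ centralizer (X : Set G) := le_inf hPH (hPcent hX)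
    rw [h0] at this
    exact hP1 (le_bot_iff.mp this)
  -- Step 1: `Q` is cyclic
  have hQc : IsCyclic ↥Q := by
    by_contra hnc
    obtain ⟨A, hAQ, -, hAe, hAc⟩ := exists_normal_elemAb_sq hq2 hQq hnc
    obtain ⟨-, -, -, hd, -, -⟩ := h1417 H hH q hτ A ⟨hAQ.trans hQH, hAe, hAc⟩
    exact hPne hAQ hd
  -- Step 2: the subgroup `X` of order `q` of `Q`, and a complement `E ≥ X` of `H_σ`
  obtain ⟨X, hXQ, hXc⟩ := exists_le_card_eq_prime hQq hQ1
  have hsolvH : Group.IsSolvable ↥H := isSolvable_of_ne_top hG hH.1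
  obtain ⟨hhallH, -, -⟩ := h1350 H hH
  have hcopH : (Nat.card ↥(sigmaCore H)).Coprime ((sigmaCore H).relIndex H) :=
    coprime_of_isPiHallOf hhallH
  have hqcop : q.Coprime (Nat.card ↥(sigmaCore H)) :=
    (Nat.Prime.coprime_iff_not_dvd hq).mpr (not_dvd_card_sigmaCore hq hqH)
  obtain ⟨E, hE, hXE⟩ := exists_isComplIn_ge hsolvH (sigmaCore_le H) hcopH (hXQ.trans hQH)
    (by rw [hXc]; exact hqcop)
  obtain ⟨A₀, hA₀H, hA₀e, hA₀c⟩ := exists_elemAb_sq_of_mem_tau2 hτ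
  obtain ⟨h, -, hconj⟩ := exists_conj_le_of_hall hsolvH (sigmaCore_le H)
    (le_normalizer_sigmaCore H) hE.1 hA₀H hcopH (fac_of_isComplIn hE)
    (by rw [hA₀c]; exact Nat.Coprime.pow_left 2 hqcop)
  have hAe : IsElementaryAbelian q (A₀.map (MulAut.conj h).toMonoidHom) :=
    isElementaryAbelian_map_conj hA₀e h
  have hAc : Nat.card ↥(A₀.map (MulAut.conj h).toMonoidHom) = q ^ 2 := by
    rw [card_map_conj, hA₀c]
  obtain ⟨⟨-, hall⟩, -, h3⟩ := h1418 H hH E hE q hτ _ ⟨hconj, hAe, hAc⟩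
  have hXA : X ≤ A₀.map (MulAut.conj h).toMonoidHom := hall X hXE hXc
  obtain ⟨hCX, -⟩ := h3 X hXA hXc (hPne hXQ)
  -- Step 3: a Sylow `q`-subgroup `T ≥ Q` of `M_σ`; `C_T(X) = Q`
  obtain ⟨T, hQT, hT⟩ := exists_isSylowIn_ge hQq hQM
  have hTq : IsPGroup q ↥T := hT.isPGroup
  have hCT : T ⊓ centralizer (X : Set G) = Q := by
    apply hQ.eq_of_le (hTq.to_le inf_le_left)
    · exact le_inf hQT (le_centralizer_of_isCyclic hQc hXQ)
    · exact le_inf (inf_le_left.trans hT.le) (inf_le_right.trans hCX)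
  -- Step 4: `X ≤ Z(T)`, so `T = Q`
  have hT1 : T ≠ ⊥ := fun h0 => hQ1 (le_bot_iff.mp (h0 ▸ hQT))
  obtain ⟨X', hX'T, hX'c, hTX'⟩ := exists_central_card_eq_prime hTq hT1
  have hX'Q : X' ≤ Q := by
    rw [← hCT]
    refine le_inf hX'T ?_
    exact Subgroup.le_centralizer_iff.mp ((hXQ.trans hQT).trans hTX')
  have hXX' : X' = X :=
    Cfsg.Agent.Helper7.eq_of_card_eq_of_le_isCyclic Q hQc hX'Q hXQ (hX'c.trans hXc.symm)
  have hTQ : T = Q := by
    rw [hXX'] at hTX'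
    rw [← hCT]
    exact (inf_eq_left.mpr hTX').symm
  -- Step 5: `T` is a cyclic Sylow `q`-subgroup of `G`, but `H` has `q`-rank 2
  have hTM : IsSylowIn q T M := isSylowIn_of_isSylowIn_sigmaCore h1350 hM hqM hT
  have hTtop : IsSylowIn q T ⊤ := isSylowIn_top_of_mem_sigma hqM hTM
  obtain ⟨Q', hA₀Q'⟩ := (isPGroup_of_isElementaryAbelian hA₀e).exists_le_sylow
  obtain ⟨k, -, hk⟩ := (isSylowIn_top Q').exists_conj hTtop
  have h1 : A₀.map (MulAut.conj k).toMonoidHom ≤ T := by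
    rw [← hk]; exact map_conj_mono hA₀Q' k
  have hTc : IsCyclic ↥T := hTQ ▸ hQc
  have hBc : IsCyclic ↥(A₀.map (MulAut.conj k).toMonoidHom) := isCyclic_of_le_aux h1 hTc
  have h2 := card_le_of_isCyclic_of_pow_eq_one hBc hq.pos (isElementaryAbelian_map_conj hA₀e k).2
  rw [card_map_conj, hA₀c] at h2
  nlinarith [hq.one_lt]

end Cfsg.Agent.Helper3.BG13T2
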