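import Mathlib
import Cfsg.Agent.Lib.Helper3.Subnormal
import Cfsg.Agent.S0539

set_option autoImplicit false

/-! More on subnormal subgroups: nilpotent groups, relative version of Wielandt's normalizer lemma. -/

namespace Cfsg.Agent.Helper3

open scoped Pointwise

universe u

variable {G : Type u} [Group G]

/-- In a finite group with the normalizer condition every subgroup is subnormal. -/
theorem isSubnormal_of_normalizerCondition [Finite G] (hnc : NormalizerCondition G)
    (H : Subgroup G) : H.IsSubnormal := by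
  induction H using WellFoundedGT.induction with
  | _ H ih =>
  by_cases hH : H = ⊤
  · rw [hH]; exact Subgroup.IsSubnormal.top
  · have hlt : H < Subgroup.normalizer (H : Set G) := hnc H (lt_top_iff_ne_top.mpr hH)
    exact Subgroup.IsSubnormal.step H _ Subgroup.le_normalizer (ih _ hlt)
      Subgroup.normal_in_normalizer

/-- Every subgroup of a finite `p`-group is subnormal. -/
theorem isSubnormal_of_isPGroup [Finite G] {p : ℕ} [Fact p.Prime] (hG : IsPGroup p G)
    (H : Subgroup G) : H.IsSubnormal := by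
  have : Group.IsNilpotent G := hG.isNilpotent
  exact isSubnormal_of_normalizerCondition Group.normalizerCondition_of_isNilpotent H

theorem subgroupOf_sSup_of_le (P : Subgroup G) (T : Set (Subgroup G)) (hT : ∀ U ∈ T, U ≤ P) :
    (sSup T).subgroupOf P = sSup ((fun U : Subgroup G => U.subgroupOf P) '' T) := by
  apply le_antisymm
  · have h1 : sSup T ≤ (sSup ((fun U : Subgroup G => U.subgroupOf P) '' T)).map P.subtype := by
      apply sSup_le
      intro U hU
      rw [← Subgroup.map_subgroupOf_eq_of_le (hT U hU)]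
      exact Subgroup.map_mono (le_sSup ⟨U, hU, rfl⟩)
    have h2 := Subgroup.comap_mono (f := P.subtype) h1
    rwa [Subgroup.comap_map_eq_self_of_injective (Subgroup.subtype_injective P)] at h2
  · apply sSup_le
    rintro _ ⟨U, hU, rfl⟩
    exact Subgroup.comap_mono (le_sSup hU)

/-- Wielandt's normalizer lemma, relative to a subgroup `P`. -/
theorem exists_normalizing_of_ssubset [Finite G] (P : Subgroup G) (S S₀ : Set (Subgroup G))
    (hS : ∀ U ∈ S, U ≤ P ∧ (U.subgroupOf P).IsSubnormal)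
    (hconj : ∀ U ∈ S, ∀ x ∈ P, MulAut.conj x • U ∈ S) (h₀ : S₀ ⊂ S) :
    ∃ X ∈ S, X ∉ S₀ ∧ X ≤ Subgroup.normalizer ((sSup S₀ : Subgroup G) : Set G) := by
  set φ : Subgroup G → Subgroup P := fun U => U.subgroupOf P with hφ
  have hinj : ∀ U ∈ S, ∀ V ∈ S, φ U = φ V → U = V := by
    intro U hU V hV h
    have := Subgroup.subgroupOf_inj.mp h
    rwa [inf_of_le_left (hS U hU).1, inf_of_le_left (hS V hV).1] at this
  have h₀' : φ '' S₀ ⊂ φ '' S := by
    refine ⟨Set.image_mono h₀.subset, ?_⟩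
    intro hsub
    obtain ⟨X, hXS, hXS₀⟩ := Set.exists_of_ssubset h₀
    obtain ⟨V, hV, hVX⟩ := hsub ⟨X, hXS, rfl⟩
    exact hXS₀ (hinj V (h₀.subset hV) X hXS hVX ▸ hV)
  have hS' : ∀ U' ∈ φ '' S, U'.IsSubnormal := by
    rintro _ ⟨U, hU, rfl⟩
    exact (hS U hU).2
  have hconj' : ∀ U' ∈ φ '' S, ∀ x : P, MulAut.conj x • U' ∈ φ '' S := by
    rintro _ ⟨U, hU, rfl⟩ x
    refine ⟨MulAut.conj (x : G) • U, hconj U hU x x.2, ?_⟩
    ext y
    simp only [hφ, Subgroup.mem_subgroupOf, mem_conj_smul_iff]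
    rfl
  obtain ⟨X', hX'S, hX'S₀, hX'N⟩ := Cfsg.Agent.S0539.result (φ '' S) (φ '' S₀) hS' hconj' h₀'
  obtain ⟨X, hXS, rfl⟩ := hX'S
  refine ⟨X, hXS, fun h => hX'S₀ ⟨X, h, rfl⟩, ?_⟩
  rw [← subgroupOf_sSup_of_le P S₀ (fun U hU => (hS U (h₀.subset hU)).1)] at hX'N
  have hXP := (hS X hXS).1
  have hle : sSup S₀ ≤ P := sSup_le (fun U hU => (hS U (h₀.subset hU)).1)
  have h1 := Subgroup.map_mono (f := P.subtype) hX'N
  rw [Subgroup.map_subgroupOf_eq_of_le hXP] at h1
  have h2 := h1.trans (Subgroup.le_normalizer_map P.subtype)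
  rwa [Subgroup.map_subgroupOf_eq_of_le hle] at h2

end Cfsg.Agent.Helper3
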