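import Mathlib

namespace Cfsg.Agent.Helper3.LS

universe u

/-- For an injective homomorphism `φ : A →* S` from a subgroup of a finite group there is a permutation
of `S` intertwining left multiplication by `a` with left multiplication by `φ a`. -/
theorem exists_tau {S : Type u} [Group S] [Finite S] (A : Subgroup S) (φ : A →* S)
    (hφ : Function.Injective φ) :
    ∃ τ : Equiv.Perm S, ∀ (a : A) (s : S), τ ((a : S) * s) = φ a * τ s := by
  classical
  obtain ⟨T, hT, -⟩ := Subgroup.exists_isComplement_right A (1 : S)
  obtain ⟨T', hT', -⟩ := Subgroup.exists_isComplement_right φ.range (1 : S)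
  let e1 : A ≃ φ.range := (MonoidHom.ofInjective hφ).toEquiv
  have hc1 : Nat.card A = Nat.card φ.range := Nat.card_congr e1
  have h1 := hT.card_mul_card
  have h2 := hT'.card_mul_card
  have hA0 : 0 < Nat.card A := Nat.card_pos
  have hTT' : Nat.card T = Nat.card T' := by
    have : Nat.card A * Nat.card T = Nat.card A * Nat.card T' := by
      have h1' : Nat.card A * Nat.card T = Nat.card S := h1
      have h2' : Nat.card φ.range * Nat.card T' = Nat.card S := h2
      rw [h1', hc1, h2']
    exact Nat.eq_of_mul_eq_mul_left hA0 this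
  haveI : Finite T := Finite.of_injective (fun t : T => (t : S)) Subtype.val_injective
  haveI : Finite T' := Finite.of_injective (fun t : T' => (t : S)) Subtype.val_injective
  obtain ⟨β⟩ := (Finite.card_eq).1 hTT'
  let E : (A × T) ≃ S := Equiv.ofBijective _ hT
  let E' : (φ.range × T') ≃ S := Equiv.ofBijective _ hT'
  let τ : Equiv.Perm S := E.symm.trans ((Equiv.prodCongr e1 β).trans E')
  refine ⟨τ, ?_⟩
  intro a s
  obtain ⟨⟨a0, t⟩, rfl⟩ := E.surjective s
  have hE : ∀ (x : A) (y : T), E (x, y) = (x : S) * (y : S) := fun x y => rfl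
  have hE' : ∀ (x : φ.range) (y : T'), E' (x, y) = (x : S) * (y : S) := fun x y => rfl
  have hmul : (a : S) * E (a0, t) = E (a * a0, t) := by
    rw [hE, hE, Subgroup.coe_mul, mul_assoc]
  have he1 : ∀ x : A, ((e1 x : φ.range) : S) = φ x := fun x => rfl
  rw [hmul]
  simp only [τ, Equiv.trans_apply, Equiv.symm_apply_apply, Equiv.prodCongr_apply, Prod.map_apply]
  rw [hE', hE', he1, he1, map_mul, mul_assoc]

end Cfsg.Agent.Helper3.LS
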