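import Mathlib
import Cfsg.Prelude.Def_FusionSystem
import Cfsg.Agent.Lib.Helper3.LSDefs
import Cfsg.Agent.Lib.Helper3.LSTau

/-!
The Leary–Stancu data attached to a fusion system over a finite group `S` (definitions for S5286).
-/

noncomputable section

namespace Cfsg.Agent.Helper3.LS

universe u

/-! ## The data attached to a fusion system -/

variable {Ω : Type u} [Group Ω] {S : Subgroup Ω} (F : Cfsg.FusionSystem S)

/-- left regular representation -/
def rho : S →* Equiv.Perm S := MulAction.toPermHom S S

theorem rho_apply (s x : S) : rho s x = s * x := rfl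

theorem rho_injective : Function.Injective (rho (S := S)) := by
  intro a b h
  have := congrArg (fun e : Equiv.Perm S => e 1) h
  simpa [rho_apply] using this

/-- the index type: all maps of the system -/
structure IdxF : Type u where
  P : Subgroup Ω
  φ : P →* Ω
  mem : φ ∈ F.Hom P

/-- the map of the system, read as a homomorphism `P ∩ S → S` -/
def liftHom (i : IdxF F) : (i.P.subgroupOf S) →* S where
  toFun x := ⟨i.φ ⟨((x : S) : Ω), x.2⟩, (F.le_of_mem i.mem).2 _⟩
  map_one' := by
    apply Subtype.ext
    exact map_one i.φ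
  map_mul' a b := by
    apply Subtype.ext
    exact map_mul i.φ ⟨((a : S) : Ω), a.2⟩ ⟨((b : S) : Ω), b.2⟩

theorem liftHom_coe (i : IdxF F) (x : i.P.subgroupOf S) :
    ((liftHom F i x : S) : Ω) = i.φ ⟨((x : S) : Ω), x.2⟩ := rfl

theorem liftHom_injective (i : IdxF F) : Function.Injective (liftHom F i) := by
  intro a b h
  have h1 := congrArg (fun z : S => (z : Ω)) h
  have h2 := F.injective_of_mem i.mem h1
  apply Subtype.ext
  apply Subtype.ext
  exact congrArg (fun z : i.P => (z : Ω)) h2

variable [Finite S]

def tauF (i : IdxF F) : Equiv.Perm S :=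
  Classical.choose (exists_tau (i.P.subgroupOf S) (liftHom F i) (liftHom_injective F i))

theorem tauF_spec (i : IdxF F) (a : i.P.subgroupOf S) (s : S) :
    tauF F i ((a : S) * s) = liftHom F i a * tauF F i s :=
  Classical.choose_spec (exists_tau (i.P.subgroupOf S) (liftHom F i) (liftHom_injective F i)) a s

theorem tauF_conj (i : IdxF F) (a : i.P.subgroupOf S) :
    tauF F i * rho (a : S) * (tauF F i)⁻¹ = rho (liftHom F i a) := by
  ext s
  simp only [Equiv.Perm.coe_mul, Function.comp_apply, rho_apply]
  have := tauF_spec F i a ((tauF F i)⁻¹ s)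
  rw [this]
  simp

/-- the Leary–Stancu data of a fusion system -/
def dataF : Data (Equiv.Perm S) where
  I := IdxF F
  S0 := (rho (S := S)).range
  A i := (i.P.subgroupOf S).map rho
  τ i := tauF F i
  hA i := by
    rintro _ ⟨a, -, rfl⟩
    exact ⟨a, rfl⟩
  hB i := by
    rintro _ ⟨_, ⟨a, ha, rfl⟩, rfl⟩
    refine ⟨liftHom F i ⟨a, ha⟩, ?_⟩
    have := tauF_conj F i ⟨a, ha⟩
    simp only [MulEquiv.coe_toMonoidHom, MulAut.conj_apply]
    exact this.symm

/-- the embedding of `S` in the group -/
def iotaF : S →* (dataF F).G where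
  toFun s := ⟨(dataF F).inS (rho s), Subgroup.subset_closure (Or.inl ⟨rho s, ⟨s, rfl⟩, rfl⟩)⟩
  map_one' := by
    apply Subtype.ext
    simp
  map_mul' a b := by
    apply Subtype.ext
    simp

end Cfsg.Agent.Helper3.LS
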