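import Mathlib
import Cfsg.Agent.Lib.Helper3.Schmidt2
import Cfsg.Agent.Lib.Helper3.Card
import Cfsg.Agent.Lib.Helper7.Fitting

set_option autoImplicit false

/-! More on nilpotent groups, used for minimal non-nilpotent groups. -/

namespace Cfsg.Agent.Helper3

open scoped Pointwise commutatorElement

universe u

variable {G : Type u} [Group G]

/-- A finite nilpotent group all of whose Sylow subgroups are commutative is commutative. -/
theorem mul_comm_of_isNilpotent_of_sylow [Finite G] (hnil : Group.IsNilpotent G)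
    (h : ∀ (r : ℕ) [Fact r.Prime] (R : Sylow r G), ∀ x ∈ (R : Subgroup G), ∀ y ∈ (R : Subgroup G),
      x * y = y * x) : ∀ a b : G, a * b = b * a := by
  obtain ⟨e⟩ := ((Group.isNilpotent_of_finite_tfae (G := G)).out 0 4 rfl rfl).mp hnil
  intro a b
  have hpi : ∀ f g : (∀ p : (Nat.card G).primeFactors, ∀ P : Sylow p G, (↑P : Subgroup G)),
      f * g = g * f := by
    intro f g
    funext p P
    have hpf : Fact (p : ℕ).Prime := ⟨Nat.prime_of_mem_primeFactors p.2⟩
    exact Subtype.ext (h p P _ (f p P).2 _ (g p P).2)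
  have := hpi (e.symm a) (e.symm b)
  rw [← map_mul, ← map_mul] at this
  exact e.symm.injective this

/-- A group generated by two normal nilpotent subgroups is nilpotent. -/
theorem isNilpotent_of_sup_eq_top [Finite G] (A B : Subgroup G) [A.Normal] [B.Normal]
    (hA : Group.IsNilpotent A) (hB : Group.IsNilpotent B) (h : A ⊔ B = ⊤) :
    Group.IsNilpotent G := by
  have h1 : Cfsg.fittingSubgroup G = ⊤ := by
    rw [eq_top_iff, ← h]
    exact sup_le (Cfsg.Agent.Helper7.le_fittingSubgroup A hA)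
      (Cfsg.Agent.Helper7.le_fittingSubgroup B hB)
  have h2 := Cfsg.Agent.Helper7.fittingSubgroup_isNilpotent (G := G)
  rw [h1] at h2
  exact Group.nilpotent_of_mulEquiv Subgroup.topEquiv

/-- Elements of `q`-power order lie in a normal Sylow `q`-subgroup. -/
theorem mem_of_normal_sylow_of_orderOf [Finite G] {q : ℕ} [Fact q.Prime] (N : Sylow q G)
    (hN : (N : Subgroup G).Normal) (z : G) (hz : ∃ k, orderOf z = q ^ k) : z ∈ (N : Subgroup G) := by
  obtain ⟨k, hk⟩ := hz
  have hA : IsPGroup q (Subgroup.zpowers z) := IsPGroup.of_card (by rw [Nat.card_zpowers, hk])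
  obtain ⟨S, hS⟩ := hA.exists_le_sylow
  have := Sylow.unique_of_normal N hN
  have hSN : S = N := Subsingleton.elim _ _
  rw [← hSN]
  exact hS (Subgroup.mem_zpowers z)

/-- If `N` is a commutative normal Sylow `q`-subgroup of the finite group `H` and `H / N` is
abelian, then every nilpotent subgroup of `H` is abelian. -/
theorem mul_comm_of_isNilpotent_of_abelian_sylow {H : Type u} [Group H] [Finite H] {q : ℕ}
    [hq : Fact q.Prime] (N : Sylow q H) (hN : (N : Subgroup H).Normal)
    (hNc : ∀ a ∈ (N : Subgroup H), ∀ b ∈ (N : Subgroup H), a * b = b * a)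
    (hHN : ∀ x y : H, ⁅x, y⁆ ∈ (N : Subgroup H))
    (K : Subgroup H) (hK : Group.IsNilpotent K) : ∀ a b : K, a * b = b * a := by
  apply mul_comm_of_isNilpotent_of_sylow hK
  intro r hr R x hx y hy
  apply Subtype.ext
  rw [Subgroup.coe_mul, Subgroup.coe_mul]
  have hox : ∃ k, orderOf (x : H) = r ^ k := by
    obtain ⟨k, hk⟩ := (IsPGroup.iff_orderOf.mp R.isPGroup') ⟨x, hx⟩
    refine ⟨k, ?_⟩
    rw [Subgroup.orderOf_mk] at hk
    rw [Subgroup.orderOf_coe]; exact hk
  have hoy : ∃ k, orderOf (y : H) = r ^ k := by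
    obtain ⟨k, hk⟩ := (IsPGroup.iff_orderOf.mp R.isPGroup') ⟨y, hy⟩
    refine ⟨k, ?_⟩
    rw [Subgroup.orderOf_mk] at hk
    rw [Subgroup.orderOf_coe]; exact hk
  by_cases hrq : r = q
  · subst hrq
    exact hNc _ (mem_of_normal_sylow_of_orderOf N hN _ hox) _
      (mem_of_normal_sylow_of_orderOf N hN _ hoy)
  · -- the commutator is both a `q`-element and an `r`-element
    have hc1 : ⁅(x : H), (y : H)⁆ ∈ (N : Subgroup H) := hHN _ _
    have hc2 : ⁅x, y⁆ ∈ (R : Subgroup K) :=
      Subgroup.mul_mem _ (Subgroup.mul_mem _ (Subgroup.mul_mem _ hx hy) (Subgroup.inv_mem _ hx))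
        (Subgroup.inv_mem _ hy)
    obtain ⟨k, hk⟩ := (IsPGroup.iff_orderOf.mp N.isPGroup') ⟨_, hc1⟩
    obtain ⟨l, hl⟩ := (IsPGroup.iff_orderOf.mp R.isPGroup') ⟨_, hc2⟩
    rw [Subgroup.orderOf_mk] at hk hl
    have hcoe : ((⁅x, y⁆ : K) : H) = ⁅(x : H), (y : H)⁆ := by
      simp [commutatorElement_def]
    have hl' : orderOf ⁅(x : H), (y : H)⁆ = r ^ l := by
      rw [← hcoe, Subgroup.orderOf_coe]; exact hl
    have hone : orderOf ⁅(x : H), (y : H)⁆ = 1 := by
      have hcop : (q ^ k).Coprime (r ^ l) :=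
        Nat.Coprime.pow _ _ ((Nat.coprime_primes hq.out hr.out).mpr (Ne.symm hrq))
      exact Nat.eq_one_of_dvd_coprimes hcop (hk ▸ dvd_rfl) (hl' ▸ dvd_rfl)
    have := orderOf_eq_one_iff.mp hone
    exact (commutatorElement_eq_one_iff_mul_comm.mp this)

end Cfsg.Agent.Helper3
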