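import Mathlib

/-!
# S4150 piece FIVETHREE (helper3): a 3-transitive group of degree 13 containing an element of type `5²`
whose "support group" has no subgroup of order 25 contains a 3-cycle.
-/

set_option autoImplicit false
set_option linter.style.haveILetI false
set_option linter.unusedVariables false

open Equiv Equiv.Perm MulAction Subgroup

namespace Cfsg.Agent.Helper2.AG

namespace FIVETHREE

/-- two elements of prime order `p` in a finite group whose order is not divisible by `p²`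
generate conjugate subgroups -/
theorem conj_mem_zpowers {H : Type*} [Group H] [Finite H] {p : ℕ} [hp : Fact p.Prime]
    (hp2 : ¬ p ^ 2 ∣ Nat.card H) (x y : H) (hx : orderOf x = p) (hy : orderOf y = p) :
    ∃ g : H, g * y * g⁻¹ ∈ zpowers x := by
  have key : ∀ u : H, orderOf u = p → ∃ P : Sylow p H, (P : Subgroup H) = zpowers u := by
    intro u hu
    have hcu : Nat.card (zpowers u) = p := by rw [Nat.card_zpowers, hu]
    have hpg : IsPGroup p (zpowers u) := IsPGroup.of_card (n := 1) (by rw [hcu, pow_one])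
    obtain ⟨P, hP⟩ := hpg.exists_le_sylow
    refine ⟨P, ?_⟩
    obtain ⟨k, hk⟩ := (IsPGroup.iff_card.mp P.2)
    have hdvd : Nat.card (P : Subgroup H) ∣ Nat.card H := Subgroup.card_subgroup_dvd_card _
    have hk1 : k ≤ 1 := by
      by_contra hcon
      push Not at hcon
      apply hp2
      calc p ^ 2 ∣ p ^ k := pow_dvd_pow p hcon
        _ ∣ Nat.card H := by rw [← hk]; exact hdvd
    have hle : Nat.card (P : Subgroup H) ≤ Nat.card (zpowers u) := by
      rw [hcu, hk]
      calc p ^ k ≤ p ^ 1 := Nat.pow_le_pow_right hp.out.pos hk1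
        _ = p := pow_one p
    exact (Subgroup.eq_of_le_of_card_ge hP hle).symm
  obtain ⟨P, hP⟩ := key x hx
  obtain ⟨Q, hQ⟩ := key y hy
  obtain ⟨g, hg⟩ := MulAction.exists_smul_eq H Q P
  refine ⟨g, ?_⟩
  rw [← hP, ← hg, Sylow.coe_subgroup_smul, Subgroup.mem_smul_pointwise_iff_exists]
  refine ⟨y, ?_, by rw [MulAut.smul_def, MulAut.conj_apply]⟩
  rw [hQ]; exact mem_zpowers y

/-- iterating a conjugation relation -/
theorem conj_pow_pow {H : Type*} [Group H] (n z : H) (j : ℕ) (h : n * z * n⁻¹ = z ^ j) (k : ℕ) :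
    n ^ k * z * (n ^ k)⁻¹ = z ^ (j ^ k) := by
  induction k with
  | zero => simp
  | succ k ih =>
    calc n ^ (k + 1) * z * (n ^ (k + 1))⁻¹ = n * (n ^ k * z * (n ^ k)⁻¹) * n⁻¹ := by
          rw [pow_succ']; group
      _ = n * z ^ (j ^ k) * n⁻¹ := by rw [ih]
      _ = (n * z * n⁻¹) ^ (j ^ k) := by rw [conj_pow]
      _ = z ^ (j ^ (k + 1)) := by rw [h, ← pow_mul, ← pow_succ']

/-- commuting maps agreeing at a point have powers agreeing at that point -/
theorem pow_apply_eq {β : Type*} (u v : Perm β) (huv : u * v = v * u) (s : β) (h : u s = v s) (m : ℕ) :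
    (u ^ m) s = (v ^ m) s := by
  induction m with
  | zero => simp
  | succ m ih =>
    have hc : (u ^ m) * v = v * (u ^ m) := by
      have : Commute u v := huv
      exact (this.pow_left m)
    calc (u ^ (m + 1)) s = (u ^ m) (u s) := by rw [pow_succ]; rfl
      _ = (u ^ m) (v s) := by rw [h]
      _ = ((u ^ m) * v) s := rfl
      _ = (v * (u ^ m)) s := by rw [hc]
      _ = v ((u ^ m) s) := rfl
      _ = v ((v ^ m) s) := by rw [ih]
      _ = (v ^ (m + 1)) s := by rw [pow_succ']; rfl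

/-- powers of a permutation rotating `a → b → c → a` -/
theorem rot_pow {β : Type*} (f : Perm β) {a b c : β} (h1 : f a = b) (h2 : f b = c) (h3 : f c = a)
    (k : ℕ) : (f ^ (3 * k + 1)) a = b ∧ (f ^ (3 * k + 1)) b = c ∧ (f ^ (3 * k + 1)) c = a := by
  have e : ∀ t : β, (f ^ 3) t = f (f (f t)) := by
    intro t
    simp [pow_succ, Perm.mul_apply]
  have ha : (f ^ 3) a = a := by rw [e, h1, h2, h3]
  have hb : (f ^ 3) b = b := by rw [e, h2, h3, h1]
  have hc : (f ^ 3) c = c := by rw [e, h3, h1, h2]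
  have hpow : f ^ (3 * k + 1) = (f ^ 3) ^ k * f := by
    rw [pow_succ, pow_mul]
  rw [hpow]
  refine ⟨?_, ?_, ?_⟩
  · rw [Perm.mul_apply, h1]; exact pow_apply_eq_self_of_apply_eq_self hb k
  · rw [Perm.mul_apply, h2]; exact pow_apply_eq_self_of_apply_eq_self hc k
  · rw [Perm.mul_apply, h3]; exact pow_apply_eq_self_of_apply_eq_self ha k

/-- an embedding of `Fin 3` from three distinct points -/
def emb3 {β : Type*} (a b c : β) (hab : a ≠ b) (hac : a ≠ c) (hbc : b ≠ c) : Fin 3 ↪ β where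
  toFun := ![a, b, c]
  inj' := by
    intro i j hij
    fin_cases i <;> fin_cases j <;> simp_all

theorem emb3_zero {β : Type*} (a b c : β) (hab : a ≠ b) (hac : a ≠ c) (hbc : b ≠ c) :
    emb3 a b c hab hac hbc 0 = a := rfl
theorem emb3_one {β : Type*} (a b c : β) (hab : a ≠ b) (hac : a ≠ c) (hbc : b ≠ c) :
    emb3 a b c hab hac hbc 1 = b := rfl
theorem emb3_two {β : Type*} (a b c : β) (hab : a ≠ b) (hac : a ≠ c) (hbc : b ≠ c) :
    emb3 a b c hab hac hbc 2 = c := rfl

/-- the two-orbit argument -/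
theorem pow_ten_fix {β : Type*} [Fintype β] [DecidableEq β] {z c1 : Perm β} (hz5 : orderOf z = 5)
    (hsupp : z.support.card = 10) (hcomm : c1 * z = z * c1) {s : β} (hs : z s ≠ s) :
    (c1 ^ 10) s = s := by
  classical
  have hz5' : z ^ 5 = 1 := by rw [← hz5]; exact pow_orderOf_eq_one z
  have hC : Commute c1 z := hcomm
  -- number of cycles
  have hcyc : z.cycleFactorsFinset.card = 2 := by
    have hprime : (orderOf z).Prime := by rw [hz5]; norm_num
    obtain ⟨m, hm⟩ := cycleType_prime_order hprime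
    have hsum := sum_cycleType z
    rw [hm, Multiset.sum_replicate, hz5, hsupp, smul_eq_mul] at hsum
    have hm1 : m + 1 = 2 := by omega
    have hcard : Multiset.card z.cycleType = 2 := by rw [hm, Multiset.card_replicate, hm1]
    rw [cycleType_def, Multiset.card_map] at hcard
    exact hcard
  -- the points c1^i s are in the support
  have hmem : ∀ i : ℕ, (c1 ^ i) s ∈ z.support := by
    intro i
    rw [Perm.mem_support]
    intro h
    apply hs
    have hc : Commute (c1 ^ i) z := hC.pow_left i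
    have : (c1 ^ i) (z s) = (c1 ^ i) s := by
      calc (c1 ^ i) (z s) = ((c1 ^ i) * z) s := rfl
        _ = (z * (c1 ^ i)) s := by rw [hc.eq]
        _ = z ((c1 ^ i) s) := rfl
        _ = (c1 ^ i) s := h
    exact (c1 ^ i).injective this
  -- pigeonhole
  have hlt : z.cycleFactorsFinset.card < (Finset.univ : Finset (Fin 3)).card := by
    rw [hcyc]; simp
  obtain ⟨i, -, j, -, hij, he⟩ := Finset.exists_ne_map_eq_of_card_lt_of_maps_to hlt
    (f := fun i : Fin 3 => z.cycleOf ((c1 ^ (i : ℕ)) s))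
    (fun i _ => cycleOf_mem_cycleFactorsFinset_iff.mpr (hmem i))
  have hsame : z.SameCycle ((c1 ^ (i : ℕ)) s) ((c1 ^ (j : ℕ)) s) :=
    (sameCycle_iff_cycleOf_eq_of_mem_support (hmem i) (hmem j)).mpr he
  -- reduce to: some c1^k s = z^m s with k = 1 or 2
  have key : ∀ (i k : ℕ) (m : ℤ), (z ^ m) ((c1 ^ i) s) = (c1 ^ (i + k)) s → (z ^ m) s = (c1 ^ k) s := by
    intro i k m h
    have hc : Commute (c1 ^ i) (z ^ m) := (hC.pow_left i).zpow_right m
    have : (c1 ^ i) ((z ^ m) s) = (c1 ^ i) ((c1 ^ k) s) := by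
      calc (c1 ^ i) ((z ^ m) s) = ((c1 ^ i) * (z ^ m)) s := rfl
        _ = ((z ^ m) * (c1 ^ i)) s := by rw [hc.eq]
        _ = (z ^ m) ((c1 ^ i) s) := rfl
        _ = (c1 ^ (i + k)) s := h
        _ = (c1 ^ i) ((c1 ^ k) s) := by rw [pow_add]; rfl
    exact (c1 ^ i).injective this
  have fin : ∀ (k : ℕ) (m : ℤ), (k = 1 ∨ k = 2) → (z ^ m) s = (c1 ^ k) s → (c1 ^ 10) s = s := by
    intro k m hk h
    have hc : (c1 ^ k) * (z ^ m) = (z ^ m) * (c1 ^ k) := ((hC.pow_left k).zpow_right m).eq
    have h5 := pow_apply_eq (c1 ^ k) (z ^ m) hc s h.symm 5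
    have hz : (z ^ m) ^ 5 = 1 := by
      rw [← zpow_natCast, ← zpow_mul, mul_comm, zpow_mul, zpow_natCast, hz5', one_zpow]
    rw [hz, Perm.one_apply, ← pow_mul] at h5
    rcases hk with rfl | rfl
    · have : (c1 ^ 10) = (c1 ^ (1 * 5)) ^ 2 := by rw [← pow_mul]
      rw [this]
      exact pow_apply_eq_self_of_apply_eq_self h5 2
    · exact h5
  obtain ⟨m, hm⟩ := hsame
  -- case analysis on i j
  fin_cases i <;> fin_cases j
  · exact absurd rfl hij
  · exact fin 1 m (Or.inl rfl) (key 0 1 m (by simpa using hm))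
  · exact fin 2 m (Or.inr rfl) (key 0 2 m (by simpa using hm))
  · -- i = 1, j = 0
    have hm' : (z ^ (-m)) ((c1 ^ 0) s) = (c1 ^ (0 + 1)) s := by
      have : (z ^ m) ((c1 ^ 1) s) = (c1 ^ 0) s := by simpa using hm
      rw [zpow_neg, ← this]
      simp
    exact fin 1 (-m) (Or.inl rfl) (key 0 1 (-m) hm')
  · exact absurd rfl hij
  · exact fin 1 m (Or.inl rfl) (key 1 1 m (by simpa using hm))
  · -- i = 2, j = 0
    have hm' : (z ^ (-m)) ((c1 ^ 0) s) = (c1 ^ (0 + 2)) s := by
      have : (z ^ m) ((c1 ^ 2) s) = (c1 ^ 0) s := by simpa using hm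
      rw [zpow_neg, ← this]
      simp
    exact fin 2 (-m) (Or.inr rfl) (key 0 2 (-m) hm')
  · -- i = 2, j = 1
    have hm' : (z ^ (-m)) ((c1 ^ 1) s) = (c1 ^ (1 + 1)) s := by
      have : (z ^ m) ((c1 ^ 2) s) = (c1 ^ 1) s := by simpa using hm
      rw [zpow_neg, ← this]
      simp
    exact fin 1 (-m) (Or.inl rfl) (key 1 1 (-m) hm')
  · exact absurd rfl hij

end FIVETHREE

section T13

variable {β : Type*} [Fintype β] [DecidableEq β]

/-- FIVETHREE -/
theorem exists_three_cycle_of_order_five (hβ : Fintype.card β = 13) (K : Subgroup (Perm β))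
    [IsMultiplyPretransitive K β 3] {z : Perm β} (hz : z ∈ K) (hz5 : orderOf z = 5)
    (hsupp : z.support.card = 10)
    (hsyl : ∀ P : Subgroup (Perm β), P ≤ K → (∀ k ∈ P, k.support ⊆ z.support) →
      Nat.card P ≠ 25) :
    ∃ w ∈ K, w.IsThreeCycle := by
  classical
  haveI : Fact (Nat.Prime 5) := ⟨by norm_num⟩
  have hz5' : z ^ 5 = 1 := by rw [← hz5]; exact pow_orderOf_eq_one z
  -- the fixed points
  have hFcard : (z.supportᶜ).card = 3 := by
    rw [Finset.card_compl, hβ, hsupp]
  obtain ⟨a, b, c, hab, hac, hbc, hF⟩ := Finset.card_eq_three.mp hFcard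
  have hfix : ∀ s : β, z s = s ↔ s = a ∨ s = b ∨ s = c := by
    intro s
    have : s ∈ z.supportᶜ ↔ s ∈ ({a, b, c} : Finset β) := by rw [hF]
    rw [Finset.mem_compl, Perm.mem_support, not_not] at this
    rw [this]; simp
  have hza : z a = a := (hfix a).mpr (Or.inl rfl)
  have hzb : z b = b := (hfix b).mpr (Or.inr (Or.inl rfl))
  have hzc : z c = c := (hfix c).mpr (Or.inr (Or.inr rfl))
  -- the subgroup M
  set Fx : Subgroup (Perm β) := fixingSubgroup (Perm β) ((z.support : Set β)ᶜ) with hFx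
  have hFxmem : ∀ k : Perm β, k ∈ Fx ↔ ∀ s, z s = s → k s = s := by
    intro k
    rw [hFx, mem_fixingSubgroup_iff]
    constructor
    · intro h s hs
      apply h s
      simp [hs]
    · intro h s hs
      apply h s
      simpa using hs
  set M : Subgroup (Perm β) := K ⊓ Fx with hM
  have hzM : z ∈ M := ⟨hz, (hFxmem z).mpr (fun s hs => hs)⟩
  have hMsupp : ∀ k ∈ M, k.support ⊆ z.support := by
    intro k hk s hs
    rw [Perm.mem_support] at hs ⊢
    intro h
    exact hs ((hFxmem k).mp hk.2 s h)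
  -- 25 does not divide |M|
  have hM25 : ¬ 5 ^ 2 ∣ Nat.card M := by
    intro hdvd
    obtain ⟨P', hP'⟩ := Sylow.exists_subgroup_card_pow_prime 5 hdvd
    have hcard : Nat.card (P'.map M.subtype) = 25 := by
      rw [Subgroup.card_map_of_injective M.subtype_injective, hP']; norm_num
    have hle : P'.map M.subtype ≤ M := Subgroup.map_subtype_le P'
    exact hsyl _ (hle.trans inf_le_left) (fun k hk => hMsupp k (hle hk)) hcard
  -- the element h rotating a b c
  obtain ⟨g, hg⟩ := MulAction.exists_smul_eq K (FIVETHREE.emb3 a b c hab hac hbc)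
    (FIVETHREE.emb3 b c a hbc (Ne.symm hab) (Ne.symm hac))
  set hh : Perm β := (g : Perm β) with hhh
  have hhK : hh ∈ K := g.2
  have hg' : ∀ i : Fin 3, hh (FIVETHREE.emb3 a b c hab hac hbc i) =
      FIVETHREE.emb3 b c a hbc (Ne.symm hab) (Ne.symm hac) i := by
    intro i
    have := congrArg (fun f : Fin 3 ↪ β => f i) hg
    simpa [Function.Embedding.smul_apply, Subgroup.smul_def] using this
  have hha : hh a = b := by
    have := hg' 0
    rwa [FIVETHREE.emb3_zero, FIVETHREE.emb3_zero] at this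
  have hhb : hh b = c := by
    have := hg' 1
    rwa [FIVETHREE.emb3_one, FIVETHREE.emb3_one] at this
  have hhc : hh c = a := by
    have := hg' 2
    rwa [FIVETHREE.emb3_two, FIVETHREE.emb3_two] at this
  have hhia : hh⁻¹ a = c := by rw [Perm.inv_eq_iff_eq, hhc]
  have hhib : hh⁻¹ b = a := by rw [Perm.inv_eq_iff_eq, hha]
  have hhic : hh⁻¹ c = b := by rw [Perm.inv_eq_iff_eq, hhb]
  -- the conjugate of z lies in M
  have hyM : hh * z * hh⁻¹ ∈ M := by
    refine ⟨K.mul_mem (K.mul_mem hhK hz) (K.inv_mem hhK), (hFxmem _).mpr ?_⟩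
    intro s hs
    rcases (hfix s).mp hs with rfl | rfl | rfl
    · simp [Perm.mul_apply, hhia, hzc, hhc]
    · simp [Perm.mul_apply, hhib, hza, hha]
    · simp [Perm.mul_apply, hhic, hzb, hhb]
  -- conjugate inside M
  have hox : orderOf (⟨z, hzM⟩ : M) = 5 := by rw [Subgroup.orderOf_mk, hz5]
  have hoy : orderOf (⟨hh * z * hh⁻¹, hyM⟩ : M) = 5 := by
    rw [Subgroup.orderOf_mk]
    have := orderOf_injective (MulAut.conj hh).toMonoidHom (MulAut.conj hh).injective z
    simpa [MulAut.conj_apply] using this.trans hz5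
  obtain ⟨g', hg'mem⟩ := FIVETHREE.conj_mem_zpowers hM25 (⟨z, hzM⟩ : M) ⟨hh * z * hh⁻¹, hyM⟩ hox hoy
  set μ : Perm β := (g' : Perm β) with hμ
  have hμM : μ ∈ M := g'.2
  obtain ⟨k, hk⟩ := Subgroup.mem_zpowers_iff.mp hg'mem
  have hk' : z ^ k = μ * (hh * z * hh⁻¹) * μ⁻¹ := by
    have := congrArg (fun t : M => (t : Perm β)) hk
    simpa using this
  set n : Perm β := μ * hh with hn
  have hnK : n ∈ K := K.mul_mem hμM.1 hhK
  have hnz : n * z * n⁻¹ = z ^ k := by
    rw [hk', hn]; group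
  -- natural exponent
  have hr0 : 0 ≤ k % 5 := Int.emod_nonneg _ (by norm_num)
  have hr5 : k % 5 < 5 := Int.emod_lt_of_pos _ (by norm_num)
  obtain ⟨r, hr⟩ : ∃ r : ℕ, (r : ℤ) = k % 5 := ⟨(k % 5).toNat, Int.toNat_of_nonneg hr0⟩
  have hnz' : n * z * n⁻¹ = z ^ r := by
    rw [hnz, ← zpow_natCast, hr]
    have := zpow_mod_orderOf z k
    rw [hz5] at this
    exact_mod_cast this.symm
  have hrlt : r < 5 := by omega
  have hrne : r ≠ 0 := by
    rintro rfl
    rw [pow_zero] at hnz'
    have : z = 1 := by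
      have h1 : z = n⁻¹ * (n * z * n⁻¹) * n := by group
      rw [h1, hnz']; group
    rw [this, orderOf_one] at hz5
    norm_num at hz5
  -- c1 = n^4 commutes with z
  set c1 : Perm β := n ^ 4 with hc1
  have hc1z : c1 * z * c1⁻¹ = z := by
    have h4 := FIVETHREE.conj_pow_pow n z r hnz' 4
    rw [h4, ← pow_mod_orderOf, hz5]
    have : r ^ 4 % 5 = 1 := by
      interval_cases r <;> simp_all
    rw [this, pow_one]
  have hcomm : c1 * z = z * c1 := by
    calc c1 * z = c1 * z * c1⁻¹ * c1 := by group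
      _ = z * c1 := by rw [hc1z]
  -- action of n, c1, w on a b c
  have hμfix : ∀ s, z s = s → μ s = s := (hFxmem μ).mp hμM.2
  have hna : n a = b := by rw [hn, Perm.mul_apply, hha, hμfix b hzb]
  have hnb : n b = c := by rw [hn, Perm.mul_apply, hhb, hμfix c hzc]
  have hnc : n c = a := by rw [hn, Perm.mul_apply, hhc, hμfix a hza]
  obtain ⟨hca, hcb, hcc⟩ := FIVETHREE.rot_pow n hna hnb hnc 1
  have hca' : c1 a = b := hca
  have hcb' : c1 b = c := hcb
  have hcc' : c1 c = a := hcc
  obtain ⟨hwa, hwb, hwc⟩ := FIVETHREE.rot_pow c1 hca' hcb' hcc' 3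
  set w : Perm β := c1 ^ 10 with hw
  have hwa' : w a = b := hwa
  have hwb' : w b = c := hwb
  have hwc' : w c = a := hwc
  have hwK : w ∈ K := K.pow_mem (K.pow_mem hnK 4) 10
  have hwfix : ∀ s, z s ≠ s → w s = s := fun s hs =>
    FIVETHREE.pow_ten_fix hz5 hsupp hcomm hs
  refine ⟨w, hwK, ?_⟩
  rw [← card_support_eq_three_iff]
  have hsup : w.support = {a, b, c} := by
    ext s
    rw [Perm.mem_support]
    constructor
    · intro h
      by_contra hs
      apply h
      apply hwfix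
      intro hzs
      apply hs
      rcases (hfix s).mp hzs with rfl | rfl | rfl <;> simp
    · intro hs
      simp only [Finset.mem_insert, Finset.mem_singleton] at hs
      rcases hs with rfl | rfl | rfl
      · rw [hwa']; exact Ne.symm hab
      · rw [hwb']; exact Ne.symm hbc
      · rw [hwc']; exact hac
  rw [hsup]
  exact Finset.card_eq_three.mpr ⟨a, b, c, hab, hac, hbc, rfl⟩

end T13

end Cfsg.Agent.Helper2.AG
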