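import Mathlib
import Cfsg.Agent.Lib.Helper20.E8TLat

/-!
# S2375 piece POLY (helper3): the functional calculus `χ(g(M) y) = χ(y) ^ g(q)`
-/

set_option autoImplicit false

open Polynomial

namespace Cfsg.Agent.Helper20.E8T

/-- the functional calculus: `χ(g(M) y) = χ(y) ^ g(q)` -/
theorem cond_poly {K : Type*} [Field K] (q : ℕ) (M : Matrix (Fin 8) (Fin 8) ℤ) (x : Fin 8 → Kˣ) (h : Cond q M x)
    (g : ℤ[X]) (y : Fin 8 → ℤ) : chiV x ((aeval M g).mulVec y) = chiV x y ^ (g.eval (q : ℤ)) := by
  revert y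
  induction g using Polynomial.induction_on with
  | C a =>
    intro y
    rw [aeval_C, eval_C, Algebra.algebraMap_eq_smul_one, Matrix.smul_mulVec, Matrix.one_mulVec, chiV_zsmul]
  | add p p' hp hp' =>
    intro y
    rw [map_add, Matrix.add_mulVec, chiV_add, hp y, hp' y, eval_add, zpow_add]
  | monomial n a ih =>
    intro y
    have h1 : (aeval M (C a * X ^ (n + 1))) = aeval M (C a * X ^ n) * M := by
      rw [pow_succ, ← mul_assoc, map_mul, aeval_X]
    rw [h1, ← Matrix.mulVec_mulVec, ih (M.mulVec y), cond_all h y]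
    rw [← zpow_natCast, ← zpow_mul]
    congr 1
    simp only [eval_mul, eval_C, eval_pow, eval_X]
    ring

end Cfsg.Agent.Helper20.E8T
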