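import Mathlib
import Cfsg.Agent.Lib.Helper20.E8TLat
import Cfsg.Agent.Lib.Helper4.E8TCYC30EQ
import Cfsg.Agent.Lib.Helper4.E8TARITHA
import Cfsg.Agent.Lib.Helper3.E8TIRR
import Cfsg.Agent.Lib.Helper3.E8TPOLY

/-!
# S2375 piece CYC (helper3), core: `Φ₃₀(M) = 0` from an order `e` of `M` with `30 ∣ e`, `r ∤ e`
-/

set_option autoImplicit false

open Polynomial

namespace Cfsg.Agent.Helper20.E8T

/-- `Φ₃₀(M) y = 0`, `y ≠ 0`: the Krylov matrix of `y` is nonsingular -/
theorem e8tcyc_krylov (M : Matrix (Fin 8) (Fin 8) ℤ) (y : Fin 8 → ℤ) (h : (Phi30M M).mulVec y = 0)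
    (hy : y ≠ 0) : (krylov M y).det ≠ 0 := by
  set N : Matrix (Fin 8) (Fin 8) ℚ := (Int.castRingHom ℚ).mapMatrix M with hNdef
  set yq : Fin 8 → ℚ := fun i => (y i : ℚ) with hyq
  have hirr : Irreducible (cyclotomic 30 ℚ) := cyclotomic.irreducible_rat (by norm_num)
  have hyq0 : yq ≠ 0 := by
    intro h0
    apply hy
    funext i
    have := congrFun h0 i
    simpa [hyq] using this
  have hkill : (aeval N (cyclotomic 30 ℚ)).mulVec yq = 0 := by
    rw [hNdef, e8tirr_aeval]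
    funext i
    have h1 := RingHom.map_mulVec (Int.castRingHom ℚ) (Phi30M M) y i
    rw [h, Pi.zero_apply, map_zero] at h1
    rw [Pi.zero_apply]
    exact h1.symm
  have hdeg : (cyclotomic 30 ℚ).natDegree = 8 := by
    rw [natDegree_cyclotomic]
    decide
  have hind := e8tirr_indep N _ hirr yq hkill hyq0 8 hdeg
  have hcol : ((Int.castRingHom ℚ).mapMatrix (krylov M y)).col = fun j : Fin 8 => (N ^ j.val).mulVec yq := by
    funext j i
    have h1 : N ^ j.val = (Int.castRingHom ℚ).mapMatrix (M ^ j.val) := by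
      rw [hNdef, map_pow]
    rw [h1]
    simp only [Matrix.col, Matrix.transpose_apply, RingHom.mapMatrix_apply, Matrix.map_apply, krylov,
      Matrix.of_apply, Matrix.mulVec, dotProduct, hyq]
    rw [map_sum]
    refine Finset.sum_congr rfl fun x _ => ?_
    rw [map_mul]
    rfl
  rw [← hcol, Matrix.linearIndependent_cols_iff_isUnit, Matrix.isUnit_iff_isUnit_det] at hind
  have hdet : ((Int.castRingHom ℚ).mapMatrix (krylov M y)).det = ((krylov M y).det : ℚ) := by
    rw [← RingHom.map_det]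
    rfl
  rw [hdet] at hind
  intro h0
  rw [h0] at hind
  simp at hind

/-- `Φ₃₀(M)` as a polynomial in `M` -/
theorem e8tcyc_aeval (M : Matrix (Fin 8) (Fin 8) ℤ) : aeval M (cyclotomic 30 ℤ) = Phi30M M := by
  rw [cyc30_eq]
  unfold Phi30M
  simp only [map_add, map_sub, map_pow, aeval_X, map_one]

/-- a matrix killing all the columns of a nonsingular matrix is zero -/
theorem e8tcyc_cancel (A B : Matrix (Fin 8) (Fin 8) ℤ) (h : A * B = 0) (hB : B.det ≠ 0) : A = 0 := by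
  have h1 : A * B * B.adjugate = 0 := by rw [h, Matrix.zero_mul]
  rw [Matrix.mul_assoc, Matrix.mul_adjugate, Matrix.mul_smul, Matrix.mul_one] at h1
  ext i j
  have h2 := congrFun (congrFun h1 i) j
  simp only [Matrix.smul_apply, smul_eq_mul, Matrix.zero_apply] at h2 ⊢
  rcases mul_eq_zero.1 h2 with h3 | h3
  · exact absurd h3 hB
  · exact h3

theorem e8tcyc_core {K : Type*} [Field K] (q r : ℕ) (hq : 2 ≤ q) (hr : GoodPrime30 q r) (x : Fin 8 → Kˣ)
    (hx : ∀ i, x i ^ r = 1) (hne : x ≠ 1) (M : Matrix (Fin 8) (Fin 8) ℤ)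
    (hord : ∃ e : ℕ, 0 < e ∧ M ^ e = 1 ∧ 30 ∣ e ∧ ¬ r ∣ e) (h : Cond q M x) :
    Phi30M M = 0 := by
  have hrp : r.Prime := hr.prime
  haveI : Fact r.Prime := ⟨hrp⟩
  obtain ⟨e, he0, heM, h30, hre⟩ := hord
  -- `X ^ e - 1 = Φ₃₀ S`
  obtain ⟨S, hS⟩ : cyclotomic 30 ℤ ∣ X ^ e - 1 := by
    obtain ⟨k, rfl⟩ := h30
    refine (cyclotomic.dvd_X_pow_sub_one 30 ℤ).trans ?_
    have := sub_dvd_pow_sub_pow ((X : ℤ[X]) ^ 30) 1 k
    rwa [one_pow, ← pow_mul] at this
  -- `r ∤ S(q)`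
  have hΦq : eval (q : ℤ) (cyclotomic 30 ℤ) = ((mq q : ℕ) : ℤ) := by
    have := e8taritha_eval (R := ℤ) q hq
    simpa using this
  have hrq : ¬ r ∣ q := by
    intro hd
    have h1 : r ∣ q ^ e := dvd_pow hd he0.ne'
    have h2 : r ∣ q ^ e - 1 := (arith30_order q r hq hr e).2 h30
    have hpos : 1 ≤ q ^ e := Nat.one_le_pow _ _ (by omega)
    have h3 : r ∣ 1 := by
      have := (Nat.dvd_sub_iff_right hpos h1).1 h2
      exact this
    exact hrp.one_lt.ne' (Nat.dvd_one.1 h3)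
  have hSq : ¬ (r : ℤ) ∣ eval (q : ℤ) S := by
    intro hd
    have hder := congrArg (fun p : ℤ[X] => eval (q : ℤ) (derivative p)) hS
    simp only [derivative_sub, derivative_X_pow, derivative_one, sub_zero, derivative_mul, eval_add, eval_mul,
      eval_pow, eval_X, eval_C, hΦq] at hder
    have h1 : (r : ℤ) ∣ ((mq q : ℕ) : ℤ) := Int.natCast_dvd_natCast.2 hr.dvd
    have h2 : (r : ℤ) ∣ (e : ℤ) * (q : ℤ) ^ (e - 1) := by
      rw [hder]
      exact dvd_add (Dvd.dvd.mul_left hd _) (Dvd.dvd.mul_right h1 _)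
    have h3 : (r : ℤ) ∣ ((e * q ^ (e - 1) : ℕ) : ℤ) := by
      push_cast
      exact h2
    have h4 : r ∣ e * q ^ (e - 1) := Int.natCast_dvd_natCast.1 h3
    rcases (Nat.Prime.dvd_mul hrp).1 h4 with h5 | h5
    · exact hre h5
    · exact hrq (hrp.dvd_of_dvd_pow h5)
  -- a coordinate of order `r`
  obtain ⟨i, hi⟩ : ∃ i, x i ≠ 1 := by
    by_contra hall
    push Not at hall
    exact hne (funext hall)
  have hordi : orderOf (x i) = r := orderOf_eq_prime (hx i) hi
  set y : Fin 8 → ℤ := (aeval M S).mulVec (Pi.single i 1) with hy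
  have hy0 : y ≠ 0 := by
    intro h0
    have h1 := cond_poly q M x h S (Pi.single i 1)
    rw [← hy, h0, chiV_zero, chiV_single, zpow_one] at h1
    have h2 : (orderOf (x i) : ℤ) ∣ eval (q : ℤ) S := orderOf_dvd_iff_zpow_eq_one.2 h1.symm
    rw [hordi] at h2
    exact hSq h2
  have hprod : Phi30M M * aeval M S = 0 := by
    rw [← e8tcyc_aeval, ← map_mul, ← hS]
    simp only [map_sub, map_pow, aeval_X, map_one]
    rw [heM, sub_self]
  have hkill : (Phi30M M).mulVec y = 0 := by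
    rw [hy, Matrix.mulVec_mulVec, hprod, Matrix.zero_mulVec]
  have hdet := e8tcyc_krylov M y hkill hy0
  apply e8tcyc_cancel _ _ _ hdet
  ext a j
  have hcomm : Phi30M M * M ^ j.val = M ^ j.val * Phi30M M := by
    rw [← e8tcyc_aeval]
    have h1 : M ^ j.val = aeval M ((X : ℤ[X]) ^ j.val) := by rw [map_pow, aeval_X]
    rw [h1, ← map_mul, ← map_mul, mul_comm]
  have h1 : (Phi30M M * krylov M y) a j = ((Phi30M M).mulVec ((M ^ j.val).mulVec y)) a := by
    simp only [Matrix.mul_apply, krylov, Matrix.of_apply, Matrix.mulVec, dotProduct]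
  rw [h1, Matrix.mulVec_mulVec, hcomm, ← Matrix.mulVec_mulVec, hkill, Matrix.mulVec_zero]
  rfl

end Cfsg.Agent.Helper20.E8T
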