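import Mathlib
import Cfsg.Agent.Lib.Helper20.E8TLat
import Cfsg.Agent.Lib.Helper4.E8TARITHA
import Cfsg.Agent.Lib.Helper3.E8TIRR

/-!
# S2375 piece ORDER (helper3), core: the order of `M` is divisible by `30` and prime to `r`
(the finiteness of the order is a hypothesis here; `E8TORDER.lean` plugs in `isw_finorder`)
-/

set_option autoImplicit false

namespace Cfsg.Agent.Helper20.E8T

/-- iterating `Cond` -/
theorem e8torder_iter {K : Type*} [Field K] {q : ℕ} {M : Matrix (Fin 8) (Fin 8) ℤ} {x : Fin 8 → Kˣ}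
    (h : Cond q M x) (k : ℕ) (y : Fin 8 → ℤ) : chiV x ((M ^ k).mulVec y) = chiV x y ^ (q ^ k) := by
  induction k generalizing y with
  | zero => rw [pow_zero, pow_zero, pow_one, Matrix.one_mulVec]
  | succ k ih =>
    rw [pow_succ, ← Matrix.mulVec_mulVec, ih, cond_all h y, ← pow_mul, pow_succ, mul_comm]

theorem e8torder_core {K : Type*} [Field K] (q r : ℕ) (hq : 2 ≤ q) (hr : GoodPrime30 q r) (x : Fin 8 → Kˣ)
    (hx : ∀ i, x i ^ r = 1) (hne : x ≠ 1) (M : Matrix (Fin 8) (Fin 8) ℤ)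
    (hfin : ∃ e : ℕ, 0 < e ∧ M ^ e = 1) (h : Cond q M x) :
    ∃ e : ℕ, 0 < e ∧ M ^ e = 1 ∧ 30 ∣ e ∧ ¬ r ∣ e := by
  classical
  have hrp : r.Prime := hr.prime
  haveI : Fact r.Prime := ⟨hrp⟩
  have hr31 := arith30_ge q r hq hr
  obtain ⟨he0, heM⟩ := Nat.find_spec hfin
  have hmin : ∀ k, 0 < k → M ^ k = 1 → Nat.find hfin ≤ k := fun k hk hk' =>
    Nat.find_min' hfin ⟨hk, hk'⟩
  refine ⟨Nat.find hfin, he0, heM, ?_, ?_⟩
  · obtain ⟨i, hi⟩ : ∃ i, x i ≠ 1 := by
      by_contra hall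
      push Not at hall
      exact hne (funext hall)
    have hord : orderOf (x i) = r := orderOf_eq_prime (hx i) hi
    have h1 := e8torder_iter h (Nat.find hfin) (Pi.single i 1)
    rw [heM, Matrix.one_mulVec, chiV_single, zpow_one] at h1
    have hpos : 1 ≤ q ^ Nat.find hfin := Nat.one_le_pow _ _ (by omega)
    have h2 : x i ^ (q ^ Nat.find hfin - 1) = 1 := by
      have h3 : x i ^ (q ^ Nat.find hfin - 1) * x i = 1 * x i := by
        rw [← pow_succ, Nat.sub_add_cancel hpos, one_mul]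
        exact h1.symm
      exact mul_right_cancel h3
    have h3 : r ∣ q ^ Nat.find hfin - 1 := hord ▸ orderOf_dvd_of_pow_eq_one h2
    exact (arith30_order q r hq hr _).1 h3
  · rintro ⟨k, hk⟩
    have hk0 : 0 < k := by
      rcases Nat.eq_zero_or_pos k with rfl | hpos
      · rw [mul_zero] at hk
        omega
      · exact hpos
    have h1 : (M ^ k) ^ r = 1 := by
      rw [← pow_mul, mul_comm, ← hk]
      exact heM
    have h2 := tors (M ^ k) r hrp (by omega) h1
    have h3 := hmin k hk0 h2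
    rw [hk] at h3
    nlinarith

end Cfsg.Agent.Helper20.E8T
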