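import Mathlib
import Cfsg.Agent.Lib.Helper20.E8TLat
import Cfsg.Agent.Lib.Helper3.E8TORDER
import Cfsg.Agent.Lib.Helper3.E8TCYCCore

/-!
# S2375 piece CYC (helper3)
-/

set_option autoImplicit false

namespace Cfsg.Agent.Helper20.E8T

theorem corew1a {K : Type*} [Field K] (q r : ℕ) (hq : 2 ≤ q) (hr : GoodPrime30 q r) (x : Fin 8 → Kˣ)
    (hx : ∀ i, x i ^ r = 1) (hne : x ≠ 1) (M : Matrix (Fin 8) (Fin 8) ℤ) (hM : IsW M) (h : Cond q M x) :
    Phi30M M = 0 :=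
  e8tcyc_core q r hq hr x hx hne M (corew1_order q r hq hr x hx hne M hM h) h

end Cfsg.Agent.Helper20.E8T
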