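import Mathlib
import Cfsg.Agent.Lib.Helper20.E8TLat
import Cfsg.Agent.Lib.Helper4.E8TARITHA
import Cfsg.Agent.Lib.Helper3.E8TORDERCore
import Cfsg.Agent.Lib.Helper3.E8THAD

/-!
# S2375 piece REG (helper3): the elements of order `r` of the twisted torus are regular
-/

set_option autoImplicit false

namespace Cfsg.Agent.Helper20.E8T

/-- the Krylov matrix applied to a vector is a combination of the iterates -/
theorem e8treg_mulVec (M : Matrix (Fin 8) (Fin 8) ℤ) (y w : Fin 8 → ℤ) :
    (krylov M y).mulVec w = ∑ j : Fin 8, w j • (M ^ j.val).mulVec y := by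
  funext a
  simp only [Matrix.mulVec, dotProduct, krylov, Matrix.of_apply, Finset.sum_apply, Pi.smul_apply, smul_eq_mul]
  refine Finset.sum_congr rfl fun j _ => ?_
  ring

theorem corew1b {K : Type*} [Field K] (q r : ℕ) (hq : 2 ≤ q) (hr : GoodPrime30 q r) (x : Fin 8 → Kˣ)
    (hx : ∀ i, x i ^ r = 1) (hne : x ≠ 1) (M : Matrix (Fin 8) (Fin 8) ℤ) (hM : IsGood M) (h : Cond q M x) :
    ∀ v < 240, chiV x (rc v) ≠ 1 := by
  intro v hv hχ
  have hrp : r.Prime := hr.prime
  have hr31 := arith30_ge q r hq hr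
  obtain ⟨hdet, hle⟩ := had_bound M hM v hv
  set B : Matrix (Fin 8) (Fin 8) ℤ := krylov M (rc v) with hB
  -- the character is trivial on the image of `B`
  have himg : ∀ w : Fin 8 → ℤ, chiV x (B.mulVec w) = 1 := by
    intro w
    rw [hB, e8treg_mulVec, chiV_sum]
    refine Finset.prod_eq_one fun j _ => ?_
    rw [chiV_zsmul, e8torder_iter h, hχ, one_pow, one_zpow]
  apply hne
  funext i
  have h1 : chiV x (B.det • Pi.single i 1) = 1 := by
    have h2 : B.det • (Pi.single i 1 : Fin 8 → ℤ) = B.mulVec (B.adjugate.mulVec (Pi.single i 1)) := by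
      rw [Matrix.mulVec_mulVec, Matrix.mul_adjugate, Matrix.smul_mulVec, Matrix.one_mulVec]
    rw [h2]
    exact himg _
  rw [chiV_zsmul, chiV_single, zpow_one] at h1
  have h3 : (orderOf (x i) : ℤ) ∣ B.det := orderOf_dvd_iff_zpow_eq_one.2 h1
  have h4 : orderOf (x i) ∣ B.det.natAbs := Int.natCast_dvd.1 h3
  have h5 : orderOf (x i) ∣ r := orderOf_dvd_of_pow_eq_one (hx i)
  have hnat : B.det.natAbs ≤ 16 := by
    have : (B.det.natAbs : ℤ) ≤ 16 := by
      rw [Int.natCast_natAbs]
      exact hle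
    exact_mod_cast this
  have hpos : 0 < B.det.natAbs := Int.natAbs_pos.2 hdet
  rcases (Nat.dvd_prime hrp).1 h5 with h6 | h6
  · exact orderOf_eq_one_iff.1 h6
  · exfalso
    rw [h6] at h4
    have := Nat.le_of_dvd hpos h4
    omega

end Cfsg.Agent.Helper20.E8T
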