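import Mathlib
import Cfsg.Agent.Lib.Helper20.E8TLat

/-!
# S2375 piece FIELD30 (helper3): the extension of degree 30 and a primitive `Φ₃₀(q)`-th root of unity
-/

set_option autoImplicit false

namespace Cfsg.Agent.Helper20.E8T

/-- an extension of degree `30` -/
theorem field30_exists (F : Type*) [Field F] [Fintype F] :
    ∃ (K : Type) (_ : Field K) (_ : Fintype K) (_ : F →+* K), Fintype.card K = Fintype.card F ^ 30 := by
  obtain ⟨p, hp⟩ := CharP.exists F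
  haveI : Fact p.Prime := ⟨CharP.char_is_prime F p⟩
  refine ⟨FiniteField.Extension F p 30, inferInstance, Fintype.ofFinite _,
    algebraMap F (FiniteField.Extension F p 30), ?_⟩
  rw [Fintype.card_eq_nat_card, FiniteField.natCard_extension, Fintype.card_eq_nat_card]

/-- private copy of `mq_cast` -/
theorem e8tfield30_mq_cast (q : ℕ) (hq : 2 ≤ q) :
    ((mq q : ℕ) : ℤ) = (q : ℤ) ^ 8 + (q : ℤ) ^ 7 - (q : ℤ) ^ 5 - (q : ℤ) ^ 4 - (q : ℤ) ^ 3 + (q : ℤ) + 1 := by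
  unfold mq
  have h1 : q ^ 5 ≤ q ^ 8 + q ^ 7 := by
    have : q ^ 5 ≤ q ^ 7 := Nat.pow_le_pow_right (by omega) (by norm_num)
    omega
  have h2 : q ^ 4 ≤ q ^ 8 + q ^ 7 - q ^ 5 := by
    have : q ^ 5 ≤ q ^ 7 := Nat.pow_le_pow_right (by omega) (by norm_num)
    have : q ^ 4 ≤ q ^ 8 := Nat.pow_le_pow_right (by omega) (by norm_num)
    omega
  have h3 : q ^ 3 ≤ q ^ 8 + q ^ 7 - q ^ 5 - q ^ 4 := by
    have h5 : q ^ 5 ≤ q ^ 7 := Nat.pow_le_pow_right (by omega) (by norm_num)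
    have h4 : 2 * q ^ 4 ≤ q ^ 8 := by
      have : q ^ 8 = q ^ 4 * q ^ 4 := by ring
      rw [this, mul_comm 2]
      apply Nat.mul_le_mul_left
      calc 2 ≤ q := hq
        _ = q ^ 1 := (pow_one q).symm
        _ ≤ q ^ 4 := Nat.pow_le_pow_right (by omega) (by norm_num)
    have h34 : q ^ 3 ≤ q ^ 4 := Nat.pow_le_pow_right (by omega) (by norm_num)
    omega
  push_cast [h1, h2, h3]
  ring

/-- private copy of `mq_dvd` -/
theorem e8tfield30_mq_dvd (q : ℕ) (hq : 2 ≤ q) : mq q ∣ q ^ 30 - 1 := by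
  have h1 : 1 ≤ q ^ 30 := Nat.one_le_pow _ _ (by omega)
  have hz : ((mq q : ℕ) : ℤ) ∣ ((q ^ 30 - 1 : ℕ) : ℤ) := by
    rw [e8tfield30_mq_cast q hq]
    push_cast [h1]
    refine ⟨((q : ℤ) ^ 15 - 1) * ((q : ℤ) + 1) * ((q : ℤ) ^ 2 - q + 1) *
      ((q : ℤ) ^ 4 - (q : ℤ) ^ 3 + (q : ℤ) ^ 2 - q + 1), ?_⟩
    ring
  exact Int.natCast_dvd_natCast.1 hz

/-- a primitive `m`-th root of unity in the field with `q³⁰` elements -/
theorem field30_root {K : Type*} [Field K] [Fintype K] (q : ℕ) (hq : 2 ≤ q) (hK : Fintype.card K = q ^ 30) :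
    ∃ ζ : Kˣ, orderOf ζ = mq q := by
  classical
  have hcard : Nat.card Kˣ = q ^ 30 - 1 := by
    rw [Nat.card_eq_fintype_card, Fintype.card_units, hK]
  obtain ⟨g, hg⟩ := IsCyclic.exists_ofOrder_eq_natCard (α := Kˣ)
  rw [hcard] at hg
  obtain ⟨k, hk⟩ := e8tfield30_mq_dvd q hq
  have hpos : 0 < q ^ 30 - 1 := by
    have : 2 ^ 30 ≤ q ^ 30 := Nat.pow_le_pow_left hq 30
    have : (2 : ℕ) ^ 30 = 1073741824 := by norm_num
    omega
  have hk0 : k ≠ 0 := by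
    rintro rfl
    rw [mul_zero] at hk
    omega
  refine ⟨g ^ k, ?_⟩
  rw [orderOf_pow_of_dvd hk0 (by rw [hg, hk]; exact Dvd.intro_left _ rfl), hg, hk]
  exact Nat.mul_div_cancel _ (Nat.pos_of_ne_zero hk0)

end Cfsg.Agent.Helper20.E8T
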