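import Mathlib
import Cfsg.Agent.Lib.Helper3.KLLocal2
import Cfsg.Agent.Lib.Helper25.FusionFactor
import Cfsg.Agent.S5134
import Cfsg.Agent.S5133

/-!
# Factor systems: normalizers in the quotient and lifting innerness
-/

set_option autoImplicit false
set_option linter.style.haveILetI false
set_option linter.unusedSectionVars false

namespace Cfsg.Agent.Helper3.KL

open Cfsg Cfsg.FusionSystem Cfsg.Agent.Helper25

variable {Ω : Type*} [Group Ω] {S : Subgroup Ω} {Ω' : Type*} [Group Ω'] {S' : Subgroup Ω'}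

/-- The extension of an automorphism of `U` to `U ⊔ X` normalizing `X` is an automorphism. -/
theorem exists_aut_sup [Finite S] (F : FusionSystem S) {U X : Subgroup Ω} (α : MulAut U)
    {ψ : ↥(U ⊔ X) →* Ω} (hψ : ψ ∈ F.Hom (U ⊔ X))
    (hext : ∀ x : U, ψ (Subgroup.inclusion le_sup_left x) = (U.subtype.comp α.toMonoidHom) x)
    (hmap : (X.subgroupOf (U ⊔ X)).map ψ = X) :
    ∃ β ∈ F.autGroup (U ⊔ X), ∀ z : ↥(U ⊔ X), ((β z : ↥(U ⊔ X)) : Ω) = ψ z := by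
  have hVS : U ⊔ X ≤ S := (F.le_of_mem hψ).1
  have hψX : ∀ (b : Ω) (hb : b ∈ X), ψ ⟨b, (le_sup_right : X ≤ U ⊔ X) hb⟩ ∈ X := by
    intro b hb
    have h0 : ψ ⟨b, (le_sup_right : X ≤ U ⊔ X) hb⟩ ∈ (X.subgroupOf (U ⊔ X)).map ψ :=
      (mem_map_subgroupOf ψ).mpr ⟨b, _, hb, rfl⟩
    exact hmap.le h0
  have hψV : ∀ z : ↥(U ⊔ X), ψ z ∈ U ⊔ X := by
    apply sup_hom_mem ψ (U ⊔ X)
    · intro a ha
      have := hext ⟨a, ha⟩
      have e : (Subgroup.inclusion le_sup_left ⟨a, ha⟩ : ↥(U ⊔ X)) =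
          ⟨a, le_sup_left (b := X) ha⟩ := rfl
      rw [e] at this
      rw [this]
      exact le_sup_left (b := X) (α ⟨a, ha⟩).2
    · intro b hb
      exact le_sup_right (a := U) (hψX b hb)
  haveI : Finite ↥(U ⊔ X) := finite_of_le_finite hVS
  have hψr : ψ.range = U ⊔ X := by
    have hle : ψ.range ≤ U ⊔ X := by rintro _ ⟨z, rfl⟩; exact hψV z
    apply Subgroup.eq_of_le_of_card_ge hle
    exact le_of_eq (Nat.card_congr (homEquiv F hψ).toEquiv)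
  exact aut_of_range_eq F hψ hψr

/-- Normalizer systems in a factor system are inner as soon as the maps of the system normalizing
the preimage are conjugations. -/
theorem isInner_normalizer_factor (N : FusionSystem S) (Q : Subgroup Ω) (θ : S →* Ω')
    (E : FusionSystem S') (hE : N.IsFactorSystem Q θ E) (X' : Subgroup Ω')
    (hR : ∀ (K : Subgroup Ω) (hRK : preimageAlong θ X' ≤ K) (ψ : K →* Ω), ψ ∈ N.Hom K →
      (∀ (x : Ω) (hx : x ∈ preimageAlong θ X'), ψ ⟨x, hRK hx⟩ ∈ preimageAlong θ X') →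
      ∃ g ∈ S, ∀ x : K, ψ x = g * (x : Ω) * g⁻¹)
    (M : FusionSystem (normalizerIn S' X')) (hM : E.IsNormalizerSystem X' M) : IsInner M := by
  obtain ⟨-, hker, hrange, hHom⟩ := hE
  intro P' φ' hφ'
  rw [hM P'] at hφ'
  obtain ⟨hφ'E, hP'N, -, ψ', hψ', hψ'ext, hψ'map⟩ := hφ'
  obtain ⟨hVS', ψ, hψ, hPS, hψS, hθK, hind⟩ := (hHom _ ψ').mp hψ'
  have hRK : preimageAlong θ X' ≤ preimageAlong θ (P' ⊔ X') := by
    intro x hx
    obtain ⟨hxS, hx'⟩ := mem_preimageAlong.mp hx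
    exact mem_preimageAlong.mpr ⟨hxS, le_sup_right (a := P') hx'⟩
  have hψ'X : ∀ (y : Ω') (hy : y ∈ X'), ψ' ⟨y, le_sup_right (a := P') hy⟩ ∈ X' := by
    intro y hy
    have h0 : ψ' ⟨y, le_sup_right (a := P') hy⟩ ∈ (X'.subgroupOf (P' ⊔ X')).map ψ' :=
      ⟨⟨y, le_sup_right (a := P') hy⟩, Subgroup.mem_subgroupOf.mpr hy, rfl⟩
    exact hψ'map.le h0
  have hψR : ∀ (x : Ω) (hx : x ∈ preimageAlong θ X'), ψ ⟨x, hRK hx⟩ ∈ preimageAlong θ X' := by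
    intro x hx
    obtain ⟨hxS, hx'⟩ := mem_preimageAlong.mp hx
    rw [mem_preimageAlong]
    refine ⟨hψS _, ?_⟩
    rw [← hind ⟨x, hRK hx⟩]
    exact hψ'X _ hx'
  obtain ⟨g, hg, hgψ⟩ := hR _ hRK ψ hψ hψR
  have hθg : θ ⟨g, hg⟩ ∈ S' := hrange ▸ ⟨_, rfl⟩
  have hconj : ∀ y : ↥(P' ⊔ X'), ψ' y = θ ⟨g, hg⟩ * (y : Ω') * (θ ⟨g, hg⟩)⁻¹ := by
    intro y
    obtain ⟨x, hx⟩ := exists_preimage hrange hVS' y.2
    have h1 := hind x
    have e1 : (⟨θ ⟨x, hPS x.2⟩, hθK x⟩ : ↥(P' ⊔ X')) = y := Subtype.ext hx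
    rw [e1] at h1
    rw [h1]
    have e2 : (⟨ψ x, hψS x⟩ : S) = ⟨g, hg⟩ * ⟨x, hPS x.2⟩ * ⟨g, hg⟩⁻¹ := Subtype.ext (hgψ x)
    rw [e2, map_mul, map_mul, map_inv, hx]
  have hgN : θ ⟨g, hg⟩ ∈ normalizerIn S' X' := by
    rw [mem_normalizerIn]
    refine ⟨hθg, ?_⟩
    apply mem_normalizer_of_forall
    · intro y hy
      rw [← hconj ⟨y, le_sup_right (a := P') hy⟩]
      exact hψ'X y hy
    · intro y hy
      have h0 : y ∈ (X'.subgroupOf (P' ⊔ X')).map ψ' := hψ'map.ge hy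
      obtain ⟨z, hz, rfl⟩ := h0
      rw [hconj z]
      have : (θ ⟨g, hg⟩)⁻¹ * (θ ⟨g, hg⟩ * (z : Ω') * (θ ⟨g, hg⟩)⁻¹) * θ ⟨g, hg⟩ = z := by group
      rw [this]
      exact Subgroup.mem_subgroupOf.mp hz
  refine ⟨θ ⟨g, hg⟩, hgN, fun y => ?_⟩
  rw [← hψ'ext y, hconj]
  rfl


/-- powers of an automorphism that is trivial modulo `θ` -/
theorem theta_pow_conj {V : Subgroup Ω} (hVS : V ≤ S) (θ : S →* Ω') (γ : MulAut V) (g : Ω')
    (h : ∀ v : V, θ ⟨((γ v : V) : Ω), hVS (γ v).2⟩ = g * θ ⟨v, hVS v.2⟩ * g⁻¹) (n : ℕ) (v : V) :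
    θ ⟨(((γ ^ n) v : V) : Ω), hVS ((γ ^ n) v).2⟩ = g ^ n * θ ⟨v, hVS v.2⟩ * (g ^ n)⁻¹ := by
  induction n generalizing v with
  | zero => simp
  | succ n ih =>
    have e : (γ ^ (n + 1)) v = γ ((γ ^ n) v) := by rw [pow_succ', MulAut.mul_apply]
    rw [e, h, ih, pow_succ']
    simp [mul_assoc]

theorem theta_pow_triv {V : Subgroup Ω} (hVS : V ≤ S) (θ : S →* Ω') (δ : MulAut V)
    (h : ∀ v : V, θ ⟨((δ v : V) : Ω), hVS (δ v).2⟩ = θ ⟨v, hVS v.2⟩) (n : ℕ) (v : V) :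
    θ ⟨(((δ ^ n) v : V) : Ω), hVS ((δ ^ n) v).2⟩ = θ ⟨v, hVS v.2⟩ := by
  have := theta_pow_conj hVS θ δ 1 (fun v => by rw [h]; simp) n v
  rw [this]; simp

theorem fix_pow {V : Type*} [Group V] (δ : MulAut V) (q : V) (h : δ q = q) (n : ℕ) :
    (δ ^ n) q = q := by
  induction n with
  | zero => simp
  | succ n ih => rw [pow_succ, MulAut.mul_apply, h, ih]

/-- an automorphism trivial on `Q` and trivial modulo `Q` has order dividing `|Q|`. -/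
theorem pow_card_eq_one_of_stable {V : Type*} [Group V] (Q : Subgroup V) (δ : MulAut V)
    (hQ : ∀ q ∈ Q, δ q = q) (hV : ∀ v : V, v⁻¹ * δ v ∈ Q) : δ ^ Nat.card Q = 1 := by
  have key : ∀ (n : ℕ) (v : V), (δ ^ n) v = v * (v⁻¹ * δ v) ^ n := by
    intro n
    induction n with
    | zero => intro v; simp
    | succ n ih =>
      intro v
      have e : (δ ^ (n + 1)) v = δ ((δ ^ n) v) := by rw [pow_succ', MulAut.mul_apply]
      rw [e, ih, map_mul, hQ _ (Q.pow_mem (hV v) n), pow_succ']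
      simp [mul_assoc]
  ext v
  rw [key]
  have h1 : (v⁻¹ * δ v) ^ Nat.card Q = 1 := by
    have := pow_card_eq_one' (G := Q) (x := ⟨v⁻¹ * δ v, hV v⟩)
    exact congrArg Subtype.val this
  rw [h1]; simp

/-- **Lifting**: if `Q` is normal in the saturated system `N`, the factor system is inner and
`Aut_N(Q)` is a `p`-group, then `N` is inner. -/
theorem isInner_of_factor [Finite S] (p : ℕ) [Fact p.Prime] (hS : IsPGroup p S)
    (N : FusionSystem S) (hN : N.IsSaturated p) (Q : Subgroup Ω) (hQ : N.IsNormal Q)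
    (θ : S →* Ω') (E : FusionSystem S') (hE : N.IsFactorSystem Q θ E) (hEi : IsInner E)
    (hAut : ∀ α : MulAut Q, Q.subtype.comp α.toMonoidHom ∈ N.Hom Q → ∃ k : ℕ, α ^ p ^ k = 1) :
    IsInner N := by
  have hmor := (Cfsg.Agent.S5134.result p hS N hN Q (stronglyClosed_of_isNormal N hQ) θ E hE).1
  obtain ⟨-, hker, hrange, -⟩ := hE
  apply isInner_of_forall_pow p hS N hN
  intro U hU α hα
  obtain ⟨ψ, hψ, hψext, hψmap⟩ := hQ.2 U _ hα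
  obtain ⟨γ, hγ, hγψ⟩ := exists_aut_sup N α hψ hψext hψmap
  have hVS : U ⊔ Q ≤ S := (N.le_of_mem hψ).1
  haveI : Finite Q := finite_of_le_finite hQ.1
  -- the action on Q
  have hψQ : ∀ (b : Ω) (hb : b ∈ Q), ψ ⟨b, (le_sup_right : Q ≤ U ⊔ Q) hb⟩ ∈ Q := by
    intro b hb
    have h0 : ψ ⟨b, (le_sup_right : Q ≤ U ⊔ Q) hb⟩ ∈ (Q.subgroupOf (U ⊔ Q)).map ψ :=
      (mem_map_subgroupOf ψ).mpr ⟨b, _, hb, rfl⟩
    exact hψmap.le h0
  have hψQr : (ψ.comp (Subgroup.inclusion (le_sup_right : Q ≤ U ⊔ Q))).range = Q := by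
    have hle : (ψ.comp (Subgroup.inclusion (le_sup_right : Q ≤ U ⊔ Q))).range ≤ Q := by
      rintro _ ⟨q, rfl⟩; exact hψQ q.1 q.2
    apply Subgroup.eq_of_le_of_card_ge hle
    exact le_of_eq (Nat.card_congr (homEquiv N (restrict_mem N le_sup_right hψ)).toEquiv)
  obtain ⟨δ, hδ, hδψ⟩ := aut_of_range_eq N (restrict_mem N le_sup_right hψ) hψQr
  obtain ⟨k, hk⟩ := hAut δ ((mem_autGroup_iff N hQ.1 δ).mp hδ)
  have hγQ : ∀ q : Q, ((γ ^ p ^ k) (Subgroup.inclusion le_sup_right q)) =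
      Subgroup.inclusion le_sup_right q := by
    intro q
    have h4 := aut_pow_restrict (le_sup_right : Q ≤ U ⊔ Q) δ γ (fun u => by
      rw [hγψ, hδψ]; rfl) (p ^ k) q
    rw [hk] at h4
    exact Subtype.ext h4
  -- the action modulo Q
  obtain ⟨φ', hφ', hPS, hψS, hθK, hind⟩ := hmor.2 _ ψ hψ
  obtain ⟨g, hg, hgφ⟩ := hEi _ φ' hφ'
  have hg' : g ∈ θ.range := hrange ▸ hg
  obtain ⟨s, rfl⟩ := hg'
  obtain ⟨a, ha⟩ := hS s
  have hga : θ s ^ p ^ a = 1 := by rw [← map_pow, ha, map_one]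
  have hγθ : ∀ v : ↥(U ⊔ Q), θ ⟨((γ v : ↥(U ⊔ Q)) : Ω), hVS (γ v).2⟩ =
      θ s * θ ⟨v, hVS v.2⟩ * (θ s)⁻¹ := by
    intro v
    have h1 := hind v
    rw [hgφ] at h1
    have e1 : (⟨((γ v : ↥(U ⊔ Q)) : Ω), hVS (γ v).2⟩ : S) = ⟨ψ v, hψS v⟩ := Subtype.ext (hγψ v)
    rw [e1, ← h1]
  have hγa : ∀ v : ↥(U ⊔ Q), θ ⟨(((γ ^ p ^ a) v : ↥(U ⊔ Q)) : Ω), hVS ((γ ^ p ^ a) v).2⟩ =
      θ ⟨v, hVS v.2⟩ := by
    intro v
    rw [theta_pow_conj hVS θ γ (θ s) hγθ, hga]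
    simp
  -- combine
  set ε := γ ^ (p ^ a * p ^ k) with hε
  have hε1 : ε = (γ ^ p ^ a) ^ p ^ k := by rw [hε, pow_mul]
  have hε2 : ε = (γ ^ p ^ k) ^ p ^ a := by rw [hε, mul_comm, pow_mul]
  have hεθ : ∀ v : ↥(U ⊔ Q), θ ⟨((ε v : ↥(U ⊔ Q)) : Ω), hVS (ε v).2⟩ = θ ⟨v, hVS v.2⟩ := by
    intro v
    have := theta_pow_triv hVS θ (γ ^ p ^ a) hγa (p ^ k) v
    rw [← hε1] at this
    exact this
  have hεQ : ∀ q ∈ Q.subgroupOf (U ⊔ Q), ε q = q := by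
    intro q hq
    have hq' : (q : Ω) ∈ Q := Subgroup.mem_subgroupOf.mp hq
    have e1 : q = Subgroup.inclusion le_sup_right (⟨q, hq'⟩ : Q) := Subtype.ext rfl
    rw [hε2]
    apply fix_pow
    rw [e1]
    exact hγQ ⟨q, hq'⟩
  have hεV : ∀ v : ↥(U ⊔ Q), v⁻¹ * ε v ∈ Q.subgroupOf (U ⊔ Q) := by
    intro v
    rw [Subgroup.mem_subgroupOf]
    have h1 := hεθ v
    have h2 : θ (⟨v, hVS v.2⟩⁻¹ * ⟨((ε v : ↥(U ⊔ Q)) : Ω), hVS (ε v).2⟩) = 1 := by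
      rw [map_mul, map_inv, h1]; simp
    exact (hker _).mp h2
  have h5 := pow_card_eq_one_of_stable (Q.subgroupOf (U ⊔ Q)) ε hεQ hεV
  have hcard : Nat.card (Q.subgroupOf (U ⊔ Q)) = Nat.card Q :=
    Nat.card_congr (Subgroup.subgroupOfEquivOfLe (le_sup_right : Q ≤ U ⊔ Q)).toEquiv
  obtain ⟨b, hb⟩ := (hS.to_le hQ.1).exists_card_eq
  rw [hcard, hb, hε, ← pow_mul, ← pow_add, ← pow_add] at h5
  refine ⟨a + k + b, ?_⟩
  ext u
  have h4 := aut_pow_restrict (le_sup_left : U ≤ U ⊔ Q) α γ (fun u => by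
    rw [hγψ]; exact hψext u) (p ^ (a + k + b)) u
  rw [h5] at h4
  rw [← h4]
  rfl

end Cfsg.Agent.Helper3.KL
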