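import Mathlib
import Cfsg.Agent.Lib.Helper3.KLQuot
import Cfsg.Agent.Lib.Helper25.FusionSat3

/-!
# Receptivity argument: automorphisms of a normal non-centric subgroup
-/

set_option autoImplicit false
set_option linter.style.haveILetI false
set_option linter.unusedSectionVars false

namespace Cfsg.Agent.Helper3.KL

open Cfsg Cfsg.FusionSystem Cfsg.Agent.Helper25

variable {Ω : Type*} [Group Ω] {S : Subgroup Ω}

/-- If `Q ⊴ S` and the maps of `N` on `Q C_S(Q)` normalizing it are conjugations by elements of `S`,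
then `Aut_N(Q)` consists of `p`-elements. -/
theorem aut_pow_of_centralizer [Finite S] (p : ℕ) [Fact p.Prime] (hS : IsPGroup p S)
    (N : FusionSystem S) (hN : N.IsSaturated p) (Q : Subgroup Ω) (hQS : Q ≤ S)
    (hQn : S ≤ Subgroup.normalizer (Q : Set Ω))
    (hR : ∀ ψ : ↥(Q ⊔ centralizerIn S Q) →* Ω, ψ ∈ N.Hom (Q ⊔ centralizerIn S Q) →
      (∀ x : ↥(Q ⊔ centralizerIn S Q), ψ x ∈ Q ⊔ centralizerIn S Q) →
      ∃ g ∈ S, ∀ x : ↥(Q ⊔ centralizerIn S Q), ψ x = g * (x : Ω) * g⁻¹)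
    (α : MulAut Q) (hα : Q.subtype.comp α.toMonoidHom ∈ N.Hom Q) : ∃ k : ℕ, α ^ p ^ k = 1 := by
  have hfn := isFullyNormalized_of_normal N hQS hQn
  obtain ⟨-, -, hrec⟩ := of_fullyNormalized p hS N hN hfn
  set φ := Q.subtype.comp α.toMonoidHom with hφdef
  have hrange : φ.range = Q := by
    ext y
    constructor
    · rintro ⟨x, rfl⟩; exact (α x).2
    · intro hy
      exact ⟨α⁻¹ ⟨y, hy⟩, by simp [hφdef]⟩
  obtain ⟨ψ, hψ, hψext⟩ := hrec.2 Q φ hα hrange
  have hle : Q ⊔ centralizerIn S Q ≤ extender S Q φ :=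
    sup_le (le_extender N hα) (centralizerIn_le_extender φ)
  have hψR := restrict_mem N hle hψ
  have hψQ : ∀ (a : Ω) (ha : a ∈ Q), ψ ⟨a, hle (le_sup_left (b := centralizerIn S Q) ha)⟩ =
      ((α ⟨a, ha⟩ : Q) : Ω) := fun a ha => hψext a ha _
  have hmem : ∀ x : ↥(Q ⊔ centralizerIn S Q),
      (ψ.comp (Subgroup.inclusion hle)) x ∈ Q ⊔ centralizerIn S Q := by
    apply sup_hom_mem
    · intro a ha
      show ψ ⟨a, _⟩ ∈ _
      rw [hψQ a ha]
      exact le_sup_left (b := centralizerIn S Q) (α ⟨a, ha⟩).2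
    · intro c hc
      apply le_sup_right (a := Q)
      show ψ ⟨c, _⟩ ∈ _
      rw [mem_centralizerIn]
      refine ⟨(N.le_of_mem hψ).2 _, ?_⟩
      intro q hq
      have hc' := (mem_centralizerIn.mp hc).2
      obtain ⟨q', hq'⟩ : ∃ q' : Q, ((α q' : Q) : Ω) = q := ⟨α⁻¹ ⟨q, hq⟩, by simp⟩
      rw [← hq', ← hψQ q'.1 q'.2, ← map_mul, ← map_mul]
      congr 1
      apply Subtype.ext
      exact hc' q'.1 q'.2
  obtain ⟨g, hg, hgψ⟩ := hR _ hψR hmem
  apply aut_pow_eq_one_of_conj hS α g hg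
  intro x
  have := hgψ (Subgroup.inclusion le_sup_left x)
  rw [← hψQ x.1 x.2]
  exact this

end Cfsg.Agent.Helper3.KL
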