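import Mathlib
import Cfsg.Agent.Lib.Helper3.KLRecept
import Cfsg.Agent.S5132

/-!
# The Kessar–Linckelmann induction skeleton

An abstract local-to-global principle: `Free` is a hypothesis inherited by normalizer systems and
factor systems, `Loc` is a local hypothesis implied by innerness of normalizers of characteristic
subgroups.
-/

set_option autoImplicit false
set_option linter.style.haveILetI false
set_option linter.unusedSectionVars false

namespace Cfsg.Agent.Helper3.KL

open Cfsg Cfsg.FusionSystem Cfsg.Agent.Helper25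

universe u

/-- The hypotheses of the skeleton. -/
structure Scheme (p : ℕ)
    (Free Loc : ∀ (Ω : Type u) [Group Ω] (S : Subgroup Ω), FusionSystem S → Prop) : Prop where
  free_norm : ∀ {Ω : Type u} [Group Ω] {S : Subgroup Ω} [Finite S], IsPGroup p S →
    ∀ (F : FusionSystem S), F.IsSaturated p → Free Ω S F → ∀ Q : Subgroup Ω,
    F.IsFullyNormalized Q → ∀ N : FusionSystem (normalizerIn S Q), F.IsNormalizerSystem Q N →
    Free Ω (normalizerIn S Q) N
  free_quot : ∀ {Ω : Type u} [Group Ω] {S : Subgroup Ω} [Finite S], IsPGroup p S →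
    ∀ (F : FusionSystem S), F.IsSaturated p → Free Ω S F → ∀ Q : Subgroup Ω, F.IsNormal Q →
    ∀ {Ω' : Type u} [Group Ω'] {S' : Subgroup Ω'} (θ : S →* Ω') (E : FusionSystem S'),
    F.IsFactorSystem Q θ E → Free Ω' S' E
  loc_of_char : ∀ {Ω : Type u} [Group Ω] {S : Subgroup Ω} [Finite S], IsPGroup p S → S ≠ ⊥ →
    ∀ (F : FusionSystem S), F.IsSaturated p →
    (∀ X : Subgroup Ω, X ≤ S → X ≠ ⊥ → (X.subgroupOf S).Characteristic →
      ∀ N : FusionSystem (normalizerIn S X), F.IsNormalizerSystem X N → IsInner N) → Loc Ω S F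
  loc_sub : ∀ {Ω : Type u} [Group Ω] {S : Subgroup Ω} [Finite S], IsPGroup p S →
    ∀ (F : FusionSystem S), Loc Ω S F → ∀ (T : Subgroup Ω) (N : FusionSystem T), T = S →
    (∀ P : Subgroup Ω, N.Hom P ⊆ F.Hom P) → Loc Ω T N
  final : ∀ {Ω : Type u} [Group Ω] {S : Subgroup Ω} [Finite S], IsPGroup p S →
    ∀ (N : FusionSystem S), N.IsSaturated p → ∀ Q : Subgroup Ω, N.IsNormal Q → N.IsCentric Q →
    Free Ω S N → Loc Ω S N → IsInner N

variable {p : ℕ} [Fact p.Prime]
  {Free Loc : ∀ (Ω : Type u) [Group Ω] (S : Subgroup Ω), FusionSystem S → Prop}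

theorem conj_mem_sup_of_normalizes {Ω : Type*} [Group Ω] {A B : Subgroup Ω} {s : Ω}
    (hA : ∀ y ∈ A, s * y * s⁻¹ ∈ A) (hB : ∀ y ∈ B, s * y * s⁻¹ ∈ B) :
    ∀ y ∈ A ⊔ B, s * y * s⁻¹ ∈ A ⊔ B := by
  intro y hy
  refine sup_induction (C := fun y => s * y * s⁻¹ ∈ A ⊔ B) ?_ ?_ ?_ hy
  · intro x hx; exact le_sup_left (b := B) (hA x hx)
  · intro x hx; exact le_sup_right (a := A) (hB x hx)
  · intro a b _ _ ha hb
    have : s * (a * b) * s⁻¹ = (s * a * s⁻¹) * (s * b * s⁻¹) := by group
    rw [this]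
    exact Subgroup.mul_mem _ ha hb

/-- The factor system modulo a nontrivial normal subgroup `Q` is inner, provided the induction
hypothesis holds and normalizers of larger normal subgroups are inner. -/
theorem exists_inner_factor (H : Scheme p Free Loc) {Ω : Type u} [Group Ω] {T : Subgroup Ω}
    [Finite T] (hT : IsPGroup p T)
    (ih : ∀ m < Nat.card T, ∀ {Ω' : Type u} [Group Ω'] {S' : Subgroup Ω'} [Finite S'],
      Nat.card S' = m → IsPGroup p S' → ∀ E : FusionSystem S', E.IsSaturated p → Free Ω' S' E →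
      Loc Ω' S' E → IsInner E)
    (N : FusionSystem T) (hN : N.IsSaturated p) (hfree : Free Ω T N) (Q : Subgroup Ω)
    (hQ : N.IsNormal Q) (hQ1 : Q ≠ ⊥) (hQn : T ≤ Subgroup.normalizer (Q : Set Ω))
    (KB : ∀ R : Subgroup Ω, Q ≤ R → R ≤ T → T ≤ Subgroup.normalizer (R : Set Ω) →
      Nat.card Q < Nat.card R → ∀ (K : Subgroup Ω) (hRK : R ≤ K) (ψ : K →* Ω), ψ ∈ N.Hom K →
      (∀ (x : Ω) (hx : x ∈ R), ψ ⟨x, hRK hx⟩ ∈ R) → ∃ g ∈ T, ∀ x : K, ψ x = g * (x : Ω) * g⁻¹) :
    ∃ (Ω' : Type u) (_ : Group Ω') (S' : Subgroup Ω') (θ : T →* Ω') (E : FusionSystem S'),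
      N.IsFactorSystem Q θ E ∧ IsInner E := by
  have hQT : Q ≤ T := hQ.1
  haveI : (Q.subgroupOf T).Normal := (Subgroup.normal_subgroupOf_iff_le_normalizer hQT).mpr hQn
  have hsc := stronglyClosed_of_isNormal N hQ
  obtain ⟨E, hE⟩ := Cfsg.Agent.S5132.result p hT N Q hsc
  set θ := QuotientGroup.mk' (Q.subgroupOf T) with hθ
  refine ⟨_, _, _, θ, E, hE, ?_⟩
  have hEsat : E.IsSaturated p :=
    Cfsg.Agent.S5133.result p hT N hN E θ (Cfsg.Agent.S5134.result p hT N hN Q hsc θ E hE)
  have hEfree := H.free_quot hT N hN hfree Q hQ θ E hE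
  have hT' : IsPGroup p (⊤ : Subgroup (T ⧸ Q.subgroupOf T)) :=
    (hT.to_quotient _).to_subgroup _
  by_cases htop : (⊤ : Subgroup (T ⧸ Q.subgroupOf T)) = ⊥
  · exact isInner_of_bot E htop
  haveI : Finite Q := finite_of_le_finite hQT
  have hcardQ : 1 < Nat.card Q := by
    rw [Finite.one_lt_card_iff_nontrivial]
    exact (Subgroup.nontrivial_iff_ne_bot Q).mpr hQ1
  have hcard : Nat.card (⊤ : Subgroup (T ⧸ Q.subgroupOf T)) < Nat.card T := by
    rw [Subgroup.card_top, Subgroup.card_eq_card_quotient_mul_card_subgroup (Q.subgroupOf T)]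
    have h1 : Nat.card (Q.subgroupOf T) = Nat.card Q :=
      Nat.card_congr (Subgroup.subgroupOfEquivOfLe hQT).toEquiv
    rw [h1]
    have h2 : 0 < Nat.card (T ⧸ Q.subgroupOf T) := Nat.card_pos
    nlinarith
  have hker : ∀ t : T, θ t = 1 ↔ (t : Ω) ∈ Q := hE.2.1
  apply ih _ hcard rfl hT' E hEsat hEfree
  apply H.loc_of_char hT' htop E hEsat
  intro X' hX'le hX'1 hX'c M hM
  have hX'n : ∀ (g y : T ⧸ Q.subgroupOf T), y ∈ X' → g * y * g⁻¹ ∈ X' := by
    intro g y hy
    have h1 := normalizer_le_of_char hX'le hX'c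
    have h2 : g ∈ Subgroup.normalizer ((⊤ : Subgroup (T ⧸ Q.subgroupOf T)) : Set _) := by
      rw [Subgroup.mem_normalizer_iff]; intro h; simp
    exact (Subgroup.mem_normalizer_iff.mp (h1 h2) y).mp hy
  apply isInner_normalizer_factor N Q θ E hE X' ?_ M hM
  set R := preimageAlong θ X' with hR
  have hQR : Q ≤ R := by
    intro x hx
    rw [hR, mem_preimageAlong]
    refine ⟨hQT hx, ?_⟩
    rw [(hker ⟨x, hQT hx⟩).mpr hx]
    exact X'.one_mem
  have hRT : R ≤ T := preimageAlong_le θ X'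
  have hRn : T ≤ Subgroup.normalizer (R : Set Ω) := by
    have key : ∀ t ∈ T, ∀ y ∈ R, t * y * t⁻¹ ∈ R := by
      intro t ht y hy
      obtain ⟨hyT, hy'⟩ := mem_preimageAlong.mp hy
      rw [hR, mem_preimageAlong]
      refine ⟨T.mul_mem (T.mul_mem ht hyT) (T.inv_mem ht), ?_⟩
      have e : (⟨t * y * t⁻¹, T.mul_mem (T.mul_mem ht hyT) (T.inv_mem ht)⟩ : T) =
          ⟨t, ht⟩ * ⟨y, hyT⟩ * ⟨t, ht⟩⁻¹ := Subtype.ext rfl
      rw [e, map_mul, map_mul, map_inv]
      exact hX'n _ _ hy'
    intro t ht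
    apply mem_normalizer_of_forall
    · exact key t ht
    · intro y hy
      have := key t⁻¹ (T.inv_mem ht) y hy
      rwa [inv_inv] at this
  have hlt : Nat.card Q < Nat.card R := by
    obtain ⟨x', hx'1⟩ := (Subgroup.ne_bot_iff_exists_ne_one.mp hX'1)
    have hx'' : (x' : T ⧸ Q.subgroupOf T) ≠ 1 := fun h => hx'1 (Subtype.ext h)
    obtain ⟨t, ht⟩ := QuotientGroup.mk'_surjective (Q.subgroupOf T) (x' : T ⧸ Q.subgroupOf T)
    have htR : (t : Ω) ∈ R := by
      rw [hR, mem_preimageAlong]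
      refine ⟨t.2, ?_⟩
      show θ t ∈ X'
      rw [hθ, ht]; exact x'.2
    have htQ : (t : Ω) ∉ Q := by
      intro h
      apply hx''
      rw [← ht]
      exact (hker t).mpr h
    exact card_lt_of_le_of_mem hRT hQR htR htQ
  intro K hRK ψ hψ hψR
  exact KB R hQR hRT hRn hlt K hRK ψ hψ hψR


/-- **The skeleton theorem.** -/
theorem skeleton (H : Scheme p Free Loc) : ∀ (n : ℕ) {Ω : Type u} [Group Ω] {S : Subgroup Ω}
    [Finite S], Nat.card S = n → IsPGroup p S → ∀ F : FusionSystem S, F.IsSaturated p →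
    Free Ω S F → Loc Ω S F → IsInner F := by
  intro n
  induction n using Nat.strong_induction_on with
  | _ n ih =>
  intro Ω _ S _ hcard hS F hF hfree hloc
  subst hcard
  by_contra hni
  -- the bad subgroups
  let Bad : Set (Subgroup Ω) := {P | P ≠ ⊥ ∧ F.IsFullyNormalized P ∧
    ∃ N : FusionSystem (normalizerIn S P), F.IsNormalizerSystem P N ∧ ¬ IsInner N}
  have hex : Bad.Nonempty := by
    by_contra hno
    apply hni
    apply isInner_of_local p hS F hF
    intro P hP hfn N hN
    by_contra hNi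
    exact hno ⟨P, hP, hfn, N, hN, hNi⟩
  have hfin : Bad.Finite := (finite_subgroups_le S).subset fun P hP => hP.2.1.1
  obtain ⟨P₀, hP₀, hmax₀⟩ := Set.exists_max_image Bad (fun P => Nat.card (normalizerIn S P)) hfin hex
  by_cases hT : normalizerIn S P₀ = S
  swap
  · -- Case A: proper normalizer
    obtain ⟨hP1, hfn, N, hN, hNi⟩ := hP₀
    apply hNi
    have hTS : normalizerIn S P₀ ≤ S := normalizerIn_le
    have hTp : IsPGroup p (normalizerIn S P₀) := hS.to_le hTS
    haveI : Finite (normalizerIn S P₀) := finite_of_le_finite hTS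
    have hNsat := normalizerSystem_isSaturated p hS F hF hfn N hN
    have hNfree := H.free_norm hS F hF hfree P₀ hfn N hN
    have hlt : Nat.card (normalizerIn S P₀) < Nat.card S := by
      refine lt_of_le_of_ne (Subgroup.card_le_of_le hTS) (fun h => hT ?_)
      exact Subgroup.eq_of_le_of_card_ge hTS h.ge
    have hT1 : normalizerIn S P₀ ≠ ⊥ := by
      intro h
      apply hP1
      rw [eq_bot_iff, ← h]
      exact le_normalizerIn hfn.1
    have hNF : ∀ P : Subgroup Ω, N.Hom P ⊆ F.Hom P := by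
      intro P φ hφ
      rw [hN P] at hφ
      exact hφ.1
    apply ih _ hlt rfl hTp N hNsat hNfree
    apply H.loc_of_char hTp hT1 N hNsat
    intro X hXT hX1 hXc M hM
    have hXn : normalizerIn S P₀ ≤ Subgroup.normalizer (X : Set Ω) :=
      Subgroup.le_normalizer.trans (normalizer_le_of_char hXT hXc)
    have hMsat := normalizerSystem_isSaturated p hTp N hNsat
      (isFullyNormalized_of_normal N hXT hXn) M hM
    refine isInner_normalizer_of_char p hS F hF hTS hT N hNF ?_ X hXT hX1 hXc M hM hMsat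
    intro X' hX'1 hX'fn hX'lt N' hN'
    by_contra hN'i
    have := hmax₀ X' ⟨hX'1, hX'fn, N', hN', hN'i⟩
    exact absurd hX'lt (not_lt.mpr this)
  · -- Case B: normal subgroups
    let Bad' : Set (Subgroup Ω) := {P | P ∈ Bad ∧ normalizerIn S P = S}
    have hfin' : Bad'.Finite := hfin.subset fun P hP => hP.1
    obtain ⟨Q, hQB, hmaxQ⟩ := Set.exists_max_image Bad' (fun P => Nat.card P) hfin' ⟨P₀, hP₀, hT⟩
    obtain ⟨⟨hQ1, hfn, N, hN, hNi⟩, hQN⟩ := hQB
    apply hNi
    have hQS : Q ≤ S := hfn.1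
    have hTS : normalizerIn S Q ≤ S := normalizerIn_le
    have hTp : IsPGroup p (normalizerIn S Q) := hS.to_le hTS
    haveI : Finite (normalizerIn S Q) := finite_of_le_finite hTS
    have hNsat := normalizerSystem_isSaturated p hS F hF hfn N hN
    have hNfree := H.free_norm hS F hF hfree Q hfn N hN
    have hQnormal : N.IsNormal Q := normalizerSystem_isNormal F hQS N hN
    have hQT : Q ≤ normalizerIn S Q := le_normalizerIn hQS
    have hQn : normalizerIn S Q ≤ Subgroup.normalizer (Q : Set Ω) := inf_le_right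
    have hNF : ∀ P : Subgroup Ω, N.Hom P ⊆ F.Hom P := by
      intro P φ hφ
      rw [hN P] at hφ
      exact hφ.1
    have hcardT : Nat.card (normalizerIn S Q) = Nat.card S := by rw [hQN]
    -- normalizers of larger normal subgroups are inner
    have KB : ∀ R : Subgroup Ω, Q ≤ R → R ≤ normalizerIn S Q →
        normalizerIn S Q ≤ Subgroup.normalizer (R : Set Ω) →
        Nat.card Q < Nat.card R → ∀ (K : Subgroup Ω) (hRK : R ≤ K) (ψ : K →* Ω), ψ ∈ N.Hom K →
        (∀ (x : Ω) (hx : x ∈ R), ψ ⟨x, hRK hx⟩ ∈ R) →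
        ∃ g ∈ normalizerIn S Q, ∀ x : K, ψ x = g * (x : Ω) * g⁻¹ := by
      intro R hQR hRT hRn hlt K hRK ψ hψ hψR
      have hRS : R ≤ S := hRT.trans hTS
      have hRn' : S ≤ Subgroup.normalizer (R : Set Ω) := hQN ▸ hRn
      have hR1 : R ≠ ⊥ := by
        intro h; apply hQ1; rw [eq_bot_iff, ← h]; exact hQR
      have hRfn := isFullyNormalized_of_normal F hRS hRn'
      obtain ⟨NR, hNR⟩ := Cfsg.Agent.S5096.result F R hRS
      have hNRi : IsInner NR := by
        by_contra hcon
        have := hmaxQ R ⟨⟨hR1, hRfn, NR, hNR, hcon⟩, normalizerIn_eq_of_le hRn'⟩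
        exact absurd hlt (not_lt.mpr this)
      have hKS : K ≤ S := ((N.le_of_mem hψ).1).trans hTS
      have hKN : K ≤ normalizerIn S R := by rw [normalizerIn_eq_of_le hRn']; exact hKS
      obtain ⟨g, hg, hgψ⟩ := exists_conj_of_isInner_normalizer F NR hNR hNRi hRK hKN (hNF _ hψ) hψR
      exact ⟨g, hQN.ge (normalizerIn_le hg), hgψ⟩
    obtain ⟨Ω', _, S', θ, E, hE, hEi⟩ := exists_inner_factor H hTp
      (fun m hm => ih m (hcardT ▸ hm)) N hNsat hNfree Q hQnormal hQ1 hQn KB
    by_cases hcen : centralizerIn (normalizerIn S Q) Q ≤ Q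
    · -- centric: the constrained case
      have hQc : N.IsCentric Q := by
        refine ⟨hQT, ?_⟩
        rintro Q' ⟨φ, hφ, rfl⟩
        rw [normalizerSystem_range_eq F N hN hφ]
        exact hcen
      have hNloc := H.loc_sub hS F hloc _ N hQN hNF
      exact H.final hTp N hNsat Q hQnormal hQc hNfree hNloc
    · -- non-centric
      apply isInner_of_factor p hTp N hNsat Q hQnormal θ E hE hEi
      apply aut_pow_of_centralizer p hTp N hNsat Q hQT hQn
      set C := centralizerIn (normalizerIn S Q) Q with hC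
      intro ψ hψ hmem
      have hCT : C ≤ normalizerIn S Q := centralizerIn_le
      have hlt : Nat.card Q < Nat.card ↥(Q ⊔ C) := by
        obtain ⟨c, hc, hcQ⟩ := SetLike.not_le_iff_exists.mp hcen
        exact card_lt_of_le_of_mem (sup_le hQT hCT) le_sup_left (le_sup_right (a := Q) hc) hcQ
      have hRn : normalizerIn S Q ≤ Subgroup.normalizer ((Q ⊔ C : Subgroup Ω) : Set Ω) := by
        have key : ∀ t ∈ normalizerIn S Q, ∀ y ∈ Q ⊔ C, t * y * t⁻¹ ∈ Q ⊔ C := by
          intro t ht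
          apply conj_mem_sup_of_normalizes
          · intro y hy
            exact (Subgroup.mem_normalizer_iff.mp (hQn ht) y).mp hy
          · intro y hy
            rw [hC, mem_centralizerIn] at hy ⊢
            refine ⟨Subgroup.mul_mem _ (Subgroup.mul_mem _ ht hy.1) (Subgroup.inv_mem _ ht), ?_⟩
            intro q hq
            have hq' : t⁻¹ * q * t ∈ Q := by
              have := (Subgroup.mem_normalizer_iff.mp (hQn (Subgroup.inv_mem _ ht)) q).mp hq
              simpa using this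
            have h1 := hy.2 _ hq'
            calc q * (t * y * t⁻¹) = t * ((t⁻¹ * q * t) * y) * t⁻¹ := by group
              _ = t * (y * (t⁻¹ * q * t)) * t⁻¹ := by rw [h1]
              _ = t * y * t⁻¹ * q := by group
        intro t ht
        apply mem_normalizer_of_forall
        · exact key t ht
        · intro y hy
          have := key t⁻¹ (Subgroup.inv_mem _ ht) y hy
          rwa [inv_inv] at this
      exact KB (Q ⊔ C) le_sup_left (sup_le hQT hCT) hRn hlt (Q ⊔ C) le_rfl ψ hψ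
        (fun x hx => hmem ⟨x, hx⟩)

end Cfsg.Agent.Helper3.KL
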