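import Mathlib
import Cfsg.Prelude.Def_PLocal

/-!
# Isomorphism invariance of the abelian-version Thompson subgroup and of `Z(J)`
-/

set_option autoImplicit false
set_option linter.style.haveILetI false
set_option linter.unusedSectionVars false

namespace Cfsg.Agent.Helper3.KL

open Cfsg

variable {A B : Type*} [Group A] [Group B]

theorem map_equiv_isMulCommutative (e : A ≃* B) (X : Subgroup A) :
    IsMulCommutative (X.map e.toMonoidHom) ↔ IsMulCommutative X := by
  constructor
  · intro h
    refine ⟨⟨fun x y => ?_⟩⟩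
    apply Subtype.ext
    apply e.injective
    have := h.is_comm.comm ⟨e x, Subgroup.mem_map_of_mem e.toMonoidHom x.2⟩
      ⟨e y, Subgroup.mem_map_of_mem e.toMonoidHom y.2⟩
    have h2 : e x * e y = e y * e x := congrArg Subtype.val this
    rw [Subgroup.coe_mul, Subgroup.coe_mul, map_mul, map_mul]
    exact h2
  · intro h
    exact Subgroup.map_isMulCommutative X _

theorem card_map_equiv (e : A ≃* B) (X : Subgroup A) :
    Nat.card (X.map e.toMonoidHom) = Nat.card X :=
  Subgroup.card_map_of_injective e.injective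

theorem map_symm_map (e : A ≃* B) (Y : Subgroup B) :
    (Y.map e.symm.toMonoidHom).map e.toMonoidHom = Y := by
  ext y
  constructor
  · rintro ⟨_, ⟨z, hz, rfl⟩, rfl⟩
    simpa using hz
  · intro hy
    exact ⟨e.symm y, ⟨y, hy, rfl⟩, by simp⟩

theorem mem_maxAbelian_map (e : A ≃* B) {X : Subgroup A} (hX : X ∈ maxAbelianSubgroups A) :
    X.map e.toMonoidHom ∈ maxAbelianSubgroups B := by
  obtain ⟨hc, hmax⟩ := hX
  refine ⟨(map_equiv_isMulCommutative e X).mpr hc, fun Y hY => ?_⟩
  have h1 : IsMulCommutative (Y.map e.symm.toMonoidHom) := Subgroup.map_isMulCommutative Y _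
  have h2 := hmax _ h1
  rw [card_map_equiv] at h2 ⊢
  exact h2

theorem thompsonSubgroupA_map_equiv_le (e : A ≃* B) :
    (thompsonSubgroupA A).map e.toMonoidHom ≤ thompsonSubgroupA B := by
  unfold thompsonSubgroupA
  rw [Subgroup.map_le_iff_le_comap]
  apply sSup_le
  intro X hX
  rw [← Subgroup.map_le_iff_le_comap]
  exact le_sSup (mem_maxAbelian_map e hX)

theorem thompsonSubgroupA_map_equiv (e : A ≃* B) :
    (thompsonSubgroupA A).map e.toMonoidHom = thompsonSubgroupA B := by
  apply le_antisymm (thompsonSubgroupA_map_equiv_le e)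
  have h1 := thompsonSubgroupA_map_equiv_le e.symm
  have h2 := Subgroup.map_mono (f := e.toMonoidHom) h1
  rw [map_symm_map] at h2
  exact h2

/-- the intrinsic `Z(J(A))` -/
def zj (A : Type*) [Group A] : Subgroup A :=
  thompsonSubgroupA A ⊓ Subgroup.centralizer (thompsonSubgroupA A : Set A)

theorem thompsonSubgroupAOf_range {G : Type*} [Group G] (f : A →* G) (hf : Function.Injective f) :
    thompsonSubgroupAOf f.range = (thompsonSubgroupA A).map f := by
  unfold thompsonSubgroupAOf
  rw [← thompsonSubgroupA_map_equiv (MonoidHom.ofInjective hf), Subgroup.map_map]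
  rfl

theorem thompsonSubgroupAOf_eq {G : Type*} [Group G] (S : Subgroup G) :
    thompsonSubgroupAOf S = (thompsonSubgroupA S).map S.subtype := rfl

theorem centerThompsonAOf_range {G : Type*} [Group G] (f : A →* G) (hf : Function.Injective f) :
    centerThompsonAOf f.range = (zj A).map f := by
  unfold centerThompsonAOf
  rw [thompsonSubgroupAOf_range f hf]
  ext y
  constructor
  · rintro ⟨⟨x, hx, rfl⟩, hy2⟩
    refine ⟨x, Subgroup.mem_inf.mpr ⟨hx, ?_⟩, rfl⟩
    have hy2' : f x ∈ Subgroup.centralizer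
        ((Subgroup.map f (thompsonSubgroupA A) : Subgroup G) : Set G) := hy2
    rw [Subgroup.mem_centralizer_iff] at hy2' ⊢
    intro j hj
    have := hy2' (f j) (Subgroup.mem_map_of_mem f hj)
    apply hf
    simpa using this
  · rintro ⟨x, hx, rfl⟩
    obtain ⟨hx1, hx2⟩ := Subgroup.mem_inf.mp hx
    refine Subgroup.mem_inf.2 ⟨Subgroup.mem_map_of_mem f hx1, ?_⟩
    show f x ∈ Subgroup.centralizer
        ((Subgroup.map f (thompsonSubgroupA A) : Subgroup G) : Set G)
    rw [Subgroup.mem_centralizer_iff] at hx2 ⊢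
    rintro _ ⟨j, hj, rfl⟩
    rw [← map_mul, ← map_mul, hx2 j hj]

theorem centerThompsonAOf_eq {G : Type*} [Group G] (S : Subgroup G) :
    centerThompsonAOf S = (zj S).map S.subtype := by
  have := centerThompsonAOf_range S.subtype (Subgroup.subtype_injective S)
  rwa [Subgroup.range_subtype] at this

theorem centerThompsonAOf_subgroupOf {G : Type*} [Group G] (S : Subgroup G) :
    (centerThompsonAOf S).subgroupOf S = zj S := by
  rw [centerThompsonAOf_eq]
  exact Subgroup.comap_map_eq_self_of_injective (Subgroup.subtype_injective S) _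

theorem thompsonSubgroupAOf_subgroupOf {G : Type*} [Group G] (S : Subgroup G) :
    (thompsonSubgroupAOf S).subgroupOf S = thompsonSubgroupA S := by
  rw [thompsonSubgroupAOf_eq]
  exact Subgroup.comap_map_eq_self_of_injective (Subgroup.subtype_injective S) _

theorem zj_map_equiv (e : A ≃* B) : (zj A).map e.toMonoidHom = zj B := by
  unfold zj
  rw [← thompsonSubgroupA_map_equiv e]
  ext y
  constructor
  · rintro ⟨x, hx, rfl⟩
    obtain ⟨hx1, hx2⟩ := Subgroup.mem_inf.mp hx
    refine Subgroup.mem_inf.mpr ⟨Subgroup.mem_map_of_mem _ hx1, ?_⟩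
    rw [Subgroup.mem_centralizer_iff] at hx2 ⊢
    rintro _ ⟨j, hj, rfl⟩
    show e j * e x = e x * e j
    rw [← map_mul, ← map_mul, hx2 j hj]
  · intro hy
    obtain ⟨⟨x, hx, rfl⟩, hy2⟩ := Subgroup.mem_inf.mp hy
    refine ⟨x, Subgroup.mem_inf.mpr ⟨hx, ?_⟩, rfl⟩
    rw [Subgroup.mem_centralizer_iff] at hy2 ⊢
    intro j hj
    have := hy2 (e j) (Subgroup.mem_map_of_mem _ hj)
    apply e.injective
    simpa using this

theorem thompsonSubgroupA_characteristic (A : Type*) [Group A] :
    (thompsonSubgroupA A).Characteristic := by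
  rw [Subgroup.characteristic_iff_map_eq]
  intro φ
  exact thompsonSubgroupA_map_equiv φ

theorem zj_characteristic (A : Type*) [Group A] : (zj A).Characteristic := by
  rw [Subgroup.characteristic_iff_map_eq]
  intro φ
  exact zj_map_equiv φ

theorem thompsonSubgroupA_ne_bot (A : Type*) [Group A] [Finite A] [Nontrivial A] :
    thompsonSubgroupA A ≠ ⊥ := by
  obtain ⟨x, hx1⟩ := exists_ne (1 : A)
  -- a maximal abelian subgroup exists
  have hfin : (Set.univ : Set (Subgroup A)).Finite := Set.toFinite _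
  have hne : {X : Subgroup A | IsMulCommutative X}.Nonempty :=
    ⟨⊥, (inferInstance : IsMulCommutative (⊥ : Subgroup A))⟩
  obtain ⟨M, hM, hmax⟩ := Set.exists_max_image {X : Subgroup A | IsMulCommutative X}
    (fun X => Nat.card X) (Set.toFinite _) hne
  have hMm : M ∈ maxAbelianSubgroups A := ⟨hM, fun Y hY => hmax Y hY⟩
  intro h
  have hMJ : M ≤ thompsonSubgroupA A := le_sSup hMm
  rw [h, le_bot_iff] at hMJ
  have hcard := hmax (Subgroup.zpowers x) (by
    show IsMulCommutative (Subgroup.zpowers x)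
    infer_instance)
  rw [hMJ, Subgroup.card_bot] at hcard
  have h2 : Subgroup.zpowers x = ⊥ := Subgroup.card_eq_one.mp (le_antisymm hcard Nat.card_pos)
  exact hx1 (Subgroup.zpowers_eq_bot.mp h2)

theorem zj_ne_bot (p : ℕ) [Fact p.Prime] (A : Type*) [Group A] [Finite A] [Nontrivial A]
    (hA : IsPGroup p A) : zj A ≠ ⊥ := by
  have hJ := thompsonSubgroupA_ne_bot A
  haveI : Nontrivial (thompsonSubgroupA A) := (Subgroup.nontrivial_iff_ne_bot _).mpr hJ
  have hJp : IsPGroup p (thompsonSubgroupA A) := hA.to_subgroup _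
  haveI := hJp.center_nontrivial
  obtain ⟨z, hz1⟩ := exists_ne (1 : Subgroup.center (thompsonSubgroupA A))
  intro h
  have hz : ((z : thompsonSubgroupA A) : A) ∈ zj A := by
    refine Subgroup.mem_inf.mpr ⟨(z : thompsonSubgroupA A).2, ?_⟩
    rw [Subgroup.mem_centralizer_iff]
    intro j hj
    have := Subgroup.mem_center_iff.mp z.2 ⟨j, hj⟩
    exact congrArg Subtype.val this
  rw [h, Subgroup.mem_bot] at hz
  apply hz1
  apply Subtype.ext
  apply Subtype.ext
  exact hz

end Cfsg.Agent.Helper3.KL
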