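import Mathlib
import Cfsg.Agent.Lib.Helper3.KLSkeleton
import Cfsg.Agent.Lib.Helper3.KLGroup
import Cfsg.Agent.Lib.Helper3.KLZJ
import Cfsg.Agent.Lib.Helper3.ModelTransport

/-!
# Common tools for applying the skeleton
-/

set_option autoImplicit false
set_option linter.style.haveILetI false
set_option linter.unusedSectionVars false

namespace Cfsg.Agent.Helper3.KL

open Cfsg Cfsg.FusionSystem Cfsg.Agent.Helper25

variable {Ω : Type*} [Group Ω] {S : Subgroup Ω}

theorem normalizerHom_mono {N F : FusionSystem S} (h : ∀ P : Subgroup Ω, N.Hom P ⊆ F.Hom P)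
    (W P : Subgroup Ω) : N.normalizerHom W P ⊆ F.normalizerHom W P := by
  rintro φ ⟨hφ, hP, hval, ψ, hψ, hext, hmap⟩
  exact ⟨h _ hφ, hP, hval, ψ, h _ hψ, hext, hmap⟩

/-- innerness of normalizer systems passes to subsystems on the same group -/
theorem isInner_normalizer_of_subsystem {N F : FusionSystem S}
    (h : ∀ P : Subgroup Ω, N.Hom P ⊆ F.Hom P) (W : Subgroup Ω) (hW : W ≤ S)
    (hF : ∀ NF : FusionSystem (normalizerIn S W), F.IsNormalizerSystem W NF → IsInner NF)
    (M : FusionSystem (normalizerIn S W)) (hM : N.IsNormalizerSystem W M) : IsInner M := by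
  obtain ⟨NF, hNF⟩ := Cfsg.Agent.S5096.result F W hW
  apply isInner_of_subset (hF NF hNF)
  intro P
  rw [hM P, hNF P]
  exact normalizerHom_mono h W P

theorem zjOf_le (S : Subgroup Ω) : centerThompsonAOf S ≤ S := by
  rw [centerThompsonAOf_eq]
  rintro _ ⟨x, -, rfl⟩
  exact x.2

theorem jOf_le (S : Subgroup Ω) : thompsonSubgroupAOf S ≤ S := by
  rw [thompsonSubgroupAOf_eq]
  rintro _ ⟨x, -, rfl⟩
  exact x.2

theorem zjOf_char (S : Subgroup Ω) : ((centerThompsonAOf S).subgroupOf S).Characteristic := by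
  rw [centerThompsonAOf_subgroupOf]
  exact zj_characteristic S

theorem jOf_char (S : Subgroup Ω) : ((thompsonSubgroupAOf S).subgroupOf S).Characteristic := by
  rw [thompsonSubgroupAOf_subgroupOf]
  exact thompsonSubgroupA_characteristic S

theorem zjOf_ne_bot [Finite S] (p : ℕ) [Fact p.Prime] (hS : IsPGroup p S) (hS1 : S ≠ ⊥) :
    centerThompsonAOf S ≠ ⊥ := by
  haveI : Nontrivial S := (Subgroup.nontrivial_iff_ne_bot S).mpr hS1
  rw [centerThompsonAOf_eq]
  intro h
  rw [Subgroup.map_eq_bot_iff_of_injective _ (Subgroup.subtype_injective S)] at h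
  exact zj_ne_bot p S hS h

theorem jOf_ne_bot [Finite S] (hS1 : S ≠ ⊥) : thompsonSubgroupAOf S ≠ ⊥ := by
  haveI : Nontrivial S := (Subgroup.nontrivial_iff_ne_bot S).mpr hS1
  rw [thompsonSubgroupAOf_eq]
  intro h
  rw [Subgroup.map_eq_bot_iff_of_injective _ (Subgroup.subtype_injective S)] at h
  exact thompsonSubgroupA_ne_bot S h

theorem le_normalizer_of_char {X : Subgroup Ω} (hX : X ≤ S) (hc : (X.subgroupOf S).Characteristic) :
    S ≤ Subgroup.normalizer (X : Set Ω) :=
  Subgroup.le_normalizer.trans (normalizer_le_of_char hX hc)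

/-- The images in a realization. -/
theorem zjOf_range {G : Type*} [Group G] (ι : S →* G) (hι : Function.Injective ι) :
    centerThompsonAOf ι.range = ((centerThompsonAOf S).subgroupOf S).map ι := by
  rw [centerThompsonAOf_range ι hι, centerThompsonAOf_subgroupOf]

theorem jOf_range {G : Type*} [Group G] (ι : S →* G) (hι : Function.Injective ι) :
    thompsonSubgroupAOf ι.range = ((thompsonSubgroupAOf S).subgroupOf S).map ι := by
  rw [thompsonSubgroupAOf_range ι hι, thompsonSubgroupAOf_subgroupOf]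

end Cfsg.Agent.Helper3.KL
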