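import Mathlib
import Cfsg.Agent.Lib.Helper3.KLEmbed

/-!
# The embedding lemma, part 2: `K = N_L(jQ)` is a model of `N_{N_F(Q)}(U)`
-/

set_option autoImplicit false
set_option linter.style.haveILetI false
set_option linter.unusedSectionVars false

namespace Cfsg.Agent.Helper3.KL

open Cfsg Cfsg.FusionSystem Cfsg.Agent.Helper25 Cfsg.Agent.Helper3.Model

variable {Ω : Type*} [Group Ω] {S : Subgroup Ω} {L : Type*} [Group L]

namespace EmbData

variable {p : ℕ} [Fact p.Prime] {F : FusionSystem S} {Q U V : Subgroup Ω} [Finite S]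

section
variable (D : EmbData p F Q U V L)
include D

/-- the embedding of `N_{N_S(Q)}(U)` into `K` -/
def ι₂ : ↥(normalizerIn (normalizerIn S Q) U) →* ↥D.K :=
  (D.j.comp (Subgroup.inclusion D.hT'N)).codRestrict D.K
    (fun x => D.j_mem_K (normalizerIn_le x.2).2)

theorem ι₂_coe (x : ↥(normalizerIn (normalizerIn S Q) U)) :
    ((D.ι₂ x : ↥D.K) : L) = D.j ⟨x, D.hT'N x.2⟩ := rfl

theorem ι₂_injective : Function.Injective D.ι₂ := by
  intro a b hab
  have h1 : D.j ⟨a, D.hT'N a.2⟩ = D.j ⟨b, D.hT'N b.2⟩ := congrArg Subtype.val hab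
  have h2 : (a : Ω) = (b : Ω) :=
    congrArg (fun z : ↥(normalizerIn S U) => (z : Ω)) (D.j_injective h1)
  exact Subtype.ext h2

theorem N_isSaturated : D.N.IsSaturated p :=
  normalizerSystem_isSaturated p D.hS F D.hF D.hQfn D.N D.hN

theorem N_le (P : Subgroup Ω) : D.N.Hom P ⊆ F.Hom P := by
  intro φ hφ
  rw [D.hN P] at hφ
  exact hφ.1

theorem jU_le_K : D.jU ≤ D.K := by
  intro y hy
  obtain ⟨u, hu, rfl⟩ := D.mem_jU.mp hy
  exact D.j_mem_K (D.hUT hu).2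

theorem isRealizedBy_K (M : FusionSystem (normalizerIn (normalizerIn S Q) U))
    (hM : D.N.IsNormalizerSystem U M) : M.IsRealizedBy D.ι₂ := by
  obtain ⟨hfin, hrealV, -, -⟩ := D.hmV
  haveI := hfin
  haveI : Finite (normalizerIn S Q) := finite_of_le_finite normalizerIn_le
  refine ⟨D.ι₂_injective, fun P hP φ hφ => ?_⟩
  have hA : P ⊔ U ≤ normalizerIn S U := sup_le (hP.trans D.hT'N) D.hUN
  have hAT : P ⊔ U ≤ normalizerIn S Q := sup_le (hP.trans normalizerIn_le) D.hUT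
  constructor
  · intro hφM
    rw [hM P] at hφM
    obtain ⟨hφN, hPT', hval, φt, hφt, hext, hmap⟩ := hφM
    have hφtF : φt ∈ F.normalizerHom Q (P ⊔ U) := by rw [← D.hN]; exact hφt
    obtain ⟨hφtF', -, -, ψ', hψ', hext', hmap'⟩ := hφtF
    have hφtQ : ∀ (q : Ω) (hq : q ∈ Q), φt ⟨q, le_sup_right (a := P) (D.hQU hq)⟩ ∈ Q := by
      intro q hq
      have h1 := hext' ⟨q, le_sup_right (a := P) (D.hQU hq)⟩
      rw [← h1]
      have h0 : ψ' (Subgroup.inclusion le_sup_left ⟨q, le_sup_right (a := P) (D.hQU hq)⟩) ∈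
          (Q.subgroupOf (P ⊔ U ⊔ Q)).map ψ' :=
        ⟨_, Subgroup.mem_subgroupOf.mpr hq, rfl⟩
      exact hmap'.le h0
    have hφtU : ∀ (u : Ω) (hu : u ∈ U), φt ⟨u, le_sup_right (a := P) hu⟩ ∈ U := by
      intro u hu
      have h0 : φt ⟨u, le_sup_right (a := P) hu⟩ ∈ (U.subgroupOf (P ⊔ U)).map φt :=
        ⟨_, Subgroup.mem_subgroupOf.mpr hu, rfl⟩
      exact hmap.le h0
    have hφtN : ∀ x : ↥(P ⊔ U), φt x ∈ normalizerIn S U := by
      apply sup_hom_mem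
      · intro a ha
        have h1 := hext ⟨a, ha⟩
        have e : (Subgroup.inclusion le_sup_left ⟨a, ha⟩ : ↥(P ⊔ U)) =
            ⟨a, le_sup_left (b := U) ha⟩ := rfl
        rw [e] at h1
        rw [h1]
        exact D.hT'N (hφ _)
      · intro b hb
        exact D.hUN (hφtU b hb)
    obtain ⟨l, hl⟩ := exists_conj_of_hom F D.hψ D.hψN D.hψU D.NV D.hNV D.ιV hrealV
      (le_sup_right : U ≤ P ⊔ U) hA hφtF' hφtU hφtN
    have hlK : l ∈ D.K := by
      apply mem_normalizer_of_conj_le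
      intro y hy
      obtain ⟨q, hq, rfl⟩ := D.mem_jQ.mp hy
      have h1 := hl ⟨q, le_sup_right (a := P) (D.hQU hq)⟩
      have h2 : l * D.j ⟨q, D.hQN hq⟩ * l⁻¹ =
          D.j ⟨φt ⟨q, le_sup_right (a := P) (D.hQU hq)⟩, hφtN _⟩ := h1.symm
      rw [h2]
      exact D.mem_jQ.mpr ⟨_, hφtQ q hq, rfl⟩
    refine ⟨⟨l, hlK⟩, fun x => Subtype.ext ?_⟩
    have h1 := hl (Subgroup.inclusion le_sup_left x)
    have e : (⟨φ x, D.hT'N (hφ x)⟩ : ↥(normalizerIn S U)) =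
        ⟨φt (Subgroup.inclusion le_sup_left x), hφtN _⟩ := Subtype.ext (hext x).symm
    show D.j ⟨φ x, D.hT'N (hφ x)⟩ = l * D.j ⟨x, _⟩ * l⁻¹
    rw [e]
    exact h1
  · rintro ⟨g, hg⟩
    have hgP : ∀ (a : Ω) (ha : a ∈ P), (g : L) * D.j ⟨a, D.hT'N (hP ha)⟩ * (g : L)⁻¹ =
        D.j ⟨φ ⟨a, ha⟩, D.hT'N (hφ _)⟩ := by
      intro a ha
      have := congrArg Subtype.val (hg ⟨a, ha⟩)
      exact this.symm
    have hgU : ∀ (b : Ω) (hb : b ∈ U), (g : L) * D.j ⟨b, D.hUN hb⟩ * (g : L)⁻¹ ∈ D.jU := by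
      intro b hb
      exact D.jU_normal.conj_mem _ (D.mem_jU.mpr ⟨b, hb, rfl⟩) g
    have hrange : ∀ x : ↥(P ⊔ U), (g : L) * jmap D.hψN D.ιV ⟨x, hA x.2⟩ * (g : L)⁻¹ ∈
        (jmap D.hψN D.ιV).range := by
      intro x
      have := sup_hom_mem' ((MulAut.conj (g : L)).toMonoidHom.comp
        (D.j.comp (Subgroup.inclusion hA))) D.j.range ?_ ?_ x
      · exact this
      · intro a ha
        show (g : L) * D.j ⟨a, _⟩ * (g : L)⁻¹ ∈ D.j.range
        rw [hgP a ha]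
        exact ⟨_, rfl⟩
      · intro b hb
        show (g : L) * D.j ⟨b, _⟩ * (g : L)⁻¹ ∈ D.j.range
        obtain ⟨u, hu, hue⟩ := D.mem_jU.mp (hgU b hb)
        exact ⟨_, hue⟩
    obtain ⟨φt, hφt, hφtN, hjφt⟩ := exists_hom_of_conj_jmap F D.hψ D.hψN D.NV D.hNV D.ιV hrealV
      hA (g : L) hrange
    have hext : ∀ x : P, φt (Subgroup.inclusion le_sup_left x) = φ x := by
      intro x
      have h1 := hjφt (Subgroup.inclusion le_sup_left x)
      have h2 := hgP x.1 x.2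
      have h3 : D.j ⟨φt (Subgroup.inclusion le_sup_left x), hφtN _⟩ =
          D.j ⟨φ x, D.hT'N (hφ _)⟩ := h1.trans h2
      exact congrArg Subtype.val (D.j_injective h3)
    have hφtU : ∀ (u : Ω) (hu : u ∈ U), φt ⟨u, le_sup_right (a := P) hu⟩ ∈ U := by
      intro u hu
      have h1 := hjφt ⟨u, le_sup_right (a := P) hu⟩
      obtain ⟨u', hu', hue⟩ := D.mem_jU.mp (hgU u hu)
      have h3 : D.j ⟨u', D.hUN hu'⟩ = D.j ⟨φt ⟨u, le_sup_right (a := P) hu⟩, hφtN _⟩ :=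
        hue.trans h1.symm
      have h4 : u' = φt ⟨u, le_sup_right (a := P) hu⟩ := congrArg Subtype.val (D.j_injective h3)
      rw [← h4]; exact hu'
    have hφtQ : ∀ (q : Ω) (hq : q ∈ Q), φt ⟨q, le_sup_right (a := P) (D.hQU hq)⟩ ∈ Q := by
      intro q hq
      have h1 := hjφt ⟨q, le_sup_right (a := P) (D.hQU hq)⟩
      have h2 : (g : L) * D.j ⟨q, D.hQN hq⟩ * (g : L)⁻¹ ∈ D.jQ :=
        (Subgroup.mem_normalizer_iff.mp g.2 _).mp (D.mem_jQ.mpr ⟨q, hq, rfl⟩)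
      obtain ⟨q', hq', hqe⟩ := D.mem_jQ.mp h2
      have h3 : D.j ⟨q', D.hQN hq'⟩ = D.j ⟨φt ⟨q, le_sup_right (a := P) (D.hQU hq)⟩, hφtN _⟩ :=
        hqe.trans h1.symm
      have h4 : q' = φt ⟨q, le_sup_right (a := P) (D.hQU hq)⟩ :=
        congrArg Subtype.val (D.j_injective h3)
      rw [← h4]; exact hq'
    have hφtN' : φt ∈ D.N.Hom (P ⊔ U) := by
      rw [D.hN]
      exact mem_normalizerHom_of_le F (D.hQU.trans le_sup_right) hAT hφt hφtQ
    rw [hM P]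
    refine ⟨?_, hP, hφ, φt, hφtN', hext, map_eq_of_forall_mem D.N le_sup_right hφtN' hφtU⟩
    have e : φ = φt.comp (Subgroup.inclusion le_sup_left) := by
      ext x; exact (hext x).symm
    rw [e]
    exact restrict_mem D.N le_sup_left hφtN'

end

end EmbData

end Cfsg.Agent.Helper3.KL
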