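import Mathlib
import Cfsg.Agent.Lib.Helper3.KLEmbed2

/-!
# The embedding lemma, part 3
-/

set_option autoImplicit false
set_option linter.style.haveILetI false
set_option linter.unusedSectionVars false

namespace Cfsg.Agent.Helper3.KL

open Cfsg Cfsg.FusionSystem Cfsg.Agent.Helper25 Cfsg.Agent.Helper3.Model

variable {Ω : Type*} [Group Ω] {S : Subgroup Ω} {L : Type*} [Group L]

namespace EmbData

variable {p : ℕ} [Fact p.Prime] {F : FusionSystem S} {Q U V : Subgroup Ω} [Finite S]

section
variable (D : EmbData p F Q U V L)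
include D

theorem isModel_K (M : FusionSystem (normalizerIn (normalizerIn S Q) U))
    (hM : D.N.IsNormalizerSystem U M) : M.IsModel p ↥D.K D.ι₂ := by
  have hfin := D.hmV.1
  haveI := hfin
  have hT'S : normalizerIn (normalizerIn S Q) U ≤ S := normalizerIn_le.trans normalizerIn_le
  haveI : Finite (normalizerIn (normalizerIn S Q) U) := finite_of_le_finite hT'S
  have hT'p : IsPGroup p (normalizerIn (normalizerIn S Q) U) := D.hS.to_le hT'S
  refine ⟨inferInstance, D.isRealizedBy_K M hM, ?_, ?_⟩
  · -- Sylow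
    have hp : IsPGroup p D.ι₂.range := by
      rintro ⟨_, x, rfl⟩
      obtain ⟨k, hk⟩ := hT'p x
      refine ⟨k, Subtype.ext ?_⟩
      show (D.ι₂ x) ^ p ^ k = 1
      rw [← map_pow, hk, map_one]
    obtain ⟨R₂, hR₂⟩ := hp.exists_le_sylow
    refine ⟨R₂, ?_⟩
    symm
    apply Subgroup.eq_of_le_of_card_ge hR₂
    have h1 : Nat.card D.ι₂.range = Nat.card (normalizerIn (normalizerIn S Q) U) :=
      (Nat.card_congr (MonoidHom.ofInjective D.ι₂_injective).toEquiv).symm
    rw [h1]
    have h2 : Nat.card ((R₂ : Subgroup D.K).map D.K.subtype) = Nat.card (R₂ : Subgroup D.K) :=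
      Subgroup.card_map_of_injective (Subgroup.subtype_injective _)
    rw [← h2]
    apply D.card_le_of_isPGroup _ (R₂.2.map _)
    rintro _ ⟨y, -, rfl⟩
    exact y.2
  · -- centralizer condition
    have hn : (D.jU.subgroupOf D.K).Normal := D.jU_normal.subgroupOf D.K
    have hUp : IsPGroup p (D.jU.subgroupOf D.K) := by
      rintro ⟨y, hy⟩
      obtain ⟨u, hu, hue⟩ := D.mem_jU.mp (Subgroup.mem_subgroupOf.mp hy)
      obtain ⟨k, hk⟩ := D.hS ⟨u, D.hUS hu⟩
      refine ⟨k, Subtype.ext (Subtype.ext ?_)⟩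
      show (y : L) ^ p ^ k = 1
      rw [← hue, ← map_pow]
      have : (⟨u, D.hUN hu⟩ : ↥(normalizerIn S U)) ^ p ^ k = 1 := by
        apply Subtype.ext
        have := congrArg Subtype.val hk
        simpa using this
      rw [this, map_one]
    have hle : D.jU.subgroupOf D.K ≤ pCore p D.K := le_pCore hn hUp
    intro c hc
    apply hle
    rw [Subgroup.mem_subgroupOf]
    apply D.centralizer_jU_le
    rw [Subgroup.mem_centralizer_iff]
    intro y hy
    have hyK : y ∈ D.K := D.jU_le_K hy
    have h1 : (⟨y, hyK⟩ : D.K) ∈ pCore p D.K := hle (Subgroup.mem_subgroupOf.mpr hy)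
    have h2 := Subgroup.mem_centralizer_iff.mp hc _ h1
    exact congrArg Subtype.val h2

theorem N_isCentric : D.N.IsCentric U := by
  refine ⟨D.hUT, fun U₁ hconj => ?_⟩
  obtain ⟨φ, hφ, rfl⟩ := hconj
  have h1 : F.IsConj U φ.range := ⟨φ, D.N_le U hφ, rfl⟩
  intro c hc
  apply D.hUc.2 _ h1
  exact ⟨normalizerIn_le hc.1, hc.2⟩

/-- **The embedding lemma**: a model of `N_{N_F(Q)}(U)` embeds in the model `L` of `N_F(V)`. -/
theorem exists_embedding (M : FusionSystem (normalizerIn (normalizerIn S Q) U))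
    (hM : D.N.IsNormalizerSystem U M) {L' : Type*} [Group L']
    (ι' : ↥(normalizerIn (normalizerIn S Q) U) →* L') (hm' : M.IsModel p L' ι') :
    ∃ f : L' →* L, Function.Injective f := by
  have hT'S : normalizerIn (normalizerIn S Q) U ≤ S := normalizerIn_le.trans normalizerIn_le
  haveI : Finite (normalizerIn (normalizerIn S Q) U) := finite_of_le_finite hT'S
  haveI : Finite (normalizerIn S Q) := finite_of_le_finite normalizerIn_le
  have hT'p : IsPGroup p (normalizerIn (normalizerIn S Q) U) := D.hS.to_le hT'S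
  have hTp : IsPGroup p (normalizerIn S Q) := D.hS.to_le normalizerIn_le
  have hMsat : M.IsSaturated p :=
    normalizerSystem_isSaturated p hTp D.N D.N_isSaturated D.hUfn M hM
  have hMn : M.IsNormal U := normalizerSystem_isNormal D.N D.hUT M hM
  have hMc : M.IsCentric U := normalizerSystem_isCentric D.N D.N_isCentric M hM
  obtain ⟨f, -⟩ := exists_iso_of_isModel p hT'p M ⟨hMsat, U, hMn, hMc⟩ ι' D.ι₂ hm'
    (D.isModel_K M hM)
  exact ⟨D.K.subtype.comp f.toMonoidHom,
    (Subgroup.subtype_injective _).comp f.injective⟩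

end

end EmbData

end Cfsg.Agent.Helper3.KL
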