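import Mathlib
import Cfsg.Agent.Lib.Helper3.KLEmbed3
import Cfsg.Agent.Lib.Helper25.FusionCentric
import Cfsg.Agent.Lib.Helper25.FusionNormal3
import Cfsg.Prelude.Def_FusionReduction

/-!
# Auxiliary lemmas for the inheritance of local properties
-/

set_option autoImplicit false
set_option linter.style.haveILetI false
set_option linter.unusedSectionVars false

namespace Cfsg.Agent.Helper3.KL

open Cfsg Cfsg.FusionSystem Cfsg.Agent.Helper25

universe u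

variable {Ω : Type u} [Group Ω] {S : Subgroup Ω}

/-- `Pr` holds for all local models at fully normalized centric subgroups. -/
def LocalProp (F : FusionSystem S) (p : ℕ) (Pr : ∀ (L : Type u) [Group L], Prop) : Prop :=
  ∀ Q : Subgroup Ω, F.IsFullyNormalized Q → F.IsCentric Q →
    ∀ N : FusionSystem (normalizerIn S Q), F.IsNormalizerSystem Q N →
      ∀ (L : Type u) [Group L] (ι : ↥(normalizerIn S Q) →* L), N.IsModel p L ι → Pr L

theorem isSectionFree_iff (F : FusionSystem S) (p : ℕ) (H : Type*) [Group H] :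
    F.IsSectionFree p H ↔ LocalProp F p (fun L _ => ¬ Involves H L) := Iff.rfl

theorem isCentric_of_isConj (F : FusionSystem S) {U V : Subgroup Ω} (hU : F.IsCentric U)
    (h : F.IsConj U V) : F.IsCentric V :=
  ⟨isConj_le_right F h, fun W hW => hU.2 W (isConj_trans F h hW)⟩

/-- If `Q` is fully normalized and `Q ≤ U` with `U` centric in `N_F(Q)`, then `U` is `F`-centric. -/
theorem isCentric_of_normalizer_centric [Finite S] (p : ℕ) [Fact p.Prime] (hS : IsPGroup p S)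
    (F : FusionSystem S) (hF : F.IsSaturated p) {Q : Subgroup Ω} (hQfn : F.IsFullyNormalized Q)
    (N : FusionSystem (normalizerIn S Q)) (hN : F.IsNormalizerSystem Q N) {U : Subgroup Ω}
    (hQU : Q ≤ U) (hUc : N.IsCentric U) : F.IsCentric U := by
  have hUT : U ≤ normalizerIn S Q := hUc.1
  have hUS : U ≤ S := hUT.trans normalizerIn_le
  refine ⟨hUS, ?_⟩
  rintro U₂ ⟨φ, hφ, rfl⟩
  obtain ⟨-, hQfa, hQrec⟩ := of_fullyNormalized p hS F hF hQfn
  have hφQ := restrict_mem F hQU hφ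
  set φQ := φ.comp (Subgroup.inclusion hQU) with hφQdef
  obtain ⟨μ, hμ, hμN, hμQ, -⟩ := exists_normalizer_map p hS F Q φQ.range hQfa hQrec
    (isConj_symm F ⟨φQ, hφQ, rfl⟩)
  have hμinj := F.injective_of_mem hμ
  -- φ(U) normalizes φ(Q)
  have key : ∀ u : U, ∀ y ∈ φQ.range, φ u * y * (φ u)⁻¹ ∈ φQ.range := by
    rintro u _ ⟨q, rfl⟩
    have huN : (u : Ω) ∈ Subgroup.normalizer (Q : Set Ω) := (hUT u.2).2
    have h1 : (u : Ω) * q * (u : Ω)⁻¹ ∈ Q := (Subgroup.mem_normalizer_iff.mp huN q).mp q.2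
    refine ⟨⟨_, h1⟩, ?_⟩
    show φ ⟨(u : Ω) * q * (u : Ω)⁻¹, _⟩ = φ u * φ ⟨q, _⟩ * (φ u)⁻¹
    rw [← map_inv, ← map_mul, ← map_mul]
    rfl
  have hφN : ∀ u : U, φ u ∈ normalizerIn S φQ.range := by
    intro u
    refine ⟨(F.le_of_mem hφ).2 u, ?_⟩
    apply mem_normalizer_of_forall
    · exact key u
    · intro y hy
      have := key u⁻¹ y hy
      rwa [map_inv, inv_inv] at this
  have hν := F.comp_mem hφ hμ hφN
  set ν := μ.comp (φ.codRestrict _ hφN) with hνdef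
  have hνQ : ∀ (q : Ω) (hq : q ∈ Q), ν ⟨q, hQU hq⟩ ∈ Q := by
    intro q hq
    exact hμQ _ ⟨⟨q, hq⟩, rfl⟩ _
  have hνN : ν ∈ N.Hom U := by
    rw [hN U]
    exact mem_normalizerHom_of_le F hQU hUT hν hνQ
  have hcen := hUc.2 ν.range ⟨ν, hνN, rfl⟩
  intro c hc
  have hc' := mem_centralizerIn.mp hc
  -- c centralizes φ(U) ⊇ φ(Q), so normalizes φ(Q)
  have hcN : c ∈ normalizerIn S φQ.range := by
    refine ⟨hc'.1, ?_⟩
    apply Subgroup.centralizer_le_normalizer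
    rw [Subgroup.mem_centralizer_iff]
    rintro _ ⟨q, rfl⟩
    exact hc'.2 _ ⟨Subgroup.inclusion hQU q, rfl⟩
  have hμc : μ ⟨c, hcN⟩ ∈ centralizerIn (normalizerIn S Q) ν.range := by
    rw [mem_centralizerIn]
    refine ⟨hμN _, ?_⟩
    rintro _ ⟨u, rfl⟩
    show μ ⟨φ u, hφN u⟩ * μ ⟨c, hcN⟩ = μ ⟨c, hcN⟩ * μ ⟨φ u, hφN u⟩
    rw [← map_mul, ← map_mul]
    congr 1
    apply Subtype.ext
    exact hc'.2 _ ⟨u, rfl⟩
  obtain ⟨u, hu⟩ := hcen hμc
  have h2 : μ ⟨φ u, hφN u⟩ = μ ⟨c, hcN⟩ := hu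
  have h3 := congrArg Subtype.val (hμinj h2)
  exact ⟨u, h3⟩

/-- Models transfer along equal subgroups carrying the same maps. -/
theorem isModel_congr {T₁ T₂ : Subgroup Ω} (h : T₁ = T₂) (M₁ : FusionSystem T₁)
    (M₂ : FusionSystem T₂) (hH : ∀ P : Subgroup Ω, M₁.Hom P = M₂.Hom P) (p : ℕ) {L : Type*}
    [Group L] (ι₂ : T₂ →* L) (hm : M₂.IsModel p L ι₂) : ∃ ι₁ : T₁ →* L, M₁.IsModel p L ι₁ := by
  subst h
  have : M₁ = M₂ := fs_ext hH
  subst this
  exact ⟨ι₂, hm⟩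

/-- In a `p`-group, if `U` normalizes `Q` and `Q ≰ U`, some element of `N_Q(U)` lies outside `U`. -/
theorem exists_mem_inf_normalizer_not_mem [Finite S] {p : ℕ} [Fact p.Prime] (hS : IsPGroup p S)
    {Q U : Subgroup Ω} (hQS : Q ≤ S) (hUS : U ≤ S)
    (hUQ : U ≤ Subgroup.normalizer (Q : Set Ω)) (hne : ¬ Q ≤ U) :
    ∃ q ∈ Q ⊓ Subgroup.normalizer (U : Set Ω), q ∉ U := by
  have hle : U ⊔ Q ≤ S := sup_le hUS hQS
  haveI : Finite ↥(U ⊔ Q) := finite_of_le_finite hle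
  have hp : IsPGroup p ↥(U ⊔ Q) := hS.to_le hle
  have hneq : U ≠ U ⊔ Q := by
    intro h
    apply hne
    rw [h]; exact le_sup_right
  obtain ⟨g, hg, hgU⟩ := exists_mem_normalizerIn_not_mem (S := U ⊔ Q) hp le_sup_left hneq
  have hn : ∀ u ∈ U, ∀ v ∈ Q, u⁻¹ * v * u ∈ Q := by
    intro u hu v hv
    have := (Subgroup.mem_normalizer_iff.mp (hUQ (U.inv_mem hu)) v).mp hv
    simpa using this
  obtain ⟨u, hu, v, hv, rfl⟩ := exists_mul_of_mem_sup hn hg.1
  refine ⟨v, ⟨hv, ?_⟩, fun h => hgU (U.mul_mem hu h)⟩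
  have h1 : u⁻¹ ∈ Subgroup.normalizer (U : Set Ω) := Subgroup.le_normalizer (U.inv_mem hu)
  have h2 := Subgroup.mul_mem _ h1 hg.2
  simpa using h2

end Cfsg.Agent.Helper3.KL
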