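import Mathlib
import Cfsg.Agent.Lib.Helper3.KLFreeAux

/-!
# Inheritance of local properties by normalizer systems
-/

set_option autoImplicit false
set_option linter.style.haveILetI false
set_option linter.unusedSectionVars false

namespace Cfsg.Agent.Helper3.KL

open Cfsg Cfsg.FusionSystem Cfsg.Agent.Helper25 Cfsg.Agent.Helper3.Model

universe u

variable {Ω : Type u} [Group Ω] {T : Subgroup Ω}

/-- `U N_Q(U)` is normal in `N_N(U)` when `Q` is normal in `N`. -/
theorem isNormal_sup_inf_normalizer [Finite T] (N : FusionSystem T) {Q U : Subgroup Ω}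
    (hQ : N.IsNormal Q) (hUT : U ≤ T) (M : FusionSystem (normalizerIn T U))
    (hM : N.IsNormalizerSystem U M) :
    M.IsNormal (U ⊔ (Q ⊓ Subgroup.normalizer (U : Set Ω))) := by
  haveI : Finite (normalizerIn T U) := finite_of_le_finite normalizerIn_le
  have hUT' : U ≤ normalizerIn T U := le_normalizerIn hUT
  have hWT' : U ⊔ (Q ⊓ Subgroup.normalizer (U : Set Ω)) ≤ normalizerIn T U := by
    refine sup_le hUT' ?_
    intro x hx
    exact ⟨hQ.1 hx.1, hx.2⟩
  refine ⟨hWT', fun P φ hφ => ?_⟩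
  have hφ' := hφ
  rw [hM P] at hφ'
  obtain ⟨hφN, hP, hval, φt, hφt, hext, hmap⟩ := hφ'
  obtain ⟨φh, hφh, hext', hmap'⟩ := hQ.2 (P ⊔ U) φt hφt
  have hle : P ⊔ (U ⊔ (Q ⊓ Subgroup.normalizer (U : Set Ω))) ≤ P ⊔ U ⊔ Q := by
    refine sup_le (le_sup_left.trans le_sup_left) (sup_le (le_sup_right.trans le_sup_left) ?_)
    exact inf_le_left.trans le_sup_right
  have hψ := restrict_mem N hle hφh
  set ψ := φh.comp (Subgroup.inclusion hle) with hψdef
  -- values on U
  have hφhU : ∀ (u : Ω) (hu : u ∈ U), φh ⟨u, le_sup_left (b := Q) (le_sup_right (a := P) hu)⟩ ∈ U := by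
    intro u hu
    have h1 := hext' ⟨u, le_sup_right (a := P) hu⟩
    have e : (Subgroup.inclusion le_sup_left ⟨u, le_sup_right (a := P) hu⟩ : ↥(P ⊔ U ⊔ Q)) =
        ⟨u, le_sup_left (b := Q) (le_sup_right (a := P) hu)⟩ := rfl
    rw [e] at h1
    rw [h1]
    have h0 : φt ⟨u, le_sup_right (a := P) hu⟩ ∈ (U.subgroupOf (P ⊔ U)).map φt :=
      ⟨_, Subgroup.mem_subgroupOf.mpr hu, rfl⟩
    exact hmap.le h0
  have hφhUsurj : ∀ u ∈ U, ∃ (u' : Ω) (hu' : u' ∈ U),
      φh ⟨u', le_sup_left (b := Q) (le_sup_right (a := P) hu')⟩ = u := by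
    intro u hu
    have h0 : u ∈ (U.subgroupOf (P ⊔ U)).map φt := hmap.ge hu
    obtain ⟨x, hx, hxu⟩ := h0
    have hxU : (x : Ω) ∈ U := Subgroup.mem_subgroupOf.mp hx
    refine ⟨x, hxU, ?_⟩
    have h1 := hext' ⟨x, le_sup_right (a := P) hxU⟩
    have e : (Subgroup.inclusion le_sup_left ⟨(x : Ω), le_sup_right (a := P) hxU⟩ :
        ↥(P ⊔ U ⊔ Q)) = ⟨x, le_sup_left (b := Q) (le_sup_right (a := P) hxU)⟩ := rfl
    rw [e] at h1
    rw [h1, ← hxu]
  have hφhQ : ∀ (q : Ω) (hq : q ∈ Q), φh ⟨q, le_sup_right (a := P ⊔ U) hq⟩ ∈ Q := by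
    intro q hq
    have h0 : φh ⟨q, le_sup_right (a := P ⊔ U) hq⟩ ∈ (Q.subgroupOf (P ⊔ U ⊔ Q)).map φh :=
      ⟨_, Subgroup.mem_subgroupOf.mpr hq, rfl⟩
    exact hmap'.le h0
  have key : ∀ (x : Ω) (hxQ : x ∈ Q), x ∈ Subgroup.normalizer (U : Set Ω) →
      ∀ u ∈ U, φh ⟨x, le_sup_right (a := P ⊔ U) hxQ⟩ * u *
        (φh ⟨x, le_sup_right (a := P ⊔ U) hxQ⟩)⁻¹ ∈ U := by
    intro x hxQ hxN u hu
    obtain ⟨u', hu', rfl⟩ := hφhUsurj u hu
    have h1 : x * u' * x⁻¹ ∈ U := (Subgroup.mem_normalizer_iff.mp hxN u').mp hu'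
    have h2 := hφhU _ h1
    have e : (⟨x * u' * x⁻¹, le_sup_left (b := Q) (le_sup_right (a := P) h1)⟩ : ↥(P ⊔ U ⊔ Q)) =
        ⟨x, le_sup_right (a := P ⊔ U) hxQ⟩ *
          ⟨u', le_sup_left (b := Q) (le_sup_right (a := P) hu')⟩ *
          ⟨x, le_sup_right (a := P ⊔ U) hxQ⟩⁻¹ := Subtype.ext rfl
    rw [e, map_mul, map_mul, map_inv] at h2
    exact h2
  have hψW : ∀ (w : Ω) (hw : w ∈ U ⊔ (Q ⊓ Subgroup.normalizer (U : Set Ω))),
      ψ ⟨w, le_sup_right (a := P) hw⟩ ∈ U ⊔ (Q ⊓ Subgroup.normalizer (U : Set Ω)) := by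
    intro w hw
    have := sup_hom_mem (ψ.comp (Subgroup.inclusion (le_sup_right (a := P))))
      (U ⊔ (Q ⊓ Subgroup.normalizer (U : Set Ω))) ?_ ?_ ⟨w, hw⟩
    · exact this
    · intro a ha
      exact le_sup_left (b := Q ⊓ Subgroup.normalizer (U : Set Ω)) (hφhU a ha)
    · intro b hb
      apply le_sup_right (a := U)
      refine ⟨hφhQ b hb.1, ?_⟩
      apply mem_normalizer_of_forall
      · exact key b hb.1 hb.2
      · intro u hu
        have := key b⁻¹ (Q.inv_mem hb.1) (Subgroup.inv_mem _ hb.2) u hu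
        have e : (⟨b⁻¹, le_sup_right (a := P ⊔ U) (Q.inv_mem hb.1)⟩ : ↥(P ⊔ U ⊔ Q)) =
            ⟨b, le_sup_right (a := P ⊔ U) hb.1⟩⁻¹ := rfl
        rw [e, map_inv, inv_inv] at this
        exact this
  have hψU : ∀ (u : Ω) (hu : u ∈ U),
      ψ ⟨u, (le_sup_left.trans le_sup_right : U ≤ P ⊔ (U ⊔ (Q ⊓ Subgroup.normalizer (U : Set Ω)))) hu⟩
        ∈ U := fun u hu => hφhU u hu
  have hψM : ψ ∈ M.Hom (P ⊔ (U ⊔ (Q ⊓ Subgroup.normalizer (U : Set Ω)))) := by
    rw [hM]
    exact mem_normalizerHom_of_le N (le_sup_left.trans le_sup_right) (sup_le hP hWT') hψ hψU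
  refine ⟨ψ, hψM, fun x => ?_, map_eq_of_forall_mem M le_sup_right hψM hψW⟩
  have h1 := hext' (Subgroup.inclusion le_sup_left x)
  have h2 := hext x
  show φh _ = φ x
  rw [← h2, ← h1]
  rfl


theorem le_normalizer_of_isNormal {S : Subgroup Ω} (F : FusionSystem S) {W : Subgroup Ω}
    (hW : F.IsNormal W) : S ≤ Subgroup.normalizer (W : Set Ω) := by
  have hsc := stronglyClosed_of_isNormal F hW
  intro g hg
  apply mem_normalizer_of_forall
  · intro y hy; exact conj_mem_of_stronglyClosed F hsc hg hy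
  · intro y hy
    have := conj_mem_of_stronglyClosed F hsc (S.inv_mem hg) hy
    rwa [inv_inv] at this

theorem card_eq_of_isConj {S : Subgroup Ω} (F : FusionSystem S) {W W' : Subgroup Ω}
    (h : F.IsConj W W') : Nat.card W = Nat.card W' := by
  obtain ⟨φ, hφ, rfl⟩ := h
  exact Nat.card_congr (homEquiv F hφ).toEquiv

/-- the normalizer system of a subgroup normal in the system has the same maps -/
theorem normalizerHom_eq_of_isNormal {S : Subgroup Ω} (M : FusionSystem S) {W : Subgroup Ω}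
    (hW : M.IsNormal W) (P : Subgroup Ω) : M.normalizerHom W P = M.Hom P := by
  have hn := normalizerIn_eq_of_le (le_normalizer_of_isNormal M hW)
  ext φ
  constructor
  · exact fun h => h.1
  · intro h
    obtain ⟨ψ', hψ', hext, hmap⟩ := hW.2 P φ h
    refine ⟨h, ?_, ?_, ψ', hψ', hext, hmap⟩
    · rw [hn]; exact (M.le_of_mem h).1
    · intro x; rw [hn]; exact (M.le_of_mem h).2 x

/-- **Local properties pass to normalizer systems of fully normalized subgroups.** -/
theorem localProp_normalizer {S : Subgroup Ω} [Finite S] (p : ℕ) [Fact p.Prime]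
    (hS : IsPGroup p S) (F : FusionSystem S) (hF : F.IsSaturated p)
    (Pr : ∀ (L : Type u) [Group L], Prop)
    (hsub : ∀ {L L' : Type u} [Group L] [Group L'] (f : L' →* L), Function.Injective f →
      Pr L → Pr L')
    (hloc : LocalProp F p Pr) {Q : Subgroup Ω} (hQfn : F.IsFullyNormalized Q)
    (N : FusionSystem (normalizerIn S Q)) (hN : F.IsNormalizerSystem Q N) : LocalProp N p Pr := by
  have hQS : Q ≤ S := hQfn.1
  have hTS : normalizerIn S Q ≤ S := normalizerIn_le
  have hTp : IsPGroup p (normalizerIn S Q) := hS.to_le hTS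
  haveI : Finite (normalizerIn S Q) := finite_of_le_finite hTS
  have hNsat := normalizerSystem_isSaturated p hS F hF hQfn N hN
  have hQnormal : N.IsNormal Q := normalizerSystem_isNormal F hQS N hN
  have hQT : Q ≤ normalizerIn S Q := le_normalizerIn hQS
  suffices H : ∀ (k : ℕ) (U : Subgroup Ω), Nat.card (normalizerIn S Q) - Nat.card U = k →
      N.IsFullyNormalized U → N.IsCentric U →
      ∀ M : FusionSystem (normalizerIn (normalizerIn S Q) U), N.IsNormalizerSystem U M →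
      ∀ (L' : Type u) [Group L'] (ι' : ↥(normalizerIn (normalizerIn S Q) U) →* L'),
        M.IsModel p L' ι' → Pr L' by
    intro U hUfn hUc M hM L' _ ι' hm'
    exact H _ U rfl hUfn hUc M hM L' ι' hm'
  intro k
  induction k using Nat.strong_induction_on with
  | _ k ih =>
  intro U hk hUfn hUc M hM L' _ ι' hm'
  have hUT : U ≤ normalizerIn S Q := hUfn.1
  by_cases hQU : Q ≤ U
  · -- direct embedding into a local model of F
    have hUcF := isCentric_of_normalizer_centric p hS F hF hQfn N hN hQU hUc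
    have hUS : U ≤ S := hUcF.1
    obtain ⟨V, hUV, hVfn⟩ := exists_isConj_fullyNormalized F hUS
    have hVc := isCentric_of_isConj F hUcF hUV
    obtain ⟨-, hVfa, hVrec⟩ := of_fullyNormalized p hS F hF hVfn
    obtain ⟨ψ, hψ, hψN, -, hψU⟩ := exists_normalizer_map p hS F V U hVfa hVrec hUV
    obtain ⟨NV, hNV⟩ := Cfsg.Agent.S5096.result F V hVfn.1
    have hTVp : IsPGroup p (normalizerIn S V) := hS.to_le normalizerIn_le
    haveI : Finite (normalizerIn S V) := finite_of_le_finite normalizerIn_le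
    have hNVsat := normalizerSystem_isSaturated p hS F hF hVfn NV hNV
    obtain ⟨L, _, ιV, hmV⟩ := exists_model p hTVp NV ⟨hNVsat, V,
      normalizerSystem_isNormal F hVfn.1 NV hNV, normalizerSystem_isCentric F hVc NV hNV⟩
    let D : EmbData p F Q U V L :=
      { hS := hS, hF := hF, hQfn := hQfn, N := N, hN := hN, hQU := hQU, hUfn := hUfn,
        hUc := hUcF, hVc := hVc, hVfn := hVfn, ψ := ψ, hψ := hψ, hψN := hψN, hψU := hψU,
        NV := NV, hNV := hNV, ιV := ιV, hmV := hmV }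
    obtain ⟨f, hf⟩ := D.exists_embedding M hM ι' hm'
    exact hsub f hf (hloc V hVfn hVc NV hNV L ιV hmV)
  · -- grow U inside N
    have hT'S : normalizerIn (normalizerIn S Q) U ≤ normalizerIn S Q := normalizerIn_le
    haveI : Finite (normalizerIn (normalizerIn S Q) U) := finite_of_le_finite hT'S
    have hT'p : IsPGroup p (normalizerIn (normalizerIn S Q) U) := hTp.to_le hT'S
    have hWn : M.IsNormal (U ⊔ (Q ⊓ Subgroup.normalizer (U : Set Ω))) :=
      isNormal_sup_inf_normalizer N hQnormal hUT M hM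
    have hUnQ : U ≤ Subgroup.normalizer (Q : Set Ω) := fun x hx => (hUT hx).2
    obtain ⟨q, hq, hqU⟩ := exists_mem_inf_normalizer_not_mem hTp hQT hUT hUnQ hQU
    set W := U ⊔ (Q ⊓ Subgroup.normalizer (U : Set Ω)) with hWdef
    have hUW : U ≤ W := le_sup_left
    have hWT' : W ≤ normalizerIn (normalizerIn S Q) U := hWn.1
    have hWT : W ≤ normalizerIn S Q := hWT'.trans hT'S
    have hcardlt : Nat.card U < Nat.card W :=
      card_lt_of_le_of_mem hWT hUW (le_sup_right (a := U) hq) hqU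
    have hMsat := normalizerSystem_isSaturated p hTp N hNsat hUfn M hM
    have hT'W := le_normalizer_of_isNormal M hWn
    have hWfnM : M.IsFullyNormalized W := isFullyNormalized_of_normal M hWT' hT'W
    have hWcN : N.IsCentric W := isCentric_of_le N hUc hUW hWT
    obtain ⟨W', hWW', hW'fn⟩ := exists_isConj_fullyNormalized N hWT
    have hW'c := isCentric_of_isConj N hWcN hWW'
    obtain ⟨-, hfa, hrec⟩ := of_fullyNormalized p hTp N hNsat hW'fn
    obtain ⟨ψ, hψ, hψN, -, hψU⟩ := exists_normalizer_map p hTp N W' W hfa hrec hWW'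
    obtain ⟨NW', hNW'⟩ := Cfsg.Agent.S5096.result N W' hW'fn.1
    have hTW'p : IsPGroup p (normalizerIn (normalizerIn S Q) W') := hTp.to_le normalizerIn_le
    haveI : Finite (normalizerIn (normalizerIn S Q) W') := finite_of_le_finite normalizerIn_le
    have hNW'sat := normalizerSystem_isSaturated p hTp N hNsat hW'fn NW' hNW'
    obtain ⟨L₁, _, ι₁, hm₁⟩ := exists_model p hTW'p NW' ⟨hNW'sat, W',
      normalizerSystem_isNormal N hW'fn.1 NW' hNW', normalizerSystem_isCentric N hW'c NW' hNW'⟩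
    obtain ⟨M₁, hM₁⟩ := Cfsg.Agent.S5096.result M W hWT'
    have hT'' : normalizerIn (normalizerIn (normalizerIn S Q) U) W =
        normalizerIn (normalizerIn S Q) U := normalizerIn_eq_of_le hT'W
    have hHom : ∀ P : Subgroup Ω, M₁.Hom P = M.Hom P := by
      intro P
      rw [hM₁ P]
      exact normalizerHom_eq_of_isNormal M hWn P
    obtain ⟨ι'₁, hm'₁⟩ := isModel_congr hT'' M₁ M hHom p ι' hm'
    let D : EmbData p N U W W' L₁ :=
      { hS := hTp, hF := hNsat, hQfn := hUfn, N := M, hN := hM, hQU := hUW, hUfn := hWfnM,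
        hUc := hWcN, hVc := hW'c, hVfn := hW'fn, ψ := ψ, hψ := hψ, hψN := hψN, hψU := hψU,
        NV := NW', hNV := hNW', ιV := ι₁, hmV := hm₁ }
    obtain ⟨f, hf⟩ := D.exists_embedding M₁ hM₁ ι'₁ hm'₁
    have hcW' : Nat.card W = Nat.card W' := card_eq_of_isConj N hWW'
    have hW'le : Nat.card W' ≤ Nat.card (normalizerIn S Q) := Subgroup.card_le_of_le hW'fn.1
    have hk' : Nat.card (normalizerIn S Q) - Nat.card W' < k := by omega
    exact hsub f hf (ih _ hk' W' rfl hW'fn hW'c NW' hNW' L₁ ι₁ hm₁)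

end Cfsg.Agent.Helper3.KL
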