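import Mathlib
import Cfsg.Agent.Lib.Helper3.KLApply
import Cfsg.Agent.Lib.Helper3.KLFreeNorm
import Cfsg.Agent.S5097

/-!
# Tools for Thompson's normal `p`-complement theorem for fusion systems
-/

set_option autoImplicit false
set_option linter.style.haveILetI false
set_option linter.unusedSectionVars false

namespace Cfsg.Agent.Helper3.KL

open Cfsg Cfsg.FusionSystem Cfsg.Agent.Helper25

universe u

section Center

variable {Ω : Type*} [Group Ω] {S : Subgroup Ω}

/-- `Z(S)` as a subgroup of the ambient group. -/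
def zOf (S : Subgroup Ω) : Subgroup Ω := S ⊓ Subgroup.centralizer (S : Set Ω)

theorem zOf_le (S : Subgroup Ω) : zOf S ≤ S := inf_le_left

theorem mem_zOf {x : Ω} : x ∈ zOf S ↔ x ∈ S ∧ ∀ h ∈ S, h * x = x * h := by
  unfold zOf
  rw [Subgroup.mem_inf, Subgroup.mem_centralizer_iff]
  rfl

theorem zOf_subgroupOf (S : Subgroup Ω) : (zOf S).subgroupOf S = Subgroup.center S := by
  ext x
  rw [Subgroup.mem_subgroupOf, Subgroup.mem_center_iff, mem_zOf]
  constructor
  · rintro ⟨-, hx⟩ g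
    exact Subtype.ext (hx g g.2)
  · intro h
    refine ⟨x.2, ?_⟩
    intro g hg
    exact congrArg Subtype.val (h ⟨g, hg⟩)

theorem zOf_char (S : Subgroup Ω) : ((zOf S).subgroupOf S).Characteristic := by
  rw [zOf_subgroupOf]
  infer_instance

theorem zOf_ne_bot [Finite S] (p : ℕ) [Fact p.Prime] (hS : IsPGroup p S) (hS1 : S ≠ ⊥) :
    zOf S ≠ ⊥ := by
  haveI : Nontrivial S := (Subgroup.nontrivial_iff_ne_bot S).mpr hS1
  intro h
  have h1 : Subgroup.center S = ⊥ := by
    rw [← zOf_subgroupOf, h]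
    exact Subgroup.bot_subgroupOf S
  haveI := hS.center_nontrivial
  exact (Subgroup.nontrivial_iff_ne_bot _).mp inferInstance h1

theorem le_centralizer_zOf (S : Subgroup Ω) : S ≤ Subgroup.centralizer (zOf S : Set Ω) := by
  intro s hs
  rw [Subgroup.mem_centralizer_iff]
  intro z hz
  have := (mem_zOf.mp hz).2 s hs
  exact this.symm

theorem zOf_range {G : Type*} [Group G] (ι : S →* G) (hι : Function.Injective ι) :
    zOf ι.range = ((zOf S).subgroupOf S).map ι := by
  ext y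
  rw [mem_zOf]
  constructor
  · rintro ⟨⟨s, rfl⟩, hy⟩
    refine ⟨s, Subgroup.mem_subgroupOf.mpr (mem_zOf.mpr ⟨s.2, ?_⟩), rfl⟩
    intro t ht
    have h1 := hy (ι ⟨t, ht⟩) ⟨_, rfl⟩
    rw [← map_mul, ← map_mul] at h1
    exact congrArg Subtype.val (hι h1)
  · rintro ⟨s, hs, rfl⟩
    have hs' : (s : Ω) ∈ zOf S := Subgroup.mem_subgroupOf.mp hs
    refine ⟨⟨s, rfl⟩, ?_⟩
    rintro _ ⟨t, rfl⟩
    have h1 := (mem_zOf.mp hs').2 t t.2
    rw [← map_mul, ← map_mul]
    congr 1
    exact Subtype.ext h1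

end Center

section Cent

variable {Ω : Type*} [Group Ω] {S : Subgroup Ω} {G : Type*} [Group G]

theorem centralizerHom_mono {N F : FusionSystem S} (h : ∀ P : Subgroup Ω, N.Hom P ⊆ F.Hom P)
    (W P : Subgroup Ω) : N.centralizerHom W P ⊆ F.centralizerHom W P := by
  rintro φ ⟨hφ, hP, hval, ψ, hψ, hext, hfix⟩
  exact ⟨h _ hφ, hP, hval, ψ, h _ hψ, hext, hfix⟩

theorem centralizerHom_subset_normalizerHom (F : FusionSystem S) (W P : Subgroup Ω) :
    F.centralizerHom W P ⊆ F.normalizerHom W P := by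
  rintro φ ⟨hφ, hP, hval, ψ, hψ, hext, hfix⟩
  refine ⟨hφ, hP.trans centralizerIn_le_normalizerIn,
    fun x => centralizerIn_le_normalizerIn (hval x), ψ, hψ, hext, ?_⟩
  ext y
  rw [mem_map_subgroupOf]
  constructor
  · rintro ⟨x, hK, hxW, rfl⟩
    have := hfix ⟨x, hxW⟩
    have e : Subgroup.inclusion (le_sup_right : W ≤ P ⊔ W) ⟨x, hxW⟩ = ⟨x, hK⟩ := rfl
    rw [e] at this
    rw [this]
    exact hxW
  · intro hy
    refine ⟨y, (le_sup_right : W ≤ P ⊔ W) hy, hy, ?_⟩
    exact hfix ⟨y, hy⟩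

theorem range_le_centralizer_map (ι : S →* G) {W : Subgroup Ω}
    (hWc : S ≤ Subgroup.centralizer (W : Set Ω)) :
    ι.range ≤ Subgroup.centralizer (((W.subgroupOf S).map ι : Subgroup G) : Set G) := by
  rintro _ ⟨s, rfl⟩
  rw [Subgroup.mem_centralizer_iff]
  rintro _ ⟨w, hw, rfl⟩
  have hw' : (w : Ω) ∈ W := Subgroup.mem_subgroupOf.mp hw
  have h1 := Subgroup.mem_centralizer_iff.mp (hWc s.2) w hw'
  rw [← map_mul, ← map_mul]
  congr 1
  exact Subtype.ext h1

/-- If the centralizer system of a central subgroup `W` of `S` in a realized system is inner, then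
the centralizer of the image of `W` has a normal `p`-complement. -/
theorem npc_centralizer_of_inner [Finite S] [Finite G] (p : ℕ) [Fact p.Prime] (hS : IsPGroup p S)
    (N : FusionSystem S) (ι : S →* G) (hreal : N.IsRealizedBy ι) (T : Sylow p G)
    (hT : (T : Subgroup G) = ι.range) (W : Subgroup Ω) (hWS : W ≤ S)
    (hWc : S ≤ Subgroup.centralizer (W : Set Ω))
    (hin : ∀ (P : Subgroup Ω) (φ : P →* Ω), φ ∈ N.centralizerHom W P →
      ∃ s ∈ S, ∀ x : P, φ x = s * (x : Ω) * s⁻¹) :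
    HasNormalPComplement p
      (Subgroup.centralizer (((W.subgroupOf S).map ι : Subgroup G) : Set G)) := by
  apply npc_of_inner_fusion p hS N ι hreal T hT _ (range_le_centralizer_map ι hWc)
  intro g hg P hP φ hφS hφ hιφ
  have hCW : centralizerIn S W = S := by
    unfold centralizerIn
    exact inf_eq_left.mpr hWc
  have hι := hreal.1
  have hgW : ∀ w : S, (w : Ω) ∈ W → g * ι w * g⁻¹ = ι w := by
    intro w hw
    have h1 := Subgroup.mem_centralizer_iff.mp hg (ι w) ⟨w, Subgroup.mem_subgroupOf.mpr hw, rfl⟩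
    rw [← h1]
    group
  have hle : P ⊔ W ≤ S := sup_le hP hWS
  have hval : ∀ y : ↥(P ⊔ W), g * ι ⟨y, hle y.2⟩ * g⁻¹ ∈ ι.range := by
    intro y
    have := sup_hom_mem' ((MulAut.conj g).toMonoidHom.comp (ι.comp (Subgroup.inclusion hle)))
      ι.range ?_ ?_ y
    · exact this
    · intro a ha
      show g * ι ⟨a, _⟩ * g⁻¹ ∈ ι.range
      rw [← hιφ ⟨a, ha⟩]
      exact ⟨_, rfl⟩
    · intro b hb
      show g * ι ⟨b, _⟩ * g⁻¹ ∈ ι.range
      rw [hgW ⟨b, hWS hb⟩ hb]
      exact ⟨_, rfl⟩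
  obtain ⟨ψ, hψ, hψS, hιψ⟩ := exists_hom_of_conj N hreal hle g hval
  have hψW : ∀ x : W, ψ (Subgroup.inclusion le_sup_right x) = x := by
    intro x
    have h1 := hιψ (Subgroup.inclusion le_sup_right x)
    have h2 := hgW ⟨x, hWS x.2⟩ x.2
    have h3 : (⟨ψ (Subgroup.inclusion le_sup_right x), hψS _⟩ : S) = ⟨x, hWS x.2⟩ :=
      hι (h1.trans h2)
    exact congrArg Subtype.val h3
  have hmem : φ ∈ N.centralizerHom W P := by
    refine ⟨hφ, hCW.ge.trans' hP, fun x => hCW.ge (hφS x), ψ, hψ, fun x => ?_, hψW⟩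
    have h1 := hιψ (Subgroup.inclusion le_sup_left x)
    have h2 := hιφ x
    have h3 : (⟨ψ (Subgroup.inclusion le_sup_left x), hψS _⟩ : S) = ⟨φ x, hφS x⟩ :=
      hι (h1.trans h2.symm)
    exact congrArg Subtype.val h3
  exact hin P φ hmem

end Cent

section Self

variable {Ω : Type u} [Group Ω] {S : Subgroup Ω}

/-- A local property holds for the model of a constrained system itself. -/
theorem localProp_self [Finite S] (p : ℕ) (N : FusionSystem S) {Q : Subgroup Ω}
    (hQn : N.IsNormal Q) (hQc : N.IsCentric Q) (Pr : ∀ (L : Type u) [Group L], Prop)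
    (hloc : LocalProp N p Pr) {G : Type u} [Group G] (ι : S →* G) (hm : N.IsModel p G ι) :
    Pr G := by
  have hQS : Q ≤ S := hQn.1
  have hSn : S ≤ Subgroup.normalizer (Q : Set Ω) := le_normalizer_of_isNormal N hQn
  have hQfn : N.IsFullyNormalized Q := isFullyNormalized_of_normal N hQS hSn
  obtain ⟨N', hN'⟩ := Cfsg.Agent.S5096.result N Q hQS
  have hH : ∀ P : Subgroup Ω, N'.Hom P = N.Hom P := by
    intro P
    rw [hN' P, normalizerHom_eq_of_isNormal N hQn P]
  obtain ⟨ι₁, hm₁⟩ := isModel_congr (normalizerIn_eq_of_le hSn) N' N hH p ι hm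
  exact hloc Q hQfn hQc N' hN' G ι₁ hm₁

end Self

end Cfsg.Agent.Helper3.KL
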