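import Mathlib
import Cfsg.Agent.Lib.Helper3.KLThompson
import Cfsg.Agent.Lib.Helper3.KLQuot
import Cfsg.Agent.Lib.Helper25.FusionMorph

/-!
# Tools for the strengthened Frobenius criterion for fusion systems

Characteristic subgroups of quotients, and automizers in factor systems.
-/

set_option autoImplicit false
set_option linter.style.haveILetI false
set_option linter.unusedSectionVars false

namespace Cfsg.Agent.Helper3.KL

open Cfsg Cfsg.FusionSystem Cfsg.Agent.Helper25

section Char

variable {A : Type*} [Group A]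

/-- the full preimage of a characteristic subgroup of `A ⧸ X`, `X` characteristic, is
characteristic. -/
theorem characteristic_comap_mk (X : Subgroup A) [hXc : X.Characteristic] (B : Subgroup (A ⧸ X))
    (hB : B.Characteristic) : (B.comap (QuotientGroup.mk' X)).Characteristic := by
  rw [Subgroup.characteristic_iff_comap_le]
  intro ϕ x hx
  have he : X.map ϕ.toMonoidHom = X := Subgroup.characteristic_iff_map_eq.mp hXc ϕ
  have h1 : (QuotientGroup.congr X X ϕ he) (QuotientGroup.mk' X x) ∈ B := by
    have : (QuotientGroup.congr X X ϕ he) (QuotientGroup.mk' X x) = QuotientGroup.mk' X (ϕ x) := rfl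
    rw [this]
    exact hx
  have h2 := Subgroup.characteristic_iff_comap_eq.mp hB (QuotientGroup.congr X X ϕ he)
  have h3 : QuotientGroup.mk' X x ∈ B.comap (QuotientGroup.congr X X ϕ he).toMonoidHom := h1
  rw [h2] at h3
  exact h3

theorem characteristic_of_subgroupOf_top (B : Subgroup A)
    (h : (B.subgroupOf (⊤ : Subgroup A)).Characteristic) : B.Characteristic := by
  rw [Subgroup.characteristic_iff_comap_le]
  intro ϕ y hy
  have hy' : ϕ y ∈ B := hy
  obtain ⟨ϕ', hϕ'⟩ : ∃ ϕ' : (⊤ : Subgroup A) ≃* (⊤ : Subgroup A),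
      ϕ' = Subgroup.topEquiv.trans (ϕ.trans Subgroup.topEquiv.symm) := ⟨_, rfl⟩
  have h1 := Subgroup.characteristic_iff_comap_eq.mp h ϕ'
  have h2 : (⟨y, Subgroup.mem_top y⟩ : (⊤ : Subgroup A)) ∈
      (B.subgroupOf (⊤ : Subgroup A)).comap ϕ'.toMonoidHom := by
    show ϕ' ⟨y, Subgroup.mem_top y⟩ ∈ B.subgroupOf ⊤
    rw [Subgroup.mem_subgroupOf, hϕ']
    exact hy'
  rw [h1, Subgroup.mem_subgroupOf] at h2
  exact h2

end Char

section Factor

variable {Ω : Type*} [Group Ω] {T : Subgroup Ω}

/-- the full preimage in `T` of a characteristic subgroup of `T ⧸ X`, `X` characteristic in `T`, is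
characteristic in `T`. -/
theorem characteristic_preimageAlong {X : Subgroup Ω} [hXc : (X.subgroupOf T).Characteristic]
    (Rb : Subgroup (T ⧸ X.subgroupOf T))
    (hRb : (Rb.subgroupOf (⊤ : Subgroup (T ⧸ X.subgroupOf T))).Characteristic) :
    ((preimageAlong (QuotientGroup.mk' (X.subgroupOf T)) Rb).subgroupOf T).Characteristic := by
  have h1 : (preimageAlong (QuotientGroup.mk' (X.subgroupOf T)) Rb).subgroupOf T =
      Rb.comap (QuotientGroup.mk' (X.subgroupOf T)) := by
    ext x
    rw [Subgroup.mem_subgroupOf, mem_preimageAlong, Subgroup.mem_comap]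
    constructor
    · rintro ⟨h, hx⟩
      exact hx
    · intro hx
      exact ⟨x.2, hx⟩
  rw [h1]
  exact characteristic_comap_mk _ Rb (characteristic_of_subgroupOf_top Rb hRb)

variable {Ω' : Type*} [Group Ω'] {S' : Subgroup Ω'}

/-- automizers in the target of a surjective morphism are `p`-groups if those of full preimages
are. -/
theorem isPGroup_autGroup_of_surj [Finite T] (p : ℕ) {N : FusionSystem T} {E : FusionSystem S'}
    {θ : T →* Ω'} (hα : N.IsSurjectiveMorphism E θ) {Rb : Subgroup Ω'} (hRb : Rb ≤ S')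
    (h : IsPGroup p (N.autGroup (preimageAlong θ Rb))) : IsPGroup p (E.autGroup Rb) := by
  intro β'
  obtain ⟨β, hβ⟩ := autDesc_surj hα hRb rfl β'.1 β'.2
  obtain ⟨k, hk⟩ := h β
  refine ⟨k, ?_⟩
  apply Subtype.ext
  rw [Subgroup.coe_pow, ← hβ, ← map_pow, hk, map_one]
  rfl

end Factor

end Cfsg.Agent.Helper3.KL
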