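import Mathlib
import Cfsg.Prelude.Def_LocalEven

/-!
# Sections: basic closure properties of `Involves`
-/

set_option autoImplicit false

namespace Cfsg.Agent.Helper3.KL

open Cfsg

universe u v w

variable {G : Type u} [Group G] {H : Type v} [Group H]

theorem involves_of_surj (K : Subgroup G) (f : ↥K →* H) (hf : Function.Surjective f) :
    Involves H G := by
  have e1 : (f.ker.map K.subtype).subgroupOf K = f.ker :=
    Subgroup.comap_map_eq_self_of_injective K.subtype_injective f.ker
  have hR : ((f.ker.map K.subtype).subgroupOf K).Normal := by rw [e1]; infer_instance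
  refine ⟨K, f.ker.map K.subtype, hR, ⟨?_⟩⟩
  exact (QuotientGroup.quotientMulEquivOfEq e1).trans
    (QuotientGroup.quotientKerEquivOfSurjective f hf)

theorem exists_surj_of_involves (h : Involves H G) :
    ∃ (K : Subgroup G) (f : ↥K →* H), Function.Surjective f := by
  obtain ⟨K, R, hR, ⟨e⟩⟩ := h
  exact ⟨K, e.toMonoidHom.comp (QuotientGroup.mk' _),
    e.surjective.comp (QuotientGroup.mk'_surjective _)⟩

theorem involves_of_injective {G' : Type w} [Group G'] (f : G' →* G) (hf : Function.Injective f)
    (h : Involves H G') : Involves H G := by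
  obtain ⟨K, g, hg⟩ := exists_surj_of_involves h
  refine involves_of_surj (K.map f)
    (g.comp (Subgroup.equivMapOfInjective K f hf).symm.toMonoidHom) ?_
  exact hg.comp (MulEquiv.surjective _)

theorem involves_of_quot (N : Subgroup G) [N.Normal] (h : Involves H (G ⧸ N)) :
    Involves H G := by
  obtain ⟨K, f, hf⟩ := exists_surj_of_involves h
  refine involves_of_surj (K.comap (QuotientGroup.mk' N))
    (f.comp ((QuotientGroup.mk' N).subgroupComap K)) ?_
  exact hf.comp ((QuotientGroup.mk' N).subgroupComap_surjective_of_surjective K
    (QuotientGroup.mk'_surjective N))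

end Cfsg.Agent.Helper3.KL
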