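import Mathlib
import Cfsg.Agent.Lib.Helper3.KLInvolves

/-!
# Sections of homomorphic images
-/

set_option autoImplicit false

namespace Cfsg.Agent.Helper3.KL

open Cfsg

universe u v w

variable {G : Type u} [Group G] {H : Type v} [Group H]

theorem involves_of_surjective_hom {G' : Type w} [Group G'] (f : G →* G')
    (hf : Function.Surjective f) (h : Involves H G') : Involves H G := by
  obtain ⟨K, g, hg⟩ := exists_surj_of_involves h
  refine involves_of_surj (K.comap f) (g.comp (f.subgroupComap K)) ?_
  exact hg.comp (f.subgroupComap_surjective_of_surjective K hf)

end Cfsg.Agent.Helper3.KL
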