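import Mathlib
import Cfsg.Agent.Lib.Helper3.KLEmbed
import Cfsg.Prelude.Def_Solvable

/-!
# Group-theoretic lemmas for models of factor systems

* `exists_coprime_normal_complement`: if `V ⊴ G` lies in a Sylow `p`-subgroup `D` and
  `C_D(V) ≤ V`, then `C_G(V) = Z(V) × K` with `K ⊴ G` of order prime to `p`.
* `centralizer_pCore_quotient_le`: then `G ⧸ K` satisfies `C(O_p) ≤ O_p`.
-/

set_option autoImplicit false
set_option linter.style.haveILetI false
set_option linter.unusedSectionVars false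

namespace Cfsg.Agent.Helper3.KL

open Cfsg

variable {G : Type*} [Group G]

theorem eq_one_of_pow_coprime {x : G} {a b : ℕ} (ha : x ^ a = 1) (hb : x ^ b = 1)
    (hab : Nat.Coprime a b) : x = 1 := by
  have h1 : orderOf x ∣ a := orderOf_dvd_of_pow_eq_one ha
  have h2 : orderOf x ∣ b := orderOf_dvd_of_pow_eq_one hb
  have h3 : orderOf x ∣ Nat.gcd a b := Nat.dvd_gcd h1 h2
  rw [hab] at h3
  exact orderOf_eq_one_iff.mp (Nat.dvd_one.mp h3)

theorem exists_coprime_normal_complement [Finite G] (p : ℕ) [Fact p.Prime] (D : Sylow p G)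
    (V : Subgroup G) [hVn : V.Normal] (hVD : V ≤ (D : Subgroup G))
    (hc : ∀ d ∈ (D : Subgroup G), (∀ v ∈ V, d * v = v * d) → d ∈ V) :
    ∃ K : Subgroup G, K.Normal ∧ (Nat.card K).Coprime p ∧
      ∀ g : G, (∀ v ∈ V, g * v = v * g) → ∃ z ∈ V, ∃ k ∈ K, g = z * k := by
  classical
  have hp : p.Prime := Fact.out
  obtain ⟨C, hCdef⟩ : ∃ C : Subgroup G, C = Subgroup.centralizer (V : Set G) := ⟨_, rfl⟩
  haveI hCn : C.Normal := by rw [hCdef]; infer_instance
  have hmemC : ∀ g : G, g ∈ C ↔ ∀ v ∈ V, g * v = v * g := by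
    intro g
    rw [hCdef, Subgroup.mem_centralizer_iff]
    constructor
    · intro h v hv; exact (h v hv).symm
    · intro h v hv; exact (h v hv).symm
  obtain ⟨Z, hZdef⟩ : ∃ Z : Subgroup C, Z = V.subgroupOf C := ⟨_, rfl⟩
  haveI hZn : Z.Normal := by rw [hZdef]; infer_instance
  have hVp : IsPGroup p V := D.isPGroup'.to_le hVD
  have hZp : IsPGroup p Z := by
    rw [hZdef]
    exact hVp.comap_subtype
  have hZcentral : ∀ z ∈ Z, ∀ c : C, c * z = z * c := by
    intro z hz c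
    rw [hZdef, Subgroup.mem_subgroupOf] at hz
    apply Subtype.ext
    exact (hmemC c).mp c.2 z hz
  -- `Z` is a Sylow subgroup of `C`
  obtain ⟨R, hR⟩ := hZp.exists_le_sylow
  have hRZ : (R : Subgroup C) = Z := by
    apply le_antisymm _ hR
    intro r hr
    have hRp : IsPGroup p ((R : Subgroup C).map C.subtype) := R.isPGroup'.map _
    obtain ⟨g, hg⟩ := exists_conj_le_sylow D hRp
    have h1 : g * (r : G) * g⁻¹ ∈ (D : Subgroup G) := hg _ ⟨r, hr, rfl⟩
    have h2 : g * (r : G) * g⁻¹ ∈ C := hCn.conj_mem _ r.2 g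
    have h3 : g * (r : G) * g⁻¹ ∈ V := hc _ h1 ((hmemC _).mp h2)
    have h4 : g⁻¹ * (g * (r : G) * g⁻¹) * g⁻¹⁻¹ ∈ V := hVn.conj_mem _ h3 g⁻¹
    rw [hZdef, Subgroup.mem_subgroupOf]
    have e : g⁻¹ * (g * (r : G) * g⁻¹) * g⁻¹⁻¹ = r := by group
    rwa [e] at h4
  have hidx : ¬ p ∣ Z.index := by
    rw [← hRZ]
    exact R.not_dvd_index
  obtain ⟨k, hk⟩ := IsPGroup.iff_card.mp hZp
  have hcop : Nat.Coprime (Nat.card Z) Z.index := by
    rw [hk]
    exact Nat.Coprime.pow_left _ ((Nat.Prime.coprime_iff_not_dvd hp).mpr hidx)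
  obtain ⟨H, hH⟩ := Subgroup.exists_right_complement'_of_coprime hcop
  have hcardH : Nat.card H = Z.index := hH.symm.index_eq_card.symm
  have hHchar : ∀ x : C, x ∈ H ↔ x ^ (Nat.card H) = 1 := by
    intro x
    constructor
    · intro hx
      have := pow_card_eq_one' (G := H) (x := ⟨x, hx⟩)
      exact congrArg Subtype.val this
    · intro hx
      obtain ⟨⟨z, h⟩, hzh, -⟩ := hH.existsUnique x
      have hzh' : (z : C) * (h : C) = x := hzh
      have hcomm : Commute (z : C) (h : C) := (hZcentral z z.2 h).symm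
      have h1 : (z : C) ^ (Nat.card H) * (h : C) ^ (Nat.card H) = 1 := by
        rw [← hcomm.mul_pow, hzh', hx]
      have h2 : (h : C) ^ (Nat.card H) = 1 := by
        have := pow_card_eq_one' (G := H) (x := h)
        exact congrArg Subtype.val this
      rw [h2, mul_one] at h1
      have h3 : (z : C) ^ (Nat.card Z) = 1 := by
        have := pow_card_eq_one' (G := Z) (x := z)
        exact congrArg Subtype.val this
      have h4 : (z : C) = 1 := eq_one_of_pow_coprime h3 h1 (hcardH ▸ hcop)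
      rw [h4, one_mul] at hzh'
      rw [← hzh']
      exact h.2
  refine ⟨H.map C.subtype, ⟨fun y hy g => ?_⟩, ?_, fun g hg => ?_⟩
  · obtain ⟨h, hh, rfl⟩ := hy
    have h2 : g * (h : G) * g⁻¹ ∈ C := hCn.conj_mem _ h.2 g
    refine ⟨⟨_, h2⟩, (hHchar _).mpr ?_, rfl⟩
    apply Subtype.ext
    have h3 : (h : C) ^ (Nat.card H) = 1 := (hHchar h).mp hh
    have h4 : ((h : C) : G) ^ (Nat.card H) = 1 := by
      have := congrArg Subtype.val h3
      simpa using this
    show (g * (h : G) * g⁻¹) ^ (Nat.card H) = 1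
    rw [conj_pow, h4]
    group
  · rw [Subgroup.card_map_of_injective C.subtype_injective, hcardH]
    exact (Nat.Prime.coprime_iff_not_dvd hp).mpr hidx |>.symm
  · have hgC : g ∈ C := (hmemC g).mpr hg
    obtain ⟨⟨z, h⟩, hzh, -⟩ := hH.existsUnique (⟨g, hgC⟩ : C)
    have hzh' : (z : C) * (h : C) = ⟨g, hgC⟩ := hzh
    have hzV : ((z : C) : G) ∈ V := by
      have hz2 : (z : C) ∈ Z := z.2
      have hz3 : (z : C) ∈ V.subgroupOf C := hZdef ▸ hz2
      exact Subgroup.mem_subgroupOf.mp hz3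
    refine ⟨_, hzV, ((h : C) : G), ⟨h, h.2, rfl⟩, ?_⟩
    have := congrArg Subtype.val hzh'
    exact this.symm

theorem centralizer_pCore_quotient_le [Finite G] (p : ℕ) [Fact p.Prime] (V K : Subgroup G)
    [hVn : V.Normal] [hKn : K.Normal] (hV : IsPGroup p V) (hK : (Nat.card K).Coprime p)
    (hdec : ∀ g : G, (∀ v ∈ V, g * v = v * g) → ∃ z ∈ V, ∃ k ∈ K, g = z * k) :
    Subgroup.centralizer ((pCore p (G ⧸ K) : Subgroup (G ⧸ K)) : Set (G ⧸ K)) ≤
      pCore p (G ⧸ K) := by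
  have hV2n : (V.map (QuotientGroup.mk' K)).Normal :=
    hVn.map _ (QuotientGroup.mk'_surjective K)
  have hV2p : IsPGroup p (V.map (QuotientGroup.mk' K)) := hV.map _
  have hV2 : V.map (QuotientGroup.mk' K) ≤ pCore p (G ⧸ K) := le_sSup ⟨hV2n, hV2p⟩
  have hbot : V ⊓ K = ⊥ := by
    apply disjoint_iff.mp
    apply Subgroup.disjoint_of_coprime_natCard
    obtain ⟨k, hk⟩ := IsPGroup.iff_card.mp hV
    rw [hk]
    exact Nat.Coprime.pow_left _ hK.symm
  intro x hx
  obtain ⟨g, rfl⟩ := QuotientGroup.mk'_surjective K x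
  rw [Subgroup.mem_centralizer_iff] at hx
  have hg : ∀ v ∈ V, g * v = v * g := by
    intro v hv
    have h1 := hx (QuotientGroup.mk' K v) (hV2 ⟨v, hv, rfl⟩)
    rw [← map_mul, ← map_mul] at h1
    have h2 : (v * g)⁻¹ * (g * v) ∈ K := QuotientGroup.eq.mp h1
    have h3 : (v * g)⁻¹ * (g * v) ∈ V := by
      have e : (v * g)⁻¹ * (g * v) = g⁻¹ * v⁻¹ * g⁻¹⁻¹ * v := by group
      rw [e]
      exact V.mul_mem (hVn.conj_mem _ (V.inv_mem hv) g⁻¹) hv
    have h4 : (v * g)⁻¹ * (g * v) ∈ V ⊓ K := ⟨h3, h2⟩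
    rw [hbot, Subgroup.mem_bot] at h4
    have := inv_mul_eq_one.mp h4
    exact this.symm
  obtain ⟨z, hz, k, hk, rfl⟩ := hdec g hg
  apply hV2
  refine ⟨z, hz, ?_⟩
  rw [map_mul]
  have : QuotientGroup.mk' K k = 1 := (QuotientGroup.eq_one_iff k).mpr hk
  rw [this, mul_one]

end Cfsg.Agent.Helper3.KL
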