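import Mathlib
import Cfsg.Agent.Lib.Helper3.KLFreeNorm
import Cfsg.Agent.Lib.Helper25.FusionMorph
import Cfsg.Agent.Lib.Helper25.FusionFactor

/-!
# Full preimages along a surjective morphism of fusion systems

Normalizers, orders, fully normalized and centric subgroups.
-/

set_option autoImplicit false
set_option linter.style.haveILetI false
set_option linter.unusedSectionVars false

namespace Cfsg.Agent.Helper3.KL

open Cfsg Cfsg.FusionSystem Cfsg.Agent.Helper25

universe u v

variable {Ω : Type u} [Group Ω] {S : Subgroup Ω} {Ω' : Type v} [Group Ω'] {S' : Subgroup Ω'}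

theorem preimageAlong_mono (θ : S →* Ω') {A B : Subgroup Ω'} (h : A ≤ B) :
    preimageAlong θ A ≤ preimageAlong θ B := by
  intro x hx
  obtain ⟨hxS, hxA⟩ := mem_preimageAlong.mp hx
  exact mem_preimageAlong.mpr ⟨hxS, h hxA⟩

theorem finite_of_range_eq [Finite S] {θ : S →* Ω'} (hrange : θ.range = S') : Finite S' := by
  haveI : Finite θ.range := Finite.of_surjective θ.rangeRestrict θ.rangeRestrict_surjective
  exact hrange ▸ this

/-- the normalizer of a full preimage is the full preimage of the normalizer. -/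
theorem normalizerIn_preimageAlong {θ : S →* Ω'} (hrange : θ.range = S') {Ub : Subgroup Ω'}
    (hUb : Ub ≤ S') :
    normalizerIn S (preimageAlong θ Ub) = preimageAlong θ (normalizerIn S' Ub) := by
  have hθS' : ∀ s : S, θ s ∈ S' := fun s => hrange ▸ ⟨s, rfl⟩
  ext x
  rw [mem_normalizerIn, mem_preimageAlong]
  constructor
  · rintro ⟨hxS, hxN⟩
    refine ⟨hxS, ?_⟩
    rw [mem_normalizerIn]
    refine ⟨hθS' _, ?_⟩
    -- both directions through `x` and `x⁻¹`
    have key : ∀ y ∈ Subgroup.normalizer ((preimageAlong θ Ub : Subgroup Ω) : Set Ω),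
        ∀ hyS : y ∈ S, ∀ ub ∈ Ub, θ ⟨y, hyS⟩ * ub * (θ ⟨y, hyS⟩)⁻¹ ∈ Ub := by
      intro y hyN hyS ub hub
      obtain ⟨u, hu⟩ := exists_preimage hrange hUb hub
      have h1 : y * (u : Ω) * y⁻¹ ∈ preimageAlong θ Ub :=
        (Subgroup.mem_normalizer_iff.mp hyN u).mp u.2
      obtain ⟨h2, h3⟩ := mem_preimageAlong.mp h1
      have e : (⟨y * (u : Ω) * y⁻¹, h2⟩ : S) =
          ⟨y, hyS⟩ * ⟨u, preimageAlong_le θ Ub u.2⟩ * ⟨y, hyS⟩⁻¹ := Subtype.ext rfl
      rw [e, map_mul, map_mul, map_inv, hu] at h3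
      exact h3
    apply mem_normalizer_of_forall
    · intro ub hub
      exact key x hxN hxS ub hub
    · intro ub hub
      have := key x⁻¹ (Subgroup.inv_mem _ hxN) (S.inv_mem hxS) ub hub
      have e : (⟨x⁻¹, S.inv_mem hxS⟩ : S) = ⟨x, hxS⟩⁻¹ := Subtype.ext rfl
      rw [e, map_inv, inv_inv] at this
      exact this
  · rintro ⟨hxS, hxN⟩
    rw [mem_normalizerIn] at hxN
    refine ⟨hxS, ?_⟩
    have key : ∀ t : S, θ t ∈ Subgroup.normalizer (Ub : Set Ω') →
        ∀ u ∈ preimageAlong θ Ub, (t : Ω) * u * (t : Ω)⁻¹ ∈ preimageAlong θ Ub := by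
      intro t ht u hu
      obtain ⟨huS, huU⟩ := mem_preimageAlong.mp hu
      have h2 : (t : Ω) * u * (t : Ω)⁻¹ ∈ S := S.mul_mem (S.mul_mem t.2 huS) (S.inv_mem t.2)
      refine mem_preimageAlong.mpr ⟨h2, ?_⟩
      have e : (⟨(t : Ω) * u * (t : Ω)⁻¹, h2⟩ : S) = t * ⟨u, huS⟩ * t⁻¹ := Subtype.ext rfl
      rw [e, map_mul, map_mul, map_inv]
      exact (Subgroup.mem_normalizer_iff.mp ht _).mp huU
    apply mem_normalizer_of_forall
    · intro u hu
      exact key ⟨x, hxS⟩ hxN.2 u hu
    · intro u hu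
      have h1 : θ (⟨x, hxS⟩⁻¹ : S) ∈ Subgroup.normalizer (Ub : Set Ω') := by
        rw [map_inv]; exact Subgroup.inv_mem _ hxN.2
      have := key (⟨x, hxS⟩⁻¹ : S) h1 u hu
      simpa using this

/-- the order of a full preimage. -/
theorem card_preimageAlong [Finite S] {θ : S →* Ω'} (hrange : θ.range = S') {X : Subgroup Ω'}
    (hX : X ≤ S') :
    Nat.card (preimageAlong θ X) = Nat.card (preimageAlong θ (⊥ : Subgroup Ω')) * Nat.card X := by
  haveI : Finite (preimageAlong θ X) := finite_of_le_finite (preimageAlong_le θ X)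
  have hsurj := preimageMap_surjective hrange hX
  have h1 := Subgroup.card_eq_card_quotient_mul_card_subgroup (preimageMap θ X).ker
  have h2 : Nat.card (↥(preimageAlong θ X) ⧸ (preimageMap θ X).ker) = Nat.card X :=
    Nat.card_congr (QuotientGroup.quotientKerEquivOfSurjective _ hsurj).toEquiv
  have h3 : (preimageMap θ X).ker.map (preimageAlong θ X).subtype =
      preimageAlong θ (⊥ : Subgroup Ω') := by
    ext y
    constructor
    · rintro ⟨x, hx, rfl⟩
      have hx : preimageMap θ X x = 1 := MonoidHom.mem_ker.mp hx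
      have h4 : θ ⟨x, preimageAlong_le θ X x.2⟩ = 1 := by
        have := congrArg Subtype.val hx
        simpa [preimageMap_apply] using this
      show (x : Ω) ∈ preimageAlong θ (⊥ : Subgroup Ω')
      exact mem_preimageAlong.mpr ⟨preimageAlong_le θ X x.2, Subgroup.mem_bot.mpr h4⟩
    · intro hy
      obtain ⟨hyS, hy1⟩ := mem_preimageAlong.mp hy
      rw [Subgroup.mem_bot] at hy1
      have hyX : y ∈ preimageAlong θ X := mem_preimageAlong.mpr ⟨hyS, by rw [hy1]; exact X.one_mem⟩
      refine ⟨⟨y, hyX⟩, MonoidHom.mem_ker.mpr ?_, rfl⟩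
      apply Subtype.ext
      rw [preimageMap_apply]
      exact hy1
  have h4 : Nat.card (preimageMap θ X).ker = Nat.card (preimageAlong θ (⊥ : Subgroup Ω')) := by
    rw [← h3]
    exact (Subgroup.card_map_of_injective (Subgroup.subtype_injective _)).symm
  rw [h1, h2, h4, mul_comm]

section Morph

variable {F : FusionSystem S} {E : FusionSystem S'} {θ : S →* Ω'}

/-- conjugates of a full preimage are full preimages of conjugates. -/
theorem exists_isConj_of_isConj_preimageAlong [Finite S] (hα : F.IsSurjectiveMorphism E θ)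
    {Ub : Subgroup Ω'} (hUb : Ub ≤ S') {V : Subgroup Ω}
    (hV : F.IsConj (preimageAlong θ Ub) V) :
    ∃ Vb : Subgroup Ω', E.IsConj Ub Vb ∧ V = preimageAlong θ Vb := by
  obtain ⟨φ, hφ, rfl⟩ := hV
  obtain ⟨φ', hφ', hind⟩ := exists_induced_of_surj hα hUb hφ
  exact ⟨φ'.range, ⟨φ', hφ', rfl⟩, range_eq_preimageAlong hα hUb hφ hind⟩

theorem isFullyNormalized_preimageAlong [Finite S] (hα : F.IsSurjectiveMorphism E θ)
    {Ub : Subgroup Ω'} (hUb : E.IsFullyNormalized Ub) :
    F.IsFullyNormalized (preimageAlong θ Ub) := by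
  have hrange := hα.2.1
  refine ⟨preimageAlong_le θ Ub, fun V hV => ?_⟩
  obtain ⟨Vb, hVb, rfl⟩ := exists_isConj_of_isConj_preimageAlong hα hUb.1 hV
  have hVbS : Vb ≤ S' := isConj_le_right E hVb
  rw [normalizerIn_preimageAlong hrange hVbS, normalizerIn_preimageAlong hrange hUb.1,
    card_preimageAlong hrange normalizerIn_le, card_preimageAlong hrange normalizerIn_le]
  exact Nat.mul_le_mul_left _ (hUb.2 Vb hVb)

theorem isCentric_preimageAlong [Finite S] (hα : F.IsSurjectiveMorphism E θ)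
    {Ub : Subgroup Ω'} (hUb : E.IsCentric Ub) :
    F.IsCentric (preimageAlong θ Ub) := by
  have hrange := hα.2.1
  have hθS' : ∀ s : S, θ s ∈ S' := fun s => hrange ▸ ⟨s, rfl⟩
  refine ⟨preimageAlong_le θ Ub, fun V hV => ?_⟩
  obtain ⟨Vb, hVb, rfl⟩ := exists_isConj_of_isConj_preimageAlong hα hUb.1 hV
  have hVbS : Vb ≤ S' := isConj_le_right E hVb
  intro s hs
  obtain ⟨hsS, hsc⟩ := mem_centralizerIn.mp hs
  refine mem_preimageAlong.mpr ⟨hsS, ?_⟩
  apply hUb.2 Vb hVb
  refine mem_centralizerIn.mpr ⟨hθS' _, fun vb hvb => ?_⟩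
  obtain ⟨v, hv⟩ := exists_preimage hrange hVbS hvb
  rw [← hv, ← map_mul, ← map_mul]
  congr 1
  apply Subtype.ext
  exact hsc v v.2

end Morph

end Cfsg.Agent.Helper3.KL
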