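import Mathlib
import Cfsg.Agent.Lib.Helper3.KLQuotSys1
import Cfsg.Agent.Lib.Helper3.KLQuotGroup
import Cfsg.Agent.Lib.Helper3.KLGroup
import Cfsg.Agent.S5134

/-!
# Models of local subsystems of a factor system: the induced realization

For `Q ⊴ F`, `E = F/Q` (through `θ`), `Ub ≤ S'` fully normalized and centric in `E`,
`U = θ⁻¹(Ub)` and `(L, ι)` a model of `N_F(U)`: the group `L ⧸ ι(Q)` realizes `N_E(Ub)`.
-/

set_option autoImplicit false
set_option linter.style.haveILetI false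
set_option linter.unusedSectionVars false

namespace Cfsg.Agent.Helper3.KL

open Cfsg Cfsg.FusionSystem Cfsg.Agent.Helper25

universe u v

variable {Ω : Type u} [Group Ω] {S : Subgroup Ω} {Ω' : Type v} [Group Ω'] {S' : Subgroup Ω'}

/-- The data: a model of the normalizer system of a full preimage. -/
structure QData (p : ℕ) (F : FusionSystem S) (Q : Subgroup Ω) (θ : S →* Ω') (E : FusionSystem S')
    (Ub : Subgroup Ω') (L : Type*) [Group L] where
  hS : IsPGroup p S
  hF : F.IsSaturated p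
  hQ : F.IsNormal Q
  hE : F.IsFactorSystem Q θ E
  hUbfn : E.IsFullyNormalized Ub
  hUbc : E.IsCentric Ub
  NU : FusionSystem (normalizerIn S (preimageAlong θ Ub))
  hNU : F.IsNormalizerSystem (preimageAlong θ Ub) NU
  ι : ↥(normalizerIn S (preimageAlong θ Ub)) →* L
  hm : NU.IsModel p L ι

namespace QData

variable [Finite S] {p : ℕ} [Fact p.Prime] {F : FusionSystem S} {Q : Subgroup Ω} {θ : S →* Ω'}
  {E : FusionSystem S'} {Ub : Subgroup Ω'} {L : Type*} [Group L] (D : QData p F Q θ E Ub L)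

include D

theorem hα : F.IsSurjectiveMorphism E θ :=
  Cfsg.Agent.S5134.result p D.hS F D.hF Q (stronglyClosed_of_isNormal F D.hQ) θ E D.hE

theorem hker (s : S) : θ s = 1 ↔ (s : Ω) ∈ Q := D.hE.2.1 s

theorem hrange : θ.range = S' := D.hE.2.2.1

theorem hθS' (s : S) : θ s ∈ S' := D.hrange ▸ ⟨s, rfl⟩

theorem hUbS : Ub ≤ S' := D.hUbfn.1

theorem hQS : Q ≤ S := D.hQ.1

theorem hUS : preimageAlong θ Ub ≤ S := preimageAlong_le θ Ub

theorem hQ_le (X : Subgroup Ω') : Q ≤ preimageAlong θ X := by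
  intro q hq
  refine mem_preimageAlong.mpr ⟨D.hQS hq, ?_⟩
  rw [(D.hker ⟨q, D.hQS hq⟩).mpr hq]
  exact X.one_mem

theorem hQU : Q ≤ preimageAlong θ Ub := D.hQ_le Ub

theorem hT : normalizerIn S (preimageAlong θ Ub) = preimageAlong θ (normalizerIn S' Ub) :=
  normalizerIn_preimageAlong D.hrange D.hUbS

theorem hTS : normalizerIn S (preimageAlong θ Ub) ≤ S := normalizerIn_le

theorem hUT : preimageAlong θ Ub ≤ normalizerIn S (preimageAlong θ Ub) := le_normalizerIn D.hUS

theorem hQT : Q ≤ normalizerIn S (preimageAlong θ Ub) := D.hQU.trans D.hUT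

theorem hUfn : F.IsFullyNormalized (preimageAlong θ Ub) :=
  isFullyNormalized_preimageAlong D.hα D.hUbfn

theorem hUc : F.IsCentric (preimageAlong θ Ub) := isCentric_preimageAlong D.hα D.hUbc

theorem finiteT : Finite (normalizerIn S (preimageAlong θ Ub)) := finite_of_le_finite D.hTS

theorem finiteS' : Finite S' := finite_of_range_eq D.hrange

theorem NU_isSaturated : D.NU.IsSaturated p :=
  normalizerSystem_isSaturated p D.hS F D.hF D.hUfn D.NU D.hNU

theorem NU_isNormal_U : D.NU.IsNormal (preimageAlong θ Ub) :=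
  normalizerSystem_isNormal F D.hUS D.NU D.hNU

theorem NU_isCentric_U : D.NU.IsCentric (preimageAlong θ Ub) :=
  normalizerSystem_isCentric F D.hUc D.NU D.hNU

theorem NU_le (P : Subgroup Ω) : D.NU.Hom P ⊆ F.Hom P := by
  intro φ hφ
  rw [D.hNU P] at hφ
  exact hφ.1

/-- `Q` is normal in `N_F(U)`. -/
theorem NU_isNormal_Q : D.NU.IsNormal Q := by
  haveI := D.finiteT
  refine ⟨D.hQT, fun P φ hφ => ?_⟩
  obtain ⟨ψ, hψ, hψP, hmap⟩ := D.NU_isNormal_U.2 P φ hφ
  have hle : P ⊔ Q ≤ P ⊔ preimageAlong θ Ub := sup_le le_sup_left (D.hQU.trans le_sup_right)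
  refine ⟨ψ.comp (Subgroup.inclusion hle), restrict_mem D.NU hle hψ, fun x => ?_, ?_⟩
  · rw [← hψP x]
    rfl
  · have hψF : ψ ∈ F.Hom (P ⊔ preimageAlong θ Ub) := D.NU_le _ hψ
    have hsc := stronglyClosed_of_isNormal F D.hQ
    have h1 : ψ.comp (Subgroup.inclusion hle) ∈ F.Hom (P ⊔ Q) := restrict_mem F hle hψF
    refine map_eq_of_forall_mem F le_sup_right h1 (fun x hx => ?_)
    have h2 := restrict_mem F (le_sup_right : Q ≤ P ⊔ Q) h1
    exact hsc.2 Q le_rfl _ h2 ⟨x, hx⟩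

/-- the image of `Q` in the model. -/
def Qh : Subgroup L := (Q.subgroupOf (normalizerIn S (preimageAlong θ Ub))).map D.ι

theorem mem_Qh {y : L} : y ∈ D.Qh ↔ ∃ (q : Ω) (hq : q ∈ Q), D.ι ⟨q, D.hQT hq⟩ = y := by
  constructor
  · rintro ⟨x, hx, rfl⟩
    exact ⟨x, Subgroup.mem_subgroupOf.mp hx, rfl⟩
  · rintro ⟨q, hq, rfl⟩
    exact ⟨⟨q, D.hQT hq⟩, Subgroup.mem_subgroupOf.mpr hq, rfl⟩

theorem Qh_normal : D.Qh.Normal := by
  haveI := D.finiteT
  exact normal_map_of_isNormal_of_isModel p D.NU D.ι D.hm D.NU_isNormal_Q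

theorem ι_injective : Function.Injective D.ι := D.hm.2.1.1

theorem Qh_le_range : D.Qh ≤ D.ι.range := by
  rintro _ ⟨x, -, rfl⟩
  exact ⟨x, rfl⟩

end QData

end Cfsg.Agent.Helper3.KL
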