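import Mathlib
import Cfsg.Agent.Lib.Helper3.KLQuotSys2

/-!
# The induced embedding `N_{S'}(Ub) → L ⧸ ι(Q)`
-/

set_option autoImplicit false
set_option linter.style.haveILetI false
set_option linter.unusedSectionVars false

namespace Cfsg.Agent.Helper3.KL

open Cfsg Cfsg.FusionSystem Cfsg.Agent.Helper25

universe u v

variable {Ω : Type u} [Group Ω] {S : Subgroup Ω} {Ω' : Type v} [Group Ω'] {S' : Subgroup Ω'}

namespace QData

variable [Finite S] {p : ℕ} [Fact p.Prime] {F : FusionSystem S} {Q : Subgroup Ω} {θ : S →* Ω'}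
  {E : FusionSystem S'} {Ub : Subgroup Ω'} {L : Type*} [Group L] (D : QData p F Q θ E Ub L)

instance instQhNormal : D.Qh.Normal := D.Qh_normal

include D

/-- the map on the full preimage of `N_{S'}(Ub)`. -/
def pre : ↥(preimageAlong θ (normalizerIn S' Ub)) →* L ⧸ D.Qh :=
  (QuotientGroup.mk' D.Qh).comp (D.ι.comp (Subgroup.inclusion D.hT.ge))

theorem pre_apply (x : ↥(preimageAlong θ (normalizerIn S' Ub))) :
    D.pre x = QuotientGroup.mk' D.Qh (D.ι ⟨x, D.hT.ge x.2⟩) := rfl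

theorem ker_le : (preimageMap θ (normalizerIn S' Ub)).ker ≤ D.pre.ker := by
  intro x hx
  have hx1 : preimageMap θ (normalizerIn S' Ub) x = 1 := MonoidHom.mem_ker.mp hx
  have hx2 : θ ⟨x, preimageAlong_le θ _ x.2⟩ = 1 := by
    have := congrArg Subtype.val hx1
    simpa [preimageMap_apply] using this
  have hxQ : (x : Ω) ∈ Q := (D.hker _).mp hx2
  apply MonoidHom.mem_ker.mpr
  rw [pre_apply, QuotientGroup.mk'_apply, QuotientGroup.eq_one_iff]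
  exact D.mem_Qh.mpr ⟨x, hxQ, rfl⟩

theorem surj : Function.Surjective (preimageMap θ (normalizerIn S' Ub)) :=
  preimageMap_surjective D.hrange normalizerIn_le

/-- the induced embedding of `N_{S'}(Ub)` into `L ⧸ ι(Q)`. -/
noncomputable def ιt : ↥(normalizerIn S' Ub) →* L ⧸ D.Qh :=
  (preimageMap θ (normalizerIn S' Ub)).liftOfRightInverse (Function.surjInv D.surj)
    (Function.rightInverse_surjInv D.surj) ⟨D.pre, D.ker_le⟩

theorem ιt_spec (x : ↥(preimageAlong θ (normalizerIn S' Ub))) :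
    D.ιt (preimageMap θ (normalizerIn S' Ub) x) = D.pre x :=
  MonoidHom.liftOfRightInverse_comp_apply (preimageMap θ (normalizerIn S' Ub))
    (Function.surjInv D.surj) (Function.rightInverse_surjInv D.surj) ⟨D.pre, D.ker_le⟩ x

/-- the value of `ιt` at the image of `x`. -/
theorem ιt_eq {y : Ω'} (hy : y ∈ normalizerIn S' Ub) {x : Ω}
    (hx : x ∈ normalizerIn S (preimageAlong θ Ub)) (hxS : x ∈ S) (e : θ ⟨x, hxS⟩ = y) :
    D.ιt ⟨y, hy⟩ = QuotientGroup.mk' D.Qh (D.ι ⟨x, hx⟩) := by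
  subst e
  have := D.ιt_spec ⟨x, D.hT.le hx⟩
  rw [pre_apply] at this
  exact this

theorem exists_lift (y : ↥(normalizerIn S' Ub)) :
    ∃ (x : Ω) (hx : x ∈ normalizerIn S (preimageAlong θ Ub)) (hxS : x ∈ S),
      θ ⟨x, hxS⟩ = (y : Ω') := by
  obtain ⟨x, hx⟩ := exists_preimage D.hrange normalizerIn_le y.2
  exact ⟨x, D.hT.ge x.2, preimageAlong_le θ _ x.2, hx⟩

theorem θ_mem_Tb {x : Ω} (hx : x ∈ normalizerIn S (preimageAlong θ Ub)) (hxS : x ∈ S) :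
    θ ⟨x, hxS⟩ ∈ normalizerIn S' Ub :=
  (mem_preimageAlong.mp (D.hT.le hx)).2

theorem ιt_injective : Function.Injective D.ιt := by
  rw [injective_iff_map_eq_one]
  intro y hy
  obtain ⟨x, hx, hxS, e⟩ := D.exists_lift y
  rw [show y = ⟨(y : Ω'), y.2⟩ from rfl, D.ιt_eq y.2 hx hxS e, QuotientGroup.mk'_apply,
    QuotientGroup.eq_one_iff] at hy
  obtain ⟨q, hq, hqx⟩ := D.mem_Qh.mp hy
  have h1 := D.ι_injective hqx
  have h2 : q = x := congrArg Subtype.val h1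
  have h3 : θ ⟨x, hxS⟩ = 1 := (D.hker _).mpr (h2 ▸ hq)
  apply Subtype.ext
  rw [← e, h3]
  rfl

theorem ιt_range : D.ιt.range = D.ι.range.map (QuotientGroup.mk' D.Qh) := by
  ext z
  constructor
  · rintro ⟨y, rfl⟩
    obtain ⟨x, hx, hxS, e⟩ := D.exists_lift y
    rw [show y = ⟨(y : Ω'), y.2⟩ from rfl, D.ιt_eq y.2 hx hxS e]
    exact ⟨_, ⟨_, rfl⟩, rfl⟩
  · rintro ⟨_, ⟨t, rfl⟩, rfl⟩
    refine ⟨⟨θ ⟨t, D.hTS t.2⟩, D.θ_mem_Tb t.2 (D.hTS t.2)⟩, ?_⟩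
    exact D.ιt_eq _ t.2 (D.hTS t.2) rfl

/-- the image of `Ub`. -/
noncomputable def Vh : Subgroup (L ⧸ D.Qh) := (Ub.subgroupOf (normalizerIn S' Ub)).map D.ιt

theorem hUbTb : Ub ≤ normalizerIn S' Ub := le_normalizerIn D.hUbS

theorem mem_Vh {z : L ⧸ D.Qh} :
    z ∈ D.Vh ↔ ∃ (ub : Ω') (hub : ub ∈ Ub), D.ιt ⟨ub, D.hUbTb hub⟩ = z := by
  constructor
  · rintro ⟨x, hx, rfl⟩
    exact ⟨x, Subgroup.mem_subgroupOf.mp hx, rfl⟩
  · rintro ⟨ub, hub, rfl⟩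
    exact ⟨⟨ub, D.hUbTb hub⟩, Subgroup.mem_subgroupOf.mpr hub, rfl⟩

theorem Vh_eq : D.Vh = (((preimageAlong θ Ub).subgroupOf
    (normalizerIn S (preimageAlong θ Ub))).map D.ι).map (QuotientGroup.mk' D.Qh) := by
  ext z
  rw [D.mem_Vh]
  constructor
  · rintro ⟨ub, hub, rfl⟩
    obtain ⟨x, hx⟩ := exists_preimage D.hrange D.hUbS hub
    have hxT : (x : Ω) ∈ normalizerIn S (preimageAlong θ Ub) := D.hUT x.2
    rw [D.ιt_eq _ hxT (D.hUS x.2) hx]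
    exact ⟨_, ⟨⟨x, hxT⟩, Subgroup.mem_subgroupOf.mpr x.2, rfl⟩, rfl⟩
  · rintro ⟨_, ⟨t, ht, rfl⟩, rfl⟩
    have htU : (t : Ω) ∈ preimageAlong θ Ub := Subgroup.mem_subgroupOf.mp ht
    obtain ⟨htS, htUb⟩ := mem_preimageAlong.mp htU
    refine ⟨θ ⟨t, htS⟩, htUb, ?_⟩
    exact D.ιt_eq _ t.2 htS rfl

theorem Vh_normal : D.Vh.Normal := by
  haveI := D.finiteT
  rw [D.Vh_eq]
  have h1 := normal_map_of_isNormal_of_isModel p D.NU D.ι D.hm D.NU_isNormal_U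
  exact h1.map _ (QuotientGroup.mk'_surjective _)

theorem Vh_le_range : D.Vh ≤ D.ιt.range := by
  rintro _ ⟨x, -, rfl⟩
  exact ⟨x, rfl⟩

/-- `Ub` is self-centralizing in `N_{S'}(Ub)`, seen in the quotient. -/
theorem Vh_centric (d : L ⧸ D.Qh) (hd : d ∈ D.ιt.range) (hc : ∀ v ∈ D.Vh, d * v = v * d) :
    d ∈ D.Vh := by
  obtain ⟨t, rfl⟩ := hd
  have htc : (t : Ω') ∈ centralizerIn S' Ub := by
    refine mem_centralizerIn.mpr ⟨normalizerIn_le t.2, fun ub hub => ?_⟩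
    have h1 := hc _ (D.mem_Vh.mpr ⟨ub, hub, rfl⟩)
    rw [← map_mul, ← map_mul] at h1
    have h2 := D.ιt_injective h1
    have h3 := congrArg Subtype.val h2
    exact h3.symm
  have htU : (t : Ω') ∈ Ub := D.hUbc.2 Ub (isConj_refl E D.hUbS) htc
  exact D.mem_Vh.mpr ⟨t, htU, rfl⟩

end QData

end Cfsg.Agent.Helper3.KL
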