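import Mathlib
import Cfsg.Agent.Lib.Helper3.KLQuotSys3

/-!
# `L ⧸ ι(Q)` realizes `N_E(Ub)`
-/

set_option autoImplicit false
set_option linter.style.haveILetI false
set_option linter.unusedSectionVars false
set_option linter.unusedVariables false

namespace Cfsg.Agent.Helper3.KL

open Cfsg Cfsg.FusionSystem Cfsg.Agent.Helper25

universe u v

variable {Ω : Type u} [Group Ω] {S : Subgroup Ω} {Ω' : Type v} [Group Ω'] {S' : Subgroup Ω'}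

namespace QData

variable [Finite S] {p : ℕ} [Fact p.Prime] {F : FusionSystem S} {Q : Subgroup Ω} {θ : S →* Ω'}
  {E : FusionSystem S'} {Ub : Subgroup Ω'} {L : Type*} [Group L] (D : QData p F Q θ E Ub L)

include D

/-- a map of `F` on a full preimage `K ⊇ U` inducing a map that preserves `Ub` preserves `U`. -/
theorem map_U_of_induced {Kb : Subgroup Ω'} (hUK : Ub ≤ Kb)
    {ψ : ↥(preimageAlong θ Kb) →* Ω} {ψb : Kb →* Ω'} (hind : InducedAlong θ ψ ψb)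
    (hmap : ∀ (ub : Ω') (hub : ub ∈ Ub), ψb ⟨ub, hUK hub⟩ ∈ Ub)
    (x : Ω) (hx : x ∈ preimageAlong θ Ub) :
    ψ ⟨x, preimageAlong_mono θ hUK hx⟩ ∈ preimageAlong θ Ub := by
  obtain ⟨hψS, hspec⟩ := inducedAlong_apply hind
  refine mem_preimageAlong.mpr ⟨hψS _, ?_⟩
  rw [← hspec]
  obtain ⟨hxS, hxU⟩ := mem_preimageAlong.mp hx
  exact hmap _ hxU

/-- **forward direction**: maps of `N_E(Ub)` are conjugations in `L ⧸ ι(Q)`. -/
theorem exists_conj_of_mem (Nb : FusionSystem (normalizerIn S' Ub))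
    (hNb : E.IsNormalizerSystem Ub Nb) {Pb : Subgroup Ω'} (hPb : Pb ≤ normalizerIn S' Ub)
    (φb : Pb →* Ω') (hφb : ∀ x : Pb, φb x ∈ normalizerIn S' Ub) (h : φb ∈ Nb.Hom Pb) :
    ∃ g : L ⧸ D.Qh, ∀ x : Pb, D.ιt ⟨φb x, hφb x⟩ = g * D.ιt ⟨x, hPb x.2⟩ * g⁻¹ := by
  haveI := D.finiteT
  rw [hNb Pb] at h
  obtain ⟨hφE, -, -, ψb, hψb, hext, hmap⟩ := h
  obtain ⟨hle, ψ, hψ, hind⟩ := (D.hE.2.2.2 (Pb ⊔ Ub) ψb).mp hψb
  obtain ⟨hψS, hspec⟩ := inducedAlong_apply hind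
  have hKbTb : Pb ⊔ Ub ≤ normalizerIn S' Ub := sup_le hPb D.hUbTb
  have hUK : preimageAlong θ Ub ≤ preimageAlong θ (Pb ⊔ Ub) := preimageAlong_mono θ le_sup_right
  have hKT : preimageAlong θ (Pb ⊔ Ub) ≤ normalizerIn S (preimageAlong θ Ub) := by
    rw [D.hT]; exact preimageAlong_mono θ hKbTb
  have hψU : ∀ (x : Ω) (hx : x ∈ preimageAlong θ Ub), ψ ⟨x, hUK hx⟩ ∈ preimageAlong θ Ub := by
    intro x hx
    refine D.map_U_of_induced le_sup_right hind (fun ub hub => ?_) x hx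
    have h0 : ψb ⟨ub, le_sup_right (a := Pb) hub⟩ ∈ (Ub.subgroupOf (Pb ⊔ Ub)).map ψb :=
      ⟨⟨ub, le_sup_right (a := Pb) hub⟩, Subgroup.mem_subgroupOf.mpr hub, rfl⟩
    exact hmap.le h0
  have hψN : ψ ∈ F.normalizerHom (preimageAlong θ Ub) (preimageAlong θ (Pb ⊔ Ub)) :=
    mem_normalizerHom_of_le F hUK hKT hψ hψU
  have hψNU : ψ ∈ D.NU.Hom (preimageAlong θ (Pb ⊔ Ub)) := by rw [D.hNU]; exact hψN
  have hψT : ∀ x, ψ x ∈ normalizerIn S (preimageAlong θ Ub) := hψN.2.2.1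
  obtain ⟨g, hg⟩ := (D.hm.2.1.2 _ hKT ψ hψT).mp hψNU
  refine ⟨QuotientGroup.mk' D.Qh g, fun y => ?_⟩
  have hPbS' : Pb ≤ S' := hPb.trans normalizerIn_le
  obtain ⟨x, hx⟩ := exists_preimage D.hrange hPbS' y.2
  have hxK : (x : Ω) ∈ preimageAlong θ (Pb ⊔ Ub) := preimageAlong_mono θ le_sup_left x.2
  have hxS : (x : Ω) ∈ S := preimageAlong_le θ _ x.2
  -- the right hand side
  have e1 : D.ιt ⟨y, hPb y.2⟩ = QuotientGroup.mk' D.Qh (D.ι ⟨x, hKT hxK⟩) :=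
    D.ιt_eq _ (hKT hxK) hxS hx
  -- the left hand side
  have e2 : (φb y : Ω') = θ ⟨ψ ⟨x, hxK⟩, hψS _⟩ := by
    rw [← hext y, ← hspec]
    congr 1
    apply Subtype.ext
    exact hx.symm
  have e3 : D.ιt ⟨φb y, hφb y⟩ = QuotientGroup.mk' D.Qh (D.ι ⟨ψ ⟨x, hxK⟩, hψT _⟩) :=
    D.ιt_eq _ (hψT _) (hψS _) e2.symm
  rw [e1, e3, hg ⟨x, hxK⟩, map_mul, map_mul, map_inv]

/-- **backward direction**: conjugations in `L ⧸ ι(Q)` between subgroups of the image give maps of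
`N_E(Ub)`. -/
theorem mem_of_conj (Nb : FusionSystem (normalizerIn S' Ub))
    (hNb : E.IsNormalizerSystem Ub Nb) {Pb : Subgroup Ω'} (hPb : Pb ≤ normalizerIn S' Ub)
    (φb : Pb →* Ω') (hφb : ∀ x : Pb, φb x ∈ normalizerIn S' Ub) (gb : L ⧸ D.Qh)
    (hgb : ∀ x : Pb, D.ιt ⟨φb x, hφb x⟩ = gb * D.ιt ⟨x, hPb x.2⟩ * gb⁻¹) : φb ∈ Nb.Hom Pb := by
  haveI := D.finiteT
  haveI := D.finiteS'
  obtain ⟨g, rfl⟩ := QuotientGroup.mk'_surjective D.Qh gb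
  have hKbTb : Pb ⊔ Ub ≤ normalizerIn S' Ub := sup_le hPb D.hUbTb
  have hKbS' : Pb ⊔ Ub ≤ S' := hKbTb.trans normalizerIn_le
  have hUK : preimageAlong θ Ub ≤ preimageAlong θ (Pb ⊔ Ub) := preimageAlong_mono θ le_sup_right
  have hKT : preimageAlong θ (Pb ⊔ Ub) ≤ normalizerIn S (preimageAlong θ Ub) := by
    rw [D.hT]; exact preimageAlong_mono θ hKbTb
  -- conjugation by `mk g` maps the image of `Pb ⊔ Ub` into the image of `N_{S'}(Ub)`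
  obtain ⟨f, hfdef⟩ : ∃ f : ↥(Pb ⊔ Ub) →* L ⧸ D.Qh,
      f = (MulAut.conj (QuotientGroup.mk' D.Qh g)).toMonoidHom.comp
        (D.ιt.comp (Subgroup.inclusion hKbTb)) := ⟨_, rfl⟩
  have hfapp : ∀ (y : Ω') (hy : y ∈ Pb ⊔ Ub), f ⟨y, hy⟩ =
      QuotientGroup.mk' D.Qh g * D.ιt ⟨y, hKbTb hy⟩ * (QuotientGroup.mk' D.Qh g)⁻¹ := by
    intro y hy
    rw [hfdef]
    rfl
  have hf : ∀ x, f x ∈ D.ιt.range := by
    apply sup_hom_mem' f D.ιt.range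
    · intro a ha
      rw [hfapp]
      have := hgb ⟨a, ha⟩
      rw [← this]
      exact ⟨_, rfl⟩
    · intro b hb
      rw [hfapp]
      apply D.Vh_le_range
      exact D.Vh_normal.conj_mem _ (D.mem_Vh.mpr ⟨b, hb, rfl⟩) _
  have hclaim : ∀ x : ↥(preimageAlong θ (Pb ⊔ Ub)),
      g * D.ι ⟨x, hKT x.2⟩ * g⁻¹ ∈ D.ι.range := by
    intro x
    obtain ⟨hxS, hxK⟩ := mem_preimageAlong.mp x.2
    have h1 := hf ⟨θ ⟨x, hxS⟩, hxK⟩
    have h2 : f ⟨θ ⟨x, hxS⟩, hxK⟩ =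
        QuotientGroup.mk' D.Qh (g * D.ι ⟨x, hKT x.2⟩ * g⁻¹) := by
      rw [hfapp, D.ιt_eq _ (hKT x.2) hxS rfl, map_mul, map_mul, map_inv]
    rw [h2, D.ιt_range] at h1
    obtain ⟨_, ⟨t, rfl⟩, ht⟩ := h1
    have h3 : (D.ι t)⁻¹ * (g * D.ι ⟨x, hKT x.2⟩ * g⁻¹) ∈ D.Qh := QuotientGroup.eq.mp ht
    obtain ⟨r, hr⟩ := D.Qh_le_range h3
    refine ⟨t * r, ?_⟩
    rw [map_mul, hr]
    group
  obtain ⟨ψ, hψ, hψT, hψg⟩ := exists_hom_of_conj D.NU D.hm.2.1 hKT g hclaim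
  have hψN : ψ ∈ F.normalizerHom (preimageAlong θ Ub) (preimageAlong θ (Pb ⊔ Ub)) := by
    rw [← D.hNU]; exact hψ
  have hψF : ψ ∈ F.Hom (preimageAlong θ (Pb ⊔ Ub)) := hψN.1
  -- `ψ` preserves `U`
  have hψU : ∀ (x : Ω) (hx : x ∈ preimageAlong θ Ub), ψ ⟨x, hUK hx⟩ ∈ preimageAlong θ Ub := by
    intro x hx
    obtain ⟨-, -, -, ψ', hψ', hext', hmap'⟩ := hψN
    have h0 : ψ' ⟨x, le_sup_right (a := preimageAlong θ (Pb ⊔ Ub)) hx⟩ ∈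
        ((preimageAlong θ Ub).subgroupOf _).map ψ' :=
      ⟨⟨x, _⟩, Subgroup.mem_subgroupOf.mpr hx, rfl⟩
    have h1 := hmap'.le h0
    rw [← hext' ⟨x, hUK hx⟩]
    exact h1
  obtain ⟨ψb, hψb, hind⟩ := exists_induced_of_surj D.hα hKbS' hψF
  obtain ⟨hψS, hspec⟩ := inducedAlong_apply hind
  -- `ψb` preserves `Ub`
  have hψbU : ∀ (ub : Ω') (hub : ub ∈ Ub), ψb ⟨ub, le_sup_right (a := Pb) hub⟩ ∈ Ub := by
    intro ub hub
    obtain ⟨x, hx⟩ := exists_preimage D.hrange D.hUbS hub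
    have h1 := hspec ⟨x, hUK x.2⟩
    have e : preimageMap θ (Pb ⊔ Ub) ⟨x, hUK x.2⟩ = ⟨ub, le_sup_right (a := Pb) hub⟩ :=
      Subtype.ext hx
    rw [e] at h1
    rw [h1]
    exact (mem_preimageAlong.mp (hψU x x.2)).2
  have hψbN : ψb ∈ E.normalizerHom Ub (Pb ⊔ Ub) :=
    mem_normalizerHom_of_le E le_sup_right hKbTb hψb hψbU
  have hψbNb : ψb ∈ Nb.Hom (Pb ⊔ Ub) := by rw [hNb]; exact hψbN
  have hres := restrict_mem Nb (le_sup_left : Pb ≤ Pb ⊔ Ub) hψbNb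
  have heq : φb = ψb.comp (Subgroup.inclusion le_sup_left) := by
    ext y
    obtain ⟨x, hx⟩ := exists_preimage D.hrange (hPb.trans normalizerIn_le) y.2
    have hxK : (x : Ω) ∈ preimageAlong θ (Pb ⊔ Ub) := preimageAlong_mono θ le_sup_left x.2
    have hxS : (x : Ω) ∈ S := preimageAlong_le θ _ x.2
    have h1 := hspec ⟨x, hxK⟩
    have e : preimageMap θ (Pb ⊔ Ub) ⟨x, hxK⟩ = Subgroup.inclusion le_sup_left y :=
      Subtype.ext hx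
    rw [e] at h1
    have hval : (ψb (Subgroup.inclusion le_sup_left y) : Ω') ∈ normalizerIn S' Ub :=
      hψbN.2.2.1 _
    have e1 : D.ιt ⟨ψb (Subgroup.inclusion le_sup_left y), hval⟩ =
        QuotientGroup.mk' D.Qh (D.ι ⟨ψ ⟨x, hxK⟩, hψT _⟩) :=
      D.ιt_eq _ (hψT _) (hψS _) h1.symm
    have e2 : D.ιt ⟨y, hPb y.2⟩ = QuotientGroup.mk' D.Qh (D.ι ⟨x, hKT hxK⟩) :=
      D.ιt_eq _ (hKT hxK) hxS hx
    have e3 : D.ιt ⟨φb y, hφb y⟩ = D.ιt ⟨ψb (Subgroup.inclusion le_sup_left y), hval⟩ := by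
      rw [hgb y, e1, e2, hψg ⟨x, hxK⟩, map_mul, map_mul, map_inv]
    exact congrArg Subtype.val (D.ιt_injective e3)
  rw [heq]
  exact hres

/-- `L ⧸ ι(Q)` realizes `N_E(Ub)` through `ιt`. -/
theorem isRealizedBy_ιt (Nb : FusionSystem (normalizerIn S' Ub))
    (hNb : E.IsNormalizerSystem Ub Nb) : Nb.IsRealizedBy D.ιt := by
  refine ⟨D.ιt_injective, fun Pb hPb φb hφb => ⟨?_, ?_⟩⟩
  · intro h
    exact D.exists_conj_of_mem Nb hNb hPb φb hφb h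
  · rintro ⟨g, hg⟩
    exact D.mem_of_conj Nb hNb hPb φb hφb g hg

end QData

end Cfsg.Agent.Helper3.KL
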