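import Mathlib
import Cfsg.Agent.Lib.Helper3.KLQuotSys4
import Cfsg.Agent.S5343
import Cfsg.Agent.S5096

/-!
# Local properties pass to factor systems

If `Q ⊴ F` and all local models of `F` (at fully normalized centric subgroups) have a property
closed under quotients, then so do the local models of `F/Q`.
-/

set_option autoImplicit false
set_option linter.style.haveILetI false
set_option linter.unusedSectionVars false
set_option linter.unusedVariables false

namespace Cfsg.Agent.Helper3.KL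

open Cfsg Cfsg.FusionSystem Cfsg.Agent.Helper25 Cfsg.Agent.Helper26 Cfsg.Agent.Helper3.Model

universe u v

variable {Ω : Type u} [Group Ω] {S : Subgroup Ω} {Ω' : Type v} [Group Ω'] {S' : Subgroup Ω'}

namespace QData

variable [Finite S] {p : ℕ} [Fact p.Prime] {F : FusionSystem S} {Q : Subgroup Ω} {θ : S →* Ω'}
  {E : FusionSystem S'} {Ub : Subgroup Ω'} {L : Type*} [Group L] (D : QData p F Q θ E Ub L)

include D

/-- a quotient of `L ⧸ ι(Q)` by a normal `p'`-subgroup is a model of `N_E(Ub)`. -/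
theorem exists_model_quot (Nb : FusionSystem (normalizerIn S' Ub))
    (hNb : E.IsNormalizerSystem Ub Nb) :
    ∃ (K : Subgroup (L ⧸ D.Qh)) (_ : K.Normal),
      Nb.IsModel p ((L ⧸ D.Qh) ⧸ K) ((QuotientGroup.mk' K).comp D.ιt) := by
  haveI : Finite L := D.hm.1
  have hp : p.Prime := Fact.out
  obtain ⟨R₀, hR₀⟩ := D.hm.2.2.1
  obtain ⟨R, hRdef⟩ : ∃ R : Sylow p (L ⧸ D.Qh),
      R = R₀.mapSurjective (QuotientGroup.mk'_surjective D.Qh) := ⟨_, rfl⟩
  have hR : (R : Subgroup (L ⧸ D.Qh)) = D.ιt.range := by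
    rw [hRdef, Sylow.coe_mapSurjective, hR₀, D.ιt_range]
  haveI := D.Vh_normal
  have hVR : D.Vh ≤ (R : Subgroup (L ⧸ D.Qh)) := hR ▸ D.Vh_le_range
  have hVp : IsPGroup p D.Vh := R.isPGroup'.to_le hVR
  obtain ⟨K, hKn, hKcop, hdec⟩ := exists_coprime_normal_complement p R D.Vh hVR
    (fun d hd hc => D.Vh_centric d (hR ▸ hd) hc)
  haveI := hKn
  have hdisj : (R : Subgroup (L ⧸ D.Qh)) ⊓ K = ⊥ := by
    apply disjoint_iff.mp
    apply Subgroup.disjoint_of_coprime_natCard
    obtain ⟨k, hk⟩ := IsPGroup.iff_card.mp R.isPGroup'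
    rw [hk]
    exact Nat.Coprime.pow_left _ hKcop.symm
  have hbot : pbSub D.ιt K = ⊥ := by
    rw [eq_bot_iff]
    intro y hy
    obtain ⟨hyT, hyK⟩ := mem_pbSub.mp hy
    have h1 : D.ιt ⟨y, hyT⟩ ∈ (R : Subgroup (L ⧸ D.Qh)) ⊓ K := ⟨hR ▸ ⟨_, rfl⟩, hyK⟩
    rw [hdisj, Subgroup.mem_bot] at h1
    have h2 := D.ιt_injective (h1.trans (map_one D.ιt).symm)
    exact Subgroup.mem_bot.mpr (congrArg Subtype.val h2)
  obtain ⟨hreal2, hsyl2⟩ := Cfsg.Agent.S5343.isRealizedBy_quotient Nb D.ιt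
    (D.isRealizedBy_ιt Nb hNb) R hR K hbot
  exact ⟨K, hKn, inferInstance, hreal2, hsyl2,
    centralizer_pCore_quotient_le p D.Vh K hVp hKcop hdec⟩

end QData

/-- **Local properties pass to factor systems modulo normal subgroups.** -/
theorem localProp_factor [Finite S] (p : ℕ) [Fact p.Prime] (hS : IsPGroup p S)
    (F : FusionSystem S) (hF : F.IsSaturated p) {Q : Subgroup Ω} (hQ : F.IsNormal Q)
    (θ : S →* Ω') (E : FusionSystem S') (hE : F.IsFactorSystem Q θ E)
    (Pr : ∀ (L : Type u) [Group L], Prop) (Pr' : ∀ (L : Type v) [Group L], Prop)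
    (hquot : ∀ {L : Type u} {L' : Type v} [Group L] [Group L'] (f : L →* L'),
      Function.Surjective f → Pr L → Pr' L')
    (hloc : LocalProp F p Pr) : LocalProp E p Pr' := by
  intro Ub hUbfn hUbc Nb hNb Lb _ ιb hmb
  have hα : F.IsSurjectiveMorphism E θ :=
    Cfsg.Agent.S5134.result p hS F hF Q (stronglyClosed_of_isNormal F hQ) θ E hE
  have hUfn := isFullyNormalized_preimageAlong hα hUbfn
  have hUc := isCentric_preimageAlong hα hUbc
  obtain ⟨NU, hNU⟩ := Cfsg.Agent.S5096.result F _ hUfn.1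
  have hTp : IsPGroup p (normalizerIn S (preimageAlong θ Ub)) := hS.to_le normalizerIn_le
  haveI : Finite (normalizerIn S (preimageAlong θ Ub)) := finite_of_le_finite normalizerIn_le
  have hNUsat := normalizerSystem_isSaturated p hS F hF hUfn NU hNU
  obtain ⟨L, _, ι, hm⟩ := exists_model p hTp NU ⟨hNUsat, _,
    normalizerSystem_isNormal F hUfn.1 NU hNU, normalizerSystem_isCentric F hUc NU hNU⟩
  obtain ⟨D, hDι⟩ : ∃ D : QData p F Q θ E Ub L, D.ι = ι :=
    ⟨{ hS := hS, hF := hF, hQ := hQ, hE := hE, hUbfn := hUbfn, hUbc := hUbc, NU := NU,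
       hNU := hNU, ι := ι, hm := hm }, rfl⟩
  obtain ⟨K, hKn, hmodel⟩ := D.exists_model_quot Nb hNb
  haveI := hKn
  haveI : Finite S' := finite_of_range_eq hE.2.2.1
  have hS'p : IsPGroup p S' := by
    have h1 : IsPGroup p θ.range := IsPGroup.of_surjective hS θ.rangeRestrict θ.rangeRestrict_surjective
    exact hE.2.2.1 ▸ h1
  have hEsat : E.IsSaturated p := isSaturated_of_surj hS hF hα
  have hTbp : IsPGroup p (normalizerIn S' Ub) := hS'p.to_le normalizerIn_le
  haveI : Finite (normalizerIn S' Ub) := finite_of_le_finite normalizerIn_le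
  have hNbsat := normalizerSystem_isSaturated p hS'p E hEsat hUbfn Nb hNb
  have hNbcons : Nb.IsConstrained p := ⟨hNbsat, Ub,
    normalizerSystem_isNormal E hUbfn.1 Nb hNb, normalizerSystem_isCentric E hUbc Nb hNb⟩
  obtain ⟨e, he⟩ := exists_iso_of_isModel p hTbp Nb hNbcons _ ιb hmodel hmb
  refine hquot (e.toMonoidHom.comp ((QuotientGroup.mk' K).comp (QuotientGroup.mk' D.Qh))) ?_
    (hloc _ hUfn hUc NU hNU L ι hm)
  exact e.surjective.comp ((QuotientGroup.mk'_surjective K).comp (QuotientGroup.mk'_surjective D.Qh))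

end Cfsg.Agent.Helper3.KL
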