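import Mathlib
import Cfsg.Agent.Lib.Helper3.KLApply
import Cfsg.Agent.Lib.Helper3.KLFreeNorm
import Cfsg.Agent.Lib.Helper25.KNorm7
import Cfsg.Agent.Lib.Helper25.FusionNormSub
import Cfsg.Agent.Lib.Helper25.FusionNormal2
import Cfsg.Agent.Lib.Helper25.FusionNormal3
import Cfsg.Agent.Lib.Helper25.FusionSolv2
import Cfsg.Agent.Lib.Helper25.FusionModel
import Cfsg.Agent.S5195
import Cfsg.Agent.S5096
import Cfsg.Agent.S5086

/-!
# Sparse fusion systems are constrained (Glesser)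
-/

set_option autoImplicit false
set_option linter.style.haveILetI false
set_option linter.unusedSectionVars false

namespace Cfsg.Agent.Helper3.KL

open Cfsg Cfsg.FusionSystem Cfsg.Agent.Helper25 Cfsg.Agent.Helper25.Solv

variable {Ω : Type*} [Group Ω] {S : Subgroup Ω}

/-- if every automorphism of `X` in the system is induced by `S` then `Aut_F(X)` is a `p`-group -/
theorem isPGroup_autGroup_of_forall {p : ℕ} (hS : IsPGroup p S) (F : FusionSystem S)
    {X : Subgroup Ω} (hXS : X ≤ S)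
    (h : ∀ α : MulAut X, X.subtype.comp α.toMonoidHom ∈ F.Hom X →
      ∃ s ∈ S, ∀ x : X, ((α x : X) : Ω) = s * (x : Ω) * s⁻¹) :
    IsPGroup p (F.autGroup X) := by
  have hle : F.autGroup X ≤ autInducedBy S X := by
    intro α hα
    rw [mem_autGroup_iff F hXS] at hα
    exact (mem_autInducedBy_iff α).mpr (h α hα)
  exact (isPGroup_autInducedBy hS X).to_le hle

theorem le_normalizer_of_stronglyClosed (F : FusionSystem S) {W : Subgroup Ω}
    (hsc : F.StronglyClosed W) : S ≤ Subgroup.normalizer (W : Set Ω) := by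
  intro g hg
  apply mem_normalizer_of_forall
  · intro y hy; exact conj_mem_of_stronglyClosed F hsc hg hy
  · intro y hy; exact conj_mem_of_stronglyClosed' F hsc hg hy

theorem hK_autInducedBy (Q : Subgroup Ω) (hSn : S ≤ Subgroup.normalizer (Q : Set Ω)) :
    ∀ g ∈ S, ∃ κ ∈ autInducedBy S Q, ∀ x : Q, ((κ x : Q) : Ω) = g * (x : Ω) * g⁻¹ :=
  fun g hg => ⟨Q.normalizerMonoidHom ⟨g, hSn hg⟩,
    (mem_autInducedBy_iff _).mpr ⟨g, hg, fun _ => rfl⟩, fun _ => rfl⟩

/-- The subsystem `S C_F(Q)` is saturated for `Q` normal in `F`. -/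
theorem normSub_autS_isSaturated [Finite S] (p : ℕ) [Fact p.Prime] (hS : IsPGroup p S)
    (F : FusionSystem S) (hF : F.IsSaturated p) {Q : Subgroup Ω} (hQ : F.IsNormal Q)
    (hK : ∀ g ∈ S, ∃ κ ∈ autInducedBy S Q, ∀ x : Q, ((κ x : Q) : Ω) = g * (x : Ω) * g⁻¹) :
    (normSub F Q (autInducedBy S Q) hQ.1 hK).IsSaturated p := by
  have hQfn : F.IsFullyNormalized Q :=
    isFullyNormalized_of_normal F hQ.1 (le_normalizer_of_isNormal F hQ)
  obtain ⟨hfc, -, -⟩ := of_fullyNormalized p hS F hF hQfn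
  refine isSaturated_of_isKNormSys p hS F hF hQ.1 (K := autInducedBy S Q) ?_ ?_
  · refine ⟨subtype_mem F hQ.1, ?_, ?_⟩
    · rw [Subgroup.range_subtype]; exact hfc
    · have e : TK S (F.autGroup Q ⊓ autInducedBy S Q) Q.subtype
          = F.autGroup Q ⊓ autInducedBy S Q := by
        apply le_antisymm (TK_le _ _)
        intro κ hκ
        obtain ⟨g, hg, h⟩ := (mem_autInducedBy_iff κ).mp hκ.2
        exact ⟨hκ, g, hg, fun x => (h x).symm⟩
      rw [e]
      exact ⟨le_rfl, (isPGroup_autInducedBy hS Q).to_le inf_le_right,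
        fun L hL _ hML => le_antisymm hL hML⟩
  · constructor
    · intro g
      constructor
      · intro hg
        obtain ⟨κ, hκ, h⟩ := hK g hg
        exact ⟨hg, κ, hκ, fun x => (h x).symm⟩
      · exact fun h => h.1
    · intro P φ
      constructor
      · rintro ⟨h1, ψ, hψ, hext, κ, hκ, hκψ⟩
        exact ⟨h1, (F.le_of_mem h1).1, (F.le_of_mem h1).2, ψ, hψ, hext, κ, hκ, hκψ⟩
      · rintro ⟨h1, -, -, ψ, hψ, hext, κ, hκ, hκψ⟩
        exact ⟨h1, ψ, hψ, hext, κ, hκ, hκψ⟩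

/-- applying sparseness to a system over a subgroup equal to `S` -/
theorem sparse_apply {p : ℕ} (F : FusionSystem S)
    (hsp : ∀ E : FusionSystem S, E.IsSaturated p → E.IsSubsystemOf F →
      (∀ P : Subgroup Ω, E.Hom P = F.Hom P) ∨
        (∀ P : Subgroup Ω, E.Hom P = (innerFusionSystem S).Hom P))
    {T : Subgroup Ω} (hT : T = S) (N : FusionSystem T) (hNsat : N.IsSaturated p)
    (hNF : ∀ P : Subgroup Ω, N.Hom P ⊆ F.Hom P) :
    (∀ P : Subgroup Ω, N.Hom P = F.Hom P) ∨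
      (∀ P : Subgroup Ω, N.Hom P = (innerFusionSystem T).Hom P) := by
  subst hT
  exact hsp N hNsat hNF

/-- If the automorphisms of centric radical subgroups centralizing the normal subgroup `Q` are all
induced by `S`, then `C_S(Q)` lies in every centric radical subgroup. -/
theorem centralizerIn_le_of_centric_radical [Finite S] (p : ℕ) [Fact p.Prime] (hS : IsPGroup p S)
    (F : FusionSystem S) {Q : Subgroup Ω} (hQ : F.IsNormal Q)
    (hin : ∀ (U : Subgroup Ω) (hQU : Q ≤ U) (α : MulAut U),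
      U.subtype.comp α.toMonoidHom ∈ F.Hom U →
      (∀ x : Q, α ⟨x, hQU x.2⟩ = ⟨x, hQU x.2⟩) →
      ∃ s ∈ S, ∀ x : U, ((α x : U) : Ω) = s * (x : Ω) * s⁻¹)
    {U : Subgroup Ω} (hUc : F.IsCentric U) (hUr : F.IsRadical p U) :
    centralizerIn S Q ≤ U := by
  have hUS : U ≤ S := hUc.1
  have hQU : Q ≤ U := le_of_isNormal_of_centric_radical p hS F hQ hUc hUr
  have hQsc := stronglyClosed_of_isNormal F hQ
  have hTsc : F.StronglyClosed (centralizerIn S Q) := stronglyClosed_centralizerIn hQ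
  have hTS : centralizerIn S Q ≤ S := inf_le_left
  have hSnT := le_normalizer_of_stronglyClosed F hTsc
  by_contra hne
  obtain ⟨t, ht, htU⟩ := exists_mem_inf_normalizer_not_mem hS hTS hUS (hUS.trans hSnT) hne
  obtain ⟨htT, htN⟩ := Subgroup.mem_inf.mp ht
  have htS : t ∈ S := hTS htT
  -- the subgroup of automorphisms centralizing `Q`
  let A₀ : Subgroup (F.autGroup U) :=
    { carrier := {α | ∀ x : Q, (α : MulAut U) ⟨x, hQU x.2⟩ = ⟨x, hQU x.2⟩}
      one_mem' := fun x => rfl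
      mul_mem' := by
        intro a b ha hb x
        show (a : MulAut U) ((b : MulAut U) ⟨x, hQU x.2⟩) = ⟨x, hQU x.2⟩
        rw [hb x, ha x]
      inv_mem' := by
        intro a ha x
        show (a : MulAut U)⁻¹ ⟨x, hQU x.2⟩ = ⟨x, hQU x.2⟩
        rw [MulAut.inv_apply, MulEquiv.symm_apply_eq]
        exact (ha x).symm }
  have hA₀mem : ∀ α : F.autGroup U, α ∈ A₀ ↔
      ∀ x : Q, (α : MulAut U) ⟨x, hQU x.2⟩ = ⟨x, hQU x.2⟩ := fun α => Iff.rfl
  have hA₀n : A₀.Normal := by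
    refine ⟨fun α hα β => ?_⟩
    rw [hA₀mem] at hα ⊢
    intro x
    show (β : MulAut U) ((α : MulAut U) ((β : MulAut U)⁻¹ ⟨x, hQU x.2⟩)) = ⟨x, hQU x.2⟩
    have hβinv : (β : MulAut U)⁻¹ ∈ F.autGroup U := Subgroup.inv_mem _ β.2
    have h1 := map_aut_eq_of_stronglyClosed F hQsc hUS hQU hβinv
    have h2 : (β : MulAut U)⁻¹ ⟨x, hQU x.2⟩ ∈ (Q.subgroupOf U).map ((β : MulAut U)⁻¹).toMonoidHom :=
      ⟨⟨x, hQU x.2⟩, Subgroup.mem_subgroupOf.mpr x.2, rfl⟩
    rw [h1] at h2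
    have h3 : (((β : MulAut U)⁻¹ ⟨x, hQU x.2⟩ : U) : Ω) ∈ Q := Subgroup.mem_subgroupOf.mp h2
    have h4 := hα ⟨_, h3⟩
    have h5 : (⟨((⟨_, h3⟩ : Q) : Ω), hQU h3⟩ : U) = (β : MulAut U)⁻¹ ⟨x, hQU x.2⟩ := Subtype.ext rfl
    rw [h5] at h4
    rw [h4]
    exact MulAut.apply_inv_self _ _ _
  have hA₀p : IsPGroup p A₀ := by
    have hval : ∀ α : A₀, ((α : F.autGroup U) : MulAut U) ∈ autInducedBy S U := by
      intro α
      have hαF := (mem_autGroup_iff F hUS _).mp (α : F.autGroup U).2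
      obtain ⟨s, hs, hsα⟩ := hin U hQU _ hαF α.2
      exact (mem_autInducedBy_iff _).mpr ⟨s, hs, hsα⟩
    refine IsPGroup.of_injective (isPGroup_autInducedBy hS U)
      (((F.autGroup U).subtype.comp A₀.subtype).codRestrict (autInducedBy S U) hval) ?_
    intro a b hab
    have h1 : ((a : F.autGroup U) : MulAut U) = ((b : F.autGroup U) : MulAut U) :=
      congrArg (fun z : autInducedBy S U => (z : MulAut U)) hab
    exact Subtype.ext (Subtype.ext h1)
  have hA₀le : A₀ ≤ pCore p (F.autGroup U) := le_pCore hA₀n hA₀p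
  -- conjugation by `t`
  set ct : MulAut U := U.normalizerMonoidHom ⟨t, htN⟩ with hct
  have hctS : ct ∈ autInducedBy S U := (mem_autInducedBy_iff _).mpr ⟨t, htS, fun _ => rfl⟩
  have hctF : ct ∈ F.autGroup U := autInducedBy_le_autGroup F hUS hctS
  have hctA : (⟨ct, hctF⟩ : F.autGroup U) ∈ A₀ := by
    rw [hA₀mem]
    intro x
    apply Subtype.ext
    show t * (x : Ω) * t⁻¹ = x
    have := Subgroup.mem_centralizer_iff.mp htT.2 x x.2
    rw [← this, mul_inv_cancel_right]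
  have hctInn : ct ∈ Inn U := by
    rw [← hUr.2]
    exact ⟨⟨ct, hctF⟩, hA₀le hctA, rfl⟩
  obtain ⟨u, hu⟩ := hctInn
  apply htU
  have hcen : (u : Ω)⁻¹ * t ∈ centralizerIn S U := by
    refine ⟨S.mul_mem (S.inv_mem (hUS u.2)) htS, ?_⟩
    show (u : Ω)⁻¹ * t ∈ Subgroup.centralizer (U : Set Ω)
    rw [Subgroup.mem_centralizer_iff]
    intro y hy
    have h1 : ((MulAut.conj u) ⟨y, hy⟩ : U) = ct ⟨y, hy⟩ := by rw [hu]
    have h2 : (u : Ω) * y * (u : Ω)⁻¹ = t * y * t⁻¹ := congrArg (fun z : U => (z : Ω)) h1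
    have h3 : y = (u : Ω)⁻¹ * (t * y * t⁻¹) * (u : Ω) := by rw [← h2]; group
    calc y * ((u : Ω)⁻¹ * t) = (u : Ω)⁻¹ * (t * y * t⁻¹) * (u : Ω) * ((u : Ω)⁻¹ * t) := by
          rw [← h3]
      _ = (u : Ω)⁻¹ * t * y := by group
  have h6 := hUc.2 U (isConj_refl F hUS) hcen
  have h7 := U.mul_mem u.2 h6
  rwa [mul_inv_cancel_left] at h7

/-- **Sparse fusion systems are constrained** (for `p` odd or `S₄`-free). -/
theorem isConstrained_of_sparse [Finite S] (p : ℕ) [Fact p.Prime] (hS : IsPGroup p S)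
    (F : FusionSystem S) (hF : F.IsSaturated p)
    (hne : ¬ ∀ P : Subgroup Ω, F.Hom P = (innerFusionSystem S).Hom P)
    (hsp : ∀ E : FusionSystem S, E.IsSaturated p → E.IsSubsystemOf F →
      (∀ P : Subgroup Ω, E.Hom P = F.Hom P) ∨
        (∀ P : Subgroup Ω, E.Hom P = (innerFusionSystem S).Hom P))
    (hp : p ≠ 2 ∨ F.IsSectionFree p (Equiv.Perm (Fin 4))) : F.IsConstrained p := by
  -- a characteristic subgroup with a non-`p`-group of automorphisms
  obtain ⟨X₀, hX₀S, hX₀1, hX₀c, hX₀⟩ : ∃ X₀ : Subgroup Ω, X₀ ≤ S ∧ X₀ ≠ ⊥ ∧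
      (X₀.subgroupOf S).Characteristic ∧ ¬ IsPGroup p (F.autGroup X₀) := by
    by_contra hcon
    push Not at hcon
    exact hne (Cfsg.Agent.S5195.result p hS F hF hp (fun Q h1 h2 h3 => hcon Q h1 h2 h3))
  have hX₀n : S ≤ Subgroup.normalizer (X₀ : Set Ω) := le_normalizer_of_char hX₀S hX₀c
  have hX₀fn : F.IsFullyNormalized X₀ := isFullyNormalized_of_normal F hX₀S hX₀n
  obtain ⟨N, hN⟩ := Cfsg.Agent.S5096.result F X₀ hX₀S
  have hNsat := normalizerSystem_isSaturated p hS F hF hX₀fn N hN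
  have hTeq : normalizerIn S X₀ = S := normalizerIn_eq_of_le hX₀n
  have hX₀normal : F.IsNormal X₀ := by
    rcases sparse_apply F hsp hTeq N hNsat (fun P φ h => by rw [hN P] at h; exact h.1) with h | h
    · refine ⟨hX₀S, fun P φ hφ => ?_⟩
      rw [← h P, hN P] at hφ
      obtain ⟨-, -, -, ψ, hψ, hext, hmap⟩ := hφ
      exact ⟨ψ, hψ, hext, hmap⟩
    · exfalso
      apply hX₀
      apply isPGroup_autGroup_of_forall hS F hX₀S
      intro α hα
      have h1 : X₀.subtype.comp α.toMonoidHom ∈ F.normalizerHom X₀ X₀ :=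
        mem_normalizerHom_of_le F le_rfl (le_normalizerIn hX₀S) hα (fun x hx => (α ⟨x, hx⟩).2)
      rw [← hN X₀, h X₀] at h1
      obtain ⟨-, g, hg, hgα⟩ := h1
      exact ⟨g, hg.1, hgα⟩
  -- the largest normal subgroup
  obtain ⟨Q, hQdef⟩ : ∃ Q, Q = F.core := ⟨_, rfl⟩
  have hQ : F.IsNormal Q := hQdef ▸ isNormal_core F
  have hX₀Q : X₀ ≤ Q := by rw [hQdef]; exact le_sSup hX₀normal
  have hQS := hQ.1
  have hSnQ := le_normalizer_of_isNormal F hQ
  have hK := hK_autInducedBy Q hSnQ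
  have hEsat := normSub_autS_isSaturated p hS F hF hQ hK
  have hEF : normSub F Q (autInducedBy S Q) hQS hK ≤ F := normSub_le F Q _ hQS hK
  rcases hsp _ hEsat hEF with h | h
  · exfalso
    apply hX₀
    apply isPGroup_autGroup_of_forall hS F hX₀S
    intro α hα
    rw [← h X₀] at hα
    obtain ⟨-, ψ, hψ, hext, κ, hκ, hκψ⟩ := hα
    obtain ⟨s, hs, hsκ⟩ := (mem_autInducedBy_iff κ).mp hκ
    refine ⟨s, hs, fun x => ?_⟩
    have h1 : ψ (Subgroup.inclusion le_sup_left x) = ((α x : X₀) : Ω) := hext x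
    have h2 := hκψ ⟨x, hX₀Q x.2⟩
    have h3 : Subgroup.inclusion (le_sup_left : X₀ ≤ X₀ ⊔ Q) x
        = Subgroup.inclusion (le_sup_right : Q ≤ X₀ ⊔ Q) ⟨(x : Ω), hX₀Q x.2⟩ := Subtype.ext rfl
    rw [← h1, h3, h2, hsκ]
  · -- the subsystem is inner
    have hin : ∀ (U : Subgroup Ω) (hQU : Q ≤ U) (α : MulAut U),
        U.subtype.comp α.toMonoidHom ∈ F.Hom U →
        (∀ x : Q, α ⟨x, hQU x.2⟩ = ⟨x, hQU x.2⟩) →
        ∃ s ∈ S, ∀ x : U, ((α x : U) : Ω) = s * (x : Ω) * s⁻¹ := by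
      intro U hQU α hα hfix
      have hle : U ⊔ Q ≤ U := sup_le le_rfl hQU
      have hmem : U.subtype.comp α.toMonoidHom ∈
          (normSub F Q (autInducedBy S Q) hQS hK).Hom U := by
        refine ⟨hα, (U.subtype.comp α.toMonoidHom).comp (Subgroup.inclusion hle),
          restrict_mem F hle hα, fun x => rfl, 1, Subgroup.one_mem _, fun x => ?_⟩
        exact congrArg (fun z : U => (z : Ω)) (hfix x)
      rw [h U] at hmem
      obtain ⟨-, g, hg, hgα⟩ := hmem
      exact ⟨g, hg, hgα⟩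
    have hTsc : F.StronglyClosed (centralizerIn S Q) := stronglyClosed_centralizerIn hQ
    have hTn : F.IsNormal (centralizerIn S Q) := by
      rw [Cfsg.Agent.S5086.result p hS F hF]
      exact ⟨hTsc, fun U hUc hUr => centralizerIn_le_of_centric_radical p hS F hQ hin hUc hUr⟩
    have hTQ : centralizerIn S Q ≤ Q := by
      have h0 : centralizerIn S Q ≤ sSup {Q : Subgroup Ω | F.IsNormal Q} := le_sSup hTn
      have h1 : Q = sSup {Q : Subgroup Ω | F.IsNormal Q} := hQdef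
      exact h0.trans h1.ge
    exact ⟨hF, Q, hQ, isCentric_of_isNormal hQ hTQ⟩

end Cfsg.Agent.Helper3.KL
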