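import Mathlib
import Cfsg.Agent.Lib.Helper3.KLSparse

/-!
# Non-inner saturated fusion systems contain non-inner constrained subsystems (`p` odd)
-/

set_option autoImplicit false
set_option linter.style.haveILetI false
set_option linter.unusedSectionVars false

namespace Cfsg.Agent.Helper3.KL

open Cfsg Cfsg.FusionSystem Cfsg.Agent.Helper25

variable {Ω : Type*} [Group Ω] {S : Subgroup Ω}

/-- the set of all maps of a fusion system -/
def homTotal (E : FusionSystem S) : Set (Σ P : Subgroup Ω, (P →* Ω)) := {x | x.2 ∈ E.Hom x.1}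

theorem finite_homTotal [Finite S] (E : FusionSystem S) : (homTotal E).Finite := by
  have hfin : ∀ P : Subgroup Ω, P ≤ S → {φ : P →* Ω | ∀ y, φ y ∈ S}.Finite := by
    intro P hP
    haveI : Finite P := finite_of_le_finite hP
    haveI : Finite {φ : P →* Ω // ∀ y, φ y ∈ S} := by
      apply Finite.of_injective
        (fun (φ : {φ : P →* Ω // ∀ y, φ y ∈ S}) (y : P) => (⟨φ.1 y, φ.2 y⟩ : S))
      intro a b hab
      apply Subtype.ext
      ext y
      exact congrArg (fun z : S => (z : Ω)) (congrFun hab y)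
    exact Set.finite_coe_iff.mp this
  have hbig : (⋃ P ∈ {Q : Subgroup Ω | Q ≤ S},
      (Sigma.mk P '' {φ : P →* Ω | ∀ y, φ y ∈ S} : Set (Σ P : Subgroup Ω, (P →* Ω)))).Finite :=
    (finite_subgroups_le S).biUnion (fun P hP => (hfin P hP).image (Sigma.mk P))
  refine hbig.subset ?_
  rintro ⟨P, φ⟩ hx
  have hφ : φ ∈ E.Hom P := hx
  refine Set.mem_biUnion (x := P) (E.le_of_mem hφ).1 ?_
  exact ⟨φ, (E.le_of_mem hφ).2, rfl⟩

theorem exists_constrained_sub [Finite S] (p : ℕ) [Fact p.Prime] (hS : IsPGroup p S) (hp : p ≠ 2) :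
    ∀ (n : ℕ) (F : FusionSystem S), (homTotal F).ncard = n → F.IsSaturated p →
      (¬ ∀ P : Subgroup Ω, F.Hom P = (innerFusionSystem S).Hom P) →
      ∃ E : FusionSystem S, E ≤ F ∧ E.IsConstrained p ∧
        ¬ ∀ P : Subgroup Ω, E.Hom P = (innerFusionSystem S).Hom P := by
  intro n
  induction n using Nat.strong_induction_on with
  | _ n ih =>
  intro F hn hF hne
  by_cases hsp : ∀ E : FusionSystem S, E.IsSaturated p → E.IsSubsystemOf F →
      (∀ P : Subgroup Ω, E.Hom P = F.Hom P) ∨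
        (∀ P : Subgroup Ω, E.Hom P = (innerFusionSystem S).Hom P)
  · exact ⟨F, fun P => Set.Subset.rfl, isConstrained_of_sparse p hS F hF hne hsp (Or.inl hp), hne⟩
  · push Not at hsp
    obtain ⟨E, hEsat, hEF, hE1, hE2⟩ := hsp
    have hss : homTotal E ⊂ homTotal F := by
      refine ⟨fun x hx => hEF x.1 hx, fun hback => ?_⟩
      obtain ⟨P, hP⟩ := hE1
      apply hP
      apply Set.Subset.antisymm (hEF P)
      intro φ hφ
      exact hback (show (⟨P, φ⟩ : Σ P : Subgroup Ω, (P →* Ω)) ∈ homTotal F from hφ)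
    have hlt := Set.ncard_lt_ncard hss (finite_homTotal F)
    rw [hn] at hlt
    have hE2' : ¬ ∀ P : Subgroup Ω, E.Hom P = (innerFusionSystem S).Hom P := by
      obtain ⟨P, hP⟩ := hE2
      exact fun h => hP (h P)
    obtain ⟨E', hE'E, hE'c, hE'ne⟩ := ih _ hlt E rfl hEsat hE2'
    exact ⟨E', fun P => (hE'E P).trans (hEF P), hE'c, hE'ne⟩

end Cfsg.Agent.Helper3.KL
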