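import Mathlib
import Cfsg.Agent.Lib.Helper3.KLFreeNorm
import Cfsg.Agent.Lib.Helper3.KLModelAux
import Cfsg.Agent.Lib.Helper25.FusionAlperin

/-!
# Radical subgroups and the `p`-core of a local model

* `autOfSub`: the conjugation action of a realizing group on a subgroup with normal image.
* `isNormal_pb`: the pullback of a normal `p`-subgroup of a realizing group is normal in the system.
* `isRadical_of_pCore_le`: if `O_p` of the model of `N_F(Q)` is the image of `Q`, then `Q` is radical.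
-/

set_option autoImplicit false
set_option linter.style.haveILetI false
set_option linter.unusedSectionVars false

namespace Cfsg.Agent.Helper3.KL

open Cfsg Cfsg.FusionSystem Cfsg.Agent.Helper25

section AutOf

variable {Ω : Type*} [Group Ω] {T : Subgroup Ω} {L : Type*} [Group L] (ι : T →* L)
  (hι : Function.Injective ι) {Q : Subgroup Ω} (hQT : Q ≤ T)

/-- `Q ≃ ι(Q)` -/
noncomputable def eQ : Q ≃* ↥((Q.subgroupOf T).map ι) :=
  (Subgroup.subgroupOfEquivOfLe hQT).symm.trans (Subgroup.equivMapOfInjective (Q.subgroupOf T) ι hι)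

theorem eQ_coe (q : Q) : ((eQ ι hι hQT q : ↥((Q.subgroupOf T).map ι)) : L) = ι ⟨q, hQT q.2⟩ := by
  unfold eQ
  rw [MulEquiv.trans_apply, Subgroup.coe_equivMapOfInjective_apply]
  rfl

theorem map_eQ_symm (y : ↥((Q.subgroupOf T).map ι)) :
    ι ⟨((eQ ι hι hQT).symm y : Q), hQT ((eQ ι hι hQT).symm y).2⟩ = y := by
  rw [← eQ_coe ι hι hQT, MulEquiv.apply_symm_apply]

variable [hn : ((Q.subgroupOf T).map ι).Normal]

/-- the automorphism of `Q` induced by conjugation by `g`, read through `ι`. -/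
noncomputable def autOfSub : L →* MulAut Q :=
  (MulAut.congr (eQ ι hι hQT).symm).toMonoidHom.comp
    (MulAut.conjNormal (H := (Q.subgroupOf T).map ι))

theorem map_autOfSub (g : L) (q : Q) :
    ι ⟨(autOfSub ι hι hQT g q : Q), hQT (autOfSub ι hι hQT g q).2⟩ =
      g * ι ⟨q, hQT q.2⟩ * g⁻¹ := by
  have h1 : autOfSub ι hι hQT g q = (eQ ι hι hQT).symm
      (MulAut.conjNormal g (eQ ι hι hQT q)) := rfl
  rw [h1, map_eQ_symm, MulAut.conjNormal_apply, eQ_coe]

end AutOf

section Pb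

variable {Ω : Type*} [Group Ω] {T : Subgroup Ω} {L : Type*} [Group L]

/-- the pullback of a normal subgroup contained in the image is normal in a realized system. -/
theorem isNormal_pb [Finite T] (N : FusionSystem T) (ι : T →* L) (hreal : N.IsRealizedBy ι)
    (R₀ : Subgroup L) [hR₀ : R₀.Normal] (hle : R₀ ≤ ι.range) :
    N.IsNormal ((R₀.comap ι).map T.subtype) := by
  have hι := hreal.1
  have hmem : ∀ y : Ω, y ∈ (R₀.comap ι).map T.subtype ↔ ∃ h : y ∈ T, ι ⟨y, h⟩ ∈ R₀ := by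
    intro y
    constructor
    · rintro ⟨s, hs, rfl⟩
      exact ⟨s.2, hs⟩
    · rintro ⟨h, hy⟩
      exact ⟨⟨y, h⟩, hy, rfl⟩
  have hRT : (R₀.comap ι).map T.subtype ≤ T := fun y hy => ((hmem y).mp hy).1
  refine ⟨hRT, fun P φ hφ => ?_⟩
  have hP : P ≤ T := (N.le_of_mem hφ).1
  have hφT : ∀ x, φ x ∈ T := (N.le_of_mem hφ).2
  obtain ⟨g, hg⟩ := (hreal.2 P hP φ hφT).mp hφ
  have hsup : P ⊔ (R₀.comap ι).map T.subtype ≤ T := sup_le hP hRT
  have hval : ∀ y : ↥(P ⊔ (R₀.comap ι).map T.subtype), g * ι ⟨y, hsup y.2⟩ * g⁻¹ ∈ ι.range := by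
    intro y
    have := sup_hom_mem' ((MulAut.conj g).toMonoidHom.comp (ι.comp (Subgroup.inclusion hsup)))
      ι.range ?_ ?_ y
    · exact this
    · intro a ha
      show g * ι ⟨a, _⟩ * g⁻¹ ∈ ι.range
      rw [← hg ⟨a, ha⟩]
      exact ⟨_, rfl⟩
    · intro b hb
      show g * ι ⟨b, _⟩ * g⁻¹ ∈ ι.range
      obtain ⟨hbT, hb'⟩ := (hmem b).mp hb
      exact hle (hR₀.conj_mem _ hb' g)
  obtain ⟨ψ, hψ, hψT, hιψ⟩ := exists_hom_of_conj N hreal hsup g hval
  refine ⟨ψ, hψ, fun x => ?_, ?_⟩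
  · have h1 := hιψ (Subgroup.inclusion le_sup_left x)
    have h2 := hg x
    have h3 : (⟨ψ (Subgroup.inclusion le_sup_left x), hψT _⟩ : T) = ⟨φ x, hφT x⟩ :=
      hι (h1.trans h2.symm)
    exact congrArg Subtype.val h3
  · refine map_eq_of_forall_mem N le_sup_right hψ (fun x hx => ?_)
    obtain ⟨hxT, hx'⟩ := (hmem x).mp hx
    refine (hmem _).mpr ⟨hψT _, ?_⟩
    rw [hιψ]
    exact hR₀.conj_mem _ hx' g

end Pb

section Radical

variable {Ω : Type*} [Group Ω] {S : Subgroup Ω}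

/-- If the `p`-core of a model of `N_F(Q)` (`Q` fully normalized and centric) is the image of `Q`,
then `Q` is radical. -/
theorem isRadical_of_pCore_le [Finite S] (p : ℕ) [Fact p.Prime] (hS : IsPGroup p S)
    (F : FusionSystem S) (hF : F.IsSaturated p) {Q : Subgroup Ω} (hQfn : F.IsFullyNormalized Q)
    (hQc : F.IsCentric Q) (N : FusionSystem (normalizerIn S Q)) (hN : F.IsNormalizerSystem Q N)
    {L : Type*} [Group L] (ι : ↥(normalizerIn S Q) →* L) (hm : N.IsModel p L ι)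
    (hO : pCore p L ≤ (Q.subgroupOf (normalizerIn S Q)).map ι) : F.IsRadical p Q := by
  have hQS : Q ≤ S := hQfn.1
  have hQT : Q ≤ normalizerIn S Q := le_normalizerIn hQS
  have hTS : normalizerIn S Q ≤ S := normalizerIn_le
  have hTp : IsPGroup p (normalizerIn S Q) := hS.to_le hTS
  haveI : Finite (normalizerIn S Q) := finite_of_le_finite hTS
  haveI : Finite Q := finite_of_le_finite hQS
  haveI : Finite L := hm.1
  have hreal := hm.2.1
  have hι := hreal.1
  have hNsat := normalizerSystem_isSaturated p hS F hF hQfn N hN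
  have hQnormal : N.IsNormal Q := normalizerSystem_isNormal F hQS N hN
  have hQcN : N.IsCentric Q := normalizerSystem_isCentric F hQc N hN
  haveI hn : ((Q.subgroupOf (normalizerIn S Q)).map ι).Normal :=
    normal_map_of_isNormal_of_isModel p N ι hm hQnormal
  haveI : Finite (MulAut Q) := Finite.of_injective (fun e : MulAut Q => (e : Q → Q))
    (fun a b h => MulEquiv.ext (congrFun h))
  -- the action map
  obtain ⟨c, hcdef⟩ : ∃ c : L →* MulAut Q, c = autOfSub ι hι hQT := ⟨_, rfl⟩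
  have hcmap : ∀ (g : L) (q : Q), ι ⟨(c g q : Q), hQT (c g q).2⟩ = g * ι ⟨q, hQT q.2⟩ * g⁻¹ := by
    intro g q
    rw [hcdef]
    exact map_autOfSub ι hι hQT g q
  have hcA : ∀ g, c g ∈ F.autGroup Q := by
    intro g
    rw [mem_autGroup_iff F hQS]
    have h1 : Q.subtype.comp (c g).toMonoidHom ∈ N.Hom Q :=
      (hreal.2 Q hQT _ (fun x => hQT (c g x).2)).mpr ⟨g, fun x => hcmap g x⟩
    rw [hN Q] at h1
    exact h1.1
  obtain ⟨c', hc'def⟩ : ∃ c' : L →* ↥(F.autGroup Q), c' = c.codRestrict (F.autGroup Q) hcA :=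
    ⟨_, rfl⟩
  have hc'val : ∀ g, ((c' g : ↥(F.autGroup Q)) : MulAut Q) = c g := by
    intro g; rw [hc'def]; rfl
  have hsurj : Function.Surjective c' := by
    rintro ⟨α, hα⟩
    have h1 := normalizerSystem_aut_mem F hQS N hN hα
    obtain ⟨g, hg⟩ := (hreal.2 Q hQT _ (fun x => hQT (α x).2)).mp h1
    refine ⟨g, Subtype.ext ?_⟩
    rw [hc'val]
    ext x
    have h2 := hcmap g x
    have h3 := hg x
    have h4 : (⟨(c g x : Q), hQT (c g x).2⟩ : ↥(normalizerIn S Q)) = ⟨(α x : Q), hQT (α x).2⟩ :=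
      hι (h2.trans h3.symm)
    exact congrArg (fun z : ↥(normalizerIn S Q) => (z : Ω)) h4
  -- the kernel is a `p`-group
  have hQp : IsPGroup p ((Q.subgroupOf (normalizerIn S Q)).map ι) :=
    (hTp.to_subgroup _).map ι
  have hker : c'.ker ≤ (Q.subgroupOf (normalizerIn S Q)).map ι := by
    intro g hg
    have hg1 : c' g = 1 := MonoidHom.mem_ker.mp hg
    have hg2 : c g = 1 := by rw [← hc'val, hg1]; rfl
    apply centralizer_map_le_of_isModel p hTp N hNsat hQnormal hQcN ι hm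
    rw [Subgroup.mem_centralizer_iff]
    rintro _ ⟨q, hq, rfl⟩
    have hq' : (q : Ω) ∈ Q := Subgroup.mem_subgroupOf.mp hq
    have h1 := hcmap g ⟨q, hq'⟩
    rw [hg2] at h1
    have h2 : g * ι q * g⁻¹ = ι q := h1.symm
    calc ι q * g = (g * ι q * g⁻¹) * g := by rw [h2]
      _ = g * ι q := by group
  have hkerp : IsPGroup p c'.ker := hQp.to_le hker
  -- the preimage of the `p`-core
  have hBn : (pCore p ↥(F.autGroup Q)).Normal := pCore_normal p _
  have hBp : IsPGroup p (pCore p ↥(F.autGroup Q)) := isPGroup_pCore p _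
  have hUn : ((pCore p ↥(F.autGroup Q)).comap c').Normal := hBn.comap c'
  have hUp : IsPGroup p ((pCore p ↥(F.autGroup Q)).comap c') :=
    hBp.comap_of_ker_isPGroup c' hkerp
  have hU : (pCore p ↥(F.autGroup Q)).comap c' ≤ (Q.subgroupOf (normalizerIn S Q)).map ι :=
    (le_pCore hUn hUp).trans hO
  refine ⟨hQS, le_antisymm ?_ ?_⟩
  · rintro _ ⟨β, hβ, rfl⟩
    obtain ⟨g, rfl⟩ := hsurj β
    obtain ⟨q, hq, hqg⟩ := hU (show g ∈ (pCore p ↥(F.autGroup Q)).comap c' from hβ)
    have hq' : (q : Ω) ∈ Q := Subgroup.mem_subgroupOf.mp hq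
    subst hqg
    refine ⟨⟨q, hq'⟩, ?_⟩
    show MulAut.conj (⟨q, hq'⟩ : Q) = ((c' (ι q) : ↥(F.autGroup Q)) : MulAut Q)
    rw [hc'val]
    ext x
    have h1 := hcmap (ι q) x
    have e : ι q * ι ⟨x, hQT x.2⟩ * (ι q)⁻¹ =
        ι ⟨(q : Ω) * x * (q : Ω)⁻¹, (normalizerIn S Q).mul_mem
          ((normalizerIn S Q).mul_mem q.2 (hQT x.2)) ((normalizerIn S Q).inv_mem q.2)⟩ := by
      rw [← map_inv, ← map_mul, ← map_mul]
      rfl
    rw [e] at h1
    have h2 := congrArg (fun z : ↥(normalizerIn S Q) => (z : Ω)) (hι h1)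
    rw [MulAut.conj_apply]
    exact h2.symm
  · intro γ hγ
    have hγA : γ ∈ F.autGroup Q := autInducedBy_le_autGroup F hQS (inn_le_autInducedBy hQS hγ)
    have hInnp : IsPGroup p ((Inn Q).subgroupOf (F.autGroup Q)) :=
      isPGroup_subgroupOf _ ((isPGroup_autInducedBy hS Q).to_le (inn_le_autInducedBy hQS))
    have h1 : (Inn Q).subgroupOf (F.autGroup Q) ≤ pCore p ↥(F.autGroup Q) :=
      le_pCore (inn_subgroupOf_normal Q (F.autGroup Q)) hInnp
    exact ⟨⟨γ, hγA⟩, h1 (Subgroup.mem_subgroupOf.mpr hγ), rfl⟩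

end Radical

end Cfsg.Agent.Helper3.KL
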