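import Mathlib
import Cfsg.Agent.Lib.Helper3.KLRadical
import Cfsg.Agent.Lib.Helper3.KLThompson
import Cfsg.Agent.Lib.Helper3.KLInvolves
import Cfsg.Agent.Lib.Helper3.ModelTransport

/-!
# Glauberman functors: basic properties and the constrained case

For an assignment `W` of a subgroup to every group (of a fixed universe) we write
`wOf W T = (W ↥T).map T.subtype` for the value of `W` at a subgroup `T`, read inside the ambient
group.
-/

set_option autoImplicit false
set_option linter.style.haveILetI false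
set_option linter.unusedSectionVars false

namespace Cfsg.Agent.Helper3.KL

open Cfsg Cfsg.FusionSystem Cfsg.Agent.Helper25 Cfsg.Agent.Helper3.Model

universe u

section Basic

variable (W : ∀ (Q : Type u) [Group Q], Subgroup Q)

/-- The value of the functor at a subgroup, as a subgroup of the ambient group. -/
def wOf {Ω : Type u} [Group Ω] (T : Subgroup Ω) : Subgroup Ω := (W ↥T).map T.subtype

variable {W}

theorem wOf_le {Ω : Type u} [Group Ω] (T : Subgroup Ω) : wOf W T ≤ T := by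
  rintro _ ⟨x, -, rfl⟩
  exact x.2

theorem mem_wOf {Ω : Type u} [Group Ω] {T : Subgroup Ω} {y : Ω} :
    y ∈ wOf W T ↔ ∃ h : y ∈ T, (⟨y, h⟩ : T) ∈ W ↥T := by
  constructor
  · rintro ⟨x, hx, rfl⟩
    exact ⟨x.2, hx⟩
  · rintro ⟨h, hy⟩
    exact ⟨⟨y, h⟩, hy, rfl⟩

variable {p : ℕ} [Fact p.Prime]

theorem wOf_ne_bot
    (hW1 : ∀ (Q : Type u) [Group Q] [Finite Q], IsPGroup p Q → Nontrivial Q → W Q ≠ ⊥)
    {Ω : Type u} [Group Ω] {T : Subgroup Ω} [Finite T] (hT : IsPGroup p T) (hne : T ≠ ⊥) :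
    wOf W T ≠ ⊥ := by
  have h1 : W ↥T ≠ ⊥ := hW1 ↥T hT ((Subgroup.nontrivial_iff_ne_bot T).mpr hne)
  intro h
  apply h1
  exact (Subgroup.map_eq_bot_iff_of_injective _ T.subtype_injective).mp h

/-- Transport along an isomorphism of subgroups (of possibly different groups). -/
theorem wOf_map_equiv
    (hW2 : ∀ (Q R : Type u) [Group Q] [Group R] [Finite Q], IsPGroup p Q → ∀ φ : Q ≃* R,
      (W Q).map φ.toMonoidHom = W R)
    {Ω Ω' : Type u} [Group Ω] [Group Ω'] {T : Subgroup Ω} {T' : Subgroup Ω'} [Finite T]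
    (hT : IsPGroup p T) (e : T ≃* T') :
    (W ↥T).map (T'.subtype.comp e.toMonoidHom) = wOf W T' := by
  have h := hW2 ↥T ↥T' hT e
  show _ = (W ↥T').map T'.subtype
  rw [← h, Subgroup.map_map]

/-- The image of `W(S)` under an injective homomorphism is `W` of the image. -/
theorem wOf_range
    (hW2 : ∀ (Q R : Type u) [Group Q] [Group R] [Finite Q], IsPGroup p Q → ∀ φ : Q ≃* R,
      (W Q).map φ.toMonoidHom = W R)
    {Ω G : Type u} [Group Ω] [Group G] {T : Subgroup Ω} [Finite T]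
    (hT : IsPGroup p T) (ι : T →* G) (hι : Function.Injective ι) :
    (W ↥T).map ι = wOf W ι.range := by
  have h := wOf_map_equiv hW2 hT (MonoidHom.ofInjective hι)
  rw [← h]
  congr 1

/-- Elements normalizing `T` normalize `W(T)`. -/
theorem normalizer_le_normalizer_wOf
    (hW2 : ∀ (Q R : Type u) [Group Q] [Group R] [Finite Q], IsPGroup p Q → ∀ φ : Q ≃* R,
      (W Q).map φ.toMonoidHom = W R)
    {Ω : Type u} [Group Ω] {T : Subgroup Ω} [Finite T] (hT : IsPGroup p T) :
    Subgroup.normalizer (T : Set Ω) ≤ Subgroup.normalizer (wOf W T : Set Ω) := by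
  have key : ∀ g ∈ Subgroup.normalizer (T : Set Ω), ∀ y ∈ wOf W T, g * y * g⁻¹ ∈ wOf W T := by
    intro g hg y hy
    obtain ⟨hyT, hyW⟩ := mem_wOf.mp hy
    set e : MulAut T := T.normalizerMonoidHom ⟨g, hg⟩ with he
    have h := hW2 ↥T ↥T hT e
    have h1 : e ⟨y, hyT⟩ ∈ (W ↥T).map e.toMonoidHom := ⟨⟨y, hyT⟩, hyW, rfl⟩
    rw [h] at h1
    exact mem_wOf.mpr ⟨(e ⟨y, hyT⟩).2, h1⟩
  intro g hg
  apply mem_normalizer_of_forall (key g hg)
  intro y hy
  have := key g⁻¹ (Subgroup.inv_mem _ hg) y hy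
  rwa [inv_inv] at this

theorem normalizerIn_le_normalizerIn_wOf
    (hW2 : ∀ (Q R : Type u) [Group Q] [Group R] [Finite Q], IsPGroup p Q → ∀ φ : Q ≃* R,
      (W Q).map φ.toMonoidHom = W R)
    {Ω : Type u} [Group Ω] {S T : Subgroup Ω} [Finite T] (hT : IsPGroup p T) :
    normalizerIn S T ≤ normalizerIn S (wOf W T) := fun _ hx =>
  ⟨hx.1, normalizer_le_normalizer_wOf hW2 hT hx.2⟩

end Basic

section Constrained

variable {p : ℕ} [Fact p.Prime] {W : ∀ (Q : Type u) [Group Q], Subgroup Q}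

/-- **The constrained case**: `W(S)` is normal in a constrained `Qd(p)`-free system. -/
theorem isNormal_wOf_of_constrained
    (hW2 : ∀ (Q R : Type u) [Group Q] [Group R] [Finite Q], IsPGroup p Q → ∀ φ : Q ≃* R,
      (W Q).map φ.toMonoidHom = W R)
    (hW3 : ∀ (L : Type u) [Group L] [Finite L] (P : Sylow p L),
      Subgroup.centralizer ((Cfsg.pCore p L : Subgroup L) : Set L)
        = Cfsg.pCore p L ⊓ Subgroup.centralizer ((Cfsg.pCore p L : Subgroup L) : Set L) →
      ¬ Cfsg.Involves ↥(Cfsg.qd p) L →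
      (((W ↥(P : Subgroup L)).map (P : Subgroup L).subtype : Subgroup L)).Normal)
    {Ω : Type u} [Group Ω] {S : Subgroup Ω} [Finite S] (hS : IsPGroup p S) (F : FusionSystem S)
    (hcons : F.IsConstrained p) (hfree : F.IsSectionFree p ↥(Cfsg.qd p)) :
    F.IsNormal (wOf W S) := by
  obtain ⟨L, _, ι, hm⟩ := exists_model p hS F hcons
  obtain ⟨hsat, Q, hQn, hQc⟩ := hcons
  have hLfree : ¬ Involves ↥(Cfsg.qd p) L :=
    localProp_self p F hQn hQc (fun L _ => ¬ Involves ↥(Cfsg.qd p) L) hfree ι hm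
  obtain ⟨hfin, hreal, ⟨T, hT⟩, hcent⟩ := hm
  haveI := hfin
  have hι := hreal.1
  have hceq : Subgroup.centralizer ((Cfsg.pCore p L : Subgroup L) : Set L)
        = Cfsg.pCore p L ⊓ Subgroup.centralizer ((Cfsg.pCore p L : Subgroup L) : Set L) :=
    (inf_eq_right.mpr hcent).symm
  have h3 := hW3 L T hceq hLfree
  have h3' : (wOf W ι.range).Normal := by
    have : ∀ (T' : Subgroup L), T' = ι.range → ((W ↥T').map T'.subtype).Normal →
        (wOf W ι.range).Normal := by
      rintro T' rfl h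
      exact h
    exact this _ hT h3
  rw [← wOf_range hW2 hS ι hι] at h3'
  haveI := h3'
  have hle : (W ↥S).map ι ≤ ι.range := by
    rintro _ ⟨x, -, rfl⟩
    exact ⟨x, rfl⟩
  have h4 := isNormal_pb F ι hreal ((W ↥S).map ι) hle
  rwa [Subgroup.comap_map_eq_self_of_injective hι] at h4

end Constrained

end Cfsg.Agent.Helper3.KL
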