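import Mathlib
import Cfsg.Agent.Lib.Helper3.KLLocal2
import Cfsg.Agent.Lib.Helper3.KLFreeNorm
import Cfsg.Agent.Lib.Helper25.FusionNormal2
import Cfsg.Agent.Lib.Helper25.FusionRecept
import Cfsg.Agent.Lib.Helper25.FusionSat3
import Cfsg.Agent.Lib.Helper25.FusionSat4
import Cfsg.Agent.S5096
import Cfsg.Agent.S5082

/-!
# A local-to-global principle for normal subgroups given by a functor

If `w` assigns to every subgroup `T ≤ S` a nontrivial subgroup `w T ≤ T` normalized by `N_S(T)`,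
and `w (N_S(X))` is normal in `N_F(X)` for every nontrivial fully normalized `X`, then `w S` is normal
in the saturated system `F`.
-/

set_option autoImplicit false
set_option linter.style.haveILetI false
set_option linter.unusedSectionVars false

namespace Cfsg.Agent.Helper3.KL

open Cfsg Cfsg.FusionSystem Cfsg.Agent.Helper25

variable {Ω : Type*} [Group Ω] {S : Subgroup Ω}

/-- The maps of `F` which lie in `E` as soon as their source has at least `m` elements. -/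
def bigSub [Finite S] (F E : FusionSystem S) (hEF : E ≤ F) (m : ℕ) : FusionSystem S where
  Hom P := {φ | φ ∈ F.Hom P ∧ (m ≤ Nat.card P → φ ∈ E.Hom P)}
  le_of_mem h := F.le_of_mem h.1
  injective_of_mem h := F.injective_of_mem h.1
  conj_mem hP hg := ⟨F.conj_mem hP hg, fun _ => E.conj_mem hP hg⟩
  comp_mem := by
    rintro P Q φ ψ ⟨hφ, hφE⟩ ⟨hψ, hψE⟩ h
    refine ⟨F.comp_mem hφ hψ h, fun hm => ?_⟩
    have hQS : Q ≤ S := (F.le_of_mem hψ).1
    haveI : Finite Q := finite_of_le_finite hQS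
    have hinj : Function.Injective (φ.codRestrict Q h) := by
      intro a b hab
      apply F.injective_of_mem hφ
      exact congrArg (fun z : Q => (z : Ω)) hab
    have hcard : Nat.card P ≤ Nat.card Q := Nat.card_le_card_of_injective _ hinj
    exact E.comp_mem (hφE hm) (hψE (hm.trans hcard)) h
  inv_mem := by
    rintro P φ ⟨hφ, hφE⟩
    by_cases hm : m ≤ Nat.card P
    · obtain ⟨ψ, hψ, hinv⟩ := E.inv_mem (hφE hm)
      exact ⟨ψ, ⟨hEF _ hψ, fun _ => hψ⟩, hinv⟩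
    · obtain ⟨ψ, hψ, hinv⟩ := F.inv_mem hφ
      refine ⟨ψ, ⟨hψ, fun hm' => ?_⟩, hinv⟩
      exfalso
      apply hm
      have : Nat.card φ.range = Nat.card P :=
        (Nat.card_congr (MonoidHom.ofInjective (F.injective_of_mem hφ)).toEquiv).symm
      omega

theorem isFullyNormalized_self [Finite S] (F : FusionSystem S) : F.IsFullyNormalized S :=
  isFullyNormalized_of_normal F le_rfl Subgroup.le_normalizer

/-- left cancellation of a map of the system -/
theorem mem_of_comp_mem (E : FusionSystem S) {A B : Subgroup Ω} {ψ : A →* Ω} {χ : B →* Ω}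
    (hχ : χ ∈ E.Hom B) (h : ∀ a : A, ψ a ∈ B) (hcomp : χ.comp (ψ.codRestrict B h) ∈ E.Hom A) :
    ψ ∈ E.Hom A := by
  obtain ⟨σ, hσ, hσinv⟩ := E.inv_mem hχ
  have hval : ∀ a : A, (χ.comp (ψ.codRestrict B h)) a ∈ χ.range := fun a => ⟨_, rfl⟩
  have h1 := E.comp_mem hcomp hσ hval
  have h2 : σ.comp ((χ.comp (ψ.codRestrict B h)).codRestrict χ.range hval) = ψ := by
    ext a
    exact hσinv ⟨ψ a, h a⟩
  rwa [h2] at h1

/-- a map extending to `P ⊔ Q` and stabilizing `Q` lies in the normalizer subsystem -/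
theorem mem_normSub_top_of_map (F : FusionSystem S) {Q : Subgroup Ω} (hQS : Q ≤ S)
    (hK : ∀ g ∈ S, ∃ κ ∈ (⊤ : Subgroup (MulAut Q)), ∀ x : Q, ((κ x : Q) : Ω) = g * (x : Ω) * g⁻¹)
    {P : Subgroup Ω} {φ : P →* Ω} (hφ : φ ∈ F.Hom P) {ψ : ↥(P ⊔ Q) →* Ω}
    (hψ : ψ ∈ F.Hom (P ⊔ Q))
    (hext : ∀ x : P, ψ (Subgroup.inclusion le_sup_left x) = φ x)
    (hmap : (Q.subgroupOf (P ⊔ Q)).map ψ = Q) : φ ∈ (normSub F Q ⊤ hQS hK).Hom P := by
  refine ⟨hφ, ψ, hψ, hext, ?_⟩
  have hmem : ∀ x : Q, ψ (Subgroup.inclusion le_sup_right x) ∈ Q := by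
    intro x
    have h0 : ψ (Subgroup.inclusion le_sup_right x) ∈ (Q.subgroupOf (P ⊔ Q)).map ψ :=
      ⟨Subgroup.inclusion le_sup_right x, Subgroup.mem_subgroupOf.mpr x.2, rfl⟩
    exact hmap.le h0
  set f : Q →* Q := (ψ.comp (Subgroup.inclusion le_sup_right)).codRestrict Q hmem with hf
  have hbij : Function.Bijective f := by
    constructor
    · intro a b hab
      have h1 : ψ (Subgroup.inclusion le_sup_right a) = ψ (Subgroup.inclusion le_sup_right b) :=
        congrArg (fun z : Q => (z : Ω)) hab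
      exact Subgroup.inclusion_injective _ (F.injective_of_mem hψ h1)
    · intro y
      have hy : (y : Ω) ∈ (Q.subgroupOf (P ⊔ Q)).map ψ := hmap.ge y.2
      obtain ⟨x, hxK, hxQ, hxy⟩ := (mem_map_subgroupOf ψ).mp hy
      exact ⟨⟨x, hxQ⟩, Subtype.ext hxy⟩
  exact ⟨MulEquiv.ofBijective f hbij, Subgroup.mem_top _, fun x => rfl⟩

/-- Alperin's theorem with a bound on the size of the sources. -/
theorem mem_of_card_le [Finite S] (p : ℕ) [Fact p.Prime] (hS : IsPGroup p S) (hS1 : S ≠ ⊥)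
    (F : FusionSystem S) (hF : F.IsSaturated p) (E : FusionSystem S) (hEF : E ≤ F) (m : ℕ)
    (hC : ∀ X : Subgroup Ω, X ≠ ⊥ → F.IsFullyNormalized X →
      m ≤ Nat.card (normalizerIn S X) → ∀ P : Subgroup Ω, F.normalizerHom X P ⊆ E.Hom P)
    {A : Subgroup Ω} {φ : A →* Ω} (hφ : φ ∈ F.Hom A) (hm : m ≤ Nat.card A) : φ ∈ E.Hom A := by
  have hle : F ≤ bigSub F E hEF m := by
    apply Cfsg.Agent.S5082.result p hS F hF
    intro P hP
    have hPfn : F.IsFullyNormalized P := by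
      rcases hP with rfl | hP
      · exact isFullyNormalized_self F
      · exact hP.2.1
    have hPS : P ≤ S := hPfn.1
    have hP1 : P ≠ ⊥ := by
      rcases hP with rfl | hP
      · exact hS1
      · intro h
        apply hS1
        have h1 := hP.1.2 P (isConj_refl F hPS)
        rw [eq_bot_iff]
        intro s hs
        have h2 : s ∈ centralizerIn S P := by
          refine ⟨hs, ?_⟩
          rw [h]
          intro y hy
          have hy1 : y = 1 := Subgroup.mem_bot.mp hy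
          rw [hy1, mul_one, one_mul]
        have h3 := h1 h2
        rwa [h] at h3
    haveI : Finite (normalizerIn S P) := finite_of_le_finite normalizerIn_le
    apply Subgroup.closure_mono
    intro α hα
    refine ⟨hα, fun hmP => ?_⟩
    have hcard : m ≤ Nat.card (normalizerIn S P) :=
      hmP.trans (Subgroup.card_le_of_le (le_normalizerIn hPS))
    apply hC P hP1 hPfn hcard P
    exact mem_normalizerHom_of_le F le_rfl (le_normalizerIn hPS) hα (fun x hx => (α ⟨x, hx⟩).2)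
  exact (hle A hφ).2 hm

/-- **Local-to-global principle.** -/
theorem isNormal_of_local [Finite S] (p : ℕ) [Fact p.Prime] (hS : IsPGroup p S) (hS1 : S ≠ ⊥)
    (F : FusionSystem S) (hF : F.IsSaturated p) (w : Subgroup Ω → Subgroup Ω)
    (hw1 : ∀ T : Subgroup Ω, T ≤ S → w T ≤ T)
    (hw2 : ∀ T : Subgroup Ω, T ≤ S → T ≠ ⊥ → w T ≠ ⊥)
    (hw3 : ∀ T : Subgroup Ω, T ≤ S → normalizerIn S T ≤ normalizerIn S (w T))
    (hloc : ∀ X : Subgroup Ω, X ≠ ⊥ → F.IsFullyNormalized X →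
      ∀ N : FusionSystem (normalizerIn S X), F.IsNormalizerSystem X N →
        N.IsNormal (w (normalizerIn S X))) :
    F.IsNormal (w S) := by
  obtain ⟨W₀, hW₀⟩ : ∃ W₀, W₀ = w S := ⟨_, rfl⟩
  rw [← hW₀]
  have hW₀S : W₀ ≤ S := hW₀ ▸ hw1 S le_rfl
  have hSn : S ≤ Subgroup.normalizer (W₀ : Set Ω) := by
    intro s hs
    have h1 : s ∈ normalizerIn S S := ⟨hs, Subgroup.le_normalizer hs⟩
    have h2 := (hw3 S le_rfl h1).2
    rwa [← hW₀] at h2
  have hK : ∀ g ∈ S, ∃ κ ∈ (⊤ : Subgroup (MulAut W₀)), ∀ x : W₀,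
      ((κ x : W₀) : Ω) = g * (x : Ω) * g⁻¹ :=
    fun g hg => ⟨W₀.normalizerMonoidHom ⟨g, hSn hg⟩, Subgroup.mem_top _, fun x => rfl⟩
  obtain ⟨E, hEdef⟩ : ∃ E, E = normSub F W₀ ⊤ hW₀S hK := ⟨_, rfl⟩
  have hEF : E ≤ F := hEdef ▸ normSub_le F W₀ ⊤ hW₀S hK
  -- the local hypothesis in explicit form
  have hloc' : ∀ X : Subgroup Ω, X ≠ ⊥ → F.IsFullyNormalized X → ∀ W₁ : Subgroup Ω,
      W₁ = w (normalizerIn S X) → ∀ (P : Subgroup Ω) (φ : P →* Ω), φ ∈ F.normalizerHom X P →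
      ∃ ψ ∈ F.normalizerHom X (P ⊔ W₁),
        (∀ x : P, ψ (Subgroup.inclusion le_sup_left x) = φ x) ∧
        (W₁.subgroupOf (P ⊔ W₁)).map ψ = W₁ := by
    rintro X hX1 hXfn W₁ rfl P φ hφ
    obtain ⟨N, hN⟩ := Cfsg.Agent.S5096.result F X hXfn.1
    have hn := hloc X hX1 hXfn N hN
    rw [← hN P] at hφ
    obtain ⟨ψ, hψ, hext, hmap⟩ := hn.2 P φ hφ
    rw [hN] at hψ
    exact ⟨ψ, hψ, hext, hmap⟩
  have main : ∀ (k : ℕ) (X : Subgroup Ω), X ≠ ⊥ → F.IsFullyNormalized X →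
      Nat.card S - Nat.card (normalizerIn S X) = k →
      ∀ P : Subgroup Ω, F.normalizerHom X P ⊆ E.Hom P := by
    intro k
    induction k using Nat.strong_induction_on with
    | _ k ih =>
    intro X hX1 hXfn hk P φ hφ
    obtain ⟨T, hT⟩ : ∃ T, T = normalizerIn S X := ⟨_, rfl⟩
    have hTS : T ≤ S := hT ▸ normalizerIn_le
    have hXS : X ≤ S := hXfn.1
    have hXT : X ≤ T := hT ▸ le_normalizerIn hXS
    have hT1 : T ≠ ⊥ := fun h => hX1 (le_bot_iff.mp (h ▸ hXT))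
    haveI : Finite T := finite_of_le_finite hTS
    by_cases hTeq : T = S
    · -- base case
      have hW : W₀ = w (normalizerIn S X) := by rw [hW₀, ← hT, hTeq]
      obtain ⟨ψ, hψ, hext, hmap⟩ := hloc' X hX1 hXfn W₀ hW P φ hφ
      rw [hEdef]
      exact mem_normSub_top_of_map F hW₀S hK hφ.1 hψ.1 hext hmap
    · have hTlt : ¬ S ≤ T := fun h => hTeq (le_antisymm hTS h)
      obtain ⟨q, hq, hqT⟩ := exists_mem_inf_normalizer_not_mem hS (le_refl S) hTS
        (hTS.trans Subgroup.le_normalizer) hTlt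
      obtain ⟨W₁, hW₁⟩ : ∃ W₁, W₁ = w T := ⟨_, rfl⟩
      have hW₁T : W₁ ≤ T := hW₁ ▸ hw1 T hTS
      have hW₁S : W₁ ≤ S := hW₁T.trans hTS
      have hW₁1 : W₁ ≠ ⊥ := hW₁ ▸ hw2 T hTS hT1
      have hNT : normalizerIn S T ≤ normalizerIn S W₁ := hW₁ ▸ hw3 T hTS
      have hTN : T ≤ normalizerIn S W₁ := (le_normalizerIn hTS).trans hNT
      have hqN : q ∈ normalizerIn S W₁ := hNT hq
      have hcardlt : Nat.card T < Nat.card (normalizerIn S W₁) :=
        card_lt_of_le_of_mem normalizerIn_le hTN hqN hqT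
      obtain ⟨Y, hconj, hYfn⟩ := exists_isConj_fullyNormalized F hW₁S
      obtain ⟨-, hYfa, hYrec⟩ := of_fullyNormalized p hS F hF hYfn
      obtain ⟨χ, hχ, hχN, hχY, hχmap⟩ := exists_normalizer_map p hS F Y W₁ hYfa hYrec hconj
      have hcardWY : Nat.card W₁ = Nat.card Y := card_eq_of_isConj F hconj
      haveI : Finite W₁ := finite_of_le_finite hW₁S
      have hY1 : Y ≠ ⊥ := by
        intro h
        apply hW₁1
        have h1 : Nat.card Y = 1 := by rw [h]; exact Subgroup.card_bot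
        rw [← hcardWY] at h1
        exact Subgroup.card_eq_one.mp h1
      have hcardY : Nat.card (normalizerIn S W₁) ≤ Nat.card (normalizerIn S Y) :=
        hYfn.2 W₁ (isConj_symm F hconj)
      have hkT : Nat.card S - Nat.card T = k := hT ▸ hk
      have hC : ∀ X' : Subgroup Ω, X' ≠ ⊥ → F.IsFullyNormalized X' →
          Nat.card T + 1 ≤ Nat.card (normalizerIn S X') →
          ∀ P', F.normalizerHom X' P' ⊆ E.Hom P' := by
        intro X' hX'1 hX'fn hcard P'
        haveI : Finite (normalizerIn S X') := finite_of_le_finite normalizerIn_le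
        have hle : Nat.card (normalizerIn S X') ≤ Nat.card S :=
          Subgroup.card_le_of_le normalizerIn_le
        exact ih (Nat.card S - Nat.card (normalizerIn S X')) (by omega) X' hX'1 hX'fn rfl P'
      have hχE : χ ∈ E.Hom (normalizerIn S W₁) :=
        mem_of_card_le p hS hS1 F hF E hEF (Nat.card T + 1) hC hχ (by omega)
      have hW : W₁ = w (normalizerIn S X) := by rw [hW₁, hT]
      suffices hsuff : ∀ (A : Subgroup Ω) (ψ : A →* Ω), W₁ ≤ A → A ≤ T → ψ ∈ F.Hom A →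
          (∀ a, ψ a ∈ T) → (W₁.subgroupOf A).map ψ = W₁ → ψ ∈ E.Hom A by
        obtain ⟨ψ, hψ, hext, hmap⟩ := hloc' X hX1 hXfn W₁ hW P φ hφ
        have hAT : P ⊔ W₁ ≤ T := hT ▸ hψ.2.1
        have hψT : ∀ a, ψ a ∈ T := hT ▸ hψ.2.2.1
        have h0 := hsuff (P ⊔ W₁) ψ le_sup_right hAT hψ.1 hψT hmap
        have h1 := restrict_mem E (le_sup_left : P ≤ P ⊔ W₁) h0
        have h2 : ψ.comp (Subgroup.inclusion le_sup_left) = φ := MonoidHom.ext hext
        rwa [h2] at h1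
      intro A ψ hW₁A hAT hψF hψT hmap
      have hAN : A ≤ normalizerIn S W₁ := hAT.trans hTN
      have hχ₁F : χ.comp (Subgroup.inclusion hAN) ∈ F.Hom A := restrict_mem F hAN hχ
      have hχ₁E : χ.comp (Subgroup.inclusion hAN) ∈ E.Hom A := restrict_mem E hAN hχE
      obtain ⟨χ₁, hχ₁⟩ : ∃ χ₁ : A →* Ω, χ₁ = χ.comp (Subgroup.inclusion hAN) := ⟨_, rfl⟩
      rw [← hχ₁] at hχ₁F hχ₁E
      have hχ₁app : ∀ a : A, χ₁ a = χ ⟨(a : Ω), hAN a.2⟩ := fun a => by rw [hχ₁]; rfl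
      obtain ⟨ρ, hρ, hρinv⟩ := F.inv_mem hχ₁F
      have hρA : ∀ z : χ₁.range, ρ z ∈ A := by
        rintro ⟨_, a, rfl⟩
        rw [hρinv a]; exact a.2
      have hψ1 : ψ.comp (ρ.codRestrict A hρA) ∈ F.Hom χ₁.range := F.comp_mem hρ hψF hρA
      have hval : ∀ z : χ₁.range, (ψ.comp (ρ.codRestrict A hρA)) z ∈ normalizerIn S W₁ :=
        fun z => hTN (hψT _)
      have hψ'F := F.comp_mem hψ1 hχ hval
      obtain ⟨ψ', hψ'⟩ : ∃ ψ' : χ₁.range →* Ω, ψ' = χ.comp
          ((ψ.comp (ρ.codRestrict A hρA)).codRestrict (normalizerIn S W₁) hval) := ⟨_, rfl⟩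
      rw [← hψ'] at hψ'F
      have hψ'app : ∀ a : A, ψ' ⟨χ₁ a, ⟨a, rfl⟩⟩ = χ ⟨ψ a, hTN (hψT a)⟩ := by
        intro a
        have e1 : (ρ.codRestrict A hρA) ⟨χ₁ a, ⟨a, rfl⟩⟩ = a := Subtype.ext (hρinv a)
        have gen : ∀ (z : χ₁.range) (a : A), (ρ.codRestrict A hρA) z = a →
            ψ' z = χ ⟨ψ a, hTN (hψT a)⟩ := by
          rintro z a rfl
          rw [hψ']; rfl
        exact gen _ a e1
      have hYle : Y ≤ χ₁.range := by
        intro y hy
        have hy' : y ∈ (W₁.subgroupOf (normalizerIn S W₁)).map χ := hχmap.ge hy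
        obtain ⟨x, hxN, hxW, hxy⟩ := (mem_map_subgroupOf χ).mp hy'
        exact ⟨⟨x, hW₁A hxW⟩, (hχ₁app _).trans hxy⟩
      have hrangeN : χ₁.range ≤ normalizerIn S Y := by
        rintro _ ⟨a, rfl⟩
        rw [hχ₁app]; exact hχN _
      have hψ'Y : ∀ (y : Ω) (hy : y ∈ Y), ψ' ⟨y, hYle hy⟩ ∈ Y := by
        intro y hy
        have hy' : y ∈ (W₁.subgroupOf (normalizerIn S W₁)).map χ := hχmap.ge hy
        obtain ⟨x, hxN, hxW, hxy⟩ := (mem_map_subgroupOf χ).mp hy'
        have hxy' : χ₁ ⟨x, hW₁A hxW⟩ = y := (hχ₁app _).trans hxy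
        subst hxy'
        rw [hψ'app ⟨x, hW₁A hxW⟩]
        have h2 : ψ ⟨x, hW₁A hxW⟩ ∈ W₁ := by
          have h0 : ψ ⟨x, hW₁A hxW⟩ ∈ (W₁.subgroupOf A).map ψ :=
            (mem_map_subgroupOf ψ).mpr ⟨x, hW₁A hxW, hxW, rfl⟩
          exact hmap.le h0
        exact hχY _ h2 _
      have hψ'N : ψ' ∈ F.normalizerHom Y χ₁.range :=
        mem_normalizerHom_of_le F hYle hrangeN hψ'F hψ'Y
      have hψ'E : ψ' ∈ E.Hom χ₁.range := hC Y hY1 hYfn (by omega) χ₁.range hψ'N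
      have hcompE := E.comp_mem hχ₁E hψ'E (fun a => ⟨a, rfl⟩)
      have hψN : ∀ a : A, ψ a ∈ normalizerIn S W₁ := fun a => hTN (hψT a)
      apply mem_of_comp_mem E hχE hψN
      have heq : χ.comp (ψ.codRestrict (normalizerIn S W₁) hψN)
          = ψ'.comp (χ₁.codRestrict χ₁.range (fun a => ⟨a, rfl⟩)) := by
        ext a
        exact (hψ'app a).symm
      rw [heq]
      exact hcompE
  -- conclusion
  apply isNormal_of_le_normSub_top F W₀ hW₀S hK
  rw [← hEdef]
  intro A φ hφ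
  haveI : Finite A := finite_of_le_finite (F.le_of_mem hφ).1
  refine mem_of_card_le p hS hS1 F hF E hEF 0 ?_ hφ (Nat.zero_le _)
  intro X hX1 hXfn _ P
  exact main _ X hX1 hXfn rfl P
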