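import Mathlib
import Cfsg.Agent.Lib.Helper3.KLFunctor1
import Cfsg.Agent.Lib.Helper3.KLFunctor2
import Cfsg.Agent.Lib.Helper25.FusionSolv3
import Cfsg.Agent.Lib.Helper25.FusionSolv2
import Cfsg.Agent.Lib.Helper25.FusionMorph
import Cfsg.Agent.Lib.Helper25.KNorm7
import Cfsg.Agent.Lib.Helper25.FusionModel2
import Cfsg.Agent.S5240
import Cfsg.Agent.S5241
import Cfsg.Agent.S5132
import Cfsg.Agent.S5134
import Cfsg.Agent.S5088

/-!
# Glauberman functors and `Qd(p)`-free fusion systems

`Qd(p)`-free saturated fusion systems are solvable, and `W(S)` is normal in them for every Glauberman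
functor `W`.
-/

set_option autoImplicit false
set_option linter.style.haveILetI false
set_option linter.unusedSectionVars false

namespace Cfsg.Agent.Helper3.KL

open Cfsg Cfsg.FusionSystem Cfsg.Agent.Helper25 Cfsg.Agent.Helper25.Solv
open scoped commutatorElement

universe u

section Chain

variable {Ω : Type*} [Group Ω] {S : Subgroup Ω}

/-- a chain below a subgroup normal in the system -/
theorem hasChain_of_isNormal [Finite S] (p : ℕ) [Fact p.Prime] (hS : IsPGroup p S)
    (F : FusionSystem S) (hF : F.IsSaturated p) {Q : Subgroup Ω} (hQ : F.IsNormal Q) :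
    HasChain F ⊥ Q := by
  obtain ⟨n, Qs, h0, hn, hmono, hstep⟩ := (Cfsg.Agent.S5088.result p hS F hF Q).mp hQ
  have hlt : ∀ i : ℕ, min i n < n + 1 := fun i => Nat.lt_succ_of_le (min_le_right i n)
  have hleQ : ∀ j : Fin (n + 1), Qs j ≤ Q := fun j => hn ▸ hmono (Fin.le_last j)
  refine ⟨n, fun i => Qs ⟨min i n, hlt i⟩, ?_, ?_, ?_, ?_, ?_⟩
  · show Qs ⟨min 0 n, hlt 0⟩ = ⊥
    have : (⟨min 0 n, hlt 0⟩ : Fin (n + 1)) = 0 := Fin.ext (Nat.zero_min n)
    rw [this, h0]
  · show Qs ⟨min n n, hlt n⟩ = Q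
    have : (⟨min n n, hlt n⟩ : Fin (n + 1)) = Fin.last n := Fin.ext (min_self n)
    rw [this, hn]
  · intro i
    show Qs ⟨min i n, hlt i⟩ ≤ Qs ⟨min (i + 1) n, hlt (i + 1)⟩
    apply hmono
    rw [Fin.le_def]
    show min i n ≤ min (i + 1) n
    omega
  · intro i
    show F.StronglyClosed (Qs ⟨min i n, hlt i⟩)
    rcases Nat.eq_zero_or_pos (min i n) with h | h
    · have : (⟨min i n, hlt i⟩ : Fin (n + 1)) = 0 := Fin.ext h
      rw [this, h0]
      exact stronglyClosed_bot F
    · obtain ⟨j, hj⟩ : ∃ j, min i n = j + 1 := ⟨min i n - 1, by omega⟩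
      have hjn : j < n := by omega
      have : (⟨min i n, hlt i⟩ : Fin (n + 1)) = Fin.succ ⟨j, hjn⟩ := Fin.ext hj
      rw [this]
      exact (hstep ⟨j, hjn⟩).1
  · intro i
    show ⁅Qs ⟨min (i + 1) n, hlt (i + 1)⟩, Qs ⟨min (i + 1) n, hlt (i + 1)⟩⁆ ≤ Qs ⟨min i n, hlt i⟩
    by_cases hi : i < n
    · have e1 : (⟨min (i + 1) n, hlt (i + 1)⟩ : Fin (n + 1)) = Fin.succ ⟨i, hi⟩ :=
        Fin.ext (by show min (i + 1) n = i + 1; omega)
      have e2 : (⟨min i n, hlt i⟩ : Fin (n + 1)) = Fin.castSucc ⟨i, hi⟩ :=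
        Fin.ext (by show min i n = i; omega)
      rw [e1, e2]
      exact (Subgroup.commutator_mono (hleQ _) le_rfl).trans (hstep ⟨i, hi⟩).2
    · have e1 : (⟨min (i + 1) n, hlt (i + 1)⟩ : Fin (n + 1)) = ⟨min i n, hlt i⟩ :=
        Fin.ext (by show min (i + 1) n = min i n; omega)
      rw [e1, Subgroup.commutator_le]
      intro a ha b hb
      rw [commutatorElement_def]
      exact Subgroup.mul_mem _ (Subgroup.mul_mem _ (Subgroup.mul_mem _ ha hb)
        (Subgroup.inv_mem _ ha)) (Subgroup.inv_mem _ hb)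

end Chain

section Main

variable {p : ℕ} [Fact p.Prime]

/-- If `F` has a nontrivial normal subgroup and smaller `Qd(p)`-free systems are solvable, then
`F` is solvable. -/
theorem hasChain_of_normal (n : ℕ)
    (IH : ∀ (Ω' : Type u) [Group Ω'] (S' : Subgroup Ω') [Finite S'], IsPGroup p S' →
      ∀ F' : FusionSystem S', F'.IsSaturated p → F'.IsSectionFree p ↥(Cfsg.qd p) →
      Nat.card S' < n → HasChain F' ⊥ S')
    {Ω : Type u} [Group Ω] {S : Subgroup Ω} [Finite S] (hS : IsPGroup p S) (F : FusionSystem S)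
    (hF : F.IsSaturated p) (hfree : F.IsSectionFree p ↥(Cfsg.qd p)) (hn : Nat.card S ≤ n)
    {Q : Subgroup Ω} (hQ : F.IsNormal Q) (hQ1 : Q ≠ ⊥) : HasChain F ⊥ S := by
  have hQsc := stronglyClosed_of_isNormal F hQ
  haveI := normal_of_stronglyClosed hQsc
  obtain ⟨E, hE⟩ := Cfsg.Agent.S5132.result p hS F Q hQsc
  have hα := Cfsg.Agent.S5134.result p hS F hF Q hQsc _ E hE
  have hEsat : E.IsSaturated p := isSaturated_of_surj hS hF hα
  have hEfree := Cfsg.Agent.S5241.result p hS F hF Q hQ hfree _ E hE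
  have hTp : IsPGroup p (⊤ : Subgroup (S ⧸ Q.subgroupOf S)) :=
    (hS.to_quotient (Q.subgroupOf S)).to_subgroup ⊤
  have hcard : Nat.card (⊤ : Subgroup (S ⧸ Q.subgroupOf S)) < n := by
    rw [Subgroup.card_top]
    have h1 := Subgroup.card_eq_card_quotient_mul_card_subgroup (Q.subgroupOf S)
    have h2 : 1 < Nat.card (Q.subgroupOf S) := by
      rw [Subgroup.one_lt_card_iff_ne_bot]
      intro h
      rw [Subgroup.subgroupOf_eq_bot] at h
      apply hQ1
      have := disjoint_iff.mp h
      rwa [inf_eq_left.mpr hQ.1] at this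
    have h3 : 0 < Nat.card (S ⧸ Q.subgroupOf S) := Nat.card_pos
    nlinarith
  have h1 := IH _ ⊤ hTp E hEsat hEfree hcard
  have h2 := hasChain_preimage p hS hF hQsc hE h1
  exact (hasChain_of_isNormal p hS F hF hQ).trans h2

variable {W : ∀ (Q : Type u) [Group Q], Subgroup Q}

/-- **`Qd(p)`-free saturated fusion systems are solvable** (given a Glauberman functor). -/
theorem hasChain_of_free
    (hW1 : ∀ (Q : Type u) [Group Q] [Finite Q], IsPGroup p Q → Nontrivial Q → W Q ≠ ⊥)
    (hW2 : ∀ (Q R : Type u) [Group Q] [Group R] [Finite Q], IsPGroup p Q → ∀ φ : Q ≃* R,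
      (W Q).map φ.toMonoidHom = W R)
    (hW3 : ∀ (L : Type u) [Group L] [Finite L] (P : Sylow p L),
      Subgroup.centralizer ((Cfsg.pCore p L : Subgroup L) : Set L)
        = Cfsg.pCore p L ⊓ Subgroup.centralizer ((Cfsg.pCore p L : Subgroup L) : Set L) →
      ¬ Cfsg.Involves ↥(Cfsg.qd p) L →
      (((W ↥(P : Subgroup L)).map (P : Subgroup L).subtype : Subgroup L)).Normal) :
    ∀ (n : ℕ) (Ω : Type u) [Group Ω] (S : Subgroup Ω) [Finite S], IsPGroup p S →
      ∀ F : FusionSystem S, F.IsSaturated p → F.IsSectionFree p ↥(Cfsg.qd p) →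
      Nat.card S < n → HasChain F ⊥ S := by
  intro n
  induction n with
  | zero => intros; omega
  | succ n ih =>
    intro Ω _ S _ hS F hF hfree hlt
    have hle : Nat.card S ≤ n := by omega
    by_cases hS1 : S = ⊥
    · refine ⟨0, fun _ => ⊥, rfl, hS1.symm, fun _ => le_rfl, fun _ => stronglyClosed_bot F,
        fun _ => ?_⟩
      show ⁅(⊥ : Subgroup Ω), ⊥⁆ ≤ ⊥
      rw [Subgroup.commutator_bot_left]
    · have hWn : F.IsNormal (wOf W S) := by
        apply isNormal_of_local p hS hS1 F hF (fun T => wOf W T) (fun T _ => wOf_le T) ?_ ?_ ?_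
        · intro T hT hT1
          haveI := finite_of_le_finite hT
          exact wOf_ne_bot hW1 (hS.to_le hT) hT1
        · intro T hT
          haveI := finite_of_le_finite hT
          exact normalizerIn_le_normalizerIn_wOf hW2 (hS.to_le hT)
        · intro X hX1 hXfn N hN
          have hTS : normalizerIn S X ≤ S := normalizerIn_le
          haveI : Finite (normalizerIn S X) := finite_of_le_finite hTS
          have hTp := hS.to_le hTS
          have hNsat := normalizerSystem_isSaturated p hS F hF hXfn N hN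
          have hNfree := Cfsg.Agent.S5240.result p hS F hF hfree X hXfn N hN
          have hXn : N.IsNormal X := normalizerSystem_isNormal F hXfn.1 N hN
          have hcardT : Nat.card (normalizerIn S X) ≤ n := (Subgroup.card_le_of_le hTS).trans hle
          have hchain := hasChain_of_normal n ih hTp N hNsat hNfree hcardT hXn hX1
          have hsolv := solvable_of_hasChain p hTp hNsat hchain
          have hcons := isConstrained_of_solvable p hTp hNsat hsolv
          exact isNormal_wOf_of_constrained hW2 hW3 hTp N hcons hNfree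
      have hW1' : wOf W S ≠ ⊥ := wOf_ne_bot hW1 hS hS1
      exact hasChain_of_normal n ih hS F hF hfree hle hWn hW1'

/-- **Glauberman's ZJ-theorem for fusion systems, functor form**: `W(S)` is normal in every
`Qd(p)`-free saturated fusion system. -/
theorem isNormal_wOf
    (hW1 : ∀ (Q : Type u) [Group Q] [Finite Q], IsPGroup p Q → Nontrivial Q → W Q ≠ ⊥)
    (hW2 : ∀ (Q R : Type u) [Group Q] [Group R] [Finite Q], IsPGroup p Q → ∀ φ : Q ≃* R,
      (W Q).map φ.toMonoidHom = W R)
    (hW3 : ∀ (L : Type u) [Group L] [Finite L] (P : Sylow p L),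
      Subgroup.centralizer ((Cfsg.pCore p L : Subgroup L) : Set L)
        = Cfsg.pCore p L ⊓ Subgroup.centralizer ((Cfsg.pCore p L : Subgroup L) : Set L) →
      ¬ Cfsg.Involves ↥(Cfsg.qd p) L →
      (((W ↥(P : Subgroup L)).map (P : Subgroup L).subtype : Subgroup L)).Normal)
    {Ω : Type u} [Group Ω] {S : Subgroup Ω} [Finite S] (hS : IsPGroup p S) (F : FusionSystem S)
    (hF : F.IsSaturated p) (hfree : F.IsSectionFree p ↥(Cfsg.qd p)) :
    F.IsNormal (wOf W S) := by
  have hchain := hasChain_of_free hW1 hW2 hW3 (Nat.card S + 1) Ω S hS F hF hfree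
    (Nat.lt_succ_self _)
  have hsolv := solvable_of_hasChain p hS hF hchain
  have hcons := isConstrained_of_solvable p hS hF hsolv
  exact isNormal_wOf_of_constrained hW2 hW3 hS F hcons hfree

end Main

end Cfsg.Agent.Helper3.KL
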