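import Mathlib
import Cfsg.Agent.Lib.Helper3.KLFunctor3
import Cfsg.Agent.Lib.Helper25.FusionAlperin2

/-!
# Elements fixed by a fusion system: basic tools

`FixZ z A φ` says that the map `φ` with source `A` fixes `z` in the two-sided sense
(`φ x = z ↔ x = z`); `AutFix F z P` says that every automorphism of `P` in `F` does.
-/

set_option autoImplicit false
set_option linter.style.haveILetI false
set_option linter.unusedSectionVars false

namespace Cfsg.Agent.Helper3.WC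

open Cfsg Cfsg.FusionSystem Cfsg.Agent.Helper25 Cfsg.Agent.Helper3.KL

variable {Ω : Type*} [Group Ω] {S : Subgroup Ω}

/-- `φ` fixes `z`, in the two-sided sense. -/
def FixZ (z : Ω) (A : Subgroup Ω) (φ : A →* Ω) : Prop := ∀ x : A, φ x = z ↔ (x : Ω) = z

/-- every automorphism of `P` in the system fixes `z`. -/
def AutFix (F : FusionSystem S) (z : Ω) (P : Subgroup Ω) : Prop :=
  ∀ φ ∈ F.Hom P, φ.range = P → FixZ z P φ

theorem FixZ.apply {z : Ω} {A : Subgroup Ω} {φ : A →* Ω} (h : FixZ z A φ) (hz : z ∈ A) :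
    φ ⟨z, hz⟩ = z := (h ⟨z, hz⟩).mpr rfl

theorem fixZ_of_apply {z : Ω} {A : Subgroup Ω} {φ : A →* Ω} (hinj : Function.Injective φ)
    (hz : z ∈ A) (h : φ ⟨z, hz⟩ = z) : FixZ z A φ := by
  intro x
  constructor
  · intro hx
    have : x = ⟨z, hz⟩ := hinj (hx.trans h.symm)
    rw [this]
  · intro hx
    have : x = ⟨z, hz⟩ := Subtype.ext hx
    rw [this, h]

theorem fixZ_of_not_mem {z : Ω} {A : Subgroup Ω} {φ : A →* Ω} (hval : ∀ x : A, φ x ∈ A)
    (hz : z ∉ A) : FixZ z A φ := by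
  intro x
  constructor
  · intro hx
    exact absurd (hx ▸ hval x) hz
  · intro hx
    exact absurd (hx ▸ x.2) hz

theorem fixZ_conj {z : Ω} (hz : z ∈ centralizerIn S S) {P : Subgroup Ω} {g : Ω} (hg : g ∈ S) :
    FixZ z P (conjHom P g) := by
  have hc := (mem_centralizerIn.mp hz).2
  intro x
  rw [conjHom_apply]
  constructor
  · intro h
    have h1 : (x : Ω) = g⁻¹ * z * g := by rw [← h]; group
    rw [h1, mul_assoc, ← hc g hg, inv_mul_cancel_left]
  · intro h
    rw [h, hc g hg, mul_inv_cancel_right]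

theorem fixZ_comp {z : Ω} {P Q : Subgroup Ω} {φ : P →* Ω} {ψ : Q →* Ω} (hφ : FixZ z P φ)
    (hψ : FixZ z Q ψ) (h : ∀ x : P, φ x ∈ Q) : FixZ z P (ψ.comp (φ.codRestrict Q h)) := by
  intro x
  show ψ ⟨φ x, h x⟩ = z ↔ _
  rw [hψ ⟨φ x, h x⟩]
  exact hφ x

theorem fixZ_restrict {z : Ω} {A P : Subgroup Ω} {χ : A →* Ω} (hχ : FixZ z A χ) (hPA : P ≤ A) :
    FixZ z P (χ.comp (Subgroup.inclusion hPA)) := by
  intro x
  exact hχ (Subgroup.inclusion hPA x)

theorem fixZ_inv {z : Ω} {P : Subgroup Ω} {φ : P →* Ω} (hφ : FixZ z P φ) {ψ : φ.range →* Ω}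
    (hψ : ∀ x : P, ψ ⟨φ x, ⟨x, rfl⟩⟩ = (x : Ω)) : FixZ z φ.range ψ := by
  rintro ⟨_, x, rfl⟩
  rw [hψ x]
  exact (hφ x).symm

/-- `S` is centric. -/
theorem isCentric_self [Finite S] (F : FusionSystem S) : F.IsCentric S := by
  refine ⟨le_rfl, ?_⟩
  rintro Q ⟨φ, hφ, rfl⟩
  have hle : φ.range ≤ S := range_le F hφ
  have hcard : Nat.card φ.range = Nat.card S :=
    (Nat.card_congr (homEquiv F hφ).toEquiv).symm
  have heq : φ.range = S := Subgroup.eq_of_le_of_card_ge hle (le_of_eq hcard.symm)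
  rw [heq]
  exact centralizerIn_le

/-- a map with range its source is an automorphism -/
theorem exists_aut_of_range_eq (F : FusionSystem S) {P : Subgroup Ω} {φ : P →* Ω}
    (hφ : φ ∈ F.Hom P) (hr : φ.range = P) :
    ∃ α ∈ F.autGroup P, ∀ x : P, ((α x : P) : Ω) = φ x := by
  have hPS : P ≤ S := (F.le_of_mem hφ).1
  have hval : ∀ x : P, φ x ∈ P := fun x => by
    have h0 : φ x ∈ φ.range := ⟨x, rfl⟩
    rwa [hr] at h0
  have hbij : Function.Bijective (φ.codRestrict P hval) := by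
    constructor
    · intro a b hab
      exact F.injective_of_mem hφ (congrArg Subtype.val hab)
    · intro y
      have hy : (y : Ω) ∈ φ.range := hr.symm ▸ y.2
      obtain ⟨x, hx⟩ := hy
      exact ⟨x, Subtype.ext hx⟩
  refine ⟨MulEquiv.ofBijective (φ.codRestrict P hval) hbij, ?_, fun x => rfl⟩
  rw [mem_autGroup_iff F hPS]
  have : P.subtype.comp (MulEquiv.ofBijective (φ.codRestrict P hval) hbij).toMonoidHom = φ := by
    ext x; rfl
  rw [this]
  exact hφ

theorem autFix_iff_autGroup (F : FusionSystem S) {z : Ω} {P : Subgroup Ω} (hPS : P ≤ S) :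
    AutFix F z P ↔ ∀ α ∈ F.autGroup P, ∀ hz : z ∈ P, ((α ⟨z, hz⟩ : P) : Ω) = z := by
  constructor
  · intro h α hα hz
    have h1 := (mem_autGroup_iff F hPS α).mp hα
    have hr : (P.subtype.comp α.toMonoidHom).range = P := by
      ext y
      constructor
      · rintro ⟨x, rfl⟩
        exact (α x).2
      · intro hy
        exact ⟨α⁻¹ ⟨y, hy⟩, by show ((α (α⁻¹ ⟨y, hy⟩) : P) : Ω) = y; rw [MulAut.apply_inv_self]⟩
    exact (h _ h1 hr).apply hz
  · intro h φ hφ hr
    obtain ⟨α, hα, hαφ⟩ := exists_aut_of_range_eq F hφ hr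
    by_cases hz : z ∈ P
    · apply fixZ_of_apply (F.injective_of_mem hφ) hz
      rw [← hαφ]
      exact h α hα hz
    · apply fixZ_of_not_mem _ hz
      intro x
      have h0 : φ x ∈ φ.range := ⟨x, rfl⟩
      rwa [hr] at h0

/-- **Transport**: automorphisms of `P` fix `z` if those of its image under a `z`-fixing map do. -/
theorem autFix_of_map (F : FusionSystem S) {z : Ω} {A P P' : Subgroup Ω} {χ : A →* Ω}
    (hχ : χ ∈ F.Hom A) (hfix : FixZ z A χ) (hPA : P ≤ A)
    (hP' : (P.subgroupOf A).map χ = P') (h : AutFix F z P') : AutFix F z P := by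
  intro φ hφ hr x
  have hχP : χ.comp (Subgroup.inclusion hPA) ∈ F.Hom P := restrict_mem F hPA hχ
  have hrange : (χ.comp (Subgroup.inclusion hPA)).range = P' := by
    rw [← hP']
    ext y
    rw [mem_map_subgroupOf]
    constructor
    · rintro ⟨a, rfl⟩
      exact ⟨a, hPA a.2, a.2, rfl⟩
    · rintro ⟨a, haA, haP, rfl⟩
      exact ⟨⟨a, haP⟩, rfl⟩
  obtain ⟨θ, hθ, hθinv, hθr⟩ := exists_inv F hχP hrange
  have hθP : ∀ y : P', θ y ∈ P := fun y => by
    have h0 : θ y ∈ θ.range := ⟨y, rfl⟩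
    rwa [hθr] at h0
  have hφP : ∀ a : P, φ a ∈ P := fun a => by
    have h0 : φ a ∈ φ.range := ⟨a, rfl⟩
    rwa [hr] at h0
  have h1 : φ.comp (θ.codRestrict P hθP) ∈ F.Hom P' := F.comp_mem hθ hφ hθP
  have h1P : ∀ y : P', (φ.comp (θ.codRestrict P hθP)) y ∈ P := fun y => hφP _
  have h2 := F.comp_mem h1 hχP h1P
  have hmem : ∀ a : P, (χ.comp (Subgroup.inclusion hPA)) a ∈ P' := fun a => by
    have h0 : (χ.comp (Subgroup.inclusion hPA)) a ∈ (χ.comp (Subgroup.inclusion hPA)).range :=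
      ⟨a, rfl⟩
    rwa [hrange] at h0
  have hθa : ∀ a : P, θ ⟨(χ.comp (Subgroup.inclusion hPA)) a, hmem a⟩ = (a : Ω) :=
    fun a => hθinv a (hmem a)
  have hval : ∀ a : P, ((χ.comp (Subgroup.inclusion hPA)).comp
      ((φ.comp (θ.codRestrict P hθP)).codRestrict P h1P))
        ⟨(χ.comp (Subgroup.inclusion hPA)) a, hmem a⟩ =
      χ ⟨φ a, hPA (hφP a)⟩ := by
    intro a
    show χ (Subgroup.inclusion hPA ⟨φ ((θ.codRestrict P hθP) ⟨_, hmem a⟩), _⟩) = _
    congr 1
    apply Subtype.ext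
    show φ ((θ.codRestrict P hθP) ⟨_, hmem a⟩) = φ a
    congr 1
    apply Subtype.ext
    exact hθa a
  have hr2 : ((χ.comp (Subgroup.inclusion hPA)).comp
      ((φ.comp (θ.codRestrict P hθP)).codRestrict P h1P)).range = P' := by
    apply le_antisymm
    · rintro _ ⟨y, rfl⟩
      exact hmem _
    · intro y hy
      rw [← hrange] at hy
      obtain ⟨a, rfl⟩ := hy
      have ha : (a : Ω) ∈ φ.range := hr.symm ▸ a.2
      obtain ⟨b, hb⟩ := ha
      refine ⟨⟨(χ.comp (Subgroup.inclusion hPA)) b, hmem b⟩, ?_⟩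
      rw [hval b]
      show χ _ = χ (Subgroup.inclusion hPA a)
      congr 1
      apply Subtype.ext
      exact hb
  have h3 := h _ h2 hr2 ⟨(χ.comp (Subgroup.inclusion hPA)) x, hmem x⟩
  rw [hval x] at h3
  have h4 := hfix ⟨φ x, hPA (hφP x)⟩
  have h5 := hfix (Subgroup.inclusion hPA x)
  rw [← h4, h3]
  exact h5

end Cfsg.Agent.Helper3.WC
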