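import Mathlib
import Cfsg.Agent.Lib.Helper3.WClos1

/-!
# The chain argument for elements fixed by a fusion system

If `z ∈ Z(S)` is fixed by the automorphisms of `w(S)` in `F`, and for every fully normalized centric `Q`
"fixed by `Aut_F(w(N_S(Q)))`" implies "fixed by `Aut_F(Q)`", then `z` is fixed by every map of `F`.
-/

set_option autoImplicit false
set_option linter.style.haveILetI false
set_option linter.unusedSectionVars false

namespace Cfsg.Agent.Helper3.WC

open Cfsg Cfsg.FusionSystem Cfsg.Agent.Helper25 Cfsg.Agent.Helper3.KL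

variable {Ω : Type*} [Group Ω] {S : Subgroup Ω}

/-- An automorphism of a receptive subgroup `V` extends to an automorphism of `V C_S(V)`. -/
theorem exists_ext_sup_centralizer [Finite S] (F : FusionSystem S) {V : Subgroup Ω}
    (hrec : F.IsReceptive V) {φ : V →* Ω} (hφ : φ ∈ F.Hom V) (hr : φ.range = V) :
    ∃ ψ ∈ F.Hom (V ⊔ centralizerIn S V),
      (∀ x : V, ψ (Subgroup.inclusion le_sup_left x) = φ x) ∧
      ψ.range = V ⊔ centralizerIn S V := by
  have hVS : V ≤ S := hrec.1
  obtain ⟨ψ₀, hψ₀, hext⟩ := hrec.2 V φ hφ hr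
  have hVN : V ≤ extender S V φ := le_extender F hφ
  have hCN : centralizerIn S V ≤ extender S V φ := centralizerIn_le_extender φ
  have hRN : V ⊔ centralizerIn S V ≤ extender S V φ := sup_le hVN hCN
  have hRS : V ⊔ centralizerIn S V ≤ S := sup_le hVS centralizerIn_le
  haveI : Finite ↥(V ⊔ centralizerIn S V) := finite_of_le_finite hRS
  have hψ : ψ₀.comp (Subgroup.inclusion hRN) ∈ F.Hom (V ⊔ centralizerIn S V) :=
    restrict_mem F hRN hψ₀
  have hψ₀S := (F.le_of_mem hψ₀).2
  have hagree : ∀ x : V, (ψ₀.comp (Subgroup.inclusion hRN)) (Subgroup.inclusion le_sup_left x)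
      = φ x := by
    intro x
    exact hext x x.2 (hVN x.2)
  have hφV : ∀ x : V, φ x ∈ V := fun x => by
    have h0 : φ x ∈ φ.range := ⟨x, rfl⟩
    rwa [hr] at h0
  -- values on `V` and on the centralizer
  have hvalV : ∀ (y : Ω) (hy : y ∈ V), ψ₀ ⟨y, hVN hy⟩ ∈ V ⊔ centralizerIn S V := by
    intro y hy
    rw [hext y hy (hVN hy)]
    exact le_sup_left (b := centralizerIn S V) (hφV _)
  have hvalC : ∀ (c : Ω) (hc : c ∈ centralizerIn S V), ψ₀ ⟨c, hCN hc⟩ ∈ V ⊔ centralizerIn S V := by
    intro c hc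
    apply le_sup_right (a := V)
    rw [mem_centralizerIn]
    refine ⟨hψ₀S _, ?_⟩
    intro v hv
    have hv' : v ∈ φ.range := hr.symm ▸ hv
    obtain ⟨v', rfl⟩ := hv'
    rw [← hext v' v'.2 (hVN v'.2), ← map_mul, ← map_mul]
    congr 1
    apply Subtype.ext
    exact (mem_centralizerIn.mp hc).2 v' v'.2
  have hle : V ⊔ centralizerIn S V ≤
      ((V ⊔ centralizerIn S V).comap ψ₀).map (extender S V φ).subtype := by
    apply sup_le
    · intro y hy
      exact ⟨⟨y, hVN hy⟩, hvalV y hy, rfl⟩
    · intro c hc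
      exact ⟨⟨c, hCN hc⟩, hvalC c hc, rfl⟩
  have hval : ∀ x : ↥(V ⊔ centralizerIn S V), (ψ₀.comp (Subgroup.inclusion hRN)) x
      ∈ V ⊔ centralizerIn S V := by
    intro x
    obtain ⟨y, hy, hyx⟩ := hle x.2
    have : Subgroup.inclusion hRN x = y := Subtype.ext hyx.symm
    show ψ₀ (Subgroup.inclusion hRN x) ∈ _
    rw [this]
    exact hy
  refine ⟨_, hψ, hagree, ?_⟩
  have hle2 : (ψ₀.comp (Subgroup.inclusion hRN)).range ≤ V ⊔ centralizerIn S V := by
    rintro _ ⟨x, rfl⟩
    exact hval x
  apply Subgroup.eq_of_le_of_card_ge hle2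
  exact le_of_eq (Nat.card_congr (homEquiv F hψ).toEquiv)

/-- `V C_S(V)` is centric when `V` is fully centralized. -/
theorem isCentric_sup_centralizer [Finite S] (F : FusionSystem S) {V : Subgroup Ω}
    (hfc : F.IsFullyCentralized V) : F.IsCentric (V ⊔ centralizerIn S V) := by
  have hVS : V ≤ S := hfc.1
  have hRS : V ⊔ centralizerIn S V ≤ S := sup_le hVS centralizerIn_le
  refine ⟨hRS, ?_⟩
  rintro R' ⟨φ, hφ, rfl⟩
  have hφS := (F.le_of_mem hφ).2
  have hφV : φ.comp (Subgroup.inclusion (le_sup_left : V ≤ V ⊔ centralizerIn S V)) ∈ F.Hom V :=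
    restrict_mem F le_sup_left hφ
  set V' : Subgroup Ω := (φ.comp (Subgroup.inclusion
    (le_sup_left : V ≤ V ⊔ centralizerIn S V))).range with hV'
  have hconj : F.IsConj V V' := ⟨_, hφV, rfl⟩
  have hle := hfc.2 V' hconj
  set M : Subgroup Ω := ((centralizerIn S V).subgroupOf (V ⊔ centralizerIn S V)).map φ with hM
  have hMle : M ≤ centralizerIn S V' := by
    rintro _ ⟨c, hc, rfl⟩
    rw [mem_centralizerIn]
    refine ⟨hφS c, ?_⟩
    rintro _ ⟨v, rfl⟩
    have hc' : (c : Ω) ∈ centralizerIn S V := hc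
    show φ (Subgroup.inclusion le_sup_left v) * φ c = φ c * φ (Subgroup.inclusion le_sup_left v)
    rw [← map_mul, ← map_mul]
    congr 1
    apply Subtype.ext
    exact (mem_centralizerIn.mp hc').2 v v.2
  have hcardM : Nat.card M = Nat.card (centralizerIn S V) := by
    rw [hM, Subgroup.card_map_of_injective (F.injective_of_mem hφ)]
    exact Nat.card_congr (Subgroup.subgroupOfEquivOfLe le_sup_right).toEquiv
  haveI : Finite ↥(centralizerIn S V') := finite_of_le_finite centralizerIn_le
  have hMeq : M = centralizerIn S V' :=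
    Subgroup.eq_of_le_of_card_ge hMle (by rw [hcardM]; exact hle)
  intro c hc
  have hc1 : c ∈ centralizerIn S V' := by
    rw [mem_centralizerIn] at hc ⊢
    refine ⟨hc.1, ?_⟩
    rintro _ ⟨v, rfl⟩
    exact hc.2 _ ⟨_, rfl⟩
  rw [← hMeq] at hc1
  obtain ⟨c', -, rfl⟩ := hc1
  exact ⟨c', rfl⟩

/-- `N_S(V)` normalizes `V C_S(V)`. -/
theorem normalizerIn_le_normalizerIn_sup_centralizer (V : Subgroup Ω) :
    normalizerIn S V ≤ normalizerIn S (V ⊔ centralizerIn S V) := by
  have key : ∀ g ∈ normalizerIn S V, ∀ y ∈ V ⊔ centralizerIn S V,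
      g * y * g⁻¹ ∈ V ⊔ centralizerIn S V := by
    intro g hg y hy
    have hgS := hg.1
    have hgN := hg.2
    have hle : V ⊔ centralizerIn S V ≤
        (V ⊔ centralizerIn S V).comap (MulAut.conj g).toMonoidHom := by
      apply sup_le
      · intro v hv
        show g * v * g⁻¹ ∈ V ⊔ centralizerIn S V
        exact le_sup_left (b := centralizerIn S V)
          ((Subgroup.mem_normalizer_iff.mp hgN v).mp hv)
      · intro c hc
        show g * c * g⁻¹ ∈ V ⊔ centralizerIn S V
        apply le_sup_right (a := V)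
        rw [mem_centralizerIn] at hc ⊢
        refine ⟨S.mul_mem (S.mul_mem hgS hc.1) (S.inv_mem hgS), ?_⟩
        intro v hv
        have hv' : g⁻¹ * v * g ∈ V := by
          have := (Subgroup.mem_normalizer_iff.mp (Subgroup.inv_mem _ hgN) v).mp hv
          rwa [inv_inv] at this
        have h1 := hc.2 _ hv'
        calc v * (g * c * g⁻¹) = g * ((g⁻¹ * v * g) * c) * g⁻¹ := by group
          _ = g * (c * (g⁻¹ * v * g)) * g⁻¹ := by rw [h1]
          _ = g * c * g⁻¹ * v := by group
    exact hle hy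
  intro g hg
  refine ⟨hg.1, ?_⟩
  apply mem_normalizer_of_forall (key g hg)
  intro y hy
  have hg' : g⁻¹ ∈ normalizerIn S V := (normalizerIn S V).inv_mem hg
  have := key g⁻¹ hg' y hy
  rwa [inv_inv] at this

section large

variable [Finite S] {p : ℕ} [Fact p.Prime] {F : FusionSystem S}

/-- If the automorphisms of the fully normalized centric subgroups with large normalizer fix `z`, so do
all maps with large source. -/
theorem fixZ_of_large (hS : IsPGroup p S) (hF : F.IsSaturated p) {z : Ω}
    (hz : z ∈ centralizerIn S S) (m : ℕ)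
    (hD : ∀ R, F.IsFullyNormalized R → F.IsCentric R → m < Nat.card (normalizerIn S R) →
      AutFix F z R)
    {A : Subgroup Ω} {φ : A →* Ω} (hφ : φ ∈ F.Hom A) (hA : m < Nat.card A) : FixZ z A φ := by
  refine alperin_induction p hS F hF (fun Q φ => m < Nat.card Q → FixZ z Q φ) ?_ ?_ ?_ ?_ hφ hA
  · intro P g _ hg _
    exact fixZ_conj hz hg
  · intro P Q φ ψ hφ hψ hPrφ hPrψ h hP
    have hQS : Q ≤ S := (F.le_of_mem hψ).1
    haveI : Finite Q := finite_of_le_finite hQS
    have hQl : m < Nat.card Q := by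
      refine lt_of_lt_of_le hP ?_
      apply Nat.card_le_card_of_injective (φ.codRestrict Q h)
      intro a b hab
      apply F.injective_of_mem hφ
      exact congrArg Subtype.val hab
    exact fixZ_comp (hPrφ hP) (hPrψ hQl) h
  · intro P φ hφ hPr ψ _ hψφ hR
    have hPl : m < Nat.card P := by
      rwa [Nat.card_congr (homEquiv F hφ).toEquiv]
    exact fixZ_inv (hPr hPl) hψφ
  · intro P hP α hα hPl
    have hPfn : F.IsFullyNormalized P := by
      rcases hP with rfl | hP
      · exact isFullyNormalized_self F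
      · exact hP.2.1
    have hPc : F.IsCentric P := by
      rcases hP with rfl | hP
      · exact isCentric_self F
      · exact hP.1
    have hPS : P ≤ S := hPfn.1
    haveI : Finite ↥(normalizerIn S P) := finite_of_le_finite normalizerIn_le
    have hcard : m < Nat.card (normalizerIn S P) :=
      lt_of_lt_of_le hPl (Subgroup.card_le_of_le (le_normalizerIn hPS))
    have h1 := hD P hPfn hPc hcard
    have h2 := (mem_autGroup_iff F hPS α).mp hα
    apply h1 _ h2
    ext y
    constructor
    · rintro ⟨x, rfl⟩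
      exact (α x).2
    · intro hy
      exact ⟨α⁻¹ ⟨y, hy⟩, by
        show ((α (α⁻¹ ⟨y, hy⟩) : P) : Ω) = y
        rw [MulAut.apply_inv_self]⟩

/-- **The chain argument.** -/
theorem chain (hS : IsPGroup p S) (hF : F.IsSaturated p) {z : Ω} (hz : z ∈ centralizerIn S S)
    (w : Subgroup Ω → Subgroup Ω) (hw1 : ∀ T : Subgroup Ω, T ≤ S → w T ≤ T)
    (hw3 : ∀ T : Subgroup Ω, T ≤ S → normalizerIn S T ≤ normalizerIn S (w T))
    (htop : AutFix F z (w S))
    (hloc : ∀ Q, F.IsFullyNormalized Q → F.IsCentric Q → AutFix F z (w (normalizerIn S Q)) →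
      AutFix F z Q)
    {A : Subgroup Ω} {φ : A →* Ω} (hφ : φ ∈ F.Hom A) : FixZ z A φ := by
  have main : ∀ (k : ℕ) (Q : Subgroup Ω), F.IsFullyNormalized Q → F.IsCentric Q →
      Nat.card S - Nat.card (normalizerIn S Q) = k → AutFix F z Q := by
    intro k
    induction k using Nat.strong_induction_on with
    | _ k ih =>
    intro Q hQfn hQc hk
    obtain ⟨T, hT⟩ : ∃ T, T = normalizerIn S Q := ⟨_, rfl⟩
    have hTS : T ≤ S := hT ▸ normalizerIn_le
    haveI : Finite T := finite_of_le_finite hTS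
    obtain ⟨m, hm⟩ : ∃ m, m = Nat.card T := ⟨_, rfl⟩
    have hmS : m ≤ Nat.card S := hm ▸ Subgroup.card_le_of_le hTS
    have hD : ∀ R, F.IsFullyNormalized R → F.IsCentric R → m < Nat.card (normalizerIn S R) →
        AutFix F z R := by
      intro R hRfn hRc hRl
      have hle : Nat.card (normalizerIn S R) ≤ Nat.card S :=
        Subgroup.card_le_of_le normalizerIn_le
      apply ih (Nat.card S - Nat.card (normalizerIn S R)) _ R hRfn hRc rfl
      rw [← hk, ← hT, ← hm]
      omega
    have hE : ∀ {A : Subgroup Ω} {φ : A →* Ω}, φ ∈ F.Hom A → m < Nat.card A → FixZ z A φ :=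
      fun hφ hA => fixZ_of_large hS hF hz m hD hφ hA
    apply hloc Q hQfn hQc
    rw [← hT]
    by_cases hTeq : T = S
    · rw [hTeq]
      exact htop
    · obtain ⟨q, hq, hqT⟩ := exists_mem_normalizerIn_not_mem hS hTS hTeq
      obtain ⟨W₂, hW₂⟩ : ∃ W₂, W₂ = w T := ⟨_, rfl⟩
      rw [← hW₂]
      have hW₂T : W₂ ≤ T := hW₂ ▸ hw1 T hTS
      have hW₂S : W₂ ≤ S := hW₂T.trans hTS
      have hNT : normalizerIn S T ≤ normalizerIn S W₂ := hW₂ ▸ hw3 T hTS
      have hTN : T ≤ normalizerIn S W₂ := (le_normalizerIn hTS).trans hNT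
      have hcard1 : m < Nat.card (normalizerIn S W₂) := by
        rw [hm]
        exact card_lt_of_le_of_mem normalizerIn_le hTN (hNT hq) hqT
      -- move `W₂` to a fully normalized subgroup
      obtain ⟨V, hconj, hVfn⟩ := exists_isConj_fullyNormalized F hW₂S
      obtain ⟨hVfc, hVfa, hVrec⟩ := of_fullyNormalized p hS F hF hVfn
      obtain ⟨α, hα, -, -, hαimg⟩ := exists_normalizer_map p hS F V W₂ hVfa hVrec hconj
      have hfixα : FixZ z _ α := hE hα hcard1
      apply autFix_of_map F hα hfixα (le_normalizerIn hW₂S) hαimg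
      -- automorphisms of `V`
      intro φ hφ hr
      obtain ⟨ψ, hψ, hext, hψr⟩ := exists_ext_sup_centralizer F hVrec hφ hr
      obtain ⟨R, hR⟩ : ∃ R, R = V ⊔ centralizerIn S V := ⟨_, rfl⟩
      have hVS : V ≤ S := hVfn.1
      have hRS : R ≤ S := hR ▸ sup_le hVS centralizerIn_le
      have hRc : F.IsCentric R := hR ▸ isCentric_sup_centralizer F hVfc
      have hNVR : normalizerIn S V ≤ normalizerIn S R :=
        hR ▸ normalizerIn_le_normalizerIn_sup_centralizer V
      haveI : Finite ↥(normalizerIn S R) := finite_of_le_finite normalizerIn_le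
      haveI : Finite ↥(normalizerIn S V) := finite_of_le_finite normalizerIn_le
      have hcard2 : m < Nat.card (normalizerIn S R) := by
        have h1 := hVfn.2 W₂ (isConj_symm F hconj)
        have h2 := Subgroup.card_le_of_le hNVR
        omega
      obtain ⟨R', hconjR, hR'fn⟩ := exists_isConj_fullyNormalized F hRS
      obtain ⟨-, hR'fa, hR'rec⟩ := of_fullyNormalized p hS F hF hR'fn
      have hR'c : F.IsCentric R' := KL.isCentric_of_isConj F hRc hconjR
      obtain ⟨γ, hγ, -, -, hγimg⟩ := exists_normalizer_map p hS F R' R hR'fa hR'rec hconjR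
      have hfixγ : FixZ z _ γ := hE hγ hcard2
      have hcard3 : m < Nat.card (normalizerIn S R') := by
        have h1 := hR'fn.2 R (isConj_symm F hconjR)
        omega
      have hRfix : AutFix F z R :=
        autFix_of_map F hγ hfixγ (le_normalizerIn hRS) hγimg (hD R' hR'fn hR'c hcard3)
      have hψfix : FixZ z _ ψ := by
        have h1 : ∀ (R₁ : Subgroup Ω), R₁ = R → ∀ ψ₁ : R₁ →* Ω, ψ₁ ∈ F.Hom R₁ → ψ₁.range = R₁ →
            FixZ z R₁ ψ₁ := by
          rintro R₁ rfl ψ₁ h1 h2
          exact hRfix ψ₁ h1 h2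
        exact h1 _ hR.symm ψ hψ hψr
      intro x
      rw [← hext x]
      exact hψfix (Subgroup.inclusion le_sup_left x)
  -- conclusion
  have hD : ∀ R, F.IsFullyNormalized R → F.IsCentric R → 0 < Nat.card (normalizerIn S R) →
      AutFix F z R := fun R hRfn hRc _ => main _ R hRfn hRc rfl
  have hAS : A ≤ S := (F.le_of_mem hφ).1
  haveI : Finite A := finite_of_le_finite hAS
  exact fixZ_of_large hS hF hz 0 hD hφ Nat.card_pos

end large

end Cfsg.Agent.Helper3.WC
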