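import Mathlib
import Cfsg.Agent.Lib.Helper3.WClos2
import Cfsg.Agent.S5084
import Cfsg.Agent.Lib.Helper25.FusionGrun

/-!
# The local step of the chain argument, through a model, and the global conclusion
-/

set_option autoImplicit false
set_option linter.style.haveILetI false
set_option linter.unusedSectionVars false

namespace Cfsg.Agent.Helper3.WC

open Cfsg Cfsg.FusionSystem Cfsg.Agent.Helper25 Cfsg.Agent.Helper3.KL Cfsg.Agent.Helper3.Model
open Cfsg.Agent.Helper25.Grun

universe u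

section model

variable {Ω : Type*} [Group Ω] {S : Subgroup Ω} [Finite S] {p : ℕ} [Fact p.Prime]
  {F : FusionSystem S}

/-- **The local step through a model.** -/
theorem autFix_of_model (hS : IsPGroup p S) {z : Ω}
    {Q : Subgroup Ω} (hQfn : F.IsFullyNormalized Q) (hzQ : z ∈ Q)
    {U : Subgroup Ω} (hUT : U ≤ normalizerIn S Q) (hzU : z ∈ U)
    (N : FusionSystem (normalizerIn S Q)) (hN : F.IsNormalizerSystem Q N)
    {L : Type*} [Group L] (ι : ↥(normalizerIn S Q) →* L) (hm : N.IsModel p L ι)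
    (hL : ∀ hzT : z ∈ normalizerIn S Q, ι ⟨z, hzT⟩ ∈ pCore p L →
      (∀ g ∈ Subgroup.normalizer (((U.subgroupOf (normalizerIn S Q)).map ι : Subgroup L) : Set L),
        g * ι ⟨z, hzT⟩ * g⁻¹ = ι ⟨z, hzT⟩) → ∀ g : L, g * ι ⟨z, hzT⟩ * g⁻¹ = ι ⟨z, hzT⟩)
    (hU : AutFix F z U) : AutFix F z Q := by
  have hQS : Q ≤ S := hQfn.1
  have hTS : normalizerIn S Q ≤ S := normalizerIn_le
  have hQT : Q ≤ normalizerIn S Q := le_normalizerIn hQS
  haveI : Finite ↥(normalizerIn S Q) := finite_of_le_finite hTS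
  have hTp : IsPGroup p ↥(normalizerIn S Q) := hS.to_le hTS
  have hzT : z ∈ normalizerIn S Q := hQT hzQ
  have hQn : N.IsNormal Q := normalizerSystem_isNormal F hQS N hN
  have hnormal := normal_map_of_isNormal_of_isModel p N ι hm hQn
  obtain ⟨hfin, hreal, ⟨PT, hPT⟩, hcent⟩ := hm
  haveI := hfin
  have hι := hreal.1
  -- `ι z` lies in the `p`-core
  have hcore : ι ⟨z, hzT⟩ ∈ pCore p L := by
    apply le_pCore hnormal
    · have : IsPGroup p ↥(Q.subgroupOf (normalizerIn S Q)) := hTp.to_subgroup _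
      exact this.map ι
    · exact ⟨⟨z, hzT⟩, Subgroup.mem_subgroupOf.mpr hzQ, rfl⟩
  -- conjugation by the normalizer of `ι U` fixes `ι z`
  have hUS : U ≤ S := hUT.trans hTS
  haveI : Finite U := finite_of_le_finite hUS
  have hstep : ∀ g ∈ Subgroup.normalizer
      (((U.subgroupOf (normalizerIn S Q)).map ι : Subgroup L) : Set L),
      g * ι ⟨z, hzT⟩ * g⁻¹ = ι ⟨z, hzT⟩ := by
    intro g hg
    have hgU : ∀ x : U, g * ι ⟨x, hUT x.2⟩ * g⁻¹ ∈ (U.subgroupOf (normalizerIn S Q)).map ι := by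
      intro x
      apply (Subgroup.mem_normalizer_iff.mp hg _).mp
      exact ⟨⟨x, hUT x.2⟩, Subgroup.mem_subgroupOf.mpr x.2, rfl⟩
    obtain ⟨ψ, hψ, hψT, hιψ⟩ := exists_hom_of_conj N hreal hUT g (fun x => by
      obtain ⟨y, -, hy⟩ := hgU x
      exact ⟨y, hy⟩)
    have hψU : ∀ x : U, ψ x ∈ U := by
      intro x
      obtain ⟨y, hy, hyx⟩ := hgU x
      rw [← hιψ x] at hyx
      have := hι hyx
      have h2 : (y : Ω) = ψ x := congrArg Subtype.val this
      rw [← h2]
      exact Subgroup.mem_subgroupOf.mp hy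
    have hψF : ψ ∈ F.Hom U := by
      have := hψ
      rw [hN U] at this
      exact this.1
    have hr : ψ.range = U := by
      apply Subgroup.eq_of_le_of_card_ge
      · rintro _ ⟨x, rfl⟩
        exact hψU x
      · exact le_of_eq (Nat.card_congr (homEquiv F hψF).toEquiv)
    have hfix := (hU ψ hψF hr).apply hzU
    have h3 := hιψ ⟨z, hzU⟩
    rw [← h3]
    congr 1
    exact Subtype.ext hfix
  have hcentral := hL hzT hcore hstep
  -- conclusion
  rw [autFix_iff_autGroup F hQS]
  intro α hα hzQ'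
  have h1 := normalizerSystem_aut_mem F hQS N hN hα
  have hval : ∀ x : Q, (Q.subtype.comp α.toMonoidHom) x ∈ normalizerIn S Q :=
    fun x => hQT (α x).2
  obtain ⟨g, hg⟩ := (hreal.2 Q hQT _ hval).mp h1
  have h2 := hg ⟨z, hzQ'⟩
  rw [hcentral g] at h2
  have h3 := hι h2
  exact congrArg Subtype.val h3

end model

section global

variable {Ω : Type*} [Group Ω] {S : Subgroup Ω} [Finite S] {p : ℕ} [Fact p.Prime]
  {F : FusionSystem S}

/-- elements fixed by all maps of `F` form central subgroups -/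
theorem le_center_of_fix (hS : IsPGroup p S) (hF : F.IsSaturated p) {Z : Subgroup Ω} (hZS : Z ≤ S)
    (h : ∀ z ∈ Z, ∀ φ ∈ F.Hom (Subgroup.zpowers z), φ ⟨z, Subgroup.mem_zpowers z⟩ = z) :
    Z ≤ F.center := by
  have hc : F.IsCentral Z := by
    rw [Cfsg.Agent.S5084.result p hS F hF Z]
    refine ⟨hZS, ?_⟩
    rintro x hx y ⟨φ, hφ, rfl⟩
    exact h x hx φ hφ
  exact le_sSup hc

/-- the centre of `F` lies in the centre of each of its normalizer systems -/
theorem center_le_center_normalizer (hS : IsPGroup p S) (hF : F.IsSaturated p) {X : Subgroup Ω}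
    (hXS : X ≤ S) (hXn : S ≤ Subgroup.normalizer (X : Set Ω))
    (N : FusionSystem (normalizerIn S X)) (hN : F.IsNormalizerSystem X N) :
    F.center ≤ N.center := by
  have hXfn : F.IsFullyNormalized X := isFullyNormalized_of_normal F hXS hXn
  have hTS : normalizerIn S X ≤ S := normalizerIn_le
  haveI : Finite ↥(normalizerIn S X) := finite_of_le_finite hTS
  have hTp : IsPGroup p ↥(normalizerIn S X) := hS.to_le hTS
  have hNsat := normalizerSystem_isSaturated p hS F hF hXfn N hN
  have hZ := isCentral_center F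
  apply le_center_of_fix hTp hNsat
  · intro x hx
    exact ⟨hZ.1 hx, hXn (hZ.1 hx)⟩
  · intro z hz φ hφ
    have hφF : φ ∈ F.Hom (Subgroup.zpowers z) := by
      rw [hN _] at hφ
      exact hφ.1
    exact central_fix F hZ hφF ⟨z, Subgroup.mem_zpowers z⟩ hz

end global

end Cfsg.Agent.Helper3.WC
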