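import Mathlib
import Cfsg.Agent.Lib.Helper27.Steiner

set_option autoImplicit false

/-! Counting in a Steiner system `S(3,6,22)`: block intersection numbers and the numbers behind
the strongly regular graphs on 77 and 100 vertices. -/

namespace Cfsg.Agent.Helper3.Steiner22

open Finset Cfsg.Agent.Helper27

variable {α : Type*} [Fintype α] [DecidableEq α]

section

variable (hα : Fintype.card α = 22) (Bf : Finset (Finset α))
  (hB : Cfsg.IsSteinerSystem 3 6 (Bf : Set (Finset α)))

include hα hB

theorem card_blocks : Bf.card = 77 := by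
  have h := steiner_lambda Bf hB ∅ (by simp)
  simp only [card_empty, Nat.sub_zero, hα, empty_subset, filter_true_of_mem, implies_true] at h
  norm_num [Nat.choose] at h
  omega

theorem card_through_one (x : α) : (Bf.filter (fun b => x ∈ b)).card = 21 := by
  have h := steiner_lambda Bf hB {x} (by simp)
  simp only [card_singleton, hα, singleton_subset_iff] at h
  norm_num [Nat.choose] at h
  omega

theorem card_through_two (x y : α) (hxy : x ≠ y) :
    (Bf.filter (fun b => x ∈ b ∧ y ∈ b)).card = 5 := by
  have h := steiner_lambda Bf hB {x, y} (by rw [card_pair hxy]; norm_num)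
  rw [card_pair hxy, hα] at h
  norm_num [Nat.choose] at h
  have h2 : Bf.filter (fun b => ({x, y} : Finset α) ⊆ b) = Bf.filter (fun b => x ∈ b ∧ y ∈ b) := by
    apply filter_congr
    intro b _
    rw [insert_subset_iff, singleton_subset_iff]
  rw [h2] at h
  omega

theorem inter_numbers (b : Finset α) (hb : b ∈ Bf) :
    (Bf.filter (fun c => (c ∩ b).card = 0)).card = 16 ∧
    (Bf.filter (fun c => (c ∩ b).card = 1)).card = 0 ∧
    (Bf.filter (fun c => (c ∩ b).card = 2)).card = 60 := by
  have e0 := steiner_inter_eq Bf hB b hb 0 (by norm_num)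
  have e1 := steiner_inter_eq Bf hB b hb 1 (by norm_num)
  have e2 := steiner_inter_eq Bf hB b hb 2 (by norm_num)
  have n3 := steiner_inter_card_eq_zero Bf hB b hb 3 (by norm_num) (by norm_num)
  have n4 := steiner_inter_card_eq_zero Bf hB b hb 4 (by norm_num) (by norm_num)
  have n5 := steiner_inter_card_eq_zero Bf hB b hb 5 (by norm_num) (by norm_num)
  have n6 := steiner_inter_card_eq_one Bf hB b hb (by norm_num)
  obtain ⟨n0, hn0⟩ : ∃ n0, n0 = (Bf.filter (fun c => (c ∩ b).card = 0)).card := ⟨_, rfl⟩
  obtain ⟨n1, hn1⟩ : ∃ n1, n1 = (Bf.filter (fun c => (c ∩ b).card = 1)).card := ⟨_, rfl⟩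
  obtain ⟨n2, hn2⟩ : ∃ n2, n2 = (Bf.filter (fun c => (c ∩ b).card = 2)).card := ⟨_, rfl⟩
  rw [hα] at e0 e1 e2
  simp only [sum_range_succ, range_zero, sum_empty, n3, n4, n5, n6] at e0 e1 e2
  rw [← hn0, ← hn1, ← hn2] at e0 e1 e2
  norm_num [Nat.choose] at e0 e1 e2
  rw [← hn0, ← hn1, ← hn2]
  omega

/-- Two distinct blocks meet in `0` or `2` points. -/
theorem inter_zero_or_two (b c : Finset α) (hb : b ∈ Bf) (hc : c ∈ Bf) (hne : c ≠ b) :
    (c ∩ b).card = 0 ∨ (c ∩ b).card = 2 := by
  have hle : (c ∩ b).card ≤ 6 := by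
    rw [← hB.1 b (by exact_mod_cast hb)]
    exact card_le_card inter_subset_right
  have h1 := (inter_numbers hα Bf hB b hb).2.1
  rw [card_eq_zero, filter_eq_empty_iff] at h1
  have h1' := h1 hc
  have hlt : (c ∩ b).card < 3 := by
    by_contra hge
    push Not at hge
    exact hne (steiner_eq_of_le_card_inter hB (by exact_mod_cast hc) (by exact_mod_cast hb) hge)
  omega

end


omit [Fintype α] in
/-- Double counting incidences between points of `c` and blocks in `T`. -/
theorem sum_inter_card (T : Finset (Finset α)) (c : Finset α) :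
    ∑ d ∈ T, (d ∩ c).card = ∑ y ∈ c, (T.filter (fun d => y ∈ d)).card := by
  have hdc := sum_card_bipartiteAbove_eq_sum_card_bipartiteBelow (s := c) (t := T)
    (fun (y : α) (d : Finset α) => y ∈ d)
  rw [show (∑ y ∈ c, (T.filter (fun d => y ∈ d)).card)
      = ∑ y ∈ c, (T.bipartiteAbove (fun (y : α) (d : Finset α) => y ∈ d) y).card from rfl, hdc]
  refine sum_congr rfl ?_
  intro d _
  congr 1
  ext y
  rw [mem_bipartiteBelow, mem_inter]
  tauto

omit [Fintype α] in
/-- If all intersection sizes are `0` or `2`, the sum counts twice the blocks meeting in `2`. -/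
theorem sum_zero_two (T : Finset (Finset α)) (c : Finset α)
    (h : ∀ d ∈ T, (d ∩ c).card = 0 ∨ (d ∩ c).card = 2) :
    ∑ d ∈ T, (d ∩ c).card = 2 * (T.filter (fun d => (d ∩ c).card = 2)).card ∧
    T.card = (T.filter (fun d => (d ∩ c).card = 0)).card
      + (T.filter (fun d => (d ∩ c).card = 2)).card := by
  constructor
  · rw [← sum_filter_add_sum_filter_not T (fun d => (d ∩ c).card = 2)]
    have h1 : ∑ d ∈ T.filter (fun d => (d ∩ c).card = 2), (d ∩ c).card
        = 2 * (T.filter (fun d => (d ∩ c).card = 2)).card := by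
      rw [mul_comm, ← smul_eq_mul, ← sum_const]
      refine sum_congr rfl ?_
      intro d hd
      exact (mem_filter.mp hd).2
    have h2 : ∑ d ∈ T.filter (fun d => ¬ (d ∩ c).card = 2), (d ∩ c).card = 0 := by
      apply sum_eq_zero
      intro d hd
      rw [mem_filter] at hd
      rcases h d hd.1 with h0 | h2
      · exact h0
      · exact absurd h2 hd.2
    rw [h1, h2, add_zero]
  · rw [← card_union_of_disjoint]
    · congr 1
      ext d
      simp only [mem_union, mem_filter]
      constructor
      · intro hd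
        rcases h d hd with h0 | h2
        · exact Or.inl ⟨hd, h0⟩
        · exact Or.inr ⟨hd, h2⟩
      · rintro (⟨hd, _⟩ | ⟨hd, _⟩) <;> exact hd
    · rw [disjoint_left]
      intro d hd1 hd2
      rw [mem_filter] at hd1 hd2
      omega

section

variable (hα : Fintype.card α = 22) (Bf : Finset (Finset α))
  (hB : Cfsg.IsSteinerSystem 3 6 (Bf : Set (Finset α)))

include hα hB

/-- Through a point outside a block `b` there are exactly `6` blocks disjoint from `b`. -/
theorem card_through_disjoint (b : Finset α) (hb : b ∈ Bf) (x : α) (hx : x ∉ b) :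
    (Bf.filter (fun d => x ∈ d ∧ (d ∩ b).card = 0)).card = 6 := by
  set T := Bf.filter (fun d => x ∈ d) with hT
  have hTcard : T.card = 21 := card_through_one hα Bf hB x
  have h02 : ∀ d ∈ T, (d ∩ b).card = 0 ∨ (d ∩ b).card = 2 := by
    intro d hd
    rw [hT, mem_filter] at hd
    apply inter_zero_or_two hα Bf hB b d hb hd.1
    rintro rfl
    exact hx hd.2
  obtain ⟨hs1, hs2⟩ := sum_zero_two T b h02
  have hsum : ∑ d ∈ T, (d ∩ b).card = 30 := by
    rw [sum_inter_card]
    have : ∀ y ∈ b, (T.filter (fun d => y ∈ d)).card = 5 := by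
      intro y hy
      have hxy : x ≠ y := by
        rintro rfl
        exact hx hy
      rw [hT, filter_filter]
      exact card_through_two hα Bf hB x y hxy
    rw [sum_congr rfl this, sum_const, smul_eq_mul, hB.1 b (by exact_mod_cast hb)]
  have hfilt : Bf.filter (fun d => x ∈ d ∧ (d ∩ b).card = 0)
      = T.filter (fun d => (d ∩ b).card = 0) := by
    rw [hT, filter_filter]
  rw [hfilt]
  omega

/-- Number of blocks disjoint from `b` through a point. -/
theorem card_disjoint_through (b : Finset α) (hb : b ∈ Bf) (y : α) :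
    ((Bf.filter (fun d => (d ∩ b).card = 0)).filter (fun d => y ∈ d)).card
      = if y ∈ b then 0 else 6 := by
  split_ifs with hy
  · rw [card_eq_zero, filter_eq_empty_iff]
    intro d hd hyd
    rw [mem_filter, card_eq_zero] at hd
    have : y ∈ d ∩ b := mem_inter.mpr ⟨hyd, hy⟩
    rw [hd.2] at this
    exact absurd this (notMem_empty y)
  · rw [filter_filter]
    have := card_through_disjoint hα Bf hB b hb y hy
    rw [← this]
    congr 1
    apply filter_congr
    intro d _
    tauto

/-- Sum of the intersection sizes of `c` with the blocks disjoint from `b`. -/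
theorem sum_inter_disjoint (b c : Finset α) (hb : b ∈ Bf) (hc : c ∈ Bf) :
    ∑ d ∈ Bf.filter (fun d => (d ∩ b).card = 0), (d ∩ c).card = 6 * (6 - (c ∩ b).card) := by
  rw [sum_inter_card]
  have h1 : ∀ y ∈ c, ((Bf.filter (fun d => (d ∩ b).card = 0)).filter (fun d => y ∈ d)).card
      = if y ∈ b then 0 else 6 := fun y _ => card_disjoint_through hα Bf hB b hb y
  rw [sum_congr rfl h1, sum_ite, sum_const, sum_const, smul_eq_mul, smul_eq_mul, mul_zero, zero_add]
  have h2 : (c.filter (fun y => ¬ y ∈ b)).card = 6 - (c ∩ b).card := by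
    have h3 : c.filter (fun y => ¬ y ∈ b) = c \ b := by
      ext y
      simp [mem_sdiff]
    rw [h3, card_sdiff, hB.1 c (by exact_mod_cast hc), inter_comm]
  rw [h2, mul_comm]

/-- `μ = 4`: two blocks meeting in two points have exactly `4` blocks disjoint from both. -/
theorem card_disjoint_both_of_meet (b c : Finset α) (hb : b ∈ Bf) (hc : c ∈ Bf)
    (hbc : (c ∩ b).card = 2) :
    ((Bf.filter (fun d => (d ∩ b).card = 0)).filter (fun d => (d ∩ c).card = 0)).card = 4 := by
  set T := Bf.filter (fun d => (d ∩ b).card = 0) with hT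
  have hTcard : T.card = 16 := (inter_numbers hα Bf hB b hb).1
  have h02 : ∀ d ∈ T, (d ∩ c).card = 0 ∨ (d ∩ c).card = 2 := by
    intro d hd
    rw [hT, mem_filter] at hd
    apply inter_zero_or_two hα Bf hB c d hc hd.1
    rintro rfl
    omega
  obtain ⟨hs1, hs2⟩ := sum_zero_two T c h02
  have hsum : ∑ d ∈ T, (d ∩ c).card = 6 * (6 - (c ∩ b).card) :=
    sum_inter_disjoint hα Bf hB b c hb hc
  rw [hbc] at hsum
  omega

/-- `λ = 0`: two disjoint blocks have no block disjoint from both. -/
theorem card_disjoint_both_of_disjoint (b c : Finset α) (hb : b ∈ Bf) (hc : c ∈ Bf)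
    (hbc : (c ∩ b).card = 0) :
    (((Bf.filter (fun d => (d ∩ b).card = 0)).erase c).filter
      (fun d => (d ∩ c).card = 0)).card = 0 := by
  set T := Bf.filter (fun d => (d ∩ b).card = 0) with hT
  have hTcard : T.card = 16 := (inter_numbers hα Bf hB b hb).1
  have hcT : c ∈ T := by
    rw [hT, mem_filter]
    exact ⟨hc, hbc⟩
  have hT'card : (T.erase c).card = 15 := by
    rw [card_erase_of_mem hcT, hTcard]
  have h02 : ∀ d ∈ T.erase c, (d ∩ c).card = 0 ∨ (d ∩ c).card = 2 := by
    intro d hd
    rw [mem_erase, hT, mem_filter] at hd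
    exact inter_zero_or_two hα Bf hB c d hc hd.2.1 hd.1
  obtain ⟨hs1, hs2⟩ := sum_zero_two (T.erase c) c h02
  have hsum : ∑ d ∈ T, (d ∩ c).card = 6 * (6 - (c ∩ b).card) :=
    sum_inter_disjoint hα Bf hB b c hb hc
  rw [hbc, ← add_sum_erase T _ hcT, inter_self, hB.1 c (by exact_mod_cast hc)] at hsum
  omega

end

end Cfsg.Agent.Helper3.Steiner22
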