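import Mathlib
import Cfsg.Prelude.Def_Classical
import Cfsg.Agent.Lib.Helper15.S74Defs
import Cfsg.Agent.Lib.Helper21.S74ODefs

/-!
# S2474 T3 piece S74O-CYC (helper3): elements of every order dividing `card K - 1` in a finite field.
-/

set_option autoImplicit false

namespace Cfsg.Agent.Helper15.S74

open QuadraticMap

universe u v w

section pieces

variable {F : Type u} [Field F]

/-- PIECE S74O-CYC. -/
theorem exists_orderOf_eq_of_dvd {K : Type v} [Field K] [Fintype K] (M : ℕ)
    (hM : M ∣ Fintype.card K - 1) : ∃ γ : K, γ ≠ 0 ∧ orderOf γ = M := by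
  classical
  have hcard : Nat.card Kˣ = Fintype.card K - 1 := by
    rw [Nat.card_eq_fintype_card, Fintype.card_units]
  have hM' : M ∣ Nat.card Kˣ := by rw [hcard]; exact hM
  obtain ⟨g, hg⟩ := IsCyclic.exists_ofOrder_eq_natCard (α := Kˣ)
  obtain ⟨c, hc⟩ := hM'
  have hpos : 0 < Nat.card Kˣ := Nat.card_pos
  have hc0 : c ≠ 0 := by
    rintro rfl
    rw [mul_zero] at hc
    omega
  refine ⟨((g ^ c : Kˣ) : K), Units.ne_zero _, ?_⟩
  rw [orderOf_units]
  have h1 : orderOf (g ^ c) = orderOf g / Nat.gcd (orderOf g) c := orderOf_pow' g hc0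
  rw [h1, hg, hc]
  have : Nat.gcd (M * c) c = c := Nat.gcd_eq_right ⟨M, by ring⟩
  rw [this]
  exact Nat.mul_div_cancel _ (Nat.pos_of_ne_zero hc0)

end pieces

end Cfsg.Agent.Helper15.S74
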