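import Mathlib
import Cfsg.Prelude.Def_Classical
import Cfsg.Agent.Lib.Helper15.S74Defs
import Cfsg.Agent.Lib.Helper21.S74ODefs

/-!
# S2474 T3 piece S74O-FROB (helper3): the involution `x ↦ x ^ (q ^ d)` of the extension of degree `2 d`.
-/

set_option autoImplicit false

namespace Cfsg.Agent.Helper15.S74

open QuadraticMap

universe u v w

section pieces

variable {F : Type u} [Field F]

/-- PIECE S74O-FROB. -/
theorem exists_frob_half [Fintype F] (p : ℕ) [Fact p.Prime] [CharP F p] (d : ℕ)
    [NeZero (2 * d)] :
    ∃ σ : FiniteField.Extension F p (2 * d) →ₐ[F] FiniteField.Extension F p (2 * d),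
      (∀ x, σ x = x ^ (Fintype.card F ^ d)) ∧ ∀ x, σ (σ x) = x := by
  classical
  have hσ : ∀ x : FiniteField.Extension F p (2 * d),
      ((FiniteField.Extension.frob F p (2 * d)) ^ d) x = x ^ (Fintype.card F ^ d) := by
    intro x
    rw [FiniteField.Extension.frob_iterate_apply, Nat.card_eq_fintype_card]
  refine ⟨(((FiniteField.Extension.frob F p (2 * d)) ^ d :
      FiniteField.Extension F p (2 * d) ≃ₐ[F] FiniteField.Extension F p (2 * d)) :
      FiniteField.Extension F p (2 * d) →ₐ[F] FiniteField.Extension F p (2 * d)), ?_, ?_⟩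
  · intro x
    exact hσ x
  · intro x
    show ((FiniteField.Extension.frob F p (2 * d)) ^ d)
      (((FiniteField.Extension.frob F p (2 * d)) ^ d) x) = x
    rw [hσ, hσ, ← pow_mul, ← pow_add, ← two_mul]
    haveI : Fintype (FiniteField.Extension F p (2 * d)) := Fintype.ofFinite _
    have hc : Fintype.card (FiniteField.Extension F p (2 * d)) = Fintype.card F ^ (2 * d) := by
      rw [← Nat.card_eq_fintype_card, FiniteField.natCard_extension, Nat.card_eq_fintype_card]
    rw [← hc]
    exact FiniteField.pow_card x

end pieces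

end Cfsg.Agent.Helper15.S74
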