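import Mathlib
import Cfsg.Prelude.Def_Classical
import Cfsg.Agent.Lib.Helper15.S74Defs
import Cfsg.Agent.Lib.Helper21.S74ODefs
import Cfsg.Agent.Lib.Helper13.MatQuad

/-!
# S2474 T3 piece S74O-PAD (helper3): the identity on `∑ x_i^2` is an `OModel F k 1`.
-/

set_option autoImplicit false

namespace Cfsg.Agent.Helper15.S74

open QuadraticMap

universe u

section pieces

variable {F : Type u} [Field F]

/-- PIECE S74O-PAD. -/
theorem omodel_pad (h2 : (2 : F) ≠ 0) (k : ℕ) : OModel F k 1 := by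
  refine ⟨Cfsg.Agent.Helper13.matQ (1 : Matrix (Fin k) (Fin k) F), 1, ?_, ?_, Nat.one_pos,
    orderOf_one⟩
  · apply Cfsg.Agent.Helper13.matQ_nondeg
    rw [Matrix.transpose_one, ← two_smul F (1 : Matrix (Fin k) (Fin k) F), Matrix.det_smul,
      Matrix.det_one, mul_one]
    exact pow_ne_zero _ h2
  · intro v
    rfl

end pieces

end Cfsg.Agent.Helper15.S74
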