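import Mathlib
import Cfsg.Prelude.Def_Classical
import Cfsg.Agent.Lib.Helper15.S74Defs
import Cfsg.Agent.Lib.Helper21.S74ODefs

/-!
# S2474 T3 piece S74O-PLUSFORM (helper3): the hyperbolic form on `K × K` with an isometry of the
order of a given `γ ≠ 0`.
-/

set_option autoImplicit false

namespace Cfsg.Agent.Helper15.S74

open QuadraticMap

universe u v w

section pieces

variable {F : Type u} [Field F]

theorem plusform_prodMap_pow {V : Type v} {W : Type w} [AddCommGroup V] [Module F V]
    [AddCommGroup W] [Module F W]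
    (A : Module.End F V) (A' : Module.End F W) (k : ℕ) :
    (A.prodMap A') ^ k = (A ^ k).prodMap (A' ^ k) := by
  induction k with
  | zero =>
    apply LinearMap.ext
    rintro ⟨x, y⟩
    rfl
  | succ k ih =>
    rw [pow_succ, ih, pow_succ, pow_succ]
    apply LinearMap.ext
    rintro ⟨x, y⟩
    rfl

theorem plusform_nondeg_of_polar {V : Type v} [AddCommGroup V] [Module F V]
    (Q : QuadraticForm F V)
    (h : ∀ x, (∀ y, polar Q x y = 0) → x = 0) : (polarBilin Q).Nondegenerate := by
  refine ⟨fun x hx => h x hx, fun y hy => h y fun x => ?_⟩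
  rw [polar_comm]; exact hy x

/-- PIECE S74O-PLUSFORM. -/
theorem exists_plus_form {K : Type v} [Field K] [Algebra F K] [FiniteDimensional F K] (γ : K)
    (hγ : γ ≠ 0) :
    ∃ (Q : QuadraticForm F (K × K)) (A : Module.End F (K × K)),
      (polarBilin Q).Nondegenerate ∧ (∀ x, Q (A x) = Q x) ∧ orderOf A = orderOf γ := by
  obtain ⟨τ, hτ⟩ := Module.Projective.exists_dual_ne_zero F (one_ne_zero : (1 : K) ≠ 0)
  set B : LinearMap.BilinForm F (K × K) :=
    LinearMap.mk₂ F (fun u v => τ (u.1 * v.2))
      (by intro a b c; simp only [Prod.fst_add, add_mul, map_add])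
      (by intro c a b; simp only [Prod.smul_fst, smul_mul_assoc, map_smul])
      (by intro a b c; simp only [Prod.snd_add, mul_add, map_add])
      (by intro c a b; simp only [Prod.smul_snd, mul_smul_comm, map_smul]) with hB
  have hBa : ∀ u v : K × K, B u v = τ (u.1 * v.2) := fun u v => rfl
  set Q : QuadraticForm F (K × K) := LinearMap.BilinMap.toQuadraticMap B with hQ
  have hQa : ∀ u : K × K, Q u = τ (u.1 * u.2) := by
    intro u
    rw [hQ, LinearMap.BilinMap.toQuadraticMap_apply, hBa]
  have hpol : ∀ u v : K × K, polar Q u v = τ (u.1 * v.2) + τ (v.1 * u.2) := by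
    intro u v
    rw [hQ, LinearMap.BilinMap.polar_toQuadraticMap, hBa, hBa]
  have hτnd : ∀ x : K, (∀ y : K, τ (x * y) = 0) → x = 0 := by
    intro x hx
    by_contra hx0
    apply hτ
    have := hx x⁻¹
    rwa [mul_inv_cancel₀ hx0] at this
  have hpow : ∀ k : ℕ, ((Algebra.lmul F K γ).prodMap (Algebra.lmul F K γ⁻¹)) ^ k
      = (Algebra.lmul F K (γ ^ k)).prodMap (Algebra.lmul F K (γ⁻¹ ^ k)) := by
    intro k
    rw [plusform_prodMap_pow, ← map_pow, ← map_pow]
  refine ⟨Q, (Algebra.lmul F K γ).prodMap (Algebra.lmul F K γ⁻¹), ?_, ?_, ?_⟩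
  · apply plusform_nondeg_of_polar
    rintro ⟨x, y⟩ h
    have hx : x = 0 := by
      apply hτnd
      intro y'
      have := h (0, y')
      rw [hpol] at this
      simpa using this
    have hy : y = 0 := by
      apply hτnd
      intro x'
      have := h (x', 0)
      rw [hpol] at this
      simp only [mul_zero, map_zero, zero_add] at this
      rw [mul_comm]
      exact this
    rw [hx, hy]
    rfl
  · rintro ⟨x, y⟩
    rw [hQa, hQa]
    show τ (γ * x * (γ⁻¹ * y)) = τ (x * y)
    have e1 : γ * x * (γ⁻¹ * y) = x * y := by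
      calc γ * x * (γ⁻¹ * y) = (γ * γ⁻¹) * (x * y) := by ring
        _ = x * y := by rw [mul_inv_cancel₀ hγ, one_mul]
    rw [e1]
  · apply Nat.dvd_antisymm
    · rw [orderOf_dvd_iff_pow_eq_one, hpow, inv_pow, pow_orderOf_eq_one, inv_one]
      apply LinearMap.ext
      rintro ⟨x, y⟩
      show ((1 : K) * x, (1 : K) * y) = (x, y)
      rw [one_mul, one_mul]
    · rw [orderOf_dvd_iff_pow_eq_one]
      have h1 := pow_orderOf_eq_one ((Algebra.lmul F K γ).prodMap (Algebra.lmul F K γ⁻¹))
      rw [hpow] at h1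
      have h2 := congrArg (fun f : Module.End F (K × K) => (f (1, 0)).1) h1
      have h3 : γ ^ orderOf ((Algebra.lmul F K γ).prodMap (Algebra.lmul F K γ⁻¹)) * 1 = 1 := h2
      rwa [mul_one] at h3

end pieces

end Cfsg.Agent.Helper15.S74
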