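import Mathlib
import Cfsg.Prelude.Def_Classical
import Cfsg.Agent.Lib.Helper15.S74Defs
import Cfsg.Agent.Lib.Helper21.S74ODefs
import Cfsg.Agent.Lib.Helper13.MatQuad

/-!
# S2474 T3 piece S74O-ROT4 (helper3): the rotation `(x, y) ↦ (-y, x)` of `x^2 + y^2` has order 4.
-/

set_option autoImplicit false

namespace Cfsg.Agent.Helper15.S74

open QuadraticMap

universe u

section pieces

variable {F : Type u} [Field F]

/-- the rotation matrix -/
def s74o_rot4_M (F : Type u) [Field F] : Matrix (Fin 2) (Fin 2) F := !![0, -1; 1, 0]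

theorem s74o_rot4_sq : s74o_rot4_M F ^ 2 = -1 := by
  unfold s74o_rot4_M
  rw [pow_two]
  ext i j
  fin_cases i <;> fin_cases j <;> simp [Matrix.mul_apply, Fin.sum_univ_two]

theorem s74o_rot4_four : s74o_rot4_M F ^ 4 = 1 := by
  have : s74o_rot4_M F ^ 4 = (s74o_rot4_M F ^ 2) ^ 2 := by rw [← pow_mul]
  rw [this, s74o_rot4_sq]
  simp

theorem s74o_rot4_neg_one_ne (h2 : (2 : F) ≠ 0) : (-1 : Matrix (Fin 2) (Fin 2) F) ≠ 1 := by
  intro h
  have h00 := congrFun (congrFun h 0) 0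
  simp only [Matrix.neg_apply, Matrix.one_apply_eq] at h00
  apply h2
  have : (2 : F) = 1 - (-1) := by ring
  rw [this, h00]
  ring

/-- PIECE S74O-ROT4. -/
theorem omodel_rot4 (h2 : (2 : F) ≠ 0) : OModel F 2 4 := by
  refine ⟨Cfsg.Agent.Helper13.matQ (1 : Matrix (Fin 2) (Fin 2) F),
    Matrix.toLinAlgEquiv' (s74o_rot4_M F), ?_, ?_, by norm_num, ?_⟩
  · apply Cfsg.Agent.Helper13.matQ_nondeg
    rw [Matrix.transpose_one, ← two_smul F (1 : Matrix (Fin 2) (Fin 2) F), Matrix.det_smul,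
      Matrix.det_one, mul_one]
    exact pow_ne_zero _ h2
  · intro v
    rw [Cfsg.Agent.Helper13.matQ_apply, Cfsg.Agent.Helper13.matQ_apply, Matrix.one_mulVec,
      Matrix.one_mulVec, Matrix.toLinAlgEquiv'_apply]
    unfold s74o_rot4_M
    simp only [dotProduct, Fin.sum_univ_two, Matrix.mulVec, Matrix.of_apply, Matrix.cons_val',
      Matrix.cons_val_zero, Matrix.cons_val_one, Matrix.empty_val', Matrix.cons_val_fin_one]
    ring
  · have hfour : (Matrix.toLinAlgEquiv' (s74o_rot4_M F) : Module.End F (Fin 2 → F)) ^ 2 ^ (1 + 1) = 1 := by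
      rw [← map_pow]
      have : (2 : ℕ) ^ (1 + 1) = 4 := by norm_num
      rw [this, s74o_rot4_four, map_one]
    have hnot : ¬ (Matrix.toLinAlgEquiv' (s74o_rot4_M F) : Module.End F (Fin 2 → F)) ^ 2 ^ 1 = 1 := by
      rw [← map_pow, pow_one, s74o_rot4_sq]
      intro h
      have h1 : (Matrix.toLinAlgEquiv' (-1 : Matrix (Fin 2) (Fin 2) F) : Module.End F (Fin 2 → F))
          = Matrix.toLinAlgEquiv' 1 := by rw [h, map_one]
      exact s74o_rot4_neg_one_ne h2 (Matrix.toLinAlgEquiv'.injective h1)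
    have := orderOf_eq_prime_pow (p := 2) hnot hfour
    rw [this]
    norm_num

end pieces

end Cfsg.Agent.Helper15.S74
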