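import Mathlib
import Cfsg.Prelude.Def_FusionSystem
import Cfsg.Agent.Lib.Helper3.BcgloX1

set_option autoImplicit false

namespace Cfsg.Agent.Helper3.Bcglo

open Cfsg Cfsg.FusionSystem Cfsg.Agent.Helper25

variable {Ω : Type*} [Group Ω] {S : Subgroup Ω}

/-- strict card inequality from a proper inclusion witnessed by an element -/
theorem card_lt_of_le_of_mem_not_mem {A B : Subgroup Ω} [Finite B] (hAB : A ≤ B) {u : Ω}
    (huB : u ∈ B) (huA : u ∉ A) : Nat.card A < Nat.card B := by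
  by_contra hlt
  have := Subgroup.eq_of_le_of_card_ge hAB (not_lt.mp hlt)
  exact huA (this ▸ huB)

/-- A map of the system defined on `R` with `P ≤ R ≤ N_S(P)`, restricting to an automorphism of `P`,
takes values in `N_S(P)`. -/
theorem map_mem_normalizerIn {F : FusionSystem S} {P R : Subgroup Ω} (hPR : P ≤ R)
    (hRN : R ≤ normalizerIn S P) {θ : R →* Ω} (hθ : θ ∈ F.Hom R) (α : MulAut P)
    (hα : ∀ x : P, θ (Subgroup.inclusion hPR x) = ((α x : P) : Ω)) (r : R) :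
    θ r ∈ normalizerIn S P := by
  refine ⟨(F.le_of_mem hθ).2 r, ?_⟩
  have key : ∀ r : R, ∀ y ∈ P, θ r * y * (θ r)⁻¹ ∈ P := by
    intro r y hy
    obtain ⟨x, rfl⟩ : ∃ x : P, ((α x : P) : Ω) = y := ⟨α⁻¹ ⟨y, hy⟩, by simp⟩
    rw [← hα x, ← map_inv, ← map_mul, ← map_mul]
    have hrx : (r : Ω) * x * (r : Ω)⁻¹ ∈ P :=
      (Subgroup.mem_normalizer_iff.mp (hRN r.2).2 x).mp x.2
    have e : r * Subgroup.inclusion hPR x * r⁻¹ =
        Subgroup.inclusion hPR ⟨(r : Ω) * x * (r : Ω)⁻¹, hrx⟩ := Subtype.ext rfl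
    rw [e, hα]
    exact Subtype.property _
  apply mem_normalizer_of_forall (key r)
  intro y hy
  have := key r⁻¹ y hy
  rwa [map_inv, inv_inv] at this

/-- If `θ v ∈ U = N_S^L(P)` then `v ∈ U`. -/
theorem mem_NK_of_map_mem {F : FusionSystem S} {P R : Subgroup Ω} (hP : P ≤ S) (hPR : P ≤ R)
    (hRN : R ≤ normalizerIn S P) (L : Subgroup (MulAut P))
    (hLn : ∀ γ ∈ F.autGroup P, ∀ l ∈ L, γ * l * γ⁻¹ ∈ L) {θ : R →* Ω} (α : MulAut P)
    (hαF : α ∈ F.autGroup P)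
    (hα : ∀ x : P, θ (Subgroup.inclusion hPR x) = ((α x : P) : Ω)) (v : R)
    (hv : θ v ∈ NK S L P.subtype) : (v : Ω) ∈ NK S L P.subtype := by
  obtain ⟨-, l, hl, hlv⟩ := hv
  have h1 := hLn α⁻¹ (Subgroup.inv_mem _ hαF) l hl
  rw [inv_inv] at h1
  refine ⟨(hRN v.2).1, α⁻¹ * l * α, h1, fun x => ?_⟩
  have hvx : (v : Ω) * x * (v : Ω)⁻¹ ∈ P :=
    (Subgroup.mem_normalizer_iff.mp (hRN v.2).2 x).mp x.2
  have e1 : ((α⁻¹ * l * α) x) = α⁻¹ (l (α x)) := rfl
  rw [e1]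
  simp only [Subgroup.coe_subtype] at hlv ⊢
  have e2 : α (⟨(v : Ω) * x * (v : Ω)⁻¹, hvx⟩ : P) = l (α x) := by
    apply Subtype.ext
    rw [← hlv, ← hα, ← hα]
    have e : Subgroup.inclusion hPR ⟨(v : Ω) * x * (v : Ω)⁻¹, hvx⟩ =
        v * Subgroup.inclusion hPR x * v⁻¹ := Subtype.ext rfl
    rw [e, map_mul, map_mul, map_inv]
  rw [← e2, MulAut.inv_apply_self]

/-- `U = N_S^L(P)` is not contained in the image of `θ` if it is not contained in its source. -/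
theorem not_le_range [Finite S] {F : FusionSystem S} {P R : Subgroup Ω} (hP : P ≤ S) (hPR : P ≤ R)
    (hRN : R ≤ normalizerIn S P) (L : Subgroup (MulAut P))
    (hLn : ∀ γ ∈ F.autGroup P, ∀ l ∈ L, γ * l * γ⁻¹ ∈ L) {θ : R →* Ω} (hθ : θ ∈ F.Hom R)
    (α : MulAut P) (hαF : α ∈ F.autGroup P)
    (hα : ∀ x : P, θ (Subgroup.inclusion hPR x) = ((α x : P) : Ω))
    (hUR : ¬ NK S L P.subtype ≤ R) : ¬ NK S L P.subtype ≤ θ.range := by
  intro hle
  apply hUR
  have hUS : NK S L P.subtype ≤ S := NK_le _ _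
  haveI : Finite ↥(NK S L P.subtype) := finite_of_le_finite hUS
  have hinj := F.injective_of_mem hθ
  have hex : ∀ u : ↥(NK S L P.subtype), ∃ v : R, θ v = u := fun u => hle u.2
  choose f hf using hex
  have hfU : ∀ u, ((f u : R) : Ω) ∈ NK S L P.subtype := fun u =>
    mem_NK_of_map_mem hP hPR hRN L hLn α hαF hα (f u) (by rw [hf u]; exact u.2)
  set g : ↥(NK S L P.subtype) → ↥(NK S L P.subtype) := fun u => ⟨_, hfU u⟩ with hg
  have hginj : Function.Injective g := by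
    intro a b hab
    have h1 : ((f a : R) : Ω) = ((f b : R) : Ω) :=
      congrArg (Subtype.val : ↥(NK S L P.subtype) → Ω) hab
    have h2 : f a = f b := Subtype.ext h1
    apply Subtype.ext
    rw [← hf a, ← hf b, h2]
  have hgsurj := Finite.surjective_of_injective hginj
  intro w hw
  obtain ⟨u, hu⟩ := hgsurj ⟨w, hw⟩
  have : ((f u : R) : Ω) = w := congrArg (Subtype.val : ↥(NK S L P.subtype) → Ω) hu
  rw [← this]
  exact (f u).2

end Cfsg.Agent.Helper3.Bcglo
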