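import Mathlib
import Cfsg.Prelude.Def_FusionSystem
import Cfsg.Agent.Lib.Helper3.BcgloX2

set_option autoImplicit false

namespace Cfsg.Agent.Helper3.Bcglo

open Cfsg Cfsg.FusionSystem Cfsg.Agent.Helper25

variable {Ω : Type*} [Group Ω] {S : Subgroup Ω}

set_option maxHeartbeats 800000 in
/-- The pushing-up data: for `P < R ≤ N_S(P)` there is a fixed automorphism `β₀` of `P` such that every
map `ψ` of the system on `R` restricting to `αψ` on `P` admits a map `θ'` of the system on a subgroup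
`D ≤ N_S(P)` containing `ψ(R)` and `N_U(ψ(R))`, restricting on `P` to `α'` with `α' αψ = β₀ k`, `k ∈ L`. -/
theorem push_data [Finite S] {p : ℕ} [Fact p.Prime] {F : FusionSystem S} {P : Subgroup Ω}
    (h : Ctx F p P) (hA : GoalA F P) (L : Subgroup (MulAut P))
    (hLn : ∀ γ ∈ F.autGroup P, ∀ l ∈ L, γ * l * γ⁻¹ ∈ L)
    {R : Subgroup Ω} (hPR : P ≤ R) (hRN : R ≤ normalizerIn S P) (hneR : P ≠ R) :
    ∃ β₀ : MulAut P, ∀ (ψ : R →* Ω), ψ ∈ F.Hom R → ∀ (αψ : MulAut P),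
      (∀ x : P, ψ (Subgroup.inclusion hPR x) = ((αψ x : P) : Ω)) →
      ∃ (D : Subgroup Ω) (hPD : P ≤ D) (θ' : D →* Ω) (α' k : MulAut P),
        D ≤ normalizerIn S P ∧ ψ.range ≤ D ∧
        (∀ u ∈ NK S L P.subtype, u ∈ Subgroup.normalizer (ψ.range : Set Ω) → u ∈ D) ∧
        θ' ∈ F.Hom D ∧ (∀ x : P, θ' (Subgroup.inclusion hPD x) = ((α' x : P) : Ω)) ∧ k ∈ L ∧
        α' * αψ = β₀ * k := by
  have hP := h.hP
  have hS := h.hS
  have hNS : normalizerIn S P ≤ S := normalizerIn_le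
  have hRS : R ≤ S := hRN.trans hNS
  haveI : Finite P := finite_of_le_finite hP
  haveI : Finite R := finite_of_le_finite hRS
  have hcard : Nat.card P < Nat.card R := by
    by_contra hlt
    exact hneR (Subgroup.eq_of_le_of_card_ge hPR (not_lt.mp hlt))
  have hgood : Good F p R := h.hbig R hRS hcard
  obtain ⟨b, hb⟩ := exists_kgood p hS F hgood hRS (M := F.autGroup R ⊓ KP L P R hPR) inf_le_left
  have hbF := hb.1
  have hbinj := F.injective_of_mem hbF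
  set Pt : Subgroup Ω := (P.subgroupOf R).map b with hPt
  have hbP : ∀ x : P, b (Subgroup.inclusion hPR x) ∈ Pt := fun x =>
    ⟨_, Subgroup.mem_subgroupOf.mpr x.2, rfl⟩
  have hPtconj : F.IsConj P Pt := by
    refine ⟨b.comp (Subgroup.inclusion hPR), restrict_mem F hPR hbF, ?_⟩
    ext y
    constructor
    · rintro ⟨x, rfl⟩; exact hbP x
    · rintro ⟨r, hr, rfl⟩
      exact ⟨⟨r, Subgroup.mem_subgroupOf.mp hr⟩, rfl⟩
  obtain ⟨σ, hσ, hσN, hσimg⟩ := hA Pt hPtconj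
  have hσP : ∀ (z : Ω) (hz : z ∈ normalizerIn S Pt), z ∈ Pt → σ ⟨z, hz⟩ ∈ P := by
    intro z hz hzPt
    rw [← hσimg]
    exact ⟨⟨z, hz⟩, Subgroup.mem_subgroupOf.mpr hzPt, rfl⟩
  have hbN : ∀ r : R, b r ∈ normalizerIn S Pt := by
    intro r
    refine ⟨(F.le_of_mem hbF).2 r, ?_⟩
    have key : ∀ r : R, ∀ y ∈ Pt, b r * y * (b r)⁻¹ ∈ Pt := by
      rintro r _ ⟨x, hx, rfl⟩
      rw [← map_inv, ← map_mul, ← map_mul]
      refine ⟨r * x * r⁻¹, ?_, rfl⟩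
      have hx' : (x : Ω) ∈ P := Subgroup.mem_subgroupOf.mp hx
      exact Subgroup.mem_subgroupOf.mpr
        ((Subgroup.mem_normalizer_iff.mp (hRN r.2).2 x).mp hx')
    apply mem_normalizer_of_forall (key r)
    intro y hy
    have := key r⁻¹ y hy
    rwa [map_inv, inv_inv] at this
  have hσb : σ.comp (b.codRestrict _ hbN) ∈ F.Hom R := F.comp_mem hbF hσ hbN
  obtain ⟨β₀, -, hβ₀⟩ := exists_restrict_aut hPR hσb (fun x => hσP _ _ (hbP x))
  refine ⟨β₀, fun ψ hψ αψ hαψ => ?_⟩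
  have hψinj := F.injective_of_mem hψ
  have hαψF : αψ ∈ F.autGroup P := by
    rw [mem_autGroup_iff F hP]
    have h2 := restrict_mem F hPR hψ
    convert h2 using 1
    ext x; exact (hαψ x).symm
  obtain ⟨κ, hκ, Θ, hΘ, hΘv⟩ := exists_extension_of_kgood p hS F hgood inf_le_left hb hψ
  obtain ⟨k, hk, hkκ⟩ := exists_restrict_of_mem_KP hPR hκ.2
  have hrD : ψ.range ≤ NK S (F.autGroup R ⊓ KP L P R hPR) ψ ⊔ ψ.range := le_sup_right
  have hψN : ∀ r : R, ψ r ∈ normalizerIn S P := map_mem_normalizerIn hPR hRN hψ αψ hαψ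
  have hNKN : NK S (F.autGroup R ⊓ KP L P R hPR) ψ ≤ normalizerIn S P := by
    intro g hg
    refine ⟨hg.1, ?_⟩
    have key : ∀ g ∈ NK S (F.autGroup R ⊓ KP L P R hPR) ψ, ∀ y ∈ P, g * y * g⁻¹ ∈ P := by
      rintro g ⟨-, κ', hκ', hκ'v⟩ y hy
      obtain ⟨k', -, hk'⟩ := exists_restrict_of_mem_KP hPR hκ'.2
      obtain ⟨x, rfl⟩ : ∃ x : P, ((αψ x : P) : Ω) = y := ⟨αψ⁻¹ ⟨y, hy⟩, by simp⟩
      rw [← hαψ x, hκ'v, hk', hαψ]
      exact Subtype.property _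
    apply mem_normalizer_of_forall (key g hg)
    intro y hy
    have := key g⁻¹ (Subgroup.inv_mem _ hg) y hy
    simpa using this
  have hDN : NK S (F.autGroup R ⊓ KP L P R hPR) ψ ⊔ ψ.range ≤ normalizerIn S P :=
    sup_le hNKN (by rintro _ ⟨r, rfl⟩; exact hψN r)
  have hPD : P ≤ NK S (F.autGroup R ⊓ KP L P R hPR) ψ ⊔ ψ.range := by
    intro y hy
    apply hrD
    exact ⟨Subgroup.inclusion hPR (αψ⁻¹ ⟨y, hy⟩), by rw [hαψ]; simp⟩
  have hiii : ∀ u ∈ NK S L P.subtype, u ∈ Subgroup.normalizer (ψ.range : Set Ω) →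
      u ∈ NK S (F.autGroup R ⊓ KP L P R hPR) ψ ⊔ ψ.range := by
    intro u huU hun
    apply (le_sup_left : NK S (F.autGroup R ⊓ KP L P R hPR) ψ ≤ _)
    obtain ⟨huS, l, hl, hlu⟩ := huU
    have hκuex : ∃ κu : MulAut R, ∀ x : R, u * ψ x * u⁻¹ = ψ (κu x) := by
      refine ⟨MulAut.congr (homEquiv F hψ).symm (ψ.range.normalizerMonoidHom ⟨u, hun⟩),
        fun x => ?_⟩
      have e1 : ψ ((MulAut.congr (homEquiv F hψ).symm (ψ.range.normalizerMonoidHom ⟨u, hun⟩)) x) =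
          ((ψ.range.normalizerMonoidHom ⟨u, hun⟩ (homEquiv F hψ x) : ψ.range) : Ω) := by
        rw [← homEquiv_apply_coe F hψ]
        simp [MulAut.congr]
      rw [e1, normalizerMonoidHom_apply_coe, homEquiv_apply_coe]
    obtain ⟨κu, hκuv⟩ := hκuex
    have hκuF : κu ∈ F.autGroup R := TK_le_autGroup F ⊤ hψ ⟨Subgroup.mem_top _, u, huS, hκuv⟩
    have h1 := hLn αψ⁻¹ (Subgroup.inv_mem _ hαψF) l hl
    rw [inv_inv] at h1
    refine ⟨huS, κu, ⟨hκuF, mem_KP_of_restrict hPR h1 (fun x => ?_)⟩, hκuv⟩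
    apply hψinj
    rw [← hκuv, hαψ, hαψ]
    show u * _ * u⁻¹ = ((αψ (αψ⁻¹ (l (αψ x))) : P) : Ω)
    rw [MulAut.apply_inv_self]
    exact hlu (αψ x)
  have hΘP : ∀ x : P, Θ (Subgroup.inclusion hPD (αψ x)) = b (Subgroup.inclusion hPR (k x)) := by
    intro x
    have := hΘv (Subgroup.inclusion hPR x) (hrD ⟨_, rfl⟩)
    rw [hkκ x] at this
    rw [← this]
    congr 1
    apply Subtype.ext
    exact (hαψ x).symm
  have hΘPt : ∀ y : P, Θ (Subgroup.inclusion hPD y) ∈ Pt := by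
    intro y
    have := hΘP (αψ⁻¹ y)
    rw [MulAut.apply_inv_self] at this
    rw [this]; exact hbP _
  have hΘPt' : ∀ z ∈ Pt, ∃ y : P, Θ (Subgroup.inclusion hPD y) = z := by
    rintro _ ⟨r, hr, rfl⟩
    refine ⟨αψ (k⁻¹ ⟨r, Subgroup.mem_subgroupOf.mp hr⟩), ?_⟩
    rw [hΘP, MulAut.apply_inv_self]
    rfl
  have hΘN : ∀ d : ↥(NK S (F.autGroup R ⊓ KP L P R hPR) ψ ⊔ ψ.range),
      Θ d ∈ normalizerIn S Pt := by
    intro d
    refine ⟨(F.le_of_mem hΘ).2 d, ?_⟩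
    have key : ∀ d : ↥(NK S (F.autGroup R ⊓ KP L P R hPR) ψ ⊔ ψ.range), ∀ z ∈ Pt,
        Θ d * z * (Θ d)⁻¹ ∈ Pt := by
      intro d z hz
      obtain ⟨y, rfl⟩ := hΘPt' z hz
      rw [← map_inv, ← map_mul, ← map_mul]
      have hdy : (d : Ω) * y * (d : Ω)⁻¹ ∈ P :=
        (Subgroup.mem_normalizer_iff.mp (hDN d.2).2 y).mp y.2
      have e : d * Subgroup.inclusion hPD y * d⁻¹ = Subgroup.inclusion hPD ⟨_, hdy⟩ :=
        Subtype.ext rfl
      rw [e]; exact hΘPt _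
    apply mem_normalizer_of_forall (key d)
    intro z hz
    have := key d⁻¹ z hz
    rwa [map_inv, inv_inv] at this
  have hθ' : σ.comp (Θ.codRestrict _ hΘN) ∈
      F.Hom (NK S (F.autGroup R ⊓ KP L P R hPR) ψ ⊔ ψ.range) := F.comp_mem hΘ hσ hΘN
  obtain ⟨α', -, hα'⟩ := exists_restrict_aut hPD hθ' (fun x => hσP _ _ (hΘPt x))
  refine ⟨_, hPD, _, α', k, hDN, hrD, hiii, hθ', hα', hk, ?_⟩
  ext x
  show ((α' (αψ x) : P) : Ω) = ((β₀ (k x) : P) : Ω)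
  rw [← hα', ← hβ₀]
  show σ ⟨Θ (Subgroup.inclusion hPD (αψ x)), _⟩ = σ ⟨b (Subgroup.inclusion hPR (k x)), _⟩
  congr 1
  exact Subtype.ext (hΘP x)

end Cfsg.Agent.Helper3.Bcglo
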