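import Mathlib
import Cfsg.Prelude.Def_FusionSystem
import Cfsg.Agent.Lib.Helper3.BcgloX3

set_option autoImplicit false

namespace Cfsg.Agent.Helper3.Bcglo

open Cfsg Cfsg.FusionSystem Cfsg.Agent.Helper25

variable {Ω : Type*} [Group Ω] {S : Subgroup Ω}

/-- Lemma X: the restriction to `P` of a map of the system defined on a subgroup `R` with
`P < R ≤ N_S(P)` and mapping `P` to itself lies in the subgroup generated by `L` and the automorphisms
of `P` that extend to `U = N_S^L(P)`. -/
theorem lemmaX [Finite S] {p : ℕ} [Fact p.Prime] {F : FusionSystem S} {P : Subgroup Ω}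
    (h : Ctx F p P) (hA : GoalA F P) (L : Subgroup (MulAut P))
    (hLn : ∀ γ ∈ F.autGroup P, ∀ l ∈ L, γ * l * γ⁻¹ ∈ L) {U : Subgroup Ω}
    (hU : U = NK S L P.subtype) (hPU : P ≤ U) (hne : P ≠ U)
    (R : Subgroup Ω) (hPR : P ≤ R) (hRN : R ≤ normalizerIn S P) (hneR : P ≠ R) (θ : R →* Ω)
    (hθ : θ ∈ F.Hom R) (α : MulAut P)
    (hα : ∀ x : P, θ (Subgroup.inclusion hPR x) = ((α x : P) : Ω)) : α ∈ extSub F hPU ⊔ L := by
  subst hU
  have hP := h.hP
  have hS := h.hS
  have hNS : normalizerIn S P ≤ S := normalizerIn_le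
  haveI : Finite ↥(normalizerIn S P) := finite_of_le_finite hNS
  have hUS : NK S L P.subtype ≤ S := NK_le _ _
  haveI : Finite ↥(NK S L P.subtype) := finite_of_le_finite hUS
  have hUN : NK S L P.subtype ≤ normalizerIn S P := by
    intro g hg
    refine ⟨hUS hg, ?_⟩
    have := NK_le_normalizer L P.subtype hg
    rwa [Subgroup.range_subtype] at this
  have hNp : IsPGroup p ↥(normalizerIn S P) := hS.to_le hNS
  have hUconj := NK_conj_mem hP L hLn
  have key : ∀ n : ℕ, ∀ (R : Subgroup Ω) (hPR : P ≤ R), R ≤ normalizerIn S P → P ≠ R →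
      ∀ θ ∈ F.Hom R, ∀ α : MulAut P,
        (∀ x : P, θ (Subgroup.inclusion hPR x) = ((α x : P) : Ω)) →
        Nat.card ↥(normalizerIn S P) - Nat.card R = n → α ∈ extSub F hPU ⊔ L := by
    intro n
    induction n using Nat.strong_induction_on with
    | _ n ih =>
      intro R hPR hRN hneR θ hθ α hα hn
      have hRS : R ≤ S := hRN.trans hNS
      haveI : Finite R := finite_of_le_finite hRS
      have hαF : α ∈ F.autGroup P := by
        rw [mem_autGroup_iff F hP]
        have h2 := restrict_mem F hPR hθ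
        convert h2 using 1
        ext x; exact (hα x).symm
      by_cases hUR : NK S L P.subtype ≤ R
      · apply Subgroup.mem_sup_left
        have hψ : θ.comp (Subgroup.inclusion hUR) ∈ F.Hom (NK S L P.subtype) :=
          restrict_mem F hUR hθ
        have hψv : ∀ x : P, (θ.comp (Subgroup.inclusion hUR)) (Subgroup.inclusion hPU x) =
            ((α x : P) : Ω) := fun x => hα x
        have hψP : ∀ x : P, (θ.comp (Subgroup.inclusion hUR)) (Subgroup.inclusion hPU x) ∈ P := by
          intro x
          rw [hψv]; exact Subtype.property _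
        have hrange := range_eq_of_NK hP L hLn hPU _ hψ hψP
        have hψU : ∀ x : ↥(NK S L P.subtype),
            (θ.comp (Subgroup.inclusion hUR)) x ∈ NK S L P.subtype := fun x =>
          hrange.le ⟨x, rfl⟩
        have hinj := F.injective_of_mem hψ
        have hβ₀inj : Function.Injective
            ((θ.comp (Subgroup.inclusion hUR)).codRestrict (NK S L P.subtype) hψU) := by
          intro a b hab
          exact hinj (congrArg Subtype.val hab)
        refine ⟨MulEquiv.ofBijective _ ⟨hβ₀inj, Finite.surjective_of_injective hβ₀inj⟩, ?_,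
          fun x => ?_⟩
        · rw [mem_autGroup_iff F hUS]
          convert hψ using 1
          ext x
          rfl
        · apply Subtype.ext
          exact hψv x
      · obtain ⟨β₀, hpush⟩ := push_data h hA L hLn hPR hRN hneR
        obtain ⟨D₁, hPD₁, θ₁, α₁, k₁, hD₁N, hrD₁, hiii₁, hθ₁, hα₁, hk₁, hrel₁⟩ :=
          hpush R.subtype (subtype_mem F hRS) 1 (fun x => rfl)
        obtain ⟨D₂, hPD₂, θ₂, α₂, k₂, hD₂N, hrD₂, hiii₂, hθ₂, hα₂, hk₂, hrel₂⟩ :=
          hpush θ hθ α hα
        obtain ⟨u, huU, huN, huR⟩ := exists_mem_normalizer_not_mem_of_not_le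
          (S := normalizerIn S P) hNp hRN hUN hUconj hUR
        have hUR' := not_le_range hP hPR hRN L hLn hθ α hαF hα hUR
        have hR'N : θ.range ≤ normalizerIn S P := by
          rintro _ ⟨r, rfl⟩
          exact map_mem_normalizerIn hPR hRN hθ α hα r
        obtain ⟨u', hu'U, hu'N, hu'R⟩ := exists_mem_normalizer_not_mem_of_not_le
          (S := normalizerIn S P) hNp hR'N hUN hUconj hUR'
        have huD₁ : u ∈ D₁ := hiii₁ u huU (by rwa [Subgroup.range_subtype])
        have hu'D₂ : u' ∈ D₂ := hiii₂ u' hu'U hu'N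
        have hRD₁ : R ≤ D₁ := by
          rw [Subgroup.range_subtype] at hrD₁
          exact hrD₁
        haveI : Finite D₁ := finite_of_le_finite (hD₁N.trans hNS)
        haveI : Finite D₂ := finite_of_le_finite (hD₂N.trans hNS)
        have hc₁ : Nat.card R < Nat.card D₁ := card_lt_of_le_of_mem_not_mem hRD₁ huD₁ huR
        have hc₂ : Nat.card R < Nat.card D₂ := by
          have : Nat.card θ.range < Nat.card D₂ := card_lt_of_le_of_mem_not_mem hrD₂ hu'D₂ hu'R
          rwa [← Nat.card_congr (homEquiv F hθ).toEquiv] at this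
        have hcD₁ : Nat.card D₁ ≤ Nat.card ↥(normalizerIn S P) := Subgroup.card_le_of_le hD₁N
        have hcD₂ : Nat.card D₂ ≤ Nat.card ↥(normalizerIn S P) := Subgroup.card_le_of_le hD₂N
        have hcPR : Nat.card P ≤ Nat.card R := Subgroup.card_le_of_le hPR
        have hne₁ : P ≠ D₁ := by
          rintro rfl
          omega
        have hne₂ : P ≠ D₂ := by
          rintro rfl
          omega
        have h₁ := ih (Nat.card ↥(normalizerIn S P) - Nat.card D₁) (by omega) D₁ hPD₁ hD₁N hne₁
          θ₁ hθ₁ α₁ hα₁ rfl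
        have h₂ := ih (Nat.card ↥(normalizerIn S P) - Nat.card D₂) (by omega) D₂ hPD₂ hD₂N hne₂
          θ₂ hθ₂ α₂ hα₂ rfl
        have hβ₀ : β₀ = α₁ * k₁⁻¹ := by
          rw [mul_one] at hrel₁
          rw [hrel₁]; group
        have hαeq : α = α₂⁻¹ * (α₁ * k₁⁻¹ * k₂) := by
          rw [← hβ₀, ← hrel₂]; group
        rw [hαeq]
        exact mul_mem (inv_mem h₂) (mul_mem (mul_mem h₁ (inv_mem (Subgroup.mem_sup_right hk₁)))
          (Subgroup.mem_sup_right hk₂))
  exact key _ R hPR hRN hneR θ hθ α hα rfl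

end Cfsg.Agent.Helper3.Bcglo
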