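import Mathlib
import Cfsg.Prelude.Def_FusionSystem
import Cfsg.Agent.Lib.Helper3.BcgloAux
import Cfsg.Agent.Lib.Helper3.BcgloX
import Cfsg.Agent.Lib.Helper17.BcgloPG
import Cfsg.Agent.Lib.Helper22.BcgloFR1
import Cfsg.Agent.Lib.Helper22.BcgloFR2
import Cfsg.Agent.Lib.Helper27.BcgloFR3
import Cfsg.Agent.Lib.Helper10.BcgloUP
import Cfsg.Agent.Lib.Helper1.BcgloG2
import Cfsg.Agent.Lib.Helper16.BcgloA2
import Cfsg.Agent.Lib.Helper2.BcgloA1

set_option autoImplicit false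

namespace Cfsg.Agent.Helper3.Bcglo

open Cfsg Cfsg.FusionSystem Cfsg.Agent.Helper25

variable {Ω : Type*} [Group Ω] {S : Subgroup Ω}

theorem goalA_of_ctx [Finite S] {p : ℕ} [Fact p.Prime] {F : FusionSystem S} {P : Subgroup Ω}
    (h : Ctx F p P) (hfn : F.IsFullyNormalized P) : GoalA F P := by
  intro P' hP'
  by_contra hn
  obtain ⟨P₁, R₁, θ₁, hc⟩ := Cfsg.Agent.Helper2.BcgloA1.exists_cross h hP' hn
  have key : ∀ n : ℕ, ∀ (P₁ R₁ : Subgroup Ω) (θ₁ : R₁ →* Ω), IsCross F P P₁ R₁ θ₁ →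
      Nat.card S - Nat.card R₁ = n → False := by
    intro n
    induction n using Nat.strong_induction_on with
    | _ n ih =>
      intro P₁ R₁ θ₁ hc hn
      obtain ⟨P₂, R₂, θ₂, hc₂, hlt⟩ := Cfsg.Agent.Helper16.BcgloA2.cross_push h hfn hc
      have hle : Nat.card R₂ ≤ Nat.card S :=
        Subgroup.card_le_of_le (hc₂.le_norm.trans normalizerIn_le)
      exact ih (Nat.card S - Nat.card R₂) (by omega) P₂ R₂ θ₂ hc₂ rfl
  exact key _ P₁ R₁ θ₁ hc rfl

theorem OpAut_le {F : FusionSystem S} {p : ℕ} {P : Subgroup Ω} : OpAut F p P ≤ F.autGroup P := by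
  rintro _ ⟨x, -, rfl⟩
  exact x.2

theorem OpAut_normal {F : FusionSystem S} {p : ℕ} {P : Subgroup Ω} :
    ∀ γ ∈ F.autGroup P, ∀ k ∈ OpAut F p P, γ * k * γ⁻¹ ∈ OpAut F p P := by
  rintro γ hγ _ ⟨x, hx, rfl⟩
  have hn : (pCore p ↥(F.autGroup P)).Normal := Subgroup.sSup_normal _ (fun K hK => hK.1)
  exact ⟨⟨γ, hγ⟩ * x * ⟨γ, hγ⟩⁻¹, hn.conj_mem x hx ⟨γ, hγ⟩, rfl⟩

theorem OpAut_isPGroup {F : FusionSystem S} {p : ℕ} [Fact p.Prime] {P : Subgroup Ω} :
    IsPGroup p (OpAut F p P) := by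
  have h1 : IsPGroup p (pCore p ↥(F.autGroup P)) :=
    Sylow.sSup_of_normal _ (fun _ h => h.2) (fun _ h => h.1)
  exact h1.map _

theorem NK_eq_of_le {P : Subgroup Ω} {K L : Subgroup (MulAut P)} (hLK : L ≤ K)
    (hKT : K ⊓ autInducedBy S P ≤ L) : NK S K P.subtype = NK S L P.subtype := by
  ext g
  simp only [mem_NK]
  constructor
  · rintro ⟨hg, κ, hκ, hκx⟩
    exact ⟨hg, κ, hKT ⟨hκ, (mem_autInducedBy_iff κ).mpr ⟨g, hg, fun x => (hκx x).symm⟩⟩, hκx⟩
  · rintro ⟨hg, κ, hκ, hκx⟩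
    exact ⟨hg, κ, hLK hκ, hκx⟩

theorem good_of_ctx [Finite S] {p : ℕ} [Fact p.Prime] {F : FusionSystem S} {P₀ : Subgroup Ω}
    (h : Ctx F p P₀) : Good F p P₀ := by
  obtain ⟨P, hc, hfn⟩ := exists_isConj_fullyNormalized F h.hP
  have hP := h.of_isConj hc
  have hA := goalA_of_ctx hP hfn
  obtain ⟨hPU, hne⟩ := Cfsg.Agent.Helper10.BcgloUP.lt_NK_OpAut hP hA
  have hUS : NK S (OpAut F p P) P.subtype ≤ S := NK_le _ _
  have hUN : NK S (OpAut F p P) P.subtype ≤ normalizerIn S P := by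
    intro g hg
    refine ⟨hUS hg, ?_⟩
    have := NK_le_normalizer (OpAut F p P) P.subtype hg
    rwa [Subgroup.range_subtype] at this
  have hwc : ∀ ψ ∈ F.Hom (NK S (OpAut F p P) P.subtype),
      (∀ x : P, ψ (Subgroup.inclusion hPU x) ∈ P) → ψ.range = NK S (OpAut F p P) P.subtype :=
    fun ψ hψ hψP => range_eq_of_NK hP.hP _ OpAut_normal hPU ψ hψ hψP
  haveI : Finite P := finite_of_le_finite hP.hP
  have hext : F.autGroup P ≤ extSub F hPU := by
    apply Cfsg.Agent.Helper17.BcgloPG.le_of_normal_closure_pgroup (p := p) (F.autGroup P) (OpAut F p P) (autInducedBy S P)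
      (extSub F hPU) OpAut_le OpAut_normal OpAut_isPGroup (extSub_le_autGroup hPU hUS)
      (inf_le_extSub hP.hP _ hPU) (extSub_normalizes hP.hP _ OpAut_normal hPU)
    intro L hLK hKTL hLn
    have hU : NK S (OpAut F p P) P.subtype = NK S L P.subtype := NK_eq_of_le hLK hKTL
    apply Cfsg.Agent.Helper1.BcgloG2.autGroup_le_of_restrictions hP hA
    intro R hPR hRN hneR θ hθ α hα
    exact lemmaX hP hA L hLn hU hPU hne R hPR hRN hneR θ hθ α hα
  obtain ⟨hsyl, hrecU⟩ := Cfsg.Agent.Helper22.BcgloFR1.sylow_stabAut hP hA hPU hne hUN hwc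
  exact ⟨P, hc, Cfsg.Agent.Helper22.BcgloFR2.isFullyAutomized_of_ext hP.hS hP.hP hPU hUN hwc hsyl hext,
    Cfsg.Agent.Helper27.BcgloFR3.isReceptive_of_ext hP.hS hP.hP hA hPU hUN hwc hsyl hrecU hext⟩

theorem saturated_of_family [Finite S] (p : ℕ) [Fact p.Prime] (hS : IsPGroup p S)
    (F : FusionSystem S) : ∀ (n : ℕ) (ℋ : Set (Subgroup Ω)), (∀ P ∈ ℋ, P ≤ S) →
    (∀ P ∈ ℋ, ∀ Q, F.IsConj P Q → Q ∈ ℋ) →
    (∀ P ∈ ℋ, ∃ Q, F.IsConj P Q ∧ F.IsFullyAutomized p Q ∧ F.IsReceptive Q) →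
    (∀ E : Cfsg.FusionSystem S, (∀ P ∈ ℋ, F.Hom P ⊆ E.Hom P) → F ≤ E) →
    (∀ P : Subgroup Ω, F.IsCentric P → P ∉ ℋ → ∃ Q, F.IsConj P Q ∧
      ¬ (Cfsg.autInducedBy S Q ⊓ (Cfsg.pCore p ↥(F.autGroup Q)).map (F.autGroup Q).subtype ≤
        Cfsg.Inn Q)) →
    {P : Subgroup Ω | P ≤ S ∧ P ∉ ℋ}.ncard = n → F.IsSaturated p := by
  intro n
  induction n using Nat.strong_induction_on with
  | _ n ih =>
    intro ℋ hℋS hℋconj hsat hgen hstar hn
    have hfin : {P : Subgroup Ω | P ≤ S ∧ P ∉ ℋ}.Finite :=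
      (finite_subgroups_le S).subset fun P hP => hP.1
    by_cases hemp : {P : Subgroup Ω | P ≤ S ∧ P ∉ ℋ} = ∅
    · intro P hP
      have : P ∈ ℋ := by
        by_contra hPn
        have : P ∈ ({P : Subgroup Ω | P ≤ S ∧ P ∉ ℋ} : Set (Subgroup Ω)) := ⟨hP, hPn⟩
        rw [hemp] at this
        exact this
      exact hsat P this
    · obtain ⟨P₀, hP₀, hmax⟩ := Set.exists_max_image _ (fun P : Subgroup Ω => Nat.card P) hfin
        (Set.nonempty_iff_ne_empty.mpr hemp)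
      have hctx : Ctx F p P₀ := by
        refine ⟨hS, hP₀.1, fun R hR hlt => ?_, fun E hE => ?_, fun hcen => hstar P₀ hcen hP₀.2⟩
        · have hRℋ : R ∈ ℋ := by
            by_contra hRn
            have := hmax R ⟨hR, hRn⟩
            omega
          exact hsat R hRℋ
        · apply hgen E
          intro A hA
          apply hE A
          intro hcA
          exact hP₀.2 (hℋconj A hA P₀ (isConj_symm F hcA))
      have hgood := good_of_ctx hctx
      apply ih ({P : Subgroup Ω | P ≤ S ∧ P ∉ (ℋ ∪ {Q | F.IsConj P₀ Q})}.ncard) ?_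
        (ℋ ∪ {Q | F.IsConj P₀ Q}) ?_ ?_ ?_ ?_ ?_ rfl
      · rw [← hn]
        apply Set.ncard_lt_ncard _ hfin
        refine ⟨fun P hP => ⟨hP.1, fun hPℋ => hP.2 (Or.inl hPℋ)⟩, fun hsub => ?_⟩
        have := hsub hP₀
        exact this.2 (Or.inr (isConj_refl F hP₀.1))
      · rintro P (hP | hP)
        · exact hℋS P hP
        · exact isConj_le_right F hP
      · rintro P (hP | hP) Q hPQ
        · exact Or.inl (hℋconj P hP Q hPQ)
        · exact Or.inr (isConj_trans F hP hPQ)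
      · rintro P (hP | hP)
        · exact hsat P hP
        · exact hgood.of_isConj hP
      · intro E hE
        exact hgen E fun P hP => hE P (Or.inl hP)
      · intro P hcen hPn
        exact hstar P hcen fun hPℋ => hPn (Or.inl hPℋ)

end Cfsg.Agent.Helper3.Bcglo
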