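import Mathlib
import Cfsg.Prelude.Def_FusionSystem
import Cfsg.Prelude.Def_FusionComponents
import Cfsg.Agent.S5114
import Cfsg.Agent.S5110
import Cfsg.Agent.Lib.Helper25.FusionSat4
import Cfsg.Agent.Lib.Helper25.FusionPrimeIndex3
import Cfsg.Agent.Lib.Helper26.FusionCentric

set_option autoImplicit false

namespace Cfsg.Agent.Helper3.PPrimeRes

open Cfsg Cfsg.FusionSystem Cfsg.Agent.Helper25 Cfsg.Agent.Helper26

variable {Ω : Type*} [Group Ω] {S : Subgroup Ω}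

/-- Admissible subsystems: contained in `F`, containing `O^{p'}(Aut_F(P))` for centric `P`, and closed
under extension of maps from centric subgroups. -/
structure Adm (F : FusionSystem S) (p : ℕ) (D : FusionSystem S) : Prop where
  le : ∀ P : Subgroup Ω, D.Hom P ⊆ F.Hom P
  op : ∀ P : Subgroup Ω, F.IsCentric P → OpPrime F p P ≤ D.autGroup P
  ext : ∀ (R : Subgroup Ω) (ψ : R →* Ω), ψ ∈ F.Hom R → ∀ (P : Subgroup Ω) (hPR : P ≤ R),
    F.IsCentric P → ψ.comp (Subgroup.inclusion hPR) ∈ D.Hom P → ψ ∈ D.Hom R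

theorem adm_self (F : FusionSystem S) (p : ℕ) : Adm F p F where
  le _ _ h := h
  op P _ := OpPrime_le_autGroup F p P
  ext _ _ hψ _ _ _ _ := hψ

/-- The intersection of all admissible subsystems. -/
def minSys (F : FusionSystem S) (p : ℕ) : FusionSystem S where
  Hom P := {φ | ∀ D : FusionSystem S, Adm F p D → φ ∈ D.Hom P}
  le_of_mem h := F.le_of_mem (h F (adm_self F p))
  injective_of_mem h := F.injective_of_mem (h F (adm_self F p))
  conj_mem hP hg := fun D _ => D.conj_mem hP hg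
  comp_mem hφ hψ h := fun D hD => D.comp_mem (hφ D hD) (hψ D hD) h
  inv_mem := by
    intro P φ hφ
    obtain ⟨ψ, hψ, hinv⟩ := F.inv_mem (hφ F (adm_self F p))
    refine ⟨ψ, fun D hD => ?_, hinv⟩
    obtain ⟨ψ', hψ', hinv'⟩ := D.inv_mem (hφ D hD)
    have : ψ = ψ' := by
      ext ⟨_, x, rfl⟩
      rw [hinv, hinv']
    rw [this]; exact hψ'

theorem mem_minSys {F : FusionSystem S} {p : ℕ} {P : Subgroup Ω} {φ : P →* Ω} :
    φ ∈ (minSys F p).Hom P ↔ ∀ D : FusionSystem S, Adm F p D → φ ∈ D.Hom P := Iff.rfl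

theorem adm_minSys (F : FusionSystem S) (p : ℕ) : Adm F p (minSys F p) where
  le _ _ h := h F (adm_self F p)
  op P hP γ hγ := by
    rw [mem_autGroup_iff _ hP.1]
    intro D hD
    rw [← mem_autGroup_iff _ hP.1]
    exact hD.op P hP hγ
  ext R ψ hψ P hPR hPc h := fun D hD => hD.ext R ψ hψ P hPR hPc (h D hD)

theorem minSys_le_of_adm {F : FusionSystem S} {p : ℕ} {D : FusionSystem S} (hD : Adm F p D) :
    (minSys F p).IsSubsystemOf D := fun _ _ h => h D hD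

/-- Transport of "fully normalized" along the Frattini factorisation `φ = α ∘ φ₀`. -/
theorem fullyNormalized_of_frattini [Finite S] (F : FusionSystem S) {P Q₀ : Subgroup Ω}
    (hQ₀ : F.IsFullyNormalized Q₀) {φ : P →* Ω} (hφ : φ ∈ F.Hom P) (hr : φ.range = Q₀)
    {α : MulAut S} {φ₀ : P →* Ω} (hφ₀ : φ₀ ∈ F.Hom P)
    (hv : ∀ (x : P) (hx : φ₀ x ∈ S), φ x = ((α ⟨φ₀ x, hx⟩ : S) : Ω)) :
    F.IsFullyNormalized φ₀.range := by
  have hφ₀S := (F.le_of_mem hφ₀).2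
  have hP'S : φ₀.range ≤ S := by rintro _ ⟨x, rfl⟩; exact hφ₀S x
  have key : ∀ g (hg : g ∈ normalizerIn S Q₀), ∀ y ∈ φ₀.range,
      ((α⁻¹ ⟨g, hg.1⟩ : S) : Ω) * y * ((α⁻¹ ⟨g, hg.1⟩ : S) : Ω)⁻¹ ∈ φ₀.range := by
    rintro g hg _ ⟨x, rfl⟩
    have h1 : g * φ x * g⁻¹ ∈ Q₀ :=
      (Subgroup.mem_normalizer_iff.mp hg.2 (φ x)).mp (hr ▸ ⟨x, rfl⟩)
    rw [← hr] at h1
    obtain ⟨x', hx'⟩ := h1
    refine ⟨x', ?_⟩
    have : (⟨φ₀ x', hφ₀S x'⟩ : S) = α⁻¹ ⟨g, hg.1⟩ * ⟨φ₀ x, hφ₀S x⟩ * (α⁻¹ ⟨g, hg.1⟩)⁻¹ := by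
      apply α.injective
      rw [map_mul, map_mul, map_inv, MulAut.apply_inv_self]
      apply Subtype.ext
      show ((α ⟨φ₀ x', hφ₀S x'⟩ : S) : Ω) = g * ((α ⟨φ₀ x, hφ₀S x⟩ : S) : Ω) * g⁻¹
      rw [← hv x' _, ← hv x _, hx']
    exact congrArg Subtype.val this
  refine ⟨hP'S, fun Q hQ => ?_⟩
  have hc : F.IsConj Q₀ Q :=
    isConj_trans F (isConj_trans F (isConj_symm F ⟨φ, hφ, hr⟩) ⟨φ₀, hφ₀, rfl⟩) hQ
  refine (hQ₀.2 Q hc).trans ?_
  haveI : Finite (normalizerIn S φ₀.range) := finite_of_le_finite normalizerIn_le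
  let f : normalizerIn S Q₀ → normalizerIn S φ₀.range := fun g =>
    ⟨((α⁻¹ ⟨g.1, g.2.1⟩ : S) : Ω), by
      refine ⟨(α⁻¹ ⟨g.1, g.2.1⟩ : S).2, ?_⟩
      apply mem_normalizer_of_forall (key g.1 g.2)
      intro y hy
      have := key g.1⁻¹ ((normalizerIn S Q₀).inv_mem g.2) y hy
      have e : (α⁻¹ ⟨g.1⁻¹, ((normalizerIn S Q₀).inv_mem g.2).1⟩ : S) = (α⁻¹ ⟨g.1, g.2.1⟩ : S)⁻¹ := by
        rw [← map_inv]; rfl
      rw [e] at this
      simpa using this⟩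
  have hf : Function.Injective f := by
    intro g g' h
    have h1 : ((α⁻¹ ⟨g.1, g.2.1⟩ : S) : Ω) = ((α⁻¹ ⟨g'.1, g'.2.1⟩ : S) : Ω) :=
      congrArg (fun z : normalizerIn S φ₀.range => (z : Ω)) h
    have h2 : (⟨g.1, g.2.1⟩ : S) = ⟨g'.1, g'.2.1⟩ := (α⁻¹).injective (Subtype.ext h1)
    exact Subtype.ext (congrArg (fun z : S => (z : Ω)) h2)
  exact Nat.card_le_card_of_injective f hf

section main

variable [Finite S] (p : ℕ) [Fact p.Prime] (hS : IsPGroup p S) (F : FusionSystem S)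
  (hF : F.IsSaturated p)

include hS hF

theorem minSys_facts : (minSys F p).HasPrimeToPIndexIn F p ∧
    (∀ (P : Subgroup Ω) (φ : P →* Ω), φ ∈ F.Hom P → ∃ α ∈ F.autGroup S,
      ∃ φ₀ ∈ (minSys F p).Hom P, ∀ (x : P) (hx : φ₀ x ∈ S), φ x = ((α ⟨φ₀ x, hx⟩ : S) : Ω)) ∧
    ∀ P : Subgroup Ω, (minSys F p).IsCentric P ↔ F.IsCentric P :=
  Cfsg.Agent.S5114.result p hS F hF (minSys F p) (adm_minSys F p).le (adm_minSys F p).op

theorem minSys_isSaturated : (minSys F p).IsSaturated p := by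
  obtain ⟨hidx, hfrat, hcen⟩ := minSys_facts p hS F hF
  have hA := adm_minSys F p
  have hEF : ∀ {P Q : Subgroup Ω}, (minSys F p).IsConj P Q → F.IsConj P Q := by
    rintro P Q ⟨φ, hφ, hr⟩
    exact ⟨φ, hA.le _ hφ, hr⟩
  refine Cfsg.Agent.S5110.result p hS (minSys F p) {P | F.IsCentric P} (fun P hP => hP.1)
    (fun P hP Q hQ => isCentric_of_isConj F hP (hEF hQ)) ?_ ?_ ?_
  · -- saturation axioms on centric subgroups
    intro P hP
    have hPc : F.IsCentric P := hP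
    obtain ⟨Q₀, hPQ₀, hQ₀⟩ := exists_isConj_fullyNormalized F hPc.1
    obtain ⟨φ, hφ, hr⟩ := hPQ₀
    obtain ⟨α, hα, φ₀, hφ₀, hv⟩ := hfrat P φ hφ
    have hfn := fullyNormalized_of_frattini F hQ₀ hφ hr (hA.le _ hφ₀) hv
    obtain ⟨-, hfa, hrec⟩ := of_fullyNormalized p hS F hF hfn
    have hP'S : φ₀.range ≤ S := hfn.1
    have hP'c : F.IsCentric φ₀.range := isCentric_of_isConj F hPc ⟨φ₀, hA.le _ hφ₀, rfl⟩
    refine ⟨φ₀.range, ⟨φ₀, hφ₀, rfl⟩, ?_, hP'S, ?_⟩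
    · rw [isFullyAutomized_iff _ p hP'S] at hfa ⊢
      refine hfa.of_le (autInducedBy_le_autGroup _ hP'S) ?_
      intro γ hγ
      rw [mem_autGroup_iff _ hP'S] at hγ ⊢
      exact hA.le _ hγ
    · intro R φ' hφ' hr'
      have hφ'F : φ' ∈ F.Hom R := hA.le _ hφ'
      obtain ⟨ψ, hψ, hext⟩ := hrec.2 R φ' hφ'F hr'
      have hRN : R ≤ extender S R φ' := le_extender F hφ'F
      have hRc : F.IsCentric R := isCentric_of_isConj F hP'c (isConj_symm F ⟨φ', hφ'F, hr'⟩)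
      refine ⟨ψ, hA.ext _ ψ hψ R hRN hRc ?_, hext⟩
      have e : ψ.comp (Subgroup.inclusion hRN) = φ' := by
        ext x
        exact hext x.1 x.2 (hRN x.2)
      rw [e]; exact hφ'
  · -- generation by maps between centric subgroups
    intro D' hD' P φ hφ
    let D'' : FusionSystem S := predSub (minSys F p) (fun P φ => φ ∈ D'.Hom P)
      (fun hP hg => D'.conj_mem hP hg)
      (fun _ _ h1 h2 h => D'.comp_mem h1 h2 h)
      (by
        intro P φ _ h1 ψ _ hinv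
        obtain ⟨ψ', hψ', hinv'⟩ := D'.inv_mem h1
        have : ψ = ψ' := by
          ext ⟨_, x, rfl⟩
          rw [hinv, hinv']
        rw [this]; exact hψ')
    have hD'' : Adm F p D'' := by
      refine ⟨fun P φ h => hA.le _ h.1, fun P hPc γ hγ => ?_, fun R ψ hψ P hPR hPc h => ?_⟩
      · rw [mem_autGroup_iff _ hPc.1]
        have h1 : P.subtype.comp γ.toMonoidHom ∈ (minSys F p).Hom P :=
          (mem_autGroup_iff _ hPc.1 γ).mp (hA.op P hPc hγ)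
        exact ⟨h1, hD' P hPc h1⟩
      · have h1 : ψ ∈ (minSys F p).Hom R := hA.ext R ψ hψ P hPR hPc h.1
        have hRc : F.IsCentric R := isCentric_of_le F hPR (F.le_of_mem hψ).1 hPc
        exact ⟨h1, hD' R hRc h1⟩
    exact (hφ D'' hD'').2
  · intro P hPc hPn
    exact absurd ((hcen P).mp hPc) hPn

theorem minSys_isPPrimeResidual : F.IsPPrimeResidual p (minSys F p) := by
  refine ⟨minSys_isSaturated p hS F hF, (minSys_facts p hS F hF).1, fun D hDsat hD => ?_⟩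
  apply minSys_le_of_adm
  refine ⟨hD.1, fun P hPc => hD.2 P hPc.1, fun R ψ hψ P hPR hPc h => ?_⟩
  exact mem_of_restrict_mem_centric p hS F hF D hDsat hD.1 hψ hPR hPc h

end main

end Cfsg.Agent.Helper3.PPrimeRes
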