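import Mathlib
import Cfsg.Agent.Lib.Helper23.ZS4Defs
import Cfsg.Agent.Lib.Lead.Order8
import Cfsg.Agent.Lib.Helper3.ZS4MEMM

/-!
# S3222 piece CENTM (helper3): `cent_M_dihedral`.
-/

set_option autoImplicit false

namespace Cfsg.Agent.Helper23.ZS4

variable {G : Type*} [Group G]

/-- aux: the powers of an involution. -/
theorem centm_zpowers {H : Type*} [Group H] (a b : H) (ha : a * a = 1)
    (hb : b ∈ Subgroup.zpowers a) : b = 1 ∨ b = a := by
  obtain ⟨k, rfl⟩ := Subgroup.mem_zpowers_iff.mp hb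
  have h2 : a ^ (2 : ℤ) = 1 := by rw [zpow_two]; exact ha
  have h3 : a ^ k = a ^ (k % 2) := by
    conv_lhs => rw [← Int.emod_add_mul_ediv k 2]
    rw [zpow_add, zpow_mul, h2, one_zpow, mul_one]
  rcases Int.emod_two_eq_zero_or_one k with h | h
  · left; rw [h3, h, zpow_zero]
  · right; rw [h3, h, zpow_one]

/-- aux: membership in the centralizer of `z` inside `M`. -/
theorem centm_mem (M : Subgroup G) (z : G) (hzM : z ∈ M) (m : ↥M) :
    m ∈ Subgroup.centralizer ({(⟨z, hzM⟩ : ↥M)} : Set ↥M) ↔ z * (m : G) = (m : G) * z := by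
  rw [Subgroup.mem_centralizer_iff]
  constructor
  · intro h
    have := h ⟨z, hzM⟩ (Set.mem_singleton _)
    exact congrArg Subtype.val this
  · intro h x hx
    rw [Set.mem_singleton_iff] at hx
    subst hx
    exact Subtype.ext h

/-- aux: elements of `T` commute with `z`. -/
theorem centm_comm {t z v τ : G} {T : Subgroup G} (L : Loc t z v τ T) (a : G) (ha : a ∈ T) :
    z * a = a * z := by
  rw [← L.cent_z] at ha
  exact (Subgroup.mem_centralizer_iff.mp ha) z (Set.mem_singleton z)

/-- aux: `|T ∩ M| = 8`. -/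
theorem centm_card [Finite G] {t z v τ : G} {T : Subgroup G} (L : Loc t z v τ T)
    (M : Subgroup G) [M.Normal] (hM2 : M.index = 2) (htM : t ∉ M) :
    Nat.card ↥(T ⊓ M) = 8 := by
  have h1 : M.relIndex T ∣ 2 := by
    rw [← hM2]; exact Subgroup.relIndex_dvd_index_of_normal M T
  have h2 : M.relIndex T ≠ 1 := by
    intro h
    rw [Subgroup.relIndex_eq_one] at h
    exact htM (h L.tT)
  have h3 : M.relIndex T = 2 := by
    have := (Nat.dvd_prime Nat.prime_two).mp h1
    tauto
  have h4 : (⊥ : Subgroup G).relIndex (T ⊓ M) * (T ⊓ M).relIndex T = (⊥ : Subgroup G).relIndex T :=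
    Subgroup.relIndex_mul_relIndex _ _ _ bot_le inf_le_left
  rw [Subgroup.relIndex_bot_left, Subgroup.relIndex_bot_left, inf_comm,
    Subgroup.inf_relIndex_right, h3, L.card_T] at h4
  rw [inf_comm]
  omega

/-- PIECE CENTM. -/
theorem cent_M_dihedral [Finite G] {t z v τ : G} {T : Subgroup G} (L : Loc t z v τ T)
    (M : Subgroup G) [M.Normal] (hM2 : M.index = 2) (htM : t ∉ M) (hzM : z ∈ M) :
    Nonempty (↥(Subgroup.centralizer ({(⟨z, hzM⟩ : ↥M)} : Set ↥M)) ≃* DihedralGroup 4) := by
  classical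
  set X : Subgroup ↥M := Subgroup.centralizer ({(⟨z, hzM⟩ : ↥M)} : Set ↥M) with hX
  have hmap : X.map M.subtype = T ⊓ M := by
    ext g
    rw [Subgroup.mem_map, Subgroup.mem_inf]
    constructor
    · rintro ⟨m, hm, rfl⟩
      refine ⟨?_, m.2⟩
      rw [← L.cent_z, Subgroup.mem_centralizer_iff]
      intro x hx
      rw [Set.mem_singleton_iff] at hx
      subst hx
      exact (centm_mem M x hzM m).mp hm
    · rintro ⟨hgT, hgM⟩
      exact ⟨⟨g, hgM⟩, (centm_mem M z hzM ⟨g, hgM⟩).mpr (centm_comm L g hgT), rfl⟩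
  have hcard : Nat.card X = 8 := by
    rw [← Subgroup.card_map_of_injective (K := X) M.subtype_injective, hmap]
    exact centm_card L M hM2 htM
  obtain ⟨_, hvM, _, τ', hτ', hτ'M⟩ := mem_M L M hM2 htM
  have htC : ∀ a ∈ T, a * t = t * a := by
    intro a ha
    have := L.T_le ha
    exact ((Subgroup.mem_centralizer_iff.mp this) t (Set.mem_singleton t)).symm
  have hτ'T : τ' ∈ T := by
    rcases hτ' with rfl | rfl
    · exact L.τT
    · exact T.mul_mem L.tT L.τT
  have hconj : τ' * v * τ'⁻¹ = z * v := by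
    rcases hτ' with rfl | rfl
    · exact L.τv
    · have h1 := L.τv
      have h2 : z * v ∈ T := T.mul_mem L.zT L.vT
      have h3 := htC (z * v) h2
      calc t * τ * v * (t * τ)⁻¹ = t * (τ * v * τ⁻¹) * t⁻¹ := by group
        _ = t * (z * v) * t⁻¹ := by rw [h1]
        _ = (z * v) * t * t⁻¹ := by rw [h3]
        _ = z * v := by group
  have hz1 : z ≠ 1 := by
    intro h
    have := L.hz
    rw [h, orderOf_one] at this
    norm_num at this
  have hzz : z * z = 1 := by
    have := pow_orderOf_eq_one z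
    rw [L.hz, pow_two] at this
    exact this
  have hvv : v * v = 1 := by
    obtain ⟨c, _, hc⟩ := L.v_conj
    rw [hc]
    calc c * z * c⁻¹ * (c * z * c⁻¹) = c * (z * z) * c⁻¹ := by group
      _ = 1 := by rw [hzz]; group
  have hv1 : v ≠ 1 := by
    intro h
    obtain ⟨c, _, hc⟩ := L.v_conj
    rw [h] at hc
    apply hz1
    have : z = c⁻¹ * 1 * c := by rw [hc]; group
    rw [this]; group
  -- the elements of X
  let xz : X := ⟨⟨z, hzM⟩, (centm_mem M z hzM ⟨z, hzM⟩).mpr rfl⟩
  let xv : X := ⟨⟨v, hvM⟩, (centm_mem M z hzM ⟨v, hvM⟩).mpr (centm_comm L v L.vT)⟩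
  let xτ : X := ⟨⟨τ', hτ'M⟩, (centm_mem M z hzM ⟨τ', hτ'M⟩).mpr (centm_comm L τ' hτ'T)⟩
  have hna : ∃ x y : X, x * y ≠ y * x := by
    refine ⟨xτ, xv, ?_⟩
    intro h
    have h' : τ' * v = v * τ' := by
      have := congrArg (fun x : X => ((x : ↥M) : G)) h
      exact this
    apply hz1
    have h5 : τ' * v * τ'⁻¹ = v := by rw [h']; group
    rw [h5] at hconj
    have : 1 * v = z * v := by rw [one_mul]; exact hconj
    exact (mul_right_cancel this).symm
  rcases Cfsg.Agent.Lead.order8_nonabelian hcard hna with h | ⟨z', hz'1, hz'⟩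
  · exact h
  · exfalso
    have hxz1 : xz ≠ 1 := by
      intro h
      apply hz1
      have := congrArg (fun x : X => ((x : ↥M) : G)) h
      exact this
    have hxv1 : xv ≠ 1 := by
      intro h
      apply hv1
      have := congrArg (fun x : X => ((x : ↥M) : G)) h
      exact this
    have hxzz : xz * xz = 1 := by
      apply Subtype.ext; apply Subtype.ext
      exact hzz
    have hxvv : xv * xv = 1 := by
      apply Subtype.ext; apply Subtype.ext
      exact hvv
    have h1 := centm_zpowers xz z' hxzz (hz' xz hxz1)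
    have h2 := centm_zpowers xv z' hxvv (hz' xv hxv1)
    rcases h1 with h1 | h1
    · exact hz'1 h1
    · rcases h2 with h2 | h2
      · exact hz'1 h2
      · apply L.v_ne
        have h3 : xv = xz := by rw [← h1, ← h2]
        have := congrArg (fun x : X => ((x : ↥M) : G)) h3
        exact this

end Cfsg.Agent.Helper23.ZS4
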