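import Mathlib

/-!
# S3627 (helper3): the spectrum of `J₁` as a finite set of numbers
-/

set_option autoImplicit false

namespace Cfsg.Agent.Helper3.J1Spec

/-- The spectrum of `J₁`. -/
def specJ1 : Finset ℕ := {1, 2, 3, 5, 6, 7, 10, 11, 15, 19}

end Cfsg.Agent.Helper3.J1Spec
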