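import Mathlib
import Cfsg.Agent.Lib.Lead.NC2Defs

/-!
# S3894 (n = 2) piece N2-DG (helper3): the split torus element `dg a = diag(a, a⁻¹)`, `a² ≠ 1`.

Contains the definition `dg` of the skeleton (section N2-SPLIT) and `dg_facts`.  Self-contained: local copies
`nc2_dg_pr_*` of the three N2-CEN facts that are needed.
-/

set_option autoImplicit false
set_option linter.unusedSectionVars false

namespace Cfsg.Agent.Lead.NC2

open Matrix

variable {F : Type*} [Field F]

/-! ### local copies of N2-CEN facts -/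

theorem nc2_dg_pr_eq_one_iff (g : GL (Fin 2) F) :
    pr g = 1 ↔ IsScalar (g : Matrix (Fin 2) (Fin 2) F) := by
  unfold pr
  rw [QuotientGroup.mk'_apply, QuotientGroup.eq_one_iff,
    Matrix.GeneralLinearGroup.mem_center_iff_val_mem_range_scalar]
  constructor
  · rintro ⟨c, hc⟩
    refine ⟨c, ?_⟩
    rw [← hc, Matrix.scalar_apply, Matrix.smul_one_eq_diagonal]
  · rintro ⟨c, hc⟩
    refine ⟨c, ?_⟩
    rw [hc, Matrix.scalar_apply, Matrix.smul_one_eq_diagonal]

theorem nc2_dg_pr_mem_T_iff (x g : GL (Fin 2) F) : pr g ∈ T x ↔ g * x = x * g := by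
  unfold T
  constructor
  · rintro ⟨h, hh, hpr⟩
    have hh' : x * h = h * x := (Subgroup.mem_centralizer_singleton_iff.1 hh).symm
    have hz : h⁻¹ * g ∈ Subgroup.center (GL (Fin 2) F) := by
      have : pr h = pr g := hpr
      unfold pr at this
      rw [QuotientGroup.mk'_apply, QuotientGroup.mk'_apply, QuotientGroup.eq] at this
      exact this
    have hzx : x * (h⁻¹ * g) = (h⁻¹ * g) * x := (Subgroup.mem_center_iff.1 hz) x
    calc g * x = h * ((h⁻¹ * g) * x) := by group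
      _ = h * (x * (h⁻¹ * g)) := by rw [hzx]
      _ = (h * x) * (h⁻¹ * g) := by group
      _ = (x * h) * (h⁻¹ * g) := by rw [hh']
      _ = x * g := by group
  · intro h
    apply Subgroup.mem_map_of_mem
    exact Subgroup.mem_centralizer_singleton_iff.2 h

theorem nc2_dg_pr_mem_slImage_of_det {g : GL (Fin 2) F}
    (h : (g : Matrix (Fin 2) (Fin 2) F).det = 1) : pr g ∈ (slImage : Subgroup (PGL2 F)) := by
  unfold slImage
  apply Subgroup.mem_map_of_mem
  refine ⟨⟨(g : Matrix (Fin 2) (Fin 2) F), h⟩, ?_⟩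
  apply Units.ext
  rfl

/-! ### N2-SPLIT: the definition of `dg` (verbatim from the skeleton) -/

/-- the diagonal matrix `diag(a, a⁻¹)`. -/
noncomputable def dg (a : F) (ha : a ≠ 0) : GL (Fin 2) F where
  val := !![a, 0; 0, a⁻¹]
  inv := !![a⁻¹, 0; 0, a]
  val_inv := by
    ext i j; fin_cases i <;> fin_cases j <;> simp [Matrix.mul_apply, Fin.sum_univ_two, ha]
  inv_val := by
    ext i j; fin_cases i <;> fin_cases j <;> simp [Matrix.mul_apply, Fin.sum_univ_two, ha]

theorem nc2_dg_val (a : F) (ha : a ≠ 0) :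
    ((dg a ha : GL (Fin 2) F) : Matrix (Fin 2) (Fin 2) F) = !![a, 0; 0, a⁻¹] := rfl

theorem nc2_dg_ne_inv (a : F) (ha : a ≠ 0) (ha2 : a ^ 2 ≠ 1) : a ≠ a⁻¹ := by
  intro h
  apply ha2
  calc a ^ 2 = a * a := sq a
    _ = a * a⁻¹ := by rw [← h]
    _ = 1 := mul_inv_cancel₀ ha

/-- a matrix commuting with `diag(a, a⁻¹)`, `a ≠ a⁻¹`, is diagonal -/
theorem nc2_dg_offdiag (a : F) (ha : a ≠ 0) (ha2 : a ^ 2 ≠ 1) (m : Matrix (Fin 2) (Fin 2) F)
    (h : !![a, 0; 0, a⁻¹] * m = m * !![a, 0; 0, a⁻¹]) : m 0 1 = 0 ∧ m 1 0 = 0 := by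
  have hne := nc2_dg_ne_inv a ha ha2
  have h01 := congrFun (congrFun h 0) 1
  have h10 := congrFun (congrFun h 1) 0
  simp only [Matrix.mul_apply, Fin.sum_univ_two, Matrix.of_apply, Matrix.cons_val', Matrix.cons_val_zero,
    Matrix.cons_val_one, Matrix.cons_val_fin_one, zero_mul, mul_zero, add_zero, zero_add] at h01 h10
  constructor
  · have : (a - a⁻¹) * m 0 1 = 0 := by rw [sub_mul, h01, mul_comm (m 0 1), sub_self]
    rcases mul_eq_zero.1 this with h' | h'
    · exact absurd (sub_eq_zero.1 h') hne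
    · exact h'
  · have : (a - a⁻¹) * m 1 0 = 0 := by rw [sub_mul, h10, mul_comm (m 1 0), sub_self]
    rcases mul_eq_zero.1 this with h' | h'
    · exact absurd (sub_eq_zero.1 h') hne
    · exact h'

section fin

variable [Fintype F]

theorem dg_facts (a : F) (ha : a ≠ 0) (ha2 : a ^ 2 ≠ 1) :
    pr (dg a ha) ∈ (slImage : Subgroup (PGL2 F)) ∧
    (∀ (N : Matrix (Fin 2) (Fin 2) F) (hN : N * N = 0), N ≠ 0 → pr (dg a ha) ∉ T (uni N hN)) ∧
    (∀ x : GL (Fin 2) F, NoEig x → pr (dg a ha) ∉ T x) ∧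
    (a ^ 4 ≠ 1 → Good (dg a ha)) ∧
    (a ^ 2 = -1 → (pr (dg a ha) : PGL2 F) ^ 2 = 1 ∧ (pr (dg a ha) : PGL2 F) ≠ 1) := by
  have hne := nc2_dg_ne_inv a ha ha2
  have hsq : (!![a, 0; 0, a⁻¹] : Matrix (Fin 2) (Fin 2) F) * !![a, 0; 0, a⁻¹]
      = !![a * a, 0; 0, a⁻¹ * a⁻¹] := by
    ext i j; fin_cases i <;> fin_cases j <;> simp [Matrix.mul_apply, Fin.sum_univ_two]
  refine ⟨?_, ?_, ?_, ?_, ?_⟩
  · apply nc2_dg_pr_mem_slImage_of_det
    rw [nc2_dg_val, Matrix.det_fin_two_of, mul_inv_cancel₀ ha, mul_zero, sub_zero]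
  · intro N hN hN0 hmem
    rw [nc2_dg_pr_mem_T_iff] at hmem
    have hval := congrArg (fun u : GL (Fin 2) F => (u : Matrix (Fin 2) (Fin 2) F)) hmem
    simp only [Units.val_mul, uni_val, nc2_dg_val] at hval
    have hcomm : !![a, 0; 0, a⁻¹] * N = N * !![a, 0; 0, a⁻¹] := by
      rw [mul_add, add_mul, mul_one, one_mul] at hval
      exact add_left_cancel hval
    obtain ⟨h01, h10⟩ := nc2_dg_offdiag a ha ha2 N hcomm
    have h00 := congrFun (congrFun hN 0) 0
    have h11 := congrFun (congrFun hN 1) 1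
    simp only [Matrix.mul_apply, Fin.sum_univ_two, h01, h10, mul_zero, zero_mul, add_zero, zero_add,
      Matrix.zero_apply] at h00 h11
    have e00 : N 0 0 = 0 := mul_self_eq_zero.1 h00
    have e11 : N 1 1 = 0 := mul_self_eq_zero.1 h11
    apply hN0
    ext i j
    fin_cases i <;> fin_cases j
    · exact e00
    · exact h01
    · exact h10
    · exact e11
  · intro x hx hmem
    rw [nc2_dg_pr_mem_T_iff] at hmem
    have hval := congrArg (fun u : GL (Fin 2) F => (u : Matrix (Fin 2) (Fin 2) F)) hmem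
    simp only [Units.val_mul, nc2_dg_val] at hval
    obtain ⟨h01, h10⟩ := nc2_dg_offdiag a ha ha2 (x : Matrix (Fin 2) (Fin 2) F) hval
    apply hx ![1, 0] ((x : Matrix (Fin 2) (Fin 2) F) 0 0)
    · intro h0
      have := congrFun h0 0
      simp at this
    · ext i
      fin_cases i
      · simp [Matrix.mulVec, dotProduct, Fin.sum_univ_two]
      · simp [Matrix.mulVec, dotProduct, Fin.sum_univ_two, h10]
  · intro ha4
    left
    rw [nc2_dg_val, hsq]
    rintro ⟨c, hc⟩
    have h00 := congrFun (congrFun hc 0) 0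
    have h11 := congrFun (congrFun hc 1) 1
    simp at h00 h11
    apply ha4
    have e : a * a = a⁻¹ * a⁻¹ := by rw [h00, h11]
    calc a ^ 4 = (a * a) * (a * a) := by ring
      _ = (a * a) * (a⁻¹ * a⁻¹) := by rw [← e]
      _ = (a * a⁻¹) * (a * a⁻¹) := by ring
      _ = 1 := by rw [mul_inv_cancel₀ ha, one_mul]
  · intro hm1
    constructor
    · rw [← map_pow, nc2_dg_pr_eq_one_iff, sq, Units.val_mul, nc2_dg_val, hsq]
      refine ⟨-1, ?_⟩
      have e1 : a * a = -1 := by rw [← sq]; exact hm1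
      have e2 : a⁻¹ * a⁻¹ = -1 := by
        rw [← mul_inv, e1]
        norm_num
      rw [e1, e2]
      ext i j; fin_cases i <;> fin_cases j <;> simp
    · intro h1
      rw [nc2_dg_pr_eq_one_iff, nc2_dg_val] at h1
      obtain ⟨c, hc⟩ := h1
      have h00 := congrFun (congrFun hc 0) 0
      have h11 := congrFun (congrFun hc 1) 1
      simp at h00 h11
      apply hne
      rw [h11]
      exact h00

end fin

end Cfsg.Agent.Lead.NC2
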