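import Mathlib
import Cfsg.Agent.Lib.Helper22.ClassTwo

/-!
# Coprime automorphisms of `p`-groups act nontrivially on a subgroup of small exponent

A nontrivial automorphism `γ` of a finite `p`-group `U` whose order is prime to `p` acts
nontrivially on some `γ`-invariant subgroup `D` with `D = [D, γ]` and exponent dividing `p`
(`p` odd) or `4` (`p = 2`).
-/

set_option autoImplicit false
set_option linter.style.haveILetI false
set_option linter.unusedSectionVars false

namespace Cfsg.Agent.Helper3.SmallExp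

open scoped commutatorElement

variable {U : Type*} [Group U]

theorem aut_pow_apply_mul (γ : MulAut U) {x c : U} (hx : γ x = x * c) (hc : γ c = c) (k : ℕ) :
    (γ ^ k) x = x * c ^ k := by
  induction k with
  | zero => simp
  | succ k ih =>
    rw [pow_succ', MulAut.mul_apply, ih, map_mul, map_pow, hx, hc, pow_succ']
    simp [mul_assoc]

/-- If `γ x = x c` with `c` fixed by `γ`, `γ` of order prime to `p` and `U` a `p`-group, then
`c = 1`. -/
theorem eq_one_of_map_eq_mul {p : ℕ} [Fact p.Prime] (hU : IsPGroup p U) (γ : MulAut U) {m : ℕ}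
    (hγm : γ ^ m = 1) (hm : m.Coprime p) {x c : U} (hx : γ x = x * c) (hc : γ c = c) : c = 1 := by
  have h1 := aut_pow_apply_mul γ hx hc m
  rw [hγm, MulAut.one_apply] at h1
  have h2 : c ^ m = 1 := by
    have : x * 1 = x * c ^ m := by rw [mul_one]; exact h1
    exact (mul_left_cancel this).symm
  obtain ⟨j, hj⟩ := hU c
  have h3 : orderOf c ∣ m := orderOf_dvd_of_pow_eq_one h2
  have h4 : orderOf c ∣ p ^ j := orderOf_dvd_of_pow_eq_one hj
  have h5 : orderOf c ∣ Nat.gcd m (p ^ j) := Nat.dvd_gcd h3 h4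
  have h6 : Nat.gcd m (p ^ j) = 1 := Nat.Coprime.pow_right j hm
  rw [h6, Nat.dvd_one] at h5
  exact orderOf_eq_one_iff.mp h5

/-- Mirror version: `γ x = c x`. -/
theorem eq_one_of_map_eq_mul' {p : ℕ} [Fact p.Prime] (hU : IsPGroup p U) (γ : MulAut U) {m : ℕ}
    (hγm : γ ^ m = 1) (hm : m.Coprime p) {x c : U} (hx : γ x = c * x) (hc : γ c = c) : c = 1 := by
  have h1 : γ x⁻¹ = x⁻¹ * c⁻¹ := by rw [map_inv, hx, mul_inv_rev]
  have h2 : γ c⁻¹ = c⁻¹ := by rw [map_inv, hc]
  have := eq_one_of_map_eq_mul hU γ hγm hm h1 h2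
  exact inv_eq_one.mp this

/-- The commutator subgroup `[U, γ]`. -/
def commSub (γ : MulAut U) : Subgroup U := Subgroup.closure {y : U | ∃ x : U, y = x⁻¹ * γ x}

theorem commSub_invariant (γ : MulAut U) : ∀ y ∈ commSub γ, γ y ∈ commSub γ := by
  intro y hy
  induction hy using Subgroup.closure_induction with
  | mem y hy =>
    obtain ⟨x, rfl⟩ := hy
    apply Subgroup.subset_closure
    exact ⟨γ x, by rw [map_mul, map_inv]⟩
  | one => rw [map_one]; exact Subgroup.one_mem _
  | mul a b _ _ ha hb => rw [map_mul]; exact Subgroup.mul_mem _ ha hb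
  | inv a _ ha => rw [map_inv]; exact Subgroup.inv_mem _ ha

/-- The minimal situation. -/
theorem exponent_of_minimal [Finite U] (p : ℕ) [Fact p.Prime] (hU : IsPGroup p U) (γ : MulAut U)
    {m : ℕ} (hγm : γ ^ m = 1) (hm : m.Coprime p) (hγ : γ ≠ 1)
    (hmin : ∀ E : Subgroup U, E ≠ ⊤ → (∀ x ∈ E, γ x ∈ E) → ∀ x ∈ E, γ x = x) :
    commSub γ = ⊤ ∧ ∀ x : U, x ^ (if p = 2 then 4 else p) = 1 := by
  have hpp : p.Prime := Fact.out
  -- Step b
  have hC : commSub γ = ⊤ := by
    by_contra hne
    apply hγ
    have hfix := hmin _ hne (commSub_invariant γ)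
    ext x
    rw [MulAut.one_apply]
    have hc : x⁻¹ * γ x ∈ commSub γ := Subgroup.subset_closure ⟨x, rfl⟩
    have h1 : γ x = x * (x⁻¹ * γ x) := by group
    have := eq_one_of_map_eq_mul hU γ hγm hm h1 (hfix _ hc)
    rw [h1, this, mul_one]
  -- Step c
  have hcentral : ∀ T : Subgroup U, T ≠ ⊤ → T.Normal → (∀ x ∈ T, γ x ∈ T) →
      T ≤ Subgroup.center U := by
    intro T hT hTn hTinv z hz
    have hfix := hmin T hT hTinv
    rw [Subgroup.mem_center_iff]
    have key : ∀ g ∈ commSub γ, ∀ z ∈ T, g * z = z * g := by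
      intro g hg
      induction hg using Subgroup.closure_induction with
      | mem y hy =>
        obtain ⟨x, rfl⟩ := hy
        intro z hz
        have h1 : x * z * x⁻¹ ∈ T := hTn.conj_mem z hz x
        have h2 := hfix _ h1
        rw [map_mul, map_mul, map_inv, hfix z hz] at h2
        -- γ x * z * (γ x)⁻¹ = x * z * x⁻¹
        have h3 : x⁻¹ * γ x * z = x⁻¹ * (γ x * z * (γ x)⁻¹) * γ x := by group
        rw [h3, h2]; group
      | one => intro z _; simp
      | mul a b _ _ ha hb =>
        intro z hz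
        rw [mul_assoc, hb z hz, ← mul_assoc, ha z hz, mul_assoc]
      | inv a _ ha =>
        intro z hz
        have := ha z hz
        calc a⁻¹ * z = a⁻¹ * (z * a) * a⁻¹ := by group
        _ = a⁻¹ * (a * z) * a⁻¹ := by rw [this]
        _ = z * a⁻¹ := by group
    intro g
    exact key g (hC ▸ Subgroup.mem_top g) z hz
  -- nontriviality
  haveI : Nontrivial U := by
    by_contra hnt
    rw [not_nontrivial_iff_subsingleton] at hnt
    apply hγ
    ext x
    exact Subsingleton.elim _ _
  -- Frattini subgroup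
  have hΦtop : frattini U ≠ ⊤ := by
    obtain ⟨M, hM⟩ : ∃ M : Subgroup U, IsCoatom M := by
      obtain h | ⟨M, hM, -⟩ := eq_top_or_exists_le_coatom (⊥ : Subgroup U)
      · exact absurd h bot_ne_top
      · exact ⟨M, hM⟩
    intro h
    have h1 : frattini U ≤ M := frattini_le_coatom hM
    rw [h] at h1
    exact hM.1 (top_le_iff.mp h1)
  haveI hΦc : (frattini U).Characteristic := frattini_characteristic
  have hΦinv : ∀ x ∈ frattini U, γ x ∈ frattini U := by
    intro x hx
    have := Subgroup.characteristic_iff_map_eq.mp hΦc γ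
    rw [← this]
    exact Subgroup.mem_map_of_mem _ hx
  have hΦn : (frattini U).Normal := inferInstance
  have hΦcen : frattini U ≤ Subgroup.center U := hcentral _ hΦtop hΦn hΦinv
  have hΦfix := hmin _ hΦtop hΦinv
  -- commutator subgroup
  haveI : Group.IsNilpotent U := hU.isNilpotent
  have hcomtop : commutator U ≠ ⊤ := (Group.IsSolvable.commutator_lt_top_of_nontrivial U).ne
  haveI hcc : (commutator U).Characteristic := by
    unfold commutator; infer_instance
  have hcominv : ∀ x ∈ commutator U, γ x ∈ commutator U := by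
    intro x hx
    have := Subgroup.characteristic_iff_map_eq.mp hcc γ
    rw [← this]
    exact Subgroup.mem_map_of_mem _ hx
  have hcomcen : commutator U ≤ Subgroup.center U :=
    hcentral _ hcomtop inferInstance hcominv
  have hcc' : ∀ a b : U, ⁅a, b⁆ ∈ Subgroup.center U := fun a b =>
    hcomcen (Subgroup.commutator_mem_commutator (Subgroup.mem_top a) (Subgroup.mem_top b))
  -- p-th powers are central and fixed
  have hpow : ∀ x : U, x ^ p ∈ frattini U := fun x => Cfsg.Agent.Helper22.pow_prime_mem_frattini hU x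
  set q := (if p = 2 then 4 else p) with hq
  have hqpow : ∀ x : U, x ^ q ∈ frattini U := by
    intro x
    by_cases h2 : p = 2
    · have : q = p * 2 := by rw [hq, if_pos h2, h2]
      rw [this, pow_mul]
      exact Subgroup.pow_mem _ (hpow x) 2
    · rw [hq, if_neg h2]; exact hpow x
  -- the commutator power vanishes
  have hcq : ∀ x y : U, ⁅y, x⁆ ^ (q.choose 2) = 1 := by
    intro x y
    have hcp : ⁅y, x⁆ ^ p = 1 := by
      rw [← Cfsg.Agent.Helper22.commutator_pow_left_of_central x y (hcc' y x) p]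
      have hz : y ^ p ∈ Subgroup.center U := hΦcen (hpow y)
      rw [commutatorElement_def]
      have := Subgroup.mem_center_iff.mp hz x
      rw [← this]; group
    by_cases h2 : p = 2
    · have : q.choose 2 = p * 3 := by rw [hq, if_pos h2, h2]; decide
      rw [this, pow_mul, hcp, one_pow]
    · have hq' : q = p := by rw [hq, if_neg h2]
      have hdvd : p ∣ p.choose 2 := by
        apply hpp.dvd_choose_self (by norm_num)
        have := hpp.two_le
        omega
      obtain ⟨k, hk⟩ := hdvd
      rw [hq', hk, pow_mul, hcp, one_pow]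
  have hmulpow : ∀ x y : U, (x * y) ^ q = x ^ q * y ^ q := by
    intro x y
    have hc' : ∀ g : U, g * ⁅y, x⁆ = ⁅y, x⁆ * g :=
      fun g => Subgroup.mem_center_iff.1 (hcc' y x) g
    have h := Cfsg.Agent.Helper22.mul_pow_eq_of_central x y ⁅y, x⁆ hc'
      (Cfsg.Agent.Helper22.mul_eq_commutator_mul x y) q
    rw [h, hcq, one_mul]
  refine ⟨hC, ?_⟩
  have key : ∀ g ∈ commSub γ, g ^ q = 1 := by
    intro g hg
    induction hg using Subgroup.closure_induction with
    | mem y hy =>
      obtain ⟨x, rfl⟩ := hy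
      rw [hmulpow, inv_pow]
      have : (γ x) ^ q = x ^ q := by
        rw [← map_pow]; exact hΦfix _ (hqpow x)
      rw [this, inv_mul_cancel]
    | one => exact one_pow _
    | mul a b _ _ ha hb => rw [hmulpow, ha, hb, one_mul]
    | inv a _ ha => rw [inv_pow, ha, inv_one]
  intro x
  exact key x (hC ▸ Subgroup.mem_top x)

/-- Restriction of an automorphism to an invariant subgroup of a finite group. -/
noncomputable def restrictAut [Finite U] (γ : MulAut U) (D : Subgroup U)
    (hD : ∀ x ∈ D, γ x ∈ D) : MulAut D :=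
  MulEquiv.ofBijective ((γ.toMonoidHom.comp D.subtype).codRestrict D (fun x => hD x x.2))
    (by
      apply Finite.injective_iff_bijective.mp
      intro a b hab
      have h1 : γ (a : U) = γ (b : U) := congrArg Subtype.val hab
      exact Subtype.ext (γ.injective h1))

theorem restrictAut_apply [Finite U] (γ : MulAut U) (D : Subgroup U)
    (hD : ∀ x ∈ D, γ x ∈ D) (x : D) : ((restrictAut γ D hD x : D) : U) = γ (x : U) := rfl

theorem restrictAut_pow_apply [Finite U] (γ : MulAut U) (D : Subgroup U)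
    (hD : ∀ x ∈ D, γ x ∈ D) (k : ℕ) (x : D) :
    (((restrictAut γ D hD) ^ k) x : U) = (γ ^ k) (x : U) := by
  induction k generalizing x with
  | zero => simp
  | succ k ih =>
    rw [pow_succ, MulAut.mul_apply, pow_succ, MulAut.mul_apply, ih, restrictAut_apply]

/-- **Main lemma.** A nontrivial automorphism of order prime to `p` of a finite `p`-group acts
nontrivially on an invariant subgroup `D ≤ [U, γ]` of exponent dividing `p` (or `4` if `p = 2`). -/
theorem exists_small_exp_sub [Finite U] (p : ℕ) [Fact p.Prime] (hU : IsPGroup p U) (γ : MulAut U)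
    {m : ℕ} (hγm : γ ^ m = 1) (hm : m.Coprime p) (hγ : γ ≠ 1) :
    ∃ D : Subgroup U, (∀ x ∈ D, γ x ∈ D) ∧ (∃ x ∈ D, γ x ≠ x) ∧ D ≤ commSub γ ∧
      ∀ x ∈ D, x ^ (if p = 2 then 4 else p) = 1 := by
  let 𝒟 : Set (Subgroup U) := {D | (∀ x ∈ D, γ x ∈ D) ∧ ∃ x ∈ D, γ x ≠ x}
  have hne : 𝒟.Nonempty := by
    refine ⟨⊤, fun x _ => Subgroup.mem_top _, ?_⟩
    by_contra hno
    push Not at hno
    apply hγ
    ext x
    exact hno x (Subgroup.mem_top x)
  obtain ⟨D, hD, hDmin⟩ := Set.exists_min_image 𝒟 (fun D => Nat.card D) (Set.toFinite _) hne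
  obtain ⟨hDinv, x₀, hx₀D, hx₀⟩ := hD
  set δ := restrictAut γ D hDinv with hδ
  have hδm : δ ^ m = 1 := by
    ext x
    rw [restrictAut_pow_apply, hγm]
    rfl
  have hδ1 : δ ≠ 1 := by
    intro h
    apply hx₀
    have := congrArg (fun f : MulAut D => ((f ⟨x₀, hx₀D⟩ : D) : U)) h
    simpa [hδ, restrictAut_apply] using this
  have hmin : ∀ E : Subgroup D, E ≠ ⊤ → (∀ x ∈ E, δ x ∈ E) → ∀ x ∈ E, δ x = x := by
    intro E hE hEinv
    by_contra hno
    push Not at hno
    obtain ⟨y, hyE, hy⟩ := hno
    have hmem : E.map D.subtype ∈ 𝒟 := by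
      refine ⟨?_, (y : U), ⟨y, hyE, rfl⟩, ?_⟩
      · rintro _ ⟨z, hz, rfl⟩
        exact ⟨δ z, hEinv z hz, rfl⟩
      · intro h
        apply hy
        exact Subtype.ext h
    have h1 := hDmin _ hmem
    have h2 : Nat.card (E.map D.subtype) = Nat.card E :=
      Nat.card_congr (E.equivMapOfInjective D.subtype D.subtype_injective).symm.toEquiv
    have h3 : Nat.card E < Nat.card D := by
      refine lt_of_le_of_ne (Subgroup.card_le_card_group E) (fun h => hE ?_)
      exact Subgroup.eq_top_of_card_eq E h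
    omega
  obtain ⟨hC, hexp⟩ := exponent_of_minimal p (hU.to_subgroup D) δ hδm hm hδ1 hmin
  refine ⟨D, hDinv, ⟨x₀, hx₀D, hx₀⟩, ?_, ?_⟩
  · intro d hd
    have h1 : (⟨d, hd⟩ : D) ∈ commSub δ := hC ▸ Subgroup.mem_top _
    have key : ∀ y ∈ commSub δ, (y : U) ∈ commSub γ := by
      intro y hy
      induction hy using Subgroup.closure_induction with
      | mem y hy =>
        obtain ⟨x, rfl⟩ := hy
        apply Subgroup.subset_closure
        exact ⟨(x : U), rfl⟩
      | one => exact Subgroup.one_mem _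
      | mul a b _ _ ha hb => exact Subgroup.mul_mem _ ha hb
      | inv a _ ha => exact Subgroup.inv_mem _ ha
    exact key _ h1
  · intro x hx
    have := hexp ⟨x, hx⟩
    exact congrArg Subtype.val this

end Cfsg.Agent.Helper3.SmallExp
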