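import Mathlib
import Cfsg.Prelude.Def_FusionSystem
import Cfsg.Agent.Lib.Helper25.FusionCentSys

/-!
# Small abelian subgroups control fusion: definitions (helper3)

Definitions for the proof of S5296 / S5273: `Small p A` (abelian, exponent dividing `p`, or `4` when
`p = 2`), `Agree p E F` (all maps of `F` out of small abelian subgroups of the hyperfocal subgroup lie in
`E`), `CentralIn F A` (`C_F(A) = F`), `morCount F` (the number of maps of `F`).
-/

set_option autoImplicit false

namespace Cfsg.Agent.Helper3.SmAb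

open Cfsg Cfsg.FusionSystem Cfsg.Agent.Helper25

variable {Ω : Type*} [Group Ω]

/-- abelian of small exponent -/
def Small (p : ℕ) (A : Subgroup Ω) : Prop :=
  IsMulCommutative A ∧ ∀ a ∈ A, a ^ (if p = 2 then 4 else p) = 1

/-- the hypothesis: maps of `F` out of small abelian subgroups of the hyperfocal subgroup lie in `E` -/
def Agree (p : ℕ) {S : Subgroup Ω} (E F : FusionSystem S) : Prop :=
  ∀ A : Subgroup Ω, A ≤ F.hyperfocalSubgroup p → Small p A → F.Hom A ⊆ E.Hom A

/-- `A` is central in `F` (in the form `C_F(A) = F`) -/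
def CentralIn {S : Subgroup Ω} (F : FusionSystem S) (A : Subgroup Ω) : Prop :=
  ∀ P : Subgroup Ω, F.Hom P ⊆ F.centralizerHom A P

/-- number of maps of the system -/
noncomputable def morCount {S : Subgroup Ω} (F : FusionSystem S) : ℕ :=
  Nat.card {x : Σ P : Subgroup Ω, (P →* Ω) // x.2 ∈ F.Hom x.1}

theorem small_comm {p : ℕ} {A : Subgroup Ω} (hA : Small p A) {a b : Ω} (ha : a ∈ A) (hb : b ∈ A) :
    a * b = b * a := by
  have := hA.1.is_comm.comm (⟨a, ha⟩ : A) ⟨b, hb⟩
  exact congrArg Subtype.val this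

theorem small_of_comm {p : ℕ} {A : Subgroup Ω} (hc : ∀ a ∈ A, ∀ b ∈ A, a * b = b * a)
    (he : ∀ a ∈ A, a ^ (if p = 2 then 4 else p) = 1) : Small p A :=
  ⟨⟨⟨fun a b => Subtype.ext (hc _ a.2 _ b.2)⟩⟩, he⟩

theorem small_of_le {p : ℕ} {A B : Subgroup Ω} (h : A ≤ B) (hB : Small p B) : Small p A :=
  small_of_comm (fun a ha b hb => small_comm hB (h ha) (h hb)) (fun a ha => hB.2 a (h ha))

theorem small_sup {p : ℕ} {A B : Subgroup Ω} (hA : Small p A) (hB : Small p B)
    (hc : ∀ a ∈ A, ∀ b ∈ B, a * b = b * a) : Small p (A ⊔ B) := by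
  -- everything in `A ⊔ B` commutes with `A` and with `B`
  have h1 : A ⊔ B ≤ Subgroup.centralizer ((A : Set Ω) ∪ (B : Set Ω)) := by
    refine sup_le ?_ ?_
    · intro a ha
      rw [Subgroup.mem_centralizer_iff]
      rintro x (hx | hx)
      · exact small_comm hA hx ha
      · exact (hc a ha x hx).symm
    · intro b hb
      rw [Subgroup.mem_centralizer_iff]
      rintro x (hx | hx)
      · exact hc x hx b hb
      · exact small_comm hB hx hb
  have h2 : A ⊔ B = Subgroup.closure ((A : Set Ω) ∪ (B : Set Ω)) := by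
    rw [Subgroup.closure_union, Subgroup.closure_eq, Subgroup.closure_eq]
  have hcomm : ∀ x ∈ A ⊔ B, ∀ y ∈ A ⊔ B, x * y = y * x := by
    intro x hx y hy
    have hy' : y ∈ Subgroup.centralizer ((A ⊔ B : Subgroup Ω) : Set Ω) := by
      rw [h2, Subgroup.centralizer_closure]
      rw [← Subgroup.centralizer_closure, ← h2]
      have : (A ⊔ B : Subgroup Ω) ≤ Subgroup.centralizer ((A ⊔ B : Subgroup Ω) : Set Ω) := by
        rw [h2, Subgroup.centralizer_closure, ← h2]
        exact h1
      exact this hy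
    exact ((Subgroup.mem_centralizer_iff.mp hy') x hx)
  refine small_of_comm hcomm ?_
  intro x hx
  rw [h2] at hx
  induction hx using Subgroup.closure_induction with
  | mem x hx =>
    rcases hx with hx | hx
    · exact hA.2 x hx
    · exact hB.2 x hx
  | one => simp
  | mul a b ha hb iha ihb =>
    rw [← h2] at ha hb
    rw [(Commute.mul_pow (hcomm a ha b hb)), iha, ihb, one_mul]
  | inv a _ iha => rw [inv_pow, iha, inv_one]

theorem small_range {p : ℕ} {A : Subgroup Ω} (hA : Small p A) (φ : A →* Ω) : Small p φ.range := by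
  refine small_of_comm ?_ ?_
  · rintro _ ⟨a, rfl⟩ _ ⟨b, rfl⟩
    rw [← map_mul, ← map_mul]
    congr 1
    exact Subtype.ext (small_comm hA a.2 b.2)
  · rintro _ ⟨a, rfl⟩
    rw [← map_pow]
    have : a ^ (if p = 2 then 4 else p) = 1 :=
      Subtype.ext (by rw [Subgroup.coe_pow, Subgroup.coe_one]; exact hA.2 _ a.2)
    rw [this, map_one]

theorem small_map {p : ℕ} {A K : Subgroup Ω} (hA : Small p A) (φ : K →* Ω) :
    Small p ((A.subgroupOf K).map φ) := by
  refine small_of_comm ?_ ?_
  · rintro _ ⟨a, ha, rfl⟩ _ ⟨b, hb, rfl⟩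
    rw [← map_mul, ← map_mul]
    congr 1
    exact Subtype.ext (small_comm hA (Subgroup.mem_subgroupOf.mp ha) (Subgroup.mem_subgroupOf.mp hb))
  · rintro _ ⟨a, ha, rfl⟩
    rw [← map_pow]
    have : a ^ (if p = 2 then 4 else p) = 1 :=
      Subtype.ext (by rw [Subgroup.coe_pow, Subgroup.coe_one]
                      exact hA.2 _ (Subgroup.mem_subgroupOf.mp ha))
    rw [this, map_one]

end Cfsg.Agent.Helper3.SmAb
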