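import Mathlib
import Cfsg.Agent.Lib.Helper3.CoprimeSmallExp

/-!
# Family version of the small exponent lemma

Let `𝒢` be a group of automorphisms of a finite `p`-group `U` and `𝒥 ⊆ 𝒢` a set of automorphisms of
order prime to `p`, closed under conjugation by `𝒢`.  If some element of `𝒥` is nontrivial then
there is a `𝒢`-invariant subgroup `D ≤ [U, 𝒥]` of exponent dividing `p` (`4` if `p = 2`) on which
some element of `𝒥` acts nontrivially.
-/

set_option autoImplicit false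
set_option linter.style.haveILetI false
set_option linter.unusedSectionVars false

namespace Cfsg.Agent.Helper3.SmallExp

open scoped commutatorElement

variable {U : Type*} [Group U]

/-- The commutator subgroup `[U, 𝒥]` for a set of automorphisms. -/
def commSubSet (𝒥 : Set (MulAut U)) : Subgroup U :=
  Subgroup.closure {y : U | ∃ b ∈ 𝒥, ∃ x : U, y = x⁻¹ * b x}

theorem commSubSet_invariant (𝒢 𝒥 : Set (MulAut U))
    (hconj : ∀ g ∈ 𝒢, ∀ b ∈ 𝒥, g * b * g⁻¹ ∈ 𝒥) :
    ∀ g ∈ 𝒢, ∀ y ∈ commSubSet 𝒥, g y ∈ commSubSet 𝒥 := by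
  intro g hg y hy
  induction hy using Subgroup.closure_induction with
  | mem y hy =>
    obtain ⟨b, hb, x, rfl⟩ := hy
    apply Subgroup.subset_closure
    refine ⟨g * b * g⁻¹, hconj g hg b hb, g x, ?_⟩
    rw [map_mul, map_inv]
    simp [MulAut.mul_apply]
  | one => rw [map_one]; exact Subgroup.one_mem _
  | mul a b _ _ ha hb => rw [map_mul]; exact Subgroup.mul_mem _ ha hb
  | inv a _ ha => rw [map_inv]; exact Subgroup.inv_mem _ ha

/-- The minimal situation, family version. -/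
theorem exponent_of_minimal_family [Finite U] (p : ℕ) [Fact p.Prime] (hU : IsPGroup p U)
    (𝒢 𝒥 : Set (MulAut U))
    (hcop : ∀ b ∈ 𝒥, ∃ m : ℕ, m.Coprime p ∧ b ^ m = 1)
    (hconj : ∀ g ∈ 𝒢, ∀ b ∈ 𝒥, g * b * g⁻¹ ∈ 𝒥)
    (hne : ∃ b ∈ 𝒥, b ≠ 1)
    (hmin : ∀ E : Subgroup U, E ≠ ⊤ → (∀ g ∈ 𝒢, ∀ x ∈ E, g x ∈ E) →
      ∀ b ∈ 𝒥, ∀ x ∈ E, b x = x) :
    commSubSet 𝒥 = ⊤ ∧ ∀ x : U, x ^ (if p = 2 then 4 else p) = 1 := by
  have hpp : p.Prime := Fact.out
  -- Step b
  have hC : commSubSet 𝒥 = ⊤ := by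
    by_contra hne'
    obtain ⟨b, hb, hb1⟩ := hne
    apply hb1
    have hfix := hmin _ hne' (commSubSet_invariant 𝒢 𝒥 hconj) b hb
    obtain ⟨m, hm, hbm⟩ := hcop b hb
    ext x
    rw [MulAut.one_apply]
    have hc : x⁻¹ * b x ∈ commSubSet 𝒥 := Subgroup.subset_closure ⟨b, hb, x, rfl⟩
    have h1 : b x = x * (x⁻¹ * b x) := by group
    have := eq_one_of_map_eq_mul hU b hbm hm h1 (hfix _ hc)
    rw [h1, this, mul_one]
  -- Step c
  have hcentral : ∀ T : Subgroup U, T ≠ ⊤ → T.Normal → (∀ g ∈ 𝒢, ∀ x ∈ T, g x ∈ T) →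
      T ≤ Subgroup.center U := by
    intro T hT hTn hTinv z hz
    have hfix := hmin T hT hTinv
    rw [Subgroup.mem_center_iff]
    have key : ∀ g ∈ commSubSet 𝒥, ∀ z ∈ T, g * z = z * g := by
      intro g hg
      induction hg using Subgroup.closure_induction with
      | mem y hy =>
        obtain ⟨b, hb, x, rfl⟩ := hy
        intro z hz
        have h1 : x * z * x⁻¹ ∈ T := hTn.conj_mem z hz x
        have h2 := hfix b hb _ h1
        rw [map_mul, map_mul, map_inv, hfix b hb z hz] at h2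
        have h3 : x⁻¹ * b x * z = x⁻¹ * (b x * z * (b x)⁻¹) * b x := by group
        rw [h3, h2]; group
      | one => intro z _; simp
      | mul a b _ _ ha hb =>
        intro z hz
        rw [mul_assoc, hb z hz, ← mul_assoc, ha z hz, mul_assoc]
      | inv a _ ha =>
        intro z hz
        have := ha z hz
        calc a⁻¹ * z = a⁻¹ * (z * a) * a⁻¹ := by group
        _ = a⁻¹ * (a * z) * a⁻¹ := by rw [this]
        _ = z * a⁻¹ := by group
    intro g
    exact key g (hC ▸ Subgroup.mem_top g) z hz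
  -- nontriviality
  haveI : Nontrivial U := by
    by_contra hnt
    rw [not_nontrivial_iff_subsingleton] at hnt
    obtain ⟨b, -, hb1⟩ := hne
    apply hb1
    ext x
    exact Subsingleton.elim _ _
  -- characteristic subgroups are invariant
  have hchar : ∀ T : Subgroup U, T.Characteristic → ∀ g : MulAut U, ∀ x ∈ T, g x ∈ T := by
    intro T hT g x hx
    have := Subgroup.characteristic_iff_map_eq.mp hT g
    rw [← this]
    exact Subgroup.mem_map_of_mem _ hx
  -- Frattini subgroup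
  have hΦtop : frattini U ≠ ⊤ := by
    obtain ⟨M, hM⟩ : ∃ M : Subgroup U, IsCoatom M := by
      obtain h | ⟨M, hM, -⟩ := eq_top_or_exists_le_coatom (⊥ : Subgroup U)
      · exact absurd h bot_ne_top
      · exact ⟨M, hM⟩
    intro h
    have h1 : frattini U ≤ M := frattini_le_coatom hM
    rw [h] at h1
    exact hM.1 (top_le_iff.mp h1)
  haveI hΦc : (frattini U).Characteristic := frattini_characteristic
  have hΦinv : ∀ g ∈ 𝒢, ∀ x ∈ frattini U, g x ∈ frattini U := fun g _ => hchar _ hΦc g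
  have hΦn : (frattini U).Normal := inferInstance
  have hΦcen : frattini U ≤ Subgroup.center U := hcentral _ hΦtop hΦn hΦinv
  have hΦfix := hmin _ hΦtop hΦinv
  -- commutator subgroup
  haveI : Group.IsNilpotent U := hU.isNilpotent
  have hcomtop : commutator U ≠ ⊤ := (Group.IsSolvable.commutator_lt_top_of_nontrivial U).ne
  haveI hcc : (commutator U).Characteristic := by
    unfold commutator; infer_instance
  have hcomcen : commutator U ≤ Subgroup.center U :=
    hcentral _ hcomtop inferInstance (fun g _ => hchar _ hcc g)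
  have hcc' : ∀ a b : U, ⁅a, b⁆ ∈ Subgroup.center U := fun a b =>
    hcomcen (Subgroup.commutator_mem_commutator (Subgroup.mem_top a) (Subgroup.mem_top b))
  have hpow : ∀ x : U, x ^ p ∈ frattini U :=
    fun x => Cfsg.Agent.Helper22.pow_prime_mem_frattini hU x
  set q := (if p = 2 then 4 else p) with hq
  have hqpow : ∀ x : U, x ^ q ∈ frattini U := by
    intro x
    by_cases h2 : p = 2
    · have : q = p * 2 := by rw [hq, if_pos h2, h2]
      rw [this, pow_mul]
      exact Subgroup.pow_mem _ (hpow x) 2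
    · rw [hq, if_neg h2]; exact hpow x
  have hcq : ∀ x y : U, ⁅y, x⁆ ^ (q.choose 2) = 1 := by
    intro x y
    have hcp : ⁅y, x⁆ ^ p = 1 := by
      rw [← Cfsg.Agent.Helper22.commutator_pow_left_of_central x y (hcc' y x) p]
      have hz : y ^ p ∈ Subgroup.center U := hΦcen (hpow y)
      rw [commutatorElement_def]
      have := Subgroup.mem_center_iff.mp hz x
      rw [← this]; group
    by_cases h2 : p = 2
    · have : q.choose 2 = p * 3 := by rw [hq, if_pos h2, h2]; decide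
      rw [this, pow_mul, hcp, one_pow]
    · have hq' : q = p := by rw [hq, if_neg h2]
      have hdvd : p ∣ p.choose 2 := by
        apply hpp.dvd_choose_self (by norm_num)
        have := hpp.two_le
        omega
      obtain ⟨k, hk⟩ := hdvd
      rw [hq', hk, pow_mul, hcp, one_pow]
  have hmulpow : ∀ x y : U, (x * y) ^ q = x ^ q * y ^ q := by
    intro x y
    have hc' : ∀ g : U, g * ⁅y, x⁆ = ⁅y, x⁆ * g :=
      fun g => Subgroup.mem_center_iff.1 (hcc' y x) g
    have h := Cfsg.Agent.Helper22.mul_pow_eq_of_central x y ⁅y, x⁆ hc'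
      (Cfsg.Agent.Helper22.mul_eq_commutator_mul x y) q
    rw [h, hcq, one_mul]
  refine ⟨hC, ?_⟩
  have key : ∀ g ∈ commSubSet 𝒥, g ^ q = 1 := by
    intro g hg
    induction hg using Subgroup.closure_induction with
    | mem y hy =>
      obtain ⟨b, hb, x, rfl⟩ := hy
      rw [hmulpow, inv_pow]
      have : (b x) ^ q = x ^ q := by
        rw [← map_pow]; exact hΦfix b hb _ (hqpow x)
      rw [this, inv_mul_cancel]
    | one => exact one_pow _
    | mul a b _ _ ha hb => rw [hmulpow, ha, hb, one_mul]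
    | inv a _ ha => rw [inv_pow, ha, inv_one]
  intro x
  exact key x (hC ▸ Subgroup.mem_top x)

theorem restrictAut_inv_apply [Finite U] (γ : MulAut U) (D : Subgroup U)
    (hD : ∀ x ∈ D, γ x ∈ D) (x : D) :
    (((restrictAut γ D hD)⁻¹ x : D) : U) = γ⁻¹ (x : U) := by
  have h1 : γ (((restrictAut γ D hD)⁻¹ x : D) : U) = (x : U) := by
    rw [← restrictAut_apply γ D hD]
    simp
  rw [← h1]
  simp

/-- **Family version of the main lemma.** -/
theorem exists_small_exp_sub_family [Finite U] (p : ℕ) [Fact p.Prime] (hU : IsPGroup p U)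
    (𝒢 : Subgroup (MulAut U)) (𝒥 : Set (MulAut U)) (h𝒥𝒢 : 𝒥 ⊆ 𝒢)
    (hcop : ∀ b ∈ 𝒥, ∃ m : ℕ, m.Coprime p ∧ b ^ m = 1)
    (hconj : ∀ g ∈ 𝒢, ∀ b ∈ 𝒥, g * b * g⁻¹ ∈ 𝒥)
    (hne : ∃ b ∈ 𝒥, b ≠ 1) :
    ∃ D : Subgroup U, (∀ g ∈ 𝒢, ∀ x ∈ D, g x ∈ D) ∧ (∃ b ∈ 𝒥, ∃ x ∈ D, b x ≠ x) ∧
      D ≤ commSubSet 𝒥 ∧ ∀ x ∈ D, x ^ (if p = 2 then 4 else p) = 1 := by
  let 𝒟 : Set (Subgroup U) := {D | (∀ g ∈ 𝒢, ∀ x ∈ D, g x ∈ D) ∧ ∃ b ∈ 𝒥, ∃ x ∈ D, b x ≠ x}
  have hne' : 𝒟.Nonempty := by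
    obtain ⟨b, hb, hb1⟩ := hne
    refine ⟨⊤, fun g _ x _ => Subgroup.mem_top _, b, hb, ?_⟩
    by_contra hno
    push Not at hno
    apply hb1
    ext x
    exact hno x (Subgroup.mem_top x)
  obtain ⟨D, hD, hDmin⟩ := Set.exists_min_image 𝒟 (fun D => Nat.card D) (Set.toFinite _) hne'
  obtain ⟨hDinv, b₀, hb₀, x₀, hx₀D, hx₀⟩ := hD
  -- the restricted families
  let 𝒢' : Set (MulAut D) := {δ | ∃ (g : MulAut U) (hg : g ∈ 𝒢), δ = restrictAut g D (hDinv g hg)}
  let 𝒥' : Set (MulAut D) :=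
    {δ | ∃ (b : MulAut U) (hb : b ∈ 𝒥), δ = restrictAut b D (hDinv b (h𝒥𝒢 hb))}
  have hcop' : ∀ δ ∈ 𝒥', ∃ m : ℕ, m.Coprime p ∧ δ ^ m = 1 := by
    rintro δ ⟨b, hb, rfl⟩
    obtain ⟨m, hm, hbm⟩ := hcop b hb
    refine ⟨m, hm, ?_⟩
    ext x
    rw [restrictAut_pow_apply, hbm]
    rfl
  have hconj' : ∀ g ∈ 𝒢', ∀ δ ∈ 𝒥', g * δ * g⁻¹ ∈ 𝒥' := by
    rintro _ ⟨g, hg, rfl⟩ _ ⟨b, hb, rfl⟩
    refine ⟨g * b * g⁻¹, hconj g hg b hb, ?_⟩
    ext x
    rw [MulAut.mul_apply, MulAut.mul_apply, restrictAut_apply, restrictAut_apply,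
      restrictAut_inv_apply, restrictAut_apply]
    rfl
  have hne'' : ∃ δ ∈ 𝒥', δ ≠ 1 := by
    refine ⟨_, ⟨b₀, hb₀, rfl⟩, ?_⟩
    intro h
    apply hx₀
    have := congrArg (fun f : MulAut D => ((f ⟨x₀, hx₀D⟩ : D) : U)) h
    simpa [restrictAut_apply] using this
  have hmin : ∀ E : Subgroup D, E ≠ ⊤ → (∀ g ∈ 𝒢', ∀ x ∈ E, g x ∈ E) →
      ∀ δ ∈ 𝒥', ∀ x ∈ E, δ x = x := by
    intro E hE hEinv
    by_contra hno
    push Not at hno
    obtain ⟨δ, ⟨b, hb, rfl⟩, y, hyE, hy⟩ := hno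
    have hmem : E.map D.subtype ∈ 𝒟 := by
      refine ⟨?_, b, hb, (y : U), ⟨y, hyE, rfl⟩, ?_⟩
      · rintro g hg _ ⟨z, hz, rfl⟩
        exact ⟨restrictAut g D (hDinv g hg) z, hEinv _ ⟨g, hg, rfl⟩ z hz, rfl⟩
      · intro h
        apply hy
        exact Subtype.ext h
    have h1 := hDmin _ hmem
    have h2 : Nat.card (E.map D.subtype) = Nat.card E :=
      Nat.card_congr (E.equivMapOfInjective D.subtype D.subtype_injective).symm.toEquiv
    have h3 : Nat.card E < Nat.card D := by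
      refine lt_of_le_of_ne (Subgroup.card_le_card_group E) (fun h => hE ?_)
      exact Subgroup.eq_top_of_card_eq E h
    omega
  obtain ⟨hC, hexp⟩ := exponent_of_minimal_family p (hU.to_subgroup D) 𝒢' 𝒥' hcop' hconj' hne'' hmin
  refine ⟨D, hDinv, ⟨b₀, hb₀, x₀, hx₀D, hx₀⟩, ?_, ?_⟩
  · intro d hd
    have h1 : (⟨d, hd⟩ : D) ∈ commSubSet 𝒥' := hC ▸ Subgroup.mem_top _
    have key : ∀ y ∈ commSubSet 𝒥', (y : U) ∈ commSubSet 𝒥 := by
      intro y hy
      induction hy using Subgroup.closure_induction with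
      | mem y hy =>
        obtain ⟨δ, ⟨b, hb, rfl⟩, x, rfl⟩ := hy
        apply Subgroup.subset_closure
        exact ⟨b, hb, (x : U), rfl⟩
      | one => exact Subgroup.one_mem _
      | mul a b _ _ ha hb => exact Subgroup.mul_mem _ ha hb
      | inv a _ ha => exact Subgroup.inv_mem _ ha
    exact key _ h1
  · intro x hx
    have := hexp ⟨x, hx⟩
    exact congrArg Subtype.val this

end Cfsg.Agent.Helper3.SmallExp
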