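import Mathlib
import Cfsg.Agent.Lib.Helper3.KLBasic
import Cfsg.Agent.Lib.Helper3.CoprimeSmallExp

/-!
# Cyclic subgroups of order `p` or `4` of the hyperfocal subgroup

Tools for nilpotency criteria for fusion systems in terms of the maps between cyclic subgroups
of order `p` or `4` of the hyperfocal subgroup.
-/

set_option autoImplicit false
set_option linter.style.haveILetI false
set_option linter.unusedSectionVars false

namespace Cfsg.Agent.Helper3.HypCyclic

open Cfsg Cfsg.FusionSystem Cfsg.Agent.Helper25 Cfsg.Agent.Helper3.SmallExp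
open scoped commutatorElement

variable {Ω : Type*} [Group Ω] {S : Subgroup Ω}

/-- **Chain argument.** If an automorphism `γ` of `P ≤ S` of order prime to `p` maps every element
of an invariant subgroup `D` to an `S`-conjugate, then it fixes `D` elementwise. -/
theorem fixes_of_conj [Finite S] {p : ℕ} [Fact p.Prime] (hS : IsPGroup p S) {P : Subgroup Ω}
    (hP : P ≤ S) (γ : MulAut P) {m : ℕ} (hγm : γ ^ m = 1) (hm : m.Coprime p) (D : Subgroup P)
    (hDinv : ∀ x ∈ D, γ x ∈ D)
    (hconj : ∀ x ∈ D, ∃ s ∈ S, ((γ x : P) : Ω) = s * (x : Ω) * s⁻¹) : ∀ x ∈ D, γ x = x := by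
  haveI : Group.IsNilpotent S := hS.isNilpotent
  have hPp : IsPGroup p P := hS.to_le hP
  obtain ⟨n, hn⟩ := (Group.isNilpotent_iff (G := S)).mp inferInstance
  have key : ∀ i : ℕ, ∀ x ∈ D, (⟨(x : Ω), hP x.2⟩ : S) ∈ Subgroup.upperCentralSeries S i → γ x = x := by
    intro i
    induction i with
    | zero =>
      intro x _ hx
      rw [Subgroup.upperCentralSeries_zero, Subgroup.mem_bot] at hx
      have hx1 : x = 1 := Subtype.ext (congrArg (fun z : S => (z : Ω)) hx)
      rw [hx1, map_one]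
    | succ i ih =>
      intro x hxD hx
      obtain ⟨s, hs, hsx⟩ := hconj x hxD
      have hcD : γ x * x⁻¹ ∈ D := D.mul_mem (hDinv x hxD) (D.inv_mem hxD)
      have hcZ : (⟨((γ x * x⁻¹ : P) : Ω), hP (γ x * x⁻¹).2⟩ : S) ∈ Subgroup.upperCentralSeries S i := by
        have h1 := (Subgroup.mem_upperCentralSeries_succ_iff.mp hx) ⟨s, hs⟩
        have h2 := (Subgroup.upperCentralSeries S i).inv_mem h1
        have e : (⟨((γ x * x⁻¹ : P) : Ω), hP (γ x * x⁻¹).2⟩ : S) =
            ⁅(⟨(x : Ω), hP x.2⟩ : S), ⟨s, hs⟩⁆⁻¹ := by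
          apply Subtype.ext
          rw [commutatorElement_def]
          simp only [Subgroup.coe_mul, InvMemClass.coe_inv, hsx]
          group
        rw [e]; exact h2
      have hfix := ih _ hcD hcZ
      have h3 : γ x = (γ x * x⁻¹) * x := by group
      have := eq_one_of_map_eq_mul' hPp γ hγm hm h3 hfix
      rw [h3, this, one_mul]
  intro x hx
  apply key n x hx
  rw [hn]; exact Subgroup.mem_top _

/-- Elements of `[P, γ]` lie in the hyperfocal subgroup when `γ ∈ Aut_F(P)` has order prime to `p`. -/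
theorem commSub_le_hyperfocal (F : FusionSystem S) {p : ℕ} [Fact p.Prime] {P : Subgroup Ω}
    (hP : P ≤ S) (γ : MulAut P) (hγ : γ ∈ F.autGroup P) {m : ℕ} (hγm : γ ^ m = 1)
    (hm : m.Coprime p) : ∀ y ∈ commSub γ, (y : Ω) ∈ F.hyperfocalSubgroup p := by
  have hres : (⟨γ, hγ⟩ : F.autGroup P) ∈ pResidual p (F.autGroup P) := by
    apply Subgroup.subset_closure
    show Nat.Coprime (orderOf (⟨γ, hγ⟩ : F.autGroup P)) p
    have h1 : orderOf (⟨γ, hγ⟩ : F.autGroup P) = orderOf γ := by
      rw [← Subgroup.orderOf_coe]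
    rw [h1]
    exact Nat.Coprime.coprime_dvd_left (orderOf_dvd_of_pow_eq_one hγm) hm
  intro y hy
  induction hy using Subgroup.closure_induction with
  | mem y hy =>
    obtain ⟨x, rfl⟩ := hy
    apply Subgroup.subset_closure
    refine ⟨P, ⟨γ, hγ⟩, x, hP, hres, ?_⟩
    simp
  | one => exact Subgroup.one_mem _
  | mul a b _ _ ha hb => rw [Subgroup.coe_mul]; exact Subgroup.mul_mem _ ha hb
  | inv a _ ha => rw [Subgroup.coe_inv]; exact Subgroup.inv_mem _ ha

/-- The restriction of an `F`-automorphism to a cyclic subgroup, as an element of a `homSet`. -/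
theorem restrict_zpowers_mem (F : FusionSystem S) {P : Subgroup Ω} (γ : MulAut P)
    (hγ : P.subtype.comp γ.toMonoidHom ∈ F.Hom P) (x : P) :
    ∃ φ ∈ F.homSet (Subgroup.zpowers (x : Ω)) (Subgroup.zpowers ((γ x : P) : Ω)),
      φ ⟨(x : Ω), Subgroup.mem_zpowers _⟩ = ((γ x : P) : Ω) := by
  have hAP : Subgroup.zpowers (x : Ω) ≤ P := by
    rw [Subgroup.zpowers_le]; exact x.2
  refine ⟨(P.subtype.comp γ.toMonoidHom).comp (Subgroup.inclusion hAP),
    ⟨restrict_mem F hAP hγ, ?_⟩, rfl⟩
  rintro ⟨y, hy⟩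
  obtain ⟨k, rfl⟩ := Subgroup.mem_zpowers_iff.mp hy
  have e : (Subgroup.inclusion hAP ⟨(x : Ω) ^ k, hy⟩ : P) = x ^ k := Subtype.ext (by simp)
  show ((γ (Subgroup.inclusion hAP ⟨(x : Ω) ^ k, hy⟩) : P) : Ω) ∈ _
  rw [e, map_zpow]
  simp only [Subgroup.coe_zpow]
  exact Subgroup.zpow_mem _ (Subgroup.mem_zpowers _) k

/-- The cardinality condition for elements of small exponent. -/
theorem card_zpowers_of_pow {p : ℕ} [Fact p.Prime] {x : Ω} (hx1 : x ≠ 1)
    (hx : x ^ (if p = 2 then 4 else p) = 1) :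
    Nat.card (Subgroup.zpowers x) = p ∨ Nat.card (Subgroup.zpowers x) = 4 := by
  have hpp : p.Prime := Fact.out
  rw [Nat.card_zpowers]
  have h1 : orderOf x ≠ 1 := fun h => hx1 (orderOf_eq_one_iff.mp h)
  have hd := orderOf_dvd_of_pow_eq_one hx
  by_cases h2 : p = 2
  · rw [if_pos h2] at hd
    have hle : orderOf x ≤ 4 := Nat.le_of_dvd (by norm_num) hd
    have hpos : 0 < orderOf x := Nat.pos_of_dvd_of_pos hd (by norm_num)
    rw [h2]
    interval_cases h : orderOf x
    · exact absurd rfl h1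
    · exact Or.inl rfl
    · norm_num at hd
    · exact Or.inr rfl
  · rw [if_neg h2] at hd
    rcases (Nat.dvd_prime hpp).mp hd with h | h
    · exact absurd h h1
    · exact Or.inl h

end Cfsg.Agent.Helper3.HypCyclic
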