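import Mathlib
import Cfsg.Agent.Lib.Helper3.BisetChar
import Cfsg.Agent.Lib.Helper3.Cocycle

/-!
# Yoshida's transfer theorem for saturated fusion systems (on the top subgroup)
-/

set_option autoImplicit false
set_option linter.style.haveILetI false
set_option linter.unusedSectionVars false

namespace Cfsg.Agent.Helper3.Biset

open Cfsg Cfsg.FusionSystem Cfsg.Agent.Helper25 Cfsg.Agent.Helper3.Cocycle
  Cfsg.Agent.Helper3.Wreath

universe u

section General

variable {A : Type*} {B : Type*} [Group A] [Group B] {Y : Type*} [MulAction (A × B) Y]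

/-- The cocycle of a biset composed with a homomorphism into a commutative group. -/
theorem isCocycle_dd (hfree : RFree A B Y) {C : Type*} [CommGroup C] (χ : B →* C) :
    IsCocycle (fun (a : A) (z : RQ A B Y) => χ (dd a z)) := by
  intro a a' z
  show χ (dd (a * a') z) = χ (dd a' z) * χ (dd a (a' • z))
  rw [dd_mul hfree, map_mul]

/-- The transfer followed by a homomorphism into a commutative group. -/
theorem lift_transfer_eq_prod [Finite Y] [Fintype (RQ A B Y)] (hfree : RFree A B Y)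
    {C : Type*} [CommGroup C] (χ : B →* C) (a : A) :
    Abelianization.lift χ (transfer A B Y hfree a) = ∏ z : RQ A B Y, χ (dd a z) := by
  rw [transfer_apply]
  unfold transferFun
  rw [finprod_eq_prod_of_fintype, map_prod]
  refine Finset.prod_congr rfl fun z _ => ?_
  rw [Abelianization.lift_apply_of]

/-- An element fixing an orbit, together with the inverse of its cocycle value, fixes the chosen
representative. -/
theorem smul_out_of_smul_eq {a : A} {z : RQ A B Y} (h : a • z = z) :
    ((a, (dd a z)⁻¹) : A × B) • z.out = z.out := by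
  have h1 : ((a, (1 : B)) : A × B) • z.out = ((1 : A), dd a z) • z.out := by
    have h2 := dd_spec a z
    rw [h] at h2
    exact h2
  have h3 : ((a, (dd a z)⁻¹) : A × B) = ((1 : A), (dd a z)⁻¹) * ((a, (1 : B)) : A × B) := by
    rw [Prod.mk_mul_mk, one_mul, mul_one]
  rw [h3, mul_smul, h1, smul_right_mul, inv_mul_cancel, Prod.mk_one_one, one_smul]

/-- An element of the stabilizer of a representative fixes its orbit. -/
theorem smul_eq_of_smul_out {a : A} {b : B} {z : RQ A B Y} (h : ((a, b) : A × B) • z.out = z.out) :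
    a • z = z := by
  have h1 : ((a, (1 : B)) : A × B) = ((1 : A), b⁻¹) * ((a, b) : A × B) := by
    rw [Prod.mk_mul_mk, one_mul, inv_mul_cancel]
  conv_lhs => rw [← RQ.mk_out z]
  rw [RQ.smul_mk, h1, mul_smul, h, RQ.mk_smul_right, RQ.mk_out]

theorem dd_eq_of_smul_out (hfree : RFree A B Y) {a : A} {b : B} {z : RQ A B Y}
    (h : ((a, b) : A × B) • z.out = z.out) : dd a z = b⁻¹ := by
  have hz := smul_eq_of_smul_out h
  symm
  apply dd_unique hfree
  have h1 : ((a, (1 : B)) : A × B) = ((1 : A), b⁻¹) * ((a, b) : A × B) := by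
    rw [Prod.mk_mul_mk, one_mul, inv_mul_cancel]
  rw [congrArg RQ.out hz, h1, mul_smul, h]

end General

section Fusion

variable {T : Type u} [Group T] [Finite T] {p : ℕ} [Fact p.Prime]
  {F : FusionSystem (⊤ : Subgroup T)}

/-- The point stabilizers of a biset with twisted diagonal orbit types are twisted diagonal. -/
theorem stabilizer_mem_TD {c : Subgroup (T × T) → ℕ} (hc : ∀ D, c D ≠ 0 → D ∈ TD F) (y : Om c) :
    MulAction.stabilizer (T × T) y ∈ TD F := by
  obtain ⟨⟨D, j⟩, x⟩ := y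
  have hcD : c D ≠ 0 := by
    intro h0
    rw [h0] at j
    exact j.elim0
  obtain ⟨g, rfl⟩ := QuotientGroup.mk_surjective x
  have hst : MulAction.stabilizer (T × T)
      (⟨⟨D, j⟩, (g : (T × T) ⧸ D)⟩ : Om c) = D.map (MulAut.conj g).toMonoidHom := by
    ext w
    rw [MulAction.mem_stabilizer_iff, Om.smul_mk]
    constructor
    · intro h
      have h1 : w • (g : (T × T) ⧸ D) = g := by
        have := Sigma.mk.inj_iff.1 h
        exact eq_of_heq this.2
      rw [MulAction.Quotient.smul_coe, QuotientGroup.eq] at h1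
      refine ⟨g⁻¹ * w * g, ?_, ?_⟩
      · have e : g⁻¹ * w * g = ((w • g)⁻¹ * g)⁻¹ := by
          rw [smul_eq_mul]; group
        rw [e]
        exact D.inv_mem h1
      · show g * (g⁻¹ * w * g) * g⁻¹ = w
        group
    · rintro ⟨d, hd, rfl⟩
      congr 1
      rw [MulAction.Quotient.smul_coe, QuotientGroup.eq]
      have e : ((MulAut.conj g).toMonoidHom d • g)⁻¹ * g = d⁻¹ := by
        show (g * d * g⁻¹ * g)⁻¹ * g = d⁻¹
        group
      rw [e]
      exact D.inv_mem hd
  show MulAction.stabilizer (T × T) (⟨⟨D, j⟩, (g : (T × T) ⧸ D)⟩ : Om c) ∈ TD F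
  rw [hst]
  exact (FFConj.conj D g).mem_TD (hc D hcD)

/-- The structure of a biset with twisted diagonal orbit types at a right orbit `z`: the left
stabilizer `P` of `z` and the map of the system describing the cocycle on `P`. -/
theorem point_spec {c : Subgroup (T × T) → ℕ} (hc : ∀ D, c D ≠ 0 → D ∈ TD F)
    (z : RQ T T (Om c)) :
    ∃ (P : Subgroup T) (φ : P →* T), φ ∈ F.Hom P ∧ (∀ a : T, a • z = z ↔ a ∈ P) ∧
      ∀ (a : T) (h : a ∈ P), dd a z = (φ ⟨a, h⟩)⁻¹ := by
  obtain ⟨P, φ, hφ, hst⟩ := stabilizer_mem_TD hc z.out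
  have key : ∀ a b : T, ((a, b) : T × T) • z.out = z.out ↔ ∃ h : a ∈ P, φ ⟨a, h⟩ = b := by
    intro a b
    rw [← MulAction.mem_stabilizer_iff, hst, mem_graph]
  have hfree := rfree_Om hc
  refine ⟨P, φ, hφ, fun a => ⟨fun h => ?_, fun h => ?_⟩, fun a h => ?_⟩
  · obtain ⟨h', -⟩ := (key a _).1 (smul_out_of_smul_eq h)
    exact h'
  · exact smul_eq_of_smul_out ((key a _).2 ⟨h, rfl⟩)
  · exact dd_eq_of_smul_out hfree ((key a _).2 ⟨h, rfl⟩)

/-- **Evaluation of the transfer.** For a homomorphism `χ` into a commutative group which is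
invariant under the maps of the system, the transfer of the characteristic biset followed by `χ` is
`a ↦ χ a ^ (-n)`, with `n` the number of right orbits. -/
theorem lift_transfer_eq_pow {c : Subgroup (T × T) → ℕ} (hc : ∀ D, c D ≠ 0 → D ∈ TD F)
    {C : Type*} [CommGroup C] (χ : T →* C)
    (hχ : ∀ (P : Subgroup T) (φ : P →* T), φ ∈ F.Hom P → ∀ x : P, χ (φ x) = χ (x : T)) (a : T) :
    Abelianization.lift χ (transfer T T (Om c) (rfree_Om hc) a) =
      (χ a)⁻¹ ^ Nat.card (RQ T T (Om c)) := by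
  classical
  haveI : Fintype (RQ T T (Om c)) := Fintype.ofFinite _
  have hfree := rfree_Om hc
  rw [lift_transfer_eq_prod hfree χ a, Nat.card_eq_fintype_card, ← Finset.card_univ]
  refine prod_eq_pow_of_cycle (isCocycle_dd hfree χ) a (χ a)⁻¹ _ Finset.univ rfl
    (fun _ _ => Finset.mem_univ _) ?_
  intro z _ k hk
  obtain ⟨P, φ, hφ, hP, hdd⟩ := point_spec hc z
  have hak : a ^ k ∈ P := (hP _).1 hk
  show χ (dd (a ^ k) z) = _
  rw [hdd _ hak, map_inv, hχ P φ hφ ⟨a ^ k, hak⟩, map_pow, inv_pow]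

end Fusion

section Main

variable {T : Type u} [Group T] [Finite T] {p : ℕ} [hp : Fact p.Prime]
  {F : FusionSystem (⊤ : Subgroup T)}

/-- A proper subgroup of a finite `p`-group lies in a normal subgroup of index `p`. -/
theorem exists_normal_index_prime (hT : IsPGroup p T) {P : Subgroup T} (hP : P ≠ ⊤) :
    ∃ M : Subgroup T, M.Normal ∧ M.index = p ∧ P ≤ M := by
  obtain ⟨e, he⟩ := IsPGroup.iff_card.1 hT
  obtain ⟨a, ha⟩ := IsPGroup.iff_card.1 (hT.to_subgroup P)
  have hae : a < e := by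
    by_contra hcon
    push Not at hcon
    apply hP
    apply Subgroup.eq_top_of_card_eq
    have h1 := Subgroup.card_le_card_group P
    rw [ha, he] at h1 ⊢
    exact le_antisymm h1 (Nat.pow_le_pow_right hp.out.pos hcon)
  obtain ⟨M, hMcard, hPM⟩ := Sylow.exists_subgroup_card_pow_prime_le p (n := a) (m := e - 1)
    (by rw [he]; exact pow_dvd_pow p (Nat.sub_le e 1)) P ha (by omega)
  have hidx : M.index = p := by
    have h1 := Subgroup.card_mul_index M
    have h2 : p ^ e = p ^ (e - 1) * p := by rw [← pow_succ, Nat.sub_add_cancel (by omega)]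
    rw [hMcard, he, h2] at h1
    exact Nat.eq_of_mul_eq_mul_left (pow_pos hp.out.pos _) h1
  refine ⟨M, ?_, hidx, hPM⟩
  apply Subgroup.normal_of_index_eq_minFac_card
  rw [hidx, he, Nat.Prime.pow_minFac hp.out (by omega)]

/-- The contribution of an orbit of non-fixed points to the transfer is trivial. -/
theorem prod_orbit_eq_one_of_minimal (hT : IsPGroup p T) {c : Subgroup (T × T) → ℕ}
    (hc : ∀ D, c D ≠ 0 → D ∈ TD F) (ℓ : T →* Multiplicative (ZMod p))
    (hW : ¬ WreathQuot p T) (v : T)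
    (hv : ∀ n : ℕ, p ∣ n → ∀ (P : Subgroup T) (ψ : P →* T), ψ ∈ F.Hom P →
      ∀ h : v ^ n ∈ P, ℓ (ψ ⟨v ^ n, h⟩) = 1)
    (z₀ : RQ T T (Om c)) (hz₀ : ∃ a : T, a • z₀ ≠ z₀) (PP : Finset (RQ T T (Om c)))
    (hPP : ∀ z, z ∈ PP ↔ z ∈ MulAction.orbit T z₀) :
    ∏ z ∈ PP, ℓ (dd v z) = 1 := by
  classical
  haveI : Fintype (RQ T T (Om c)) := Fintype.ofFinite _
  have hfree := rfree_Om hc
  have hcoc := isCocycle_dd hfree ℓ
  obtain ⟨P, φ, hφ, hP, hdd⟩ := point_spec hc z₀
  have hPne : P ≠ ⊤ := by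
    obtain ⟨a, ha⟩ := hz₀
    intro h
    apply ha
    rw [hP, h]
    exact Subgroup.mem_top a
  obtain ⟨M, hMn, hMidx, hPM⟩ := exists_normal_index_prime hT hPne
  haveI := hMn
  have hMne : M ≠ ⊤ := by
    intro h
    rw [h, Subgroup.index_top] at hMidx
    exact hp.out.one_lt.ne hMidx
  obtain ⟨t, ht⟩ : ∃ t, t ∉ M := by
    by_contra hcon
    push Not at hcon
    exact hMne ((Subgroup.eq_top_iff' M).2 hcon)
  have hstab : ∀ a : T, a • z₀ = z₀ → a ∈ M := fun a ha => hPM ((hP a).1 ha)
  by_cases hvM : v ∈ M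
  · exact prod_orbit_eq_one hcoc M hMidx t ht z₀ hstab hW v hvM PP hPP
  · have h1 := prod_eq_pow_of_cycle hcoc v 1 _ PP rfl ?_ ?_
    · rw [h1, one_pow]
    · intro z hz
      rw [hPP] at hz ⊢
      obtain ⟨b, rfl⟩ := hz
      exact ⟨v * b, mul_smul _ _ _⟩
    · intro z hz k hk
      rw [one_pow]
      obtain ⟨b, rfl⟩ := (hPP z).1 hz
      have hk' : v ^ k • b • z₀ = b • z₀ := hk
      have hvkM : v ^ k ∈ M := by
        have h1 : (b⁻¹ * v ^ k * b) • z₀ = z₀ := by
          rw [mul_smul, mul_smul, hk', inv_smul_smul]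
        have h2 := hstab _ h1
        have h3 := hMn.conj_mem _ h2 b
        have h4 : b * (b⁻¹ * v ^ k * b) * b⁻¹ = v ^ k := by group
        rwa [h4] at h3
      have hpk : p ∣ k := by
        have hcardq : Nat.card (T ⧸ M) = p := by
          rw [← Subgroup.index_eq_card]; exact hMidx
        have hvne : (QuotientGroup.mk v : T ⧸ M) ≠ 1 :=
          fun h1 => hvM ((QuotientGroup.eq_one_iff v).1 h1)
        have hord : orderOf (QuotientGroup.mk v : T ⧸ M) = p :=
          orderOf_eq_prime (by rw [← hcardq]; exact pow_card_eq_one') hvne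
        rw [← hord]
        apply orderOf_dvd_of_pow_eq_one
        rw [← QuotientGroup.mk_pow]
        exact (QuotientGroup.eq_one_iff _).2 hvkM
      obtain ⟨P', φ', hφ', hP', hdd'⟩ := point_spec hc (b • z₀)
      have hmem : v ^ k ∈ P' := (hP' _).1 hk'
      show ℓ (dd (v ^ k) (b • z₀)) = 1
      rw [hdd' _ hmem, map_inv, hv k hpk P' φ' hφ' hmem, inv_one]

/-- The transfer of an element all of whose proper `p`-th power multiples are already under
control. -/
theorem lift_transfer_eq_of_minimal (hT : IsPGroup p T) {c : Subgroup (T × T) → ℕ}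
    (hc : ∀ D, c D ≠ 0 → D ∈ TD F) (ℓ : T →* Multiplicative (ZMod p))
    (hℓ : ∀ α : ↥(⊤ : Subgroup T) →* T, α ∈ F.Hom ⊤ → ∀ x, ℓ (α x) = ℓ (x : T))
    (hW : ¬ WreathQuot p T) (v : T)
    (hv : ∀ n : ℕ, p ∣ n → ∀ (P : Subgroup T) (ψ : P →* T), ψ ∈ F.Hom P →
      ∀ h : v ^ n ∈ P, ℓ (ψ ⟨v ^ n, h⟩) = 1) :
    Abelianization.lift ℓ (transfer T T (Om c) (rfree_Om hc) v) =
      (ℓ v)⁻¹ ^ Nat.card (MulAction.fixedPoints T (RQ T T (Om c))) := by
  classical
  haveI : Fintype (RQ T T (Om c)) := Fintype.ofFinite _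
  have hfree := rfree_Om hc
  rw [lift_transfer_eq_prod hfree ℓ v,
    ← Finset.prod_filter_mul_prod_filter_not Finset.univ
      (fun z : RQ T T (Om c) => z ∈ MulAction.fixedPoints T (RQ T T (Om c)))]
  have htop : ∏ z ∈ Finset.univ.filter
      (fun z : RQ T T (Om c) => z ∈ MulAction.fixedPoints T (RQ T T (Om c))), ℓ (dd v z) =
      (ℓ v)⁻¹ ^ Nat.card (MulAction.fixedPoints T (RQ T T (Om c))) := by
    have e : ∀ z ∈ Finset.univ.filter
        (fun z : RQ T T (Om c) => z ∈ MulAction.fixedPoints T (RQ T T (Om c))),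
        ℓ (dd v z) = (ℓ v)⁻¹ := by
      intro z hz
      have hzfix : ∀ a : T, a • z = z := (Finset.mem_filter.1 hz).2
      obtain ⟨P, φ, hφ, hP, hdd⟩ := point_spec hc z
      have hPtop : P = ⊤ := by
        ext a
        rw [← hP a]
        exact ⟨fun _ => Subgroup.mem_top a, fun _ => hzfix a⟩
      subst hPtop
      rw [hdd v (Subgroup.mem_top v), map_inv, hℓ φ hφ]
    rw [Finset.prod_congr rfl e, Finset.prod_const, Nat.card_eq_fintype_card,
      Fintype.card_subtype]
  have hnon : ∏ z ∈ Finset.univ.filter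
      (fun z : RQ T T (Om c) => ¬ z ∈ MulAction.fixedPoints T (RQ T T (Om c))), ℓ (dd v z) = 1 := by
    rw [← Finset.prod_fiberwise _
      (fun z => (Quotient.mk'' z : MulAction.orbitRel.Quotient T (RQ T T (Om c))))]
    refine Finset.prod_eq_one fun ω _ => ?_
    by_cases hemp : (Finset.univ.filter
        (fun z : RQ T T (Om c) => ¬ z ∈ MulAction.fixedPoints T (RQ T T (Om c)))).filter
        (fun z => (Quotient.mk'' z : MulAction.orbitRel.Quotient T (RQ T T (Om c))) = ω) = ∅
    · rw [hemp, Finset.prod_empty]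
    · obtain ⟨z₀, hz₀⟩ := Finset.nonempty_iff_ne_empty.2 hemp
      rw [Finset.mem_filter, Finset.mem_filter] at hz₀
      obtain ⟨⟨-, hz₀nf⟩, hz₀ω⟩ := hz₀
      have hz₀' : ∃ a : T, a • z₀ ≠ z₀ := by
        by_contra hcon
        push Not at hcon
        exact hz₀nf hcon
      refine prod_orbit_eq_one_of_minimal hT hc ℓ hW v hv z₀ hz₀' _ fun z => ?_
      rw [Finset.mem_filter, Finset.mem_filter]
      constructor
      · rintro ⟨-, hzω⟩
        rw [← hz₀ω] at hzω
        exact MulAction.orbitRel_apply.1 (Quotient.eq''.1 hzω)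
      · intro hz
        have hzω : (Quotient.mk'' z : MulAction.orbitRel.Quotient T (RQ T T (Om c))) = ω := by
          rw [← hz₀ω]
          exact Quotient.eq''.2 (MulAction.orbitRel_apply.2 hz)
        refine ⟨⟨Finset.mem_univ _, fun hzfix => hz₀nf ?_⟩, hzω⟩
        obtain ⟨b, rfl⟩ := hz
        intro a
        have h1 := hzfix (b * a * b⁻¹)
        have h2 : (b * a * b⁻¹) • b • z₀ = b • z₀ := h1
        rw [← mul_smul, inv_mul_cancel_right, mul_smul] at h2
        exact smul_left_cancel b h2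
  rw [htop, hnon, mul_one]

/-- **Yoshida's theorem, main step.** A homomorphism onto a group of order `p` which is invariant
under the automorphisms of the system is invariant under all its maps, unless the group has a
quotient `C_p ≀ C_p`. -/
theorem map_eq_of_not_wreathQuot (hT : IsPGroup p T) (hF : F.IsSaturated p)
    (ℓ : T →* Multiplicative (ZMod p))
    (hℓ : ∀ α : ↥(⊤ : Subgroup T) →* T, α ∈ F.Hom ⊤ → ∀ x, ℓ (α x) = ℓ (x : T))
    (hW : ¬ WreathQuot p T) :
    ∀ (P : Subgroup T) (φ : P →* T), φ ∈ F.Hom P → ∀ x : P, ℓ (φ x) = ℓ (x : T) := by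
  obtain ⟨c, hc1, hc2, hc3⟩ := exists_char hT hF
  have hc : ∀ D, c D ≠ 0 → D ∈ TD F := hc1
  have hstab : ∀ E E' : Subgroup (T × T), FFConj F E E' → marks c E = marks c E' :=
    fun E E' hEE => hc3 E E' hEE (Nat.zero_le _)
  have htop : ∀ D : Subgroup (T × T), Nat.card D = Nat.card T → c D = cTop F D :=
    fun D hD => hc2 D hD.ge
  have hndvd := not_dvd_card_RQ hT hF hc htop
  have hfixcard : ¬ p ∣ Nat.card (MulAction.fixedPoints T (RQ T T (Om c))) := by
    have h1 := hT.card_modEq_card_fixedPoints (RQ T T (Om c))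
    intro hd
    exact hndvd ((Nat.modEq_zero_iff_dvd).1 (h1.trans ((Nat.modEq_zero_iff_dvd).2 hd)))
  have hCcard : Nat.card (Multiplicative (ZMod p)) = p := by
    rw [Nat.card_eq_fintype_card, Fintype.card_multiplicative, ZMod.card]
  have hCp : ∀ y : Multiplicative (ZMod p), y ^ p = 1 := by
    intro y
    have := pow_card_eq_one' (x := y)
    rwa [hCcard] at this
  suffices H : ∀ (n : ℕ) (u : T), orderOf u = n → ∀ (P : Subgroup T) (φ : P →* T),
      φ ∈ F.Hom P → ∀ h : u ∈ P, ℓ (φ ⟨u, h⟩) = ℓ u by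
    intro P φ hφ x
    exact H _ x.1 rfl P φ hφ x.2
  intro n
  induction n using Nat.strong_induction_on with
  | _ n ih =>
    intro u hu P φ hφ h
    have hmin : ∀ v : T, orderOf v = n → ∀ k : ℕ, p ∣ k → ∀ (P' : Subgroup T) (ψ : P' →* T),
        ψ ∈ F.Hom P' → ∀ h' : v ^ k ∈ P', ℓ (ψ ⟨v ^ k, h'⟩) = 1 := by
      intro v hvn k hk P' ψ hψ h'
      by_cases hv1 : v = 1
      · subst hv1
        have e : (⟨(1 : T) ^ k, h'⟩ : P') = 1 := Subtype.ext (one_pow k)
        rw [e, map_one, map_one]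
      · have hlt : orderOf (v ^ k) < n := by
          obtain ⟨j, hj⟩ := (IsPGroup.iff_orderOf.1 hT) v
          have hj0 : j ≠ 0 := by
            rintro rfl
            rw [pow_zero, orderOf_eq_one_iff] at hj
            exact hv1 hj
          have hpg : p ∣ Nat.gcd (orderOf v) k := by
            apply Nat.dvd_gcd _ hk
            rw [hj]
            exact dvd_pow_self p hj0
          have hgpos : 0 < Nat.gcd (orderOf v) k := Nat.gcd_pos_of_pos_left _ (orderOf_pos v)
          have hg1 : 1 < Nat.gcd (orderOf v) k :=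
            lt_of_lt_of_le hp.out.one_lt (Nat.le_of_dvd hgpos hpg)
          rw [orderOf_pow, ← hvn]
          exact Nat.div_lt_self (orderOf_pos v) hg1
        rw [ih _ hlt (v ^ k) rfl P' ψ hψ h', map_pow]
        obtain ⟨k', rfl⟩ := hk
        rw [pow_mul, hCp, one_pow]
    set u' := φ ⟨u, h⟩ with hu'def
    have hu' : orderOf u' = n := by
      rw [hu'def, orderOf_injective φ (F.injective_of_mem hφ), ← hu]
      exact (Subgroup.orderOf_coe (⟨u, h⟩ : P)).symm
    have e1 := lift_transfer_eq_of_minimal hT hc ℓ hℓ hW u (hmin u hu)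
    have e2 := lift_transfer_eq_of_minimal hT hc ℓ hℓ hW u' (hmin u' hu')
    have e3 : transfer T T (Om c) (rfree_Om hc) u' = transfer T T (Om c) (rfree_Om hc) u :=
      transfer_stable hc hstab hφ ⟨u, h⟩
    rw [e3, e1] at e2
    have hC : IsPGroup p (Multiplicative (ZMod p)) :=
      IsPGroup.of_card (n := 1) (by rw [hCcard, pow_one])
    have hcop : p.Coprime (Nat.card (MulAction.fixedPoints T (RQ T T (Om c)))) :=
      (Nat.Prime.coprime_iff_not_dvd hp.out).2 hfixcard
    have h4 := (hC.powEquiv hcop).injective e2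
    exact (inv_injective h4).symm

end Main

end Cfsg.Agent.Helper3.Biset
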