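import Mathlib

/-!
# Two lemmas on finite abelian `p`-groups used for Tate's theorem

* `le_of_le_sup_pow`: a subgroup `B` which is (up to `n`-th powers, `n` prime to `p`) a retract through
  an endomorphism killing it, and which lies in `R · Āᵖ` for a subgroup `R ≤ B`, equals `R`.
* `exists_hom_of_not_mem`: separation of an element from a subgroup containing all `p`-th powers by a
  homomorphism onto a group of order `p`.
-/

set_option autoImplicit false
set_option linter.style.haveILetI false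
set_option linter.unusedSectionVars false

namespace Cfsg.Agent.Helper3.TateAb

variable {A : Type*} [CommGroup A] {p : ℕ} [hp : Fact p.Prime]

theorem le_of_le_sup_pow [Finite A] (hA : IsPGroup p A) (Tm : A →* A) (B R : Subgroup A) (n : ℕ)
    (hn : p.Coprime n) (hBker : B ≤ Tm.ker) (hT : ∀ a : A, Tm a * a ^ n ∈ B) (hRB : R ≤ B)
    (h : B ≤ R ⊔ (powMonoidHom p : A →* A).range) : B ≤ R := by
  have hB : IsPGroup p B := hA.to_subgroup B
  -- `p`-th powers lying in `B` are `p`-th powers of elements of `B`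
  have claim1 : ∀ a : A, a ^ p ∈ B → ∃ b ∈ B, b ^ p = a ^ p := by
    intro a ha
    have hs : Tm a ^ p = 1 := by
      rw [← map_pow]
      exact hBker ha
    have hb₁ : (Tm a * a ^ n) ^ p = (a ^ p) ^ n := by
      rw [mul_pow, hs, one_mul, ← pow_mul, ← pow_mul, mul_comm]
    obtain ⟨b'', hb''⟩ := (hB.powEquiv hn).surjective ⟨Tm a * a ^ n, hT a⟩
    have hb''v : (b'' : A) ^ n = Tm a * a ^ n := by
      have := congrArg Subtype.val hb''
      rwa [IsPGroup.powEquiv_apply, Subgroup.coe_pow] at this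
    refine ⟨b'', b''.2, ?_⟩
    apply (hA.powEquiv hn).injective
    rw [IsPGroup.powEquiv_apply, IsPGroup.powEquiv_apply, ← hb₁, ← hb''v, ← pow_mul, ← pow_mul,
      mul_comm]
  have claim2 : ∀ k : ℕ, ∀ b ∈ B, ∃ r ∈ R, ∃ b' ∈ B, b = r * b' ^ (p ^ k) := by
    intro k
    induction k with
    | zero =>
      intro b hb
      exact ⟨1, R.one_mem, b, hb, by rw [pow_zero, pow_one, one_mul]⟩
    | succ k ih =>
      intro b hb
      obtain ⟨r, hr, b', hb', rfl⟩ := ih b hb
      obtain ⟨r₁, hr₁, y, ⟨a, rfl⟩, hy⟩ := Subgroup.mem_sup.1 (h hb')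
      have hy' : a ^ p ∈ B := by
        have e : a ^ p = r₁⁻¹ * b' := by
          rw [← hy]
          show a ^ p = r₁⁻¹ * (r₁ * a ^ p)
          rw [inv_mul_cancel_left]
        rw [e]
        exact B.mul_mem (B.inv_mem (hRB hr₁)) hb'
      obtain ⟨b'', hb'', hb''p⟩ := claim1 a hy'
      refine ⟨r * r₁ ^ (p ^ k), R.mul_mem hr (R.pow_mem hr₁ _), b'', hb'', ?_⟩
      have e2 : b' = r₁ * b'' ^ p := by
        rw [hb''p, ← hy]
        rfl
      rw [e2, mul_pow, ← pow_mul, ← pow_succ', mul_assoc]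
  intro b hb
  obtain ⟨e, he⟩ := IsPGroup.iff_card.1 hA
  obtain ⟨r, hr, b', -, rfl⟩ := claim2 e b hb
  have : b' ^ (p ^ e) = 1 := by
    rw [← he]
    exact pow_card_eq_one'
  rw [this, mul_one]
  exact hr

theorem exists_addMonoidHom_ne_zero {V : Type*} [AddCommGroup V] [Module (ZMod p) V] (v : V)
    (hv : v ≠ 0) : ∃ φ : V →+ ZMod p, φ v ≠ 0 := by
  by_contra hcon
  push Not at hcon
  apply hv
  refine (Module.forall_dual_apply_eq_zero_iff (ZMod p) v).1 fun φ => ?_
  exact hcon φ.toAddMonoidHom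

/-- Separation by a homomorphism onto a group of order `p`. -/
theorem exists_hom_of_not_mem (W : Subgroup A) (hW : ∀ a : A, a ^ p ∈ W) (b : A) (hb : b ∉ W) :
    ∃ f : A →* Multiplicative (ZMod p), W ≤ f.ker ∧ f b ≠ 1 := by
  have hpV : ∀ v : Additive (A ⧸ W), p • v = 0 := by
    intro v
    obtain ⟨q, rfl⟩ := Additive.ofMul.surjective v
    obtain ⟨a, rfl⟩ := QuotientGroup.mk_surjective q
    rw [← ofMul_pow, ← QuotientGroup.mk_pow, (QuotientGroup.eq_one_iff _).2 (hW a)]
    rfl
  have hv₀ : Additive.ofMul (QuotientGroup.mk b : A ⧸ W) ≠ 0 := by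
    intro h0
    apply hb
    rw [← QuotientGroup.eq_one_iff]
    exact Additive.ofMul.injective h0
  obtain ⟨φ, hφ⟩ := @exists_addMonoidHom_ne_zero p hp (Additive (A ⧸ W)) _
    (AddCommGroup.zmodModule hpV) _ hv₀
  refine ⟨(AddMonoidHom.toMultiplicativeRight φ).comp (QuotientGroup.mk' W), ?_, ?_⟩
  · intro w hw
    rw [MonoidHom.mem_ker, MonoidHom.comp_apply, QuotientGroup.mk'_apply,
      (QuotientGroup.eq_one_iff w).2 hw, map_one]
  · intro h1
    apply hφ
    have h2 : Multiplicative.ofAdd (φ (Additive.ofMul (QuotientGroup.mk b : A ⧸ W))) = 1 := h1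
    exact Multiplicative.ofAdd.injective h2

end Cfsg.Agent.Helper3.TateAb
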