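import Mathlib
import Cfsg.Agent.Lib.Helper3.BisetYoshida
import Cfsg.Agent.Lib.Helper3.TateAbelian

/-!
# Yoshida's theorem for a saturated fusion system on the top subgroup: the focal subgroup is
controlled by the automorphisms of the whole group unless there is a quotient `C_p ≀ C_p`
-/

set_option autoImplicit false
set_option linter.style.haveILetI false
set_option linter.unusedSectionVars false

namespace Cfsg.Agent.Helper3.Biset

open Cfsg Cfsg.FusionSystem Cfsg.Agent.Helper25 Cfsg.Agent.Helper3.Cocycle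
  Cfsg.Agent.Helper3.Wreath

universe u

section Core

variable {T : Type u} [Group T]

/-- The focal subgroup of the normalizer of the whole group: generated by the `x⁻¹ α(x)` for the
maps `α` of the system defined on the whole group. -/
def focN (F : FusionSystem (⊤ : Subgroup T)) : Subgroup T :=
  Subgroup.closure {y : T | ∃ (α : ↥(⊤ : Subgroup T) →* T) (x : ↥(⊤ : Subgroup T)),
    α ∈ F.Hom ⊤ ∧ y = (x : T)⁻¹ * α x}

variable {F : FusionSystem (⊤ : Subgroup T)}

theorem focN_le_focal : focN F ≤ F.focalSubgroup := by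
  unfold focN FusionSystem.focalSubgroup
  apply Subgroup.closure_mono
  rintro _ ⟨α, x, hα, rfl⟩
  exact ⟨⊤, α, x, hα, rfl⟩

theorem commutator_le_focN : commutator T ≤ focN F := by
  rw [commutator_eq_closure, Subgroup.closure_le]
  rintro _ ⟨a, b, rfl⟩
  apply Subgroup.subset_closure
  refine ⟨conjHom ⊤ b, ⟨a⁻¹, Subgroup.mem_top _⟩, F.conj_mem le_rfl (Subgroup.mem_top b), ?_⟩
  rw [conjHom_apply]
  show a * b * a⁻¹ * b⁻¹ = (a⁻¹)⁻¹ * (b * a⁻¹ * b⁻¹)
  group

variable [Finite T] {p : ℕ} [hp : Fact p.Prime]

/-- **Yoshida's theorem** for a saturated fusion system on the whole group `T`: if `T` has no quotient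
`C_p ≀ C_p` then the focal subgroup is generated by the `x⁻¹ α(x)` with `α` an automorphism of `T` in
the system. -/
theorem focal_le_focN (hT : IsPGroup p T) (hF : F.IsSaturated p) (hW : ¬ WreathQuot p T) :
    F.focalSubgroup ≤ focN F := by
  obtain ⟨c, hc1, hc2, hc3⟩ := exists_char hT hF
  have hc : ∀ D, c D ≠ 0 → D ∈ TD F := hc1
  have hstab : ∀ E E' : Subgroup (T × T), FFConj F E E' → marks c E = marks c E' :=
    fun E E' hEE => hc3 E E' hEE (Nat.zero_le _)
  have htop : ∀ D : Subgroup (T × T), Nat.card D = Nat.card T → c D = cTop F D :=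
    fun D hD => hc2 D hD.ge
  have hndvd := not_dvd_card_RQ hT hF hc htop
  have hcop : p.Coprime (Nat.card (RQ T T (Om c))) :=
    (Nat.Prime.coprime_iff_not_dvd hp.out).2 hndvd
  set B : Subgroup (Abelianization T) := F.focalSubgroup.map Abelianization.of with hBdef
  set R : Subgroup (Abelianization T) := (focN F).map Abelianization.of with hRdef
  set τ := transfer T T (Om c) (rfree_Om hc) with hτ
  set Tm : Abelianization T →* Abelianization T := Abelianization.lift τ with hTmdef
  have hA : IsPGroup p (Abelianization T) := hT.to_quotient _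
  have hRB : R ≤ B := Subgroup.map_mono focN_le_focal
  have hBker : B ≤ Tm.ker := by
    rw [hBdef, Subgroup.map_le_iff_le_comap]
    unfold FusionSystem.focalSubgroup
    rw [Subgroup.closure_le]
    rintro _ ⟨P, φ, x, hφ, rfl⟩
    show Tm (Abelianization.of ((x : T)⁻¹ * φ x)) = 1
    rw [hTmdef, Abelianization.lift_apply_of, map_mul, map_inv, hτ,
      transfer_stable hc hstab hφ x, inv_mul_cancel]
  have hTm : ∀ a : Abelianization T, Tm a * a ^ Nat.card (RQ T T (Om c)) ∈ B := by
    intro a
    have hsurj : Function.Surjective (Abelianization.of : T →* Abelianization T) :=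
      QuotientGroup.mk'_surjective _
    obtain ⟨t, rfl⟩ := hsurj a
    have hχ : ∀ (P : Subgroup T) (φ : P →* T), φ ∈ F.Hom P → ∀ x : P,
        ((QuotientGroup.mk' B).comp Abelianization.of) (φ x) =
          ((QuotientGroup.mk' B).comp Abelianization.of) (x : T) := by
      intro P φ hφ x
      rw [MonoidHom.comp_apply, MonoidHom.comp_apply, QuotientGroup.mk'_apply,
        QuotientGroup.mk'_apply, eq_comm, QuotientGroup.eq, ← map_inv, ← map_mul]
      exact Subgroup.mem_map_of_mem _ (Subgroup.subset_closure ⟨P, φ, x, hφ, rfl⟩)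
    have h1 := lift_transfer_eq_pow hc ((QuotientGroup.mk' B).comp Abelianization.of) hχ t
    have hl : Abelianization.lift ((QuotientGroup.mk' B).comp Abelianization.of) =
        QuotientGroup.mk' B := by
      apply Abelianization.hom_ext
      ext y
      rw [MonoidHom.comp_apply, Abelianization.lift_apply_of]
    rw [hl] at h1
    rw [hTmdef, Abelianization.lift_apply_of, ← QuotientGroup.eq_one_iff, QuotientGroup.mk_mul,
      QuotientGroup.mk_pow]
    have h2 : ((τ t : Abelianization T) : Abelianization T ⧸ B) =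
        ((QuotientGroup.mk (Abelianization.of t) : Abelianization T ⧸ B))⁻¹ ^
          Nat.card (RQ T T (Om c)) := h1
    rw [h2, ← mul_pow, inv_mul_cancel, one_pow]
  suffices hsuff : B ≤ R ⊔ (powMonoidHom p : Abelianization T →* Abelianization T).range by
    have hBR := TateAb.le_of_le_sup_pow hA Tm B R _ hcop hBker hTm hRB hsuff
    intro x hx
    obtain ⟨r, hr, hrx⟩ := hBR (Subgroup.mem_map_of_mem Abelianization.of hx)
    have h1 : r⁻¹ * x ∈ commutator T := by
      rw [← QuotientGroup.eq]
      exact hrx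
    have h2 : x = r * (r⁻¹ * x) := by rw [mul_inv_cancel_left]
    rw [h2]
    exact (focN F).mul_mem hr (commutator_le_focN h1)
  by_contra hcon
  obtain ⟨b, hbB, hbW⟩ := SetLike.not_le_iff_exists.1 hcon
  obtain ⟨f, hfW, hfb⟩ := TateAb.exists_hom_of_not_mem (p := p)
    (R ⊔ (powMonoidHom p : Abelianization T →* Abelianization T).range)
    (fun a => le_sup_right (a := R) ⟨a, rfl⟩) b hbW
  set ℓ : T →* Multiplicative (ZMod p) := f.comp Abelianization.of with hℓdef
  have hℓ : ∀ α : ↥(⊤ : Subgroup T) →* T, α ∈ F.Hom ⊤ → ∀ x, ℓ (α x) = ℓ (x : T) := by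
    intro α hα x
    have h1 : Abelianization.of ((x : T)⁻¹ * α x) ∈ f.ker := by
      apply hfW
      apply le_sup_left (a := R)
      exact Subgroup.mem_map_of_mem _ (Subgroup.subset_closure ⟨α, x, hα, rfl⟩)
    have h2 : ℓ ((x : T)⁻¹ * α x) = 1 := h1
    rw [map_mul, map_inv, inv_mul_eq_one] at h2
    exact h2.symm
  have hall := map_eq_of_not_wreathQuot hT hF ℓ hℓ hW
  apply hfb
  obtain ⟨y, hy, rfl⟩ := hbB
  have hker : F.focalSubgroup ≤ ℓ.ker := by
    unfold FusionSystem.focalSubgroup
    rw [Subgroup.closure_le]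
    rintro _ ⟨P, φ, x, hφ, rfl⟩
    rw [SetLike.mem_coe, MonoidHom.mem_ker, map_mul, map_inv, hall P φ hφ x, inv_mul_cancel]
  exact hker hy

end Core

end Cfsg.Agent.Helper3.Biset
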