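import Mathlib
import Cfsg.Agent.Lib.Helper26.L33Defs

/-!
# S2916 piece C1 (helper3): Sylow 13-subgroups are self-centralizing.
-/

set_option autoImplicit false
set_option linter.unusedVariables false
set_option linter.unusedSectionVars false

namespace Cfsg.Agent.Helper26.L33

open Cfsg

universe u v

variable {G : Type u} [Group G] [Finite G] [IsSimpleGroup G]

/-- aux: arithmetic of the divisors of `432` -/
theorem c1_divisors : ∀ n ∈ Nat.divisors 432, n % 13 = 1 → n = 1 ∨ n = 27 ∨ n = 144 := by
  decide

/-- aux: no involution commutes with an element of order 13 -/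
theorem c1_no_invol {t u s : G} (h : Cfg G t u s) (y τ : G) (hy : orderOf y = 13)
    (hτ : orderOf τ = 2) (hc : τ * y = y * τ) : False := by
  obtain ⟨g, hg⟩ := isConj_iff.mp (h.one_class τ hτ)
  -- y' = g⁻¹ y g commutes with t
  have hmem : g⁻¹ * y * g ∈ Subgroup.centralizer ({t} : Set G) := by
    rw [Subgroup.mem_centralizer_iff]
    intro z hz
    rw [Set.mem_singleton_iff] at hz
    subst hz
    have h1 : z = g⁻¹ * τ * g := by rw [← hg]; group
    rw [h1]
    calc g⁻¹ * τ * g * (g⁻¹ * y * g) = g⁻¹ * (τ * y) * g := by group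
      _ = g⁻¹ * (y * τ) * g := by rw [hc]
      _ = g⁻¹ * y * g * (g⁻¹ * τ * g) := by group
  have hord : orderOf (g⁻¹ * y * g) = 13 := by
    have := orderOf_injective (MulAut.conj g⁻¹).toMonoidHom (MulAut.conj g⁻¹).injective y
    rw [← hy, ← this]
    simp
  have hdvd : orderOf (⟨g⁻¹ * y * g, hmem⟩ : Subgroup.centralizer ({t} : Set G)) ∣
      Nat.card (Subgroup.centralizer ({t} : Set G)) := orderOf_dvd_natCard _
  rw [h.cardC, ← Subgroup.orderOf_coe] at hdvd
  simp only at hdvd
  rw [hord] at hdvd
  norm_num at hdvd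

/-- PIECE C1 : Sylow 13-subgroups are self-centralizing -/
theorem cent13 {t u s : G} (h : Cfg G t u s) (y x : G) (hy : orderOf y = 13) (hxy : x * y = y * x) :
    x ∈ Subgroup.zpowers y := by
  classical
  haveI : Fact (Nat.Prime 13) := ⟨by norm_num⟩
  have hG := h.card
  have hQcard : Nat.card (Subgroup.zpowers y) = 13 := by rw [Nat.card_zpowers, hy]
  have hQp : IsPGroup 13 (Subgroup.zpowers y) :=
    IsPGroup.of_card (n := 1) (by rw [hQcard]; norm_num)
  obtain ⟨P, hP⟩ := hQp.exists_le_sylow
  -- |P| = 13
  have hPcard : Nat.card P = 13 := by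
    obtain ⟨k, hk⟩ := (IsPGroup.iff_card).mp P.2
    have hdvd : Nat.card P ∣ Nat.card G := Subgroup.card_subgroup_dvd_card _
    have h13 : 13 ∣ Nat.card P := by
      have h0 := Subgroup.card_dvd_of_le hP
      rw [hQcard] at h0; exact h0
    rw [hk, hG] at hdvd
    rw [hk] at h13 ⊢
    have hk1 : k ≠ 0 := by
      intro h0; rw [h0] at h13; norm_num at h13
    have hk2 : k < 2 := by
      by_contra hge
      push Not at hge
      have : 13 ^ 2 ∣ 13 ^ k := pow_dvd_pow 13 hge
      have := this.trans hdvd
      norm_num at this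
    have : k = 1 := by omega
    rw [this]; norm_num
  have hPQ : Subgroup.zpowers y = (P : Subgroup G) :=
    Subgroup.eq_of_le_of_card_ge hP (by rw [hPcard, hQcard])
  -- the normalizer and the number of Sylow subgroups
  set N : Subgroup G := Subgroup.normalizer ((P : Subgroup G) : Set G) with hN
  set C : Subgroup G := Subgroup.centralizer ((P : Subgroup G) : Set G) with hC
  have hindex : (P : Subgroup G).index = 432 := by
    have := (P : Subgroup G).card_mul_index
    rw [hPcard, hG] at this
    omega
  have hn1 : Nat.card (Sylow 13 G) ≡ 1 [MOD 13] := card_sylow_modEq_one 13 G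
  have hn2 : Nat.card (Sylow 13 G) ∣ 432 := by rw [← hindex]; exact P.card_dvd_index
  have hn3 : Nat.card (Sylow 13 G) = N.index := P.card_eq_index_normalizer
  have hNcard : Nat.card N * N.index = 5616 := by rw [N.card_mul_index, hG]
  have hcases := c1_divisors _ (Nat.mem_divisors.mpr ⟨hn2, by norm_num⟩) hn1
  rw [hn3] at hcases
  -- C ≤ N, P ≤ C
  have hCN : C ≤ N := Subgroup.centralizer_le_normalizer _
  have hPC : (P : Subgroup G) ≤ C := by
    intro a ha
    rw [hC, Subgroup.mem_centralizer_iff]
    intro b hb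
    rw [← hPQ] at ha
    have hb' : b ∈ Subgroup.zpowers y := by rw [hPQ]; exact hb
    obtain ⟨i, rfl⟩ := Subgroup.mem_zpowers_iff.mp ha
    obtain ⟨j, rfl⟩ := Subgroup.mem_zpowers_iff.mp hb'
    rw [← zpow_add, ← zpow_add, add_comm]
  have h13C : 13 ∣ Nat.card C := by
    have h0 := Subgroup.card_dvd_of_le hPC
    rw [hPcard] at h0; exact h0
  have hCdvdN : Nat.card C ∣ Nat.card N := Subgroup.card_dvd_of_le hCN
  -- |C| is odd
  have hCodd : ¬ 2 ∣ Nat.card C := by
    intro h2
    haveI : Fact (Nat.Prime 2) := ⟨Nat.prime_two⟩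
    obtain ⟨τ, hτ⟩ := exists_prime_orderOf_dvd_card' (G := C) 2 h2
    have hτ' : orderOf (τ : G) = 2 := by rw [Subgroup.orderOf_coe]; exact hτ
    have hτy : (τ : G) * y = y * (τ : G) := by
      have this : (τ : G) ∈ Subgroup.centralizer ((P : Subgroup G) : Set G) := τ.2
      rw [Subgroup.mem_centralizer_iff] at this
      have hyP : y ∈ ((P : Subgroup G) : Set G) := by
        have : y ∈ Subgroup.zpowers y := Subgroup.mem_zpowers y
        rw [hPQ] at this; exact this
      exact (this y hyP).symm
    exact c1_no_invol h y τ hy hτ' hτy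
  -- |N| / |C| divides 12
  have hquot : ∃ r : ℕ, r ∣ 12 ∧ Nat.card N = Nat.card C * r := by
    let φ := (P : Subgroup G).normalizerMonoidHom
    have hker : φ.ker = C.subgroupOf N := Subgroup.normalizerMonoidHom_ker _
    have h1 : Nat.card φ.ker * Nat.card φ.range = Nat.card N := by
      have := φ.ker.card_mul_index
      rw [Subgroup.index_ker] at this
      exact this
    have h2 : Nat.card φ.ker = Nat.card C := by
      rw [hker]
      exact Nat.card_congr (Subgroup.subgroupOfEquivOfLe hCN).toEquiv
    have h3 : Nat.card φ.range ∣ 12 := by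
      have hcyc : IsCyclic (P : Subgroup G) := by
        rw [← hPQ]; infer_instance
      have : Nat.card (MulAut (P : Subgroup G)) = 12 := by
        rw [IsCyclic.card_mulAut, hPcard]
        decide
      rw [← this]
      exact Subgroup.card_subgroup_dvd_card _
    exact ⟨Nat.card φ.range, h3, by rw [← h1, h2]⟩
  obtain ⟨r, hr12, hNr⟩ := hquot
  have hxC : x ∈ C := by
    rw [hC, Subgroup.mem_centralizer_iff]
    intro b hb
    have hb' : b ∈ Subgroup.zpowers y := by rw [hPQ]; exact hb
    obtain ⟨j, rfl⟩ := Subgroup.mem_zpowers_iff.mp hb'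
    have : Commute x y := hxy
    exact (this.zpow_right j).symm
  -- it suffices to show |C| = 13
  suffices hC13 : Nat.card C = 13 by
    have : (P : Subgroup G) = C := Subgroup.eq_of_le_of_card_ge hPC (by rw [hC13, hPcard])
    rw [hPQ, this]; exact hxC
  rcases hcases with h1 | h27 | h144
  · -- N = ⊤ : P normal
    exfalso
    have hNtop : N = ⊤ := Subgroup.index_eq_one.mp h1
    have hnorm : (P : Subgroup G).Normal := Subgroup.normalizer_eq_top_iff.mp hNtop
    rcases hnorm.eq_bot_or_eq_top with hb | ht
    · rw [hb, Subgroup.card_bot] at hPcard; norm_num at hPcard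
    · rw [ht, Subgroup.card_top, hG] at hPcard; norm_num at hPcard
  · -- |N| = 208
    exfalso
    rw [h27] at hNcard
    have hN208 : Nat.card N = 208 := by omega
    rw [hN208] at hNr hCdvdN
    have hCle : Nat.card C ∈ Nat.divisors 208 := Nat.mem_divisors.mpr ⟨hCdvdN, by norm_num⟩
    have key : ∀ c ∈ Nat.divisors 208, 13 ∣ c → ¬ 2 ∣ c → c = 13 := by decide
    have hC13 := key _ hCle h13C hCodd
    rw [hC13] at hNr
    have : r = 16 := by omega
    rw [this] at hr12
    norm_num at hr12
  · -- |N| = 39
    rw [h144] at hNcard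
    have hN39 : Nat.card N = 39 := by omega
    rw [hN39] at hNr hCdvdN
    have hCle : Nat.card C ∈ Nat.divisors 39 := Nat.mem_divisors.mpr ⟨hCdvdN, by norm_num⟩
    have key : ∀ c ∈ Nat.divisors 39, 13 ∣ c → c = 13 ∨ c = 39 := by decide
    rcases key _ hCle h13C with h13 | h39
    · exact h13
    · exfalso
      have hNC : N = C := (Subgroup.eq_of_le_of_card_ge hCN (by rw [h39, hN39])).symm
      have hP' : Subgroup.normalizer ((P : Subgroup G) : Set G) ≤
          Subgroup.centralizer ((P : Subgroup G) : Set G) := by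
        rw [← hN, ← hC, hNC]
      have hcomp := MonoidHom.ker_transferSylow_isComplement' P hP'
      have hcardK := hcomp.card_mul_card
      rw [hPcard, hG] at hcardK
      have hK : Nat.card (MonoidHom.transferSylow P hP').ker = 432 := by omega
      rcases (MonoidHom.normal_ker (MonoidHom.transferSylow P hP')).eq_bot_or_eq_top with hb | ht
      · rw [hb, Subgroup.card_bot] at hK; norm_num at hK
      · rw [ht, Subgroup.card_top, hG] at hK; norm_num at hK

end Cfsg.Agent.Helper26.L33
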