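import Mathlib
import Cfsg.Prelude.Def_Sporadic_a
import Cfsg.Agent.Lib.Helper26.L33Defs
import Cfsg.Agent.S0675

/-!
# S2916 piece C10 (helper3): two subgroups of index 13 meeting in a subgroup of index 4 give a
`G`-invariant Steiner system `S(2,4,13)` on `G ⧸ H₁`.
-/

set_option autoImplicit false
set_option linter.unusedVariables false
set_option linter.unusedSectionVars false

namespace Cfsg.Agent.Helper26.L33

open Cfsg Finset

universe u v

/-- aux (design counting): translates of a 4-set under a 2-transitive group on 13 points, at most 13 of them,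
form a Steiner system `S(2,4,13)` -/
theorem c10_steiner {G Ω : Type*} [Group G] [MulAction G Ω] [Fintype Ω] [DecidableEq Ω]
    (hΩ : Fintype.card Ω = 13)
    (h2t : ∀ {a b c d : Ω}, a ≠ b → c ≠ d → ∃ g : G, g • a = c ∧ g • b = d)
    (O : Finset Ω) (hO : O.card = 4) (Bf : Finset (Finset Ω)) (hBcard : Bf.card ≤ 13)
    (hmem : ∀ g : G, O.image (fun x => g • x) ∈ Bf)
    (hB : ∀ b ∈ Bf, ∃ g : G, b = O.image (fun x => g • x)) :
    Cfsg.IsSteinerSystem 2 4 {b | b ∈ Bf} := by
  classical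
  have hcardb : ∀ b ∈ Bf, b.card = 4 := by
    intro b hb
    obtain ⟨g, rfl⟩ := hB b hb
    rw [Finset.card_image_of_injective _ (MulAction.injective g), hO]
  set pairs : Finset (Finset Ω) := (Finset.univ : Finset Ω).powersetCard 2 with hpairs
  have hpairs_card : pairs.card = 78 := by
    rw [hpairs, Finset.card_powersetCard, Finset.card_univ, hΩ]
    decide
  let r : Finset Ω → Finset Ω → Prop := fun s b => s ⊆ b
  have hdc := Finset.sum_card_bipartiteAbove_eq_sum_card_bipartiteBelow (s := pairs) (t := Bf) r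
  -- the right hand side
  have hR : ∀ b ∈ Bf, (pairs.bipartiteBelow r b).card = 6 := by
    intro b hb
    have : pairs.bipartiteBelow r b = b.powersetCard 2 := by
      ext s
      simp only [Finset.bipartiteBelow, Finset.mem_filter, hpairs, Finset.mem_powersetCard, r]
      constructor
      · rintro ⟨⟨_, h2⟩, h3⟩; exact ⟨h3, h2⟩
      · rintro ⟨h3, h2⟩; exact ⟨⟨Finset.subset_univ _, h2⟩, h3⟩
    rw [this, Finset.card_powersetCard, hcardb b hb]
    decide
  have hRsum : ∑ b ∈ Bf, (pairs.bipartiteBelow r b).card = 6 * Bf.card := by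
    rw [Finset.sum_congr rfl hR, Finset.sum_const, smul_eq_mul, mul_comm]
  -- existence
  have hex : ∀ s ∈ pairs, 1 ≤ (Bf.bipartiteAbove r s).card := by
    intro s hs
    rw [hpairs, Finset.mem_powersetCard] at hs
    obtain ⟨p, q, hpq, rfl⟩ := Finset.card_eq_two.mp hs.2
    have h1 : 1 < O.card := by rw [hO]; norm_num
    obtain ⟨o1, ho1, o2, ho2, h12⟩ := Finset.one_lt_card.mp h1
    obtain ⟨g, hg1, hg2⟩ := h2t h12 hpq
    rw [Nat.one_le_iff_ne_zero, Finset.card_ne_zero]
    refine ⟨O.image (fun x => g • x), ?_⟩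
    simp only [Finset.bipartiteAbove, Finset.mem_filter, r]
    refine ⟨hmem g, ?_⟩
    intro x hx
    rw [Finset.mem_insert, Finset.mem_singleton] at hx
    rcases hx with rfl | rfl
    · exact Finset.mem_image.mpr ⟨o1, ho1, hg1⟩
    · exact Finset.mem_image.mpr ⟨o2, ho2, hg2⟩
  have hsum1 : ∑ _s ∈ pairs, 1 = 78 := by
    rw [Finset.sum_const, smul_eq_mul, mul_one, hpairs_card]
  have hle : ∑ _s ∈ pairs, 1 ≤ ∑ s ∈ pairs, (Bf.bipartiteAbove r s).card :=
    Finset.sum_le_sum hex
  have heq : ∑ _s ∈ pairs, 1 = ∑ s ∈ pairs, (Bf.bipartiteAbove r s).card := by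
    apply le_antisymm hle
    rw [hdc, hRsum, hsum1]
    omega
  have hone := (Finset.sum_eq_sum_iff_of_le hex).mp heq
  refine ⟨fun b hb => hcardb b hb, ?_⟩
  intro s hs
  have hsp : s ∈ pairs := by
    rw [hpairs, Finset.mem_powersetCard]; exact ⟨Finset.subset_univ _, hs⟩
  have h1 := (hone s hsp).symm
  obtain ⟨b, hb⟩ := Finset.card_eq_one.mp h1
  have hbm : b ∈ Bf.bipartiteAbove r s := by rw [hb]; exact Finset.mem_singleton_self b
  simp only [Finset.bipartiteAbove, Finset.mem_filter, r] at hbm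
  refine ⟨b, ⟨hbm.1, hbm.2⟩, ?_⟩
  rintro b' ⟨hb'1, hb'2⟩
  have : b' ∈ Bf.bipartiteAbove r s := by
    simp only [Finset.bipartiteAbove, Finset.mem_filter, r]
    exact ⟨hb'1, hb'2⟩
  rw [hb] at this
  exact Finset.mem_singleton.mp this


section C

variable {G : Type u} [Group G] [Finite G] [IsSimpleGroup G]

/-- aux: the coset action of a non-abelian simple group on 13 cosets is faithful and 2-transitive -/
theorem c10_two_trans (hnc : ∃ x y : G, x * y ≠ y * x) (H₁ : Subgroup G)
    (h1 : Nat.card H₁ * 13 = Nat.card G) :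
    FaithfulSMul G (G ⧸ H₁) ∧ Nat.card (G ⧸ H₁) = 13 ∧
      ∀ {a b c d : G ⧸ H₁}, a ≠ b → c ≠ d → ∃ g : G, g • a = c ∧ g • b = d := by
  classical
  have hidx : H₁.index = 13 := by
    have := H₁.card_mul_index
    rw [← h1] at this
    have hpos : 0 < Nat.card H₁ := Nat.card_pos
    exact Nat.eq_of_mul_eq_mul_left hpos this
  have hcardΩ : Nat.card (G ⧸ H₁) = 13 := hidx
  -- the kernel of the action is trivial
  have hker : (MulAction.toPermHom G (G ⧸ H₁)).ker = ⊥ := by
    rcases (MonoidHom.normal_ker (MulAction.toPermHom G (G ⧸ H₁))).eq_bot_or_eq_top with hb | ht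
    · exact hb
    · exfalso
      rw [← Subgroup.normalCore_eq_ker] at ht
      have hle : H₁.normalCore ≤ H₁ := Subgroup.normalCore_le H₁
      rw [ht, top_le_iff] at hle
      rw [hle, Subgroup.index_top] at hidx
      norm_num at hidx
  have hinj : Function.Injective (MulAction.toPermHom G (G ⧸ H₁)) :=
    (MonoidHom.ker_eq_bot_iff _).mp hker
  have hfaith : FaithfulSMul G (G ⧸ H₁) := by
    refine ⟨fun {m₁ m₂} h => ?_⟩
    apply hinj
    ext a
    exact h a
  refine ⟨hfaith, hcardΩ, ?_⟩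
  let _i1 : Fintype (G ⧸ H₁) := Fintype.ofFinite _
  have hcardF : Fintype.card (G ⧸ H₁) = 13 := by
    rw [← Nat.card_eq_fintype_card]; exact hcardΩ
  set G' : Subgroup (Equiv.Perm (G ⧸ H₁)) := (MulAction.toPermHom G (G ⧸ H₁)).range with hG'
  haveI : MulAction.IsPretransitive G' (G ⧸ H₁) := by
    refine ⟨fun a b => ?_⟩
    obtain ⟨g, hg⟩ := MulAction.exists_smul_eq G a b
    exact ⟨⟨MulAction.toPermHom G (G ⧸ H₁) g, ⟨g, rfl⟩⟩, hg⟩
  rcases Cfsg.Agent.S0675.result (by rw [hcardF]; norm_num) G' with hsol | h2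
  · exfalso
    have : Group.IsSolvable G :=
      Group.isSolvable_of_isSolvable_injective (f := (MulAction.toPermHom G (G ⧸ H₁)).rangeRestrict)
        (MonoidHom.rangeRestrict_injective_iff.mpr hinj)
    have hcomm := IsSimpleGroup.comm_iff_isSolvable.mpr this
    obtain ⟨x, y, hxy⟩ := hnc
    exact hxy (hcomm x y)
  · intro a b c d hab hcd
    rw [MulAction.is_two_pretransitive_iff] at h2
    obtain ⟨σ, hσ1, hσ2⟩ := h2 hab hcd
    obtain ⟨g, hg⟩ := σ.2
    refine ⟨g, ?_, ?_⟩
    · have : (σ : Equiv.Perm (G ⧸ H₁)) a = c := hσ1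
      rw [← hg] at this; exact this
    · have : (σ : Equiv.Perm (G ⧸ H₁)) b = d := hσ2
      rw [← hg] at this; exact this

/-! ### PIECE C10 : two subgroups of index 13 meeting in a subgroup of index 4 give a projective plane of order 3 -/
theorem plane13 (hnc : ∃ x y : G, x * y ≠ y * x) (H₁ H₂ : Subgroup G) [DecidableEq (G ⧸ H₁)]
    (h1 : Nat.card H₁ * 13 = Nat.card G) (h2 : Nat.card H₂ * 13 = Nat.card G)
    (h12 : Nat.card ↥(H₁ ⊓ H₂) * 4 = Nat.card H₂) :
    FaithfulSMul G (G ⧸ H₁) ∧ Nat.card (G ⧸ H₁) = 13 ∧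
      ∃ B : Set (Finset (G ⧸ H₁)), Cfsg.IsSteinerSystem 2 4 B ∧
        ∀ g : G, ∀ b ∈ B, b.image (fun x => g • x) ∈ B := by
  classical
  obtain ⟨hfaith, hcardΩ, h2t⟩ := c10_two_trans hnc H₁ h1
  refine ⟨hfaith, hcardΩ, ?_⟩
  let _i1 : Fintype (G ⧸ H₁) := Fintype.ofFinite _
  let _i2 : Fintype (G ⧸ H₂) := Fintype.ofFinite _
  have hcardF : Fintype.card (G ⧸ H₁) = 13 := by
    rw [← Nat.card_eq_fintype_card]; exact hcardΩ
  have hidx2 : H₂.index = 13 := by
    have := H₂.card_mul_index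
    rw [← h2] at this
    have hpos : 0 < Nat.card H₂ := Nat.card_pos
    exact Nat.eq_of_mul_eq_mul_left hpos this
  have hcardF2 : Fintype.card (G ⧸ H₂) = 13 := by
    rw [← Nat.card_eq_fintype_card]; exact hidx2
  -- the base point and its orbit under H₂
  set o : G ⧸ H₁ := ((1 : G) : G ⧸ H₁) with ho
  set O : Finset (G ⧸ H₁) := Finset.univ.filter (fun ω => ∃ h ∈ H₂, h • o = ω) with hOdef
  have hOmem : ∀ ω, ω ∈ O ↔ ∃ h ∈ H₂, h • o = ω := by
    intro ω; rw [hOdef, Finset.mem_filter]; simp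
  have hOcard : O.card = 4 := by
    have hstab : MulAction.stabilizer ↥H₂ o = H₁.subgroupOf H₂ := by
      ext h
      rw [MulAction.mem_stabilizer_iff, Subgroup.mem_subgroupOf]
      have h0 : h • o = (h : G) • o := rfl
      rw [h0, ← MulAction.mem_stabilizer_iff, ho, MulAction.stabilizer_quotient]
    have hidx : (MulAction.stabilizer ↥H₂ o).index = (MulAction.orbit ↥H₂ o).ncard :=
      MulAction.index_stabilizer ↥H₂ o
    have hrel : H₁.relIndex H₂ = 4 := by
      have h4 : (⊥ : Subgroup G).relIndex (H₁ ⊓ H₂) * (H₁ ⊓ H₂).relIndex H₂ =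
          (⊥ : Subgroup G).relIndex H₂ :=
        Subgroup.relIndex_mul_relIndex _ _ _ bot_le inf_le_right
      rw [Subgroup.relIndex_bot_left, Subgroup.relIndex_bot_left, Subgroup.inf_relIndex_right,
        ← h12] at h4
      have hpos : 0 < Nat.card ↥(H₁ ⊓ H₂) := Nat.card_pos
      exact Nat.eq_of_mul_eq_mul_left hpos h4
    rw [hstab] at hidx
    have hO' : (O : Set (G ⧸ H₁)) = MulAction.orbit ↥H₂ o := by
      ext ω
      rw [Finset.mem_coe, hOmem, MulAction.mem_orbit_iff]
      constructor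
      · rintro ⟨h, hh, rfl⟩; exact ⟨⟨h, hh⟩, rfl⟩
      · rintro ⟨h, rfl⟩; exact ⟨h.1, h.2, rfl⟩
    rw [← Set.ncard_coe_finset, hO', ← hidx]
    exact hrel
  -- H₂ stabilizes O
  have hOstab : ∀ h ∈ H₂, O.image (fun x => h • x) = O := by
    intro h hh
    ext ω
    rw [Finset.mem_image, hOmem]
    constructor
    · rintro ⟨x, hx, rfl⟩
      obtain ⟨h', hh', rfl⟩ := (hOmem x).mp hx
      exact ⟨h * h', H₂.mul_mem hh hh', mul_smul h h' o⟩
    · rintro ⟨h', hh', rfl⟩
      refine ⟨(h⁻¹ * h') • o, (hOmem _).mpr ⟨h⁻¹ * h', H₂.mul_mem (H₂.inv_mem hh) hh', rfl⟩, ?_⟩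
      rw [← mul_smul, mul_inv_cancel_left]
  have himage : ∀ (g g' : G) (b : Finset (G ⧸ H₁)),
      (b.image (fun x => g' • x)).image (fun x => g • x) = b.image (fun x => (g * g') • x) := by
    intro g g' b
    rw [Finset.image_image]
    congr 1
    funext x
    exact (mul_smul g g' x).symm
  -- the family of blocks, indexed by G ⧸ H₂
  let F : G ⧸ H₂ → Finset (G ⧸ H₁) := fun q =>
    Quotient.liftOn' q (fun g => O.image (fun x => g • x)) (by
      intro a b hab
      rw [QuotientGroup.leftRel_apply] at hab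
      have : b = a * (a⁻¹ * b) := by group
      show O.image (fun x => a • x) = O.image (fun x => b • x)
      rw [this, ← himage, hOstab _ hab])
  have hF : ∀ g : G, F (g : G ⧸ H₂) = O.image (fun x => g • x) := fun g => rfl
  set Bf : Finset (Finset (G ⧸ H₁)) := Finset.univ.image F with hBf
  have hBcard : Bf.card ≤ 13 := by
    rw [← hcardF2, ← Finset.card_univ]
    exact Finset.card_image_le
  have hmem : ∀ g : G, O.image (fun x => g • x) ∈ Bf := by
    intro g
    rw [hBf, Finset.mem_image]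
    exact ⟨(g : G ⧸ H₂), Finset.mem_univ _, hF g⟩
  have hB : ∀ b ∈ Bf, ∃ g : G, b = O.image (fun x => g • x) := by
    intro b hb
    rw [hBf, Finset.mem_image] at hb
    obtain ⟨q, _, rfl⟩ := hb
    induction q using QuotientGroup.induction_on with
    | H g => exact ⟨g, hF g⟩
  refine ⟨{b | b ∈ Bf}, c10_steiner hcardF h2t O hOcard Bf hBcard hmem hB, ?_⟩
  intro g b hb
  obtain ⟨g', rfl⟩ := hB b hb
  show _ ∈ Bf
  rw [himage]
  exact hmem _

end C

end Cfsg.Agent.Helper26.L33
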