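import Mathlib
import Cfsg.Agent.Lib.Helper26.NSEDefs

/-!
# S3431 piece A4ARITH (helper3): `nse = {1, 3, 8}` forces `N = 12` and four Sylow `3`-subgroups
-/

set_option autoImplicit false

namespace Cfsg.Agent.Helper26.NSE

namespace A4ARITH

variable {N : ℕ} {s np : ℕ → ℕ}

theorem vals (h : IsNse s {1, 3, 8}) (m : ℕ) : s m = 0 ∨ s m = 1 ∨ s m = 3 ∨ s m = 8 := by
  rcases h.1 m with h0 | hm
  · exact Or.inl h0
  · simp at hm
    exact Or.inr hm

theorem vals3 (C : Ctx N s np) (h : IsNse s {1, 3, 8}) {m : ℕ} (hm : 3 ≤ m) : s m = 0 ∨ s m = 8 := by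
  have h2 := C.even_of_three_le hm
  rcases vals h m with h0 | h0 | h0 | h0 <;> omega

theorem s_two (C : Ctx N s np) (h : IsNse s {1, 3, 8}) : s 2 = 3 :=
  C.s_two_of_odd h (v := 3) (by simp) (by decide) (by decide)

theorem s_nine (C : Ctx N s np) (h : IsNse s {1, 3, 8}) : s 9 = 0 := by
  have h6 : 6 ∣ s 9 := by
    have := C.tot 9
    have ht : Nat.totient 9 = 6 := by decide
    rwa [ht] at this
  rcases vals3 C h (m := 9) (by norm_num) with h0 | h0
  · exact h0
  · omega

theorem prime_dvd (C : Ctx N s np) (h : IsNse s {1, 3, 8}) {p : ℕ} (hp : p.Prime) (hpN : p ∣ N) :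
    p = 2 ∨ p = 3 := by
  by_cases h2 : p = 2
  · exact Or.inl h2
  · right
    have hp3 : 3 ≤ p := by
      have := hp.two_le
      omega
    have hsp : s p = 8 := by
      rcases vals3 C h hp3 with h0 | h0
      · exact absurd h0 (C.cauchy p hp hpN)
      · exact h0
    have hf := C.frob p hpN
    rw [hp.divisors, Finset.sum_pair (by omega), C.s_one, hsp] at hf
    have h9 : p ∣ 3 ^ 2 := by
      norm_num
      exact hf
    exact (Nat.prime_dvd_prime_iff_eq hp Nat.prime_three).1 (hp.dvd_of_dvd_pow h9)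

theorem s_three (C : Ctx N s np) (h : IsNse s {1, 3, 8}) (h3 : 3 ∣ N) : s 3 = 8 := by
  rcases vals3 C h (m := 3) le_rfl with h0 | h0
  · exact absurd h0 (C.cauchy 3 Nat.prime_three h3)
  · exact h0

theorem not_eight (C : Ctx N s np) (h : IsNse s {1, 3, 8}) : ¬ 8 ∣ N := by
  intro h8
  have hf := C.frob 8 h8
  have hd : Nat.divisors 8 = {1, 2, 4, 8} := by decide
  rw [hd] at hf
  simp at hf
  rw [C.s_one, s_two C h] at hf
  rcases vals3 C h (m := 4) (by norm_num) with h4 | h4 <;>
    rcases vals3 C h (m := 8) (by norm_num) with h8' | h8' <;> omega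

theorem not_twentyseven (C : Ctx N s np) (h : IsNse s {1, 3, 8}) : ¬ 27 ∣ N := by
  intro h27
  have h3 : 3 ∣ N := dvd_trans (by norm_num) h27
  have hf := C.frob 27 h27
  have hd : Nat.divisors 27 = {1, 3, 9, 27} := by decide
  rw [hd] at hf
  simp at hf
  rw [C.s_one, s_three C h h3, s_nine C h, C.down_zero (m := 27) (d := 9) (by norm_num) (s_nine C h)] at hf
  omega

theorem dvd_thirtysix (C : Ctx N s np) (h : IsNse s {1, 3, 8}) : N ∣ 36 := by
  rw [Nat.dvd_iff_prime_pow_dvd_dvd]
  intro p k hp hpk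
  rcases Nat.eq_zero_or_pos k with hk | hk
  · subst hk
    simp
  · have hpN : p ∣ N := dvd_trans (dvd_pow_self p hk.ne') hpk
    rcases prime_dvd C h hp hpN with rfl | rfl
    · have hk2 : k ≤ 2 := by
        by_contra hk3
        push Not at hk3
        exact not_eight C h (dvd_trans (pow_dvd_pow 2 (show 3 ≤ k by omega)) hpk)
      exact dvd_trans (pow_dvd_pow 2 hk2) (by norm_num)
    · have hk2 : k ≤ 2 := by
        by_contra hk3
        push Not at hk3
        exact not_twentyseven C h (dvd_trans (pow_dvd_pow 3 (show 3 ≤ k by omega)) hpk)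
      exact dvd_trans (pow_dvd_pow 3 hk2) (by norm_num)

theorem cases (C : Ctx N s np) (h : IsNse s {1, 3, 8}) : N = 12 ∨ N = 18 ∨ N = 36 := by
  have h36 := dvd_thirtysix C h
  have h12 : 12 ≤ N := by
    have := C.sum_values_le h
    simpa using this
  have h2 : 2 ∣ N := C.dvd 2 (by rw [s_two C h]; norm_num)
  have hmem : N ∈ Nat.divisors 36 := Nat.mem_divisors.2 ⟨h36, by norm_num⟩
  have hd : Nat.divisors 36 = {1, 2, 3, 4, 6, 9, 12, 18, 36} := by decide
  rw [hd] at hmem
  simp only [Finset.mem_insert, Finset.mem_singleton] at hmem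
  rcases hmem with rfl | rfl | rfl | rfl | rfl | rfl | rfl | rfl | rfl <;> omega

theorem not_eighteen (C : Ctx N s np) (h : IsNse s {1, 3, 8}) : N ≠ 18 := by
  rintro rfl
  have ht := C.total (Nat.divisors 18) (fun m hm => Nat.mem_divisors.2 ⟨C.dvd m hm, by norm_num⟩)
  have hd : Nat.divisors 18 = {1, 2, 3, 6, 9, 18} := by decide
  rw [hd] at ht
  simp at ht
  rw [C.s_one, s_two C h, s_three C h (by norm_num), s_nine C h,
    C.down_zero (m := 18) (d := 9) (by norm_num) (s_nine C h)] at ht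
  rcases vals3 C h (m := 6) (by norm_num) with h6 | h6 <;> omega

theorem not_thirtysix (C : Ctx N s np) (h : IsNse s {1, 3, 8}) : N ≠ 36 := by
  rintro rfl
  have ht := C.total (Nat.divisors 36) (fun m hm => Nat.mem_divisors.2 ⟨C.dvd m hm, by norm_num⟩)
  have hd : Nat.divisors 36 = {1, 2, 3, 4, 6, 9, 12, 18, 36} := by decide
  rw [hd] at ht
  simp at ht
  rw [C.s_one, s_two C h, s_three C h (by norm_num), s_nine C h,
    C.down_zero (m := 18) (d := 9) (by norm_num) (s_nine C h),
    C.down_zero (m := 36) (d := 9) (by norm_num) (s_nine C h)] at ht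
  have hf := C.frob 6 (by norm_num)
  have hd6 : Nat.divisors 6 = {1, 2, 3, 6} := by decide
  rw [hd6] at hf
  simp at hf
  rw [C.s_one, s_two C h, s_three C h (by norm_num)] at hf
  rcases vals3 C h (m := 4) (by norm_num) with h4 | h4 <;>
    rcases vals3 C h (m := 6) (by norm_num) with h6 | h6 <;>
      rcases vals3 C h (m := 12) (by norm_num) with h12 | h12 <;> omega

end A4ARITH

section Arith

variable {N : ℕ} {s np : ℕ → ℕ}

/-- PIECE A4ARITH. -/
theorem a4_arith (C : Ctx N s np) (h : IsNse s {1, 3, 8}) : N = 12 ∧ np 3 = 4 := by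
  have hN : N = 12 := by
    rcases A4ARITH.cases C h with h1 | h1 | h1
    · exact h1
    · exact absurd h1 (A4ARITH.not_eighteen C h)
    · exact absurd h1 (A4ARITH.not_thirtysix C h)
  refine ⟨hN, ?_⟩
  subst hN
  have h3 := A4ARITH.s_three C h (by norm_num)
  have hc := (C.cyc 3 1 Nat.prime_three one_pos (by norm_num) (by norm_num)
    (by rw [pow_one, h3]; norm_num)).1
  rw [pow_one, h3] at hc
  have ht : Nat.totient 3 = 2 := by decide
  rw [ht] at hc
  omega

end Arith

end Cfsg.Agent.Helper26.NSE
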