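import Mathlib
import Cfsg.Agent.Lib.Helper2.PermIso

/-!
# S3431 piece A4END (helper3): a group of order `12` with four Sylow `3`-subgroups is `A₄`
-/

set_option autoImplicit false

namespace Cfsg.Agent.Helper26.NSE

namespace A4END

variable {G : Type*} [Group G] [Finite G]

/-- a Sylow `3`-subgroup of a group of order `12` with four Sylow `3`-subgroups is self-normalizing of order `3` -/
theorem card_normalizer (h12 : Nat.card G = 12) (h3 : Nat.card (Sylow 3 G) = 4) (P : Sylow 3 G) :
    Nat.card (Subgroup.normalizer (P : Set G)) = 3 := by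
  haveI : Fact (Nat.Prime 3) := ⟨Nat.prime_three⟩
  have hidx : (Subgroup.normalizer (P : Set G)).index = 4 := by
    rw [← Sylow.card_eq_index_normalizer P, h3]
  have h := Subgroup.card_mul_index (Subgroup.normalizer (P : Set G))
  rw [hidx, h12] at h
  omega

theorem card_sylow (h12 : Nat.card G = 12) (h3 : Nat.card (Sylow 3 G) = 4) (P : Sylow 3 G) :
    Nat.card (P : Subgroup G) = 3 := by
  haveI : Fact (Nat.Prime 3) := ⟨Nat.prime_three⟩
  have hle : (P : Subgroup G) ≤ (Subgroup.normalizer (P : Set G)) := Subgroup.le_normalizer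
  have hdvd : Nat.card (P : Subgroup G) ∣ 3 := by
    have h := Subgroup.card_dvd_of_le hle
    rwa [card_normalizer h12 h3 P] at h
  have hne : (P : Subgroup G) ≠ ⊥ := P.ne_bot_of_dvd_card (by rw [h12]; norm_num)
  have hne1 : Nat.card (P : Subgroup G) ≠ 1 := fun h => hne (Subgroup.card_eq_one.1 h)
  rcases (Nat.dvd_prime Nat.prime_three).1 hdvd with h | h
  · exact absurd h hne1
  · exact h

theorem normalizer_eq (h12 : Nat.card G = 12) (h3 : Nat.card (Sylow 3 G) = 4) (P : Sylow 3 G) :
    (Subgroup.normalizer (P : Set G)) = (P : Subgroup G) := by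
  symm
  have hle : (P : Subgroup G) ≤ (Subgroup.normalizer (P : Set G)) := Subgroup.le_normalizer
  apply Subgroup.eq_of_le_of_card_ge hle
  rw [card_normalizer h12 h3 P, card_sylow h12 h3 P]

/-- an element lying in all Sylow `3`-subgroups is trivial -/
theorem eq_one_of_forall_mem (h12 : Nat.card G = 12) (h3 : Nat.card (Sylow 3 G) = 4) (g : G)
    (hg : ∀ P : Sylow 3 G, g ∈ (P : Subgroup G)) : g = 1 := by
  by_contra hne
  have hnt : Nontrivial (Sylow 3 G) := Finite.one_lt_card_iff_nontrivial.1 (by rw [h3]; norm_num)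
  obtain ⟨P, Q, hPQ⟩ := exists_pair_ne (Sylow 3 G)
  have key : ∀ R : Sylow 3 G, Subgroup.zpowers g = (R : Subgroup G) := by
    intro R
    have hle : Subgroup.zpowers g ≤ (R : Subgroup G) := (Subgroup.zpowers_le).2 (hg R)
    apply Subgroup.eq_of_le_of_card_ge hle
    have hdvd : Nat.card (Subgroup.zpowers g) ∣ 3 := by
      have h := Subgroup.card_dvd_of_le hle
      rwa [card_sylow h12 h3 R] at h
    have hne1 : Nat.card (Subgroup.zpowers g) ≠ 1 := by
      intro h
      rw [Subgroup.card_eq_one, Subgroup.zpowers_eq_bot] at h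
      exact hne h
    rcases (Nat.dvd_prime Nat.prime_three).1 hdvd with h | h
    · exact absurd h hne1
    · rw [h, card_sylow h12 h3 R]
  exact hPQ (Sylow.ext ((key P).symm.trans (key Q)))

end A4END

section End

variable {G : Type*} [Group G] [Finite G]

/-- PIECE A4END: a group of order 12 with four Sylow 3-subgroups acts faithfully on them. -/
theorem a4_end (h12 : Nat.card G = 12) (h3 : Nat.card (Sylow 3 G) = 4) :
    Nonempty (G ≃* ↥(alternatingGroup (Fin 4))) := by
  classical
  haveI : Fact (Nat.Prime 3) := ⟨Nat.prime_three⟩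
  haveI : Fintype (Sylow 3 G) := Fintype.ofFinite _
  have hα : Fintype.card (Sylow 3 G) = 4 := by
    rw [← Nat.card_eq_fintype_card, h3]
  refine Cfsg.Agent.Helper2.equiv_alternating_of_injective 4 hα (MulAction.toPermHom G (Sylow 3 G)) ?_
    (by rw [h12]; decide)
  rw [injective_iff_map_eq_one]
  intro g hg
  apply A4END.eq_one_of_forall_mem h12 h3 g
  intro P
  have h1 : g • P = P := by
    have := congrArg (fun σ : Equiv.Perm (Sylow 3 G) => σ P) hg
    simpa using this
  have h2 : g ∈ (Subgroup.normalizer (P : Set G)) := Sylow.smul_eq_iff_mem_normalizer.1 h1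
  rwa [A4END.normalizer_eq h12 h3 P] at h2

end End

end Cfsg.Agent.Helper26.NSE
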