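import Mathlib
import Cfsg.Prelude.Def_Characters
import Cfsg.Prelude.Def_Blocks
import Cfsg.Agent.Lib.Helper12.MaxSubG
import Cfsg.Agent.Lib.Helper22.PPrimeCore
import Cfsg.Agent.Lib.Helper27.PSLp11
import Cfsg.Agent.S4700

set_option autoImplicit false

/-! Piece SIEVE of the S0679 farm-out (helper27): the Brauer--Reynolds sieve for a simple
transitive group of degree `11` whose Sylow `11`-normalizer has order `55`. -/

namespace Cfsg.Agent.Helper27.D11

open Cfsg Equiv MulAction
open scoped commutatorElement

universe u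

variable {α : Type u} [Fintype α] [DecidableEq α]

namespace SIEVE

/-- the sixteen admissible values -/
def vals : List ℕ :=
  [1, 12, 45, 56, 144, 210, 320, 540, 672, 1134, 1728, 2520, 6480, 8064, 30240, 362880]

set_option maxRecDepth 100000 in
theorem small_div : ∀ d : ℕ, d ≤ 602 → d ∣ 362880 → d % 11 = 1 → d ∈ vals := by
  decide +kernel

set_option maxRecDepth 100000 in
theorem small_codiv : ∀ e : ℕ, e ≤ 602 → e ∣ 362880 → (362880 / e) % 11 = 1 →
    362880 / e ∈ vals := by
  decide +kernel

theorem div_mod {d : ℕ} (h1 : d ∣ 362880) (h2 : d % 11 = 1) : d ∈ vals := by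
  by_cases hd : d ≤ 602
  · exact small_div d hd h1 h2
  · push Not at hd
    obtain ⟨e, he⟩ := h1
    have hdpos : 0 < d := by omega
    have hed : 362880 / e = d := by
      have hepos : 0 < e := by
        rcases Nat.eq_zero_or_pos e with h | h
        · subst h; simp at he
        · exact h
      rw [he]
      exact Nat.mul_div_cancel _ hepos
    have hele : e ≤ 602 := by
      by_contra hc
      push Not at hc
      have : 603 * 603 ≤ d * e := Nat.mul_le_mul (by omega) (by omega)
      omega
    have := small_codiv e hele ⟨d, by rw [he, mul_comm]⟩ (by rw [hed]; exact h2)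
    rwa [hed] at this

/-- the third Brauer--Reynolds alternative is impossible for `n ≤ 5` -/
theorem no_hu {n h u : ℕ} (hn : n ≤ 5) (hh : 0 < h) (hu : 0 < u)
    (e : n * (u + 1) = h * u * 11 + u ^ 2 + u + h) : False := by
  have h1 : u ≤ h * u := Nat.le_mul_of_pos_left u hh
  nlinarith

end SIEVE

/-- PIECE SIEVE. -/
theorem sieve (hα : Fintype.card α = 11) (G : Subgroup (Perm α)) [IsPretransitive G α]
    (hs : IsSimpleGroup G) (hG : ¬ Group.IsSolvable G) (hA : G ≤ alternatingGroup α)
    (P : Sylow 11 G) (hP : Nat.card (P : Subgroup G) = 11) (hn : 1 < Nat.card (Sylow 11 G))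
    (hN : Nat.card (Subgroup.normalizer ((P : Subgroup G) : Set G)) = 55) :
    Nonempty (G ≃* Matrix.ProjectiveSpecialLinearGroup (Fin 2) (ZMod 11)) ∨
      Nat.card G ∈ ({7920, 11550, 17600, 29700, 36960, 62370, 95040, 138600, 356400, 443520,
        1663200, 19958400} : Finset ℕ) := by
  classical
  haveI : Fact (Nat.Prime 11) := ⟨by norm_num⟩
  haveI := hs
  -- `G` is perfect
  have hperf : commutator G = ⊤ := by
    rcases (inferInstance : (commutator G).Normal).eq_bot_or_eq_top with h | h
    · exfalso
      apply hG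
      apply isSolvable_of_comm
      intro a b
      have : ⁅a, b⁆ ∈ commutator G :=
        Subgroup.commutator_mem_commutator (Subgroup.mem_top a) (Subgroup.mem_top b)
      rw [h, Subgroup.mem_bot] at this
      exact commutatorElement_eq_one_iff_mul_comm.1 this
    · exact h
  -- `|G| = 55 n₁₁`
  have hcard : Nat.card G = 55 * Nat.card (Sylow 11 G) := by
    rw [P.card_eq_index_normalizer, ← hN]
    exact (Subgroup.card_mul_index _).symm
  -- `|G| ∣ |A₁₁|`
  have hAcard : Nat.card (alternatingGroup α) = 19958400 := by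
    haveI : Nontrivial α := Fintype.one_lt_card_iff_nontrivial.1 (by omega)
    have h1 := two_mul_nat_card_alternatingGroup (α := α)
    rw [Nat.card_eq_fintype_card, Nat.card_eq_fintype_card, Fintype.card_perm, hα] at h1
    rw [Nat.card_eq_fintype_card]
    have : (11 : ℕ).factorial = 39916800 := by decide
    omega
  have hdvd : Nat.card G ∣ 19958400 := by
    rw [← hAcard]
    exact Subgroup.card_dvd_of_le hA
  have hdvd' : Nat.card (Sylow 11 G) ∣ 362880 := by
    rw [hcard] at hdvd
    have : (55 : ℕ) * Nat.card (Sylow 11 G) ∣ 55 * 362880 := by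
      simpa using hdvd
    exact Nat.dvd_of_mul_dvd_mul_left (by norm_num) this
  have hmod : Nat.card (Sylow 11 G) % 11 = 1 := card_sylow_modEq_one 11 G
  obtain ⟨n, hn11⟩ : ∃ n, Nat.card (Sylow 11 G) = 1 + n * 11 :=
    ⟨Nat.card (Sylow 11 G) / 11, by omega⟩
  have hvals := SIEVE.div_mod hdvd' hmod
  -- the `11'`-core is trivial
  have h11 : 11 ∣ Nat.card G := by
    rw [← hP]
    exact Subgroup.card_subgroup_dvd_card _
  have hOG : Cfsg.pPrimeCore 11 G = ⊥ := by
    rcases (Cfsg.Agent.Helper22.pPrimeCore_normal (G := G) 11).eq_bot_or_eq_top with h | h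
    · exact h
    · exfalso
      apply Cfsg.Agent.Helper22.not_dvd_card_pPrimeCore (G := G) 11 (by norm_num)
      rw [h, Subgroup.card_top]
      exact h11
  rcases Cfsg.Agent.S4700.result hperf 11 P hP n hn11 with h | h | h
  · left
    obtain ⟨F, _, _, hF, -, ⟨e⟩⟩ := h
    have h1 : Nat.card (G ⧸ Cfsg.pPrimeCore 11 G) =
        Nat.card (Matrix.ProjectiveSpecialLinearGroup (Fin 2) F) := Nat.card_congr e.toEquiv
    have h2 := Subgroup.card_eq_card_quotient_mul_card_subgroup (Cfsg.pPrimeCore 11 G)
    rw [hOG, Subgroup.card_bot, mul_one] at h2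
    have h3 := Cfsg.Agent.Helper12.MaxSub.two_mul_card_PSL2 (F := F) (by rw [hF]; decide)
    rw [hF] at h3
    rw [hOG] at h1
    have h660 : Nat.card G = 660 := by omega
    exact Cfsg.Agent.Helper27.PSLp.psl11 h660 (F := ZMod 11) (by
      rw [ZMod.card])
  · exfalso
    obtain ⟨k, F, _, _, -, hk, -⟩ := h
    have h10 : 2 ^ k = 10 := by omega
    have hk4 : k < 4 := by
      by_contra hc
      push Not at hc
      have := Nat.pow_le_pow_right (by norm_num : 0 < 2) hc
      omega
    interval_cases k <;> omega
  · obtain ⟨h', u, hh, hu, e⟩ := h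
    right
    rw [hcard]
    simp only [SIEVE.vals, List.mem_cons, List.not_mem_nil, or_false] at hvals
    rcases hvals with h1 | h1 | h1 | h1 | h1 | h1 | h1 | h1 | h1 | h1 | h1 | h1 | h1 | h1 | h1 | h1
    · omega
    · exact (SIEVE.no_hu (n := n) (by omega) hh hu e).elim
    · exact (SIEVE.no_hu (n := n) (by omega) hh hu e).elim
    · exact (SIEVE.no_hu (n := n) (by omega) hh hu e).elim
    all_goals (rw [h1]; decide)

end Cfsg.Agent.Helper27.D11
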