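import Mathlib
import Cfsg.Agent.Lib.Helper27.GWBDefs

/-!
# S0508 piece ZA (helper3): `BSWData.inf_conj`.
-/

set_option autoImplicit false
set_option linter.unusedVariables false
set_option linter.unusedSectionVars false

namespace Cfsg.Agent.Helper27.GWB

universe u

variable {G : Type u} [Group G] [Finite G]

/-- aux: powers of `a * d` with `a ∈ Q`, `d` normalizing `Q`. -/
theorem ZA_pow (Q : Subgroup G) (a d : G) (ha : a ∈ Q)
    (hd : d ∈ Subgroup.normalizer (Q : Set G)) (n : ℕ) :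
    ∃ a' ∈ Q, (a * d) ^ n = a' * d ^ n := by
  induction n with
  | zero => exact ⟨1, Q.one_mem, by simp⟩
  | succ n ih =>
    obtain ⟨a', ha', h⟩ := ih
    have hdn : d ^ n ∈ Subgroup.normalizer (Q : Set G) := Subgroup.pow_mem _ hd n
    have h1 : d ^ n * a * (d ^ n)⁻¹ ∈ Q := (Subgroup.mem_normalizer_iff.mp hdn a).mp ha
    refine ⟨a' * (d ^ n * a * (d ^ n)⁻¹), Q.mul_mem ha' h1, ?_⟩
    rw [pow_succ, h, pow_succ]
    group

/-- aux: an element of `Q ⊔ D` killed by `|Q|` lies in `Q`. -/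
theorem ZA_mem_of_pow {Q D : Subgroup G} (h : BSWData G Q D) (y : G)
    (hy : y ∈ Subgroup.normalizer (Q : Set G)) (hpow : y ^ Nat.card Q = 1) : y ∈ Q := by
  have hDN : D ≤ Subgroup.normalizer (Q : Set G) := by
    rw [h.norm]; exact le_sup_right
  have hy' : y ∈ ((Q ⊔ D : Subgroup G) : Set G) := by
    have : y ∈ Q ⊔ D := by rw [← h.norm]; exact hy
    exact this
  rw [Subgroup.coe_mul_of_right_le_normalizer_left Q D hDN] at hy'
  obtain ⟨a, ha, d, hd, hyad⟩ := hy'
  have hyad' : a * d = y := hyad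
  subst hyad'
  have ha : a ∈ Q := ha
  have hd : d ∈ D := hd
  obtain ⟨a', ha', hpw⟩ := ZA_pow Q a d ha (hDN hd) (Nat.card Q)
  rw [hpow] at hpw
  have hdq : d ^ Nat.card Q = a'⁻¹ := by
    have : a'⁻¹ * 1 = a'⁻¹ * (a' * d ^ Nat.card Q) := by rw [hpw]
    simpa using this.symm
  have hdqQ : d ^ Nat.card Q ∈ Q := by rw [hdq]; exact Q.inv_mem ha'
  have hdqD : d ^ Nat.card Q ∈ D := D.pow_mem hd _
  have hdq1 : d ^ Nat.card Q = 1 := by
    have : d ^ Nat.card Q ∈ Q ⊓ D := Subgroup.mem_inf.mpr ⟨hdqQ, hdqD⟩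
    rw [h.inf] at this
    exact Subgroup.mem_bot.mp this
  have hdD1 : d ^ Nat.card D = 1 := by
    have h0 : (⟨d, hd⟩ : D) ^ Nat.card D = 1 := pow_card_eq_one'
    have h00 := congrArg Subtype.val h0
    rw [Subgroup.coe_pow, Subgroup.coe_one] at h00
    exact h00
  have h1 : orderOf d ∣ Nat.card Q := orderOf_dvd_of_pow_eq_one hdq1
  have h2 : orderOf d ∣ Nat.card D := orderOf_dvd_of_pow_eq_one hdD1
  have hcop : Nat.Coprime (Nat.card Q) (Nat.card D) := by
    rw [← h.cardD]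
    simp
  have h3 : orderOf d ∣ 1 := by
    have := Nat.dvd_gcd h1 h2
    rwa [hcop] at this
  have hd1 : d = 1 := orderOf_eq_one_iff.mp (Nat.dvd_one.mp h3)
  rw [hd1, mul_one]
  exact ha

/-- PIECE ZA. -/
theorem BSWData.inf_conj {Q D : Subgroup G} (h : BSWData G Q D) (g : G)
    (hg : g ∉ Subgroup.normalizer (Q : Set G)) :
    Q ⊓ (Subgroup.normalizer (Q : Set G)).map (MulAut.conj g).toMonoidHom = ⊥ := by
  rw [Subgroup.eq_bot_iff_forall]
  intro x hx
  by_contra hx1
  obtain ⟨hxQ, hxg⟩ := Subgroup.mem_inf.mp hx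
  obtain ⟨y, hyN, hyeq⟩ := Subgroup.mem_map.mp hxg
  have hyeq' : g * y * g⁻¹ = x := by simpa using hyeq
  have hxpow : x ^ Nat.card Q = 1 := by
    have h0 : (⟨x, hxQ⟩ : Q) ^ Nat.card Q = 1 := pow_card_eq_one'
    have h00 := congrArg Subtype.val h0
    rw [Subgroup.coe_pow, Subgroup.coe_one] at h00
    exact h00
  have hypow : y ^ Nat.card Q = 1 := by
    have hy : y = g⁻¹ * x * g := by rw [← hyeq']; group
    rw [hy]
    have : (g⁻¹ * x * g) ^ Nat.card Q = g⁻¹ * x ^ Nat.card Q * g := by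
      have := conj_pow (a := g⁻¹) (b := x) (i := Nat.card Q)
      simpa using this
    rw [this, hxpow]; group
  have hyQ : y ∈ Q := ZA_mem_of_pow h y hyN hypow
  have hy1 : y ≠ 1 := by
    intro hy
    apply hx1
    rw [← hyeq', hy]; group
  have hCx := h.cent x hxQ hx1
  have hCy := h.cent y hyQ hy1
  apply hg
  rw [Subgroup.mem_normalizer_iff]
  intro c
  constructor
  · intro hc
    rw [← hCx, Subgroup.mem_centralizer_iff]
    intro z hz
    rw [Set.mem_singleton_iff] at hz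
    subst hz
    have hcy : y * c = c * y := by
      have : c ∈ Subgroup.centralizer ({y} : Set G) := by rw [hCy]; exact hc
      exact (Subgroup.mem_centralizer_iff.mp this) y (Set.mem_singleton y)
    rw [← hyeq']
    calc g * y * g⁻¹ * (g * c * g⁻¹) = g * (y * c) * g⁻¹ := by group
      _ = g * (c * y) * g⁻¹ := by rw [hcy]
      _ = g * c * g⁻¹ * (g * y * g⁻¹) := by group
  · intro hc
    rw [← hCy, Subgroup.mem_centralizer_iff]
    intro z hz
    rw [Set.mem_singleton_iff] at hz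
    subst hz
    have hcx : x * (g * c * g⁻¹) = (g * c * g⁻¹) * x := by
      have : g * c * g⁻¹ ∈ Subgroup.centralizer ({x} : Set G) := by rw [hCx]; exact hc
      exact (Subgroup.mem_centralizer_iff.mp this) x (Set.mem_singleton x)
    rw [← hyeq'] at hcx
    have : g * (z * c) * g⁻¹ = g * (c * z) * g⁻¹ := by
      calc g * (z * c) * g⁻¹ = g * z * g⁻¹ * (g * c * g⁻¹) := by group
        _ = g * c * g⁻¹ * (g * z * g⁻¹) := hcx
        _ = g * (c * z) * g⁻¹ := by group
    have h7 := mul_right_cancel this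
    exact mul_left_cancel h7

end Cfsg.Agent.Helper27.GWB
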