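import Mathlib
import Cfsg.Agent.Lib.Helper3.BSWDefs
import Cfsg.Agent.Lib.Helper4.BSWFUS
import Cfsg.Agent.Lib.Helper25.BSWHYPCONJ
import Cfsg.Agent.Lib.Helper6.BSWQA
import Cfsg.Agent.Lib.Helper8.BSWNQA1
import Cfsg.Agent.Lib.Helper8.BSWNQA2

/-!
# S3282: assembly of case A (`q = 2k+1`), see `plans/S3282_proof.md`, section II-A
-/

set_option autoImplicit false
set_option linter.unusedSectionVars false

namespace Cfsg.Agent.Helper3.BSW

universe u

section
variable {G : Type u} [Group G] [Finite G] {t s : G} {K : Subgroup G}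

namespace Asm

theorem card_Kc (K : Subgroup G) (g : G) : Nat.card (Kc K g) = Nat.card K := by
  unfold Kc
  exact Subgroup.card_map_of_injective (MulAut.conj g).injective

theorem t_ne_one (h : Hyp t s K) : t ≠ 1 := by
  intro h1
  have := h.ht
  rw [h1, orderOf_one] at this
  omega

theorem K_ne_bot (h : Hyp t s K) : K ≠ ⊥ := by
  intro hb
  have := h.htK
  rw [hb, Subgroup.mem_bot] at this
  exact t_ne_one h this

/-- the last clause of the conclusion for `D = K`. -/
theorem last_clause (h : Hyp t s K) (X : Subgroup G) (hX : X ≤ K) (hne : X ≠ ⊥) :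
    Subgroup.normalizer (X : Set G) = Subgroup.normalizer (K : Set G) ∧
      ∃ u : G, orderOf u = 2 ∧ u ∉ K ∧ (∀ d ∈ K, u * d * u⁻¹ = d⁻¹) ∧
        Subgroup.normalizer (K : Set G) = K ⊔ Subgroup.zpowers u := by
  have h1 := normalizer_eq h hX hne
  have h2 := normalizer_eq h (le_refl K) (K_ne_bot h)
  refine ⟨h1.trans h2.symm, s, h.hs, h.hsK, h.hinv, ?_⟩
  rw [h2, h.hH]

theorem isMulCommutative_of_comm {D : Subgroup G} (hD : ∀ a ∈ D, ∀ b ∈ D, a * b = b * a) :
    IsMulCommutative ↥D :=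
  ⟨⟨fun a b => Subtype.ext (hD a.1 a.2 b.1 b.2)⟩⟩

end Asm

end

variable {G : Type u} [Group G] [Fintype G] {t s : G} {K : Subgroup G} {St : G → ℤ}

theorem concl_A (h : Hyp t s K) (hA : StA K St) : Concl G := by
  obtain ⟨Q, v, hQc, hQ, hQR, hv, hvN⟩ := exists_QA h hA
  have hge := card_normalizer_QA h hA hQc hQ hQR
  obtain ⟨g, hN, hQD⟩ := normalizer_QA h hQc hQ hv hvN hge
  have hD := hyp_conj h g
  have hcD : Nat.card (Kc K g) = Nat.card K := Asm.card_Kc K g
  refine ⟨Q, Kc K g, ?_, hQ, Asm.isMulCommutative_of_comm hD.hKab, ?_, hQD, hN, ?_⟩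
  · have hc := hA.card
    have hc' : Nat.card G = 2 * Nat.card K * (2 * Nat.card K + 1) * (Nat.card K + 1) := by
      exact_mod_cast hc
    rw [hQc, hc']
    have : 2 * Nat.card K + 1 - 1 = 2 * Nat.card K := by omega
    rw [this]
    ring
  · rw [hcD, hQc]
  · intro X hX hne
    exact Asm.last_clause hD X hX hne

end Cfsg.Agent.Helper3.BSW
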