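import Mathlib
import Cfsg.Agent.Lib.Helper3.BSWArithDefs
import Cfsg.Agent.Lib.Helper24.BSWPAIR
import Cfsg.Agent.Lib.Helper24.BSWPN
import Cfsg.Agent.Lib.Helper24.BSWTYPE
import Cfsg.Agent.Lib.Helper10.BSWJ0A
import Cfsg.Agent.Lib.Helper10.BSWJ0B
import Cfsg.Agent.Lib.Helper18.BSWE2A
import Cfsg.Agent.Lib.Helper25.BSWE2B
import Cfsg.Agent.Lib.Lead.BSWK2S
import Cfsg.Agent.Lib.Lead.BSWK2A
import Cfsg.Agent.Lib.Lead.BSWK2B
import Cfsg.Agent.Lib.Helper8.BSWEQS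
import Cfsg.Agent.Lib.Helper19.BSWBOUND
import Cfsg.Agent.Lib.Helper18.BSWCONGZ
import Cfsg.Agent.Lib.Helper8.BSWKILL1
import Cfsg.Agent.Lib.Helper22.BSWKILL2
import Cfsg.Agent.Lib.Helper17.BSWNUMA
import Cfsg.Agent.Lib.Helper17.BSWNUMB

/-!
# S3282: assembly of ARITH (`plans/S3282_proof.md`, section A)
-/

set_option autoImplicit false

namespace Cfsg.Agent.Helper3.BSW

variable {ι J : Type*} [Fintype ι] [Fintype J] [DecidableEq ι] [DecidableEq J]
variable {k g : ℕ} {o : ι} {inv : J → J} {j0 : J} {sgn : J → ℤ} {b : J → ι → ℤ} {deg a1 : ι → ℤ}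

namespace AsmArith

theorem g_pos (H : ArithHyp k g o inv j0 sgn b deg a1) : 0 < g := by
  have h1 : (0 : ℤ) < ∑ i, deg i ^ 2 := by
    apply Finset.sum_pos
    · intro i _
      have := H.deg_pos i
      positivity
    · exact ⟨o, Finset.mem_univ o⟩
  rw [H.sq_sum] at h1
  exact_mod_cast h1

/-- if `J ≠ {j0}` then `k ≥ 4`. -/
theorem k_ge_four (H : ArithHyp k g o inv j0 sgn b deg a1) (hne : ∃ j, j ≠ j0) : 4 ≤ k := by
  obtain ⟨j, hj⟩ := hne
  have h1 : inv j ≠ j := fun h => hj ((H.inv_fix j).mp h)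
  have h2 : inv j ≠ j0 := by
    intro h
    have h3 := (H.inv_fix j0).mpr rfl
    have : inv (inv j) = j0 := by rw [h, h3]
    rw [H.inv_inv] at this
    exact hj this
  have hcard : 3 ≤ Fintype.card J := by
    have hsub : ({j, inv j, j0} : Finset J) ⊆ Finset.univ := Finset.subset_univ _
    have h3 : ({j, inv j, j0} : Finset J).card = 3 := by
      rw [Finset.card_insert_of_notMem, Finset.card_insert_of_notMem, Finset.card_singleton]
      · simpa using h2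
      · simp only [Finset.mem_insert, Finset.mem_singleton, not_or]
        exact ⟨fun h => h1 h.symm, hj⟩
    calc 3 = ({j, inv j, j0} : Finset J).card := h3.symm
      _ ≤ Finset.univ.card := Finset.card_le_card hsub
      _ = Fintype.card J := Finset.card_univ
  have := H.card_J
  omega

theorem k_eq_two (H : ArithHyp k g o inv j0 sgn b deg a1) (hJ : ∀ j : J, j = j0) : k = 2 := by
  have h1 : Fintype.card J = 1 := by
    rw [Fintype.card_eq_one_iff]
    exact ⟨j0, hJ⟩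
  have := H.card_J
  omega

end AsmArith

open AsmArith

/-- the good shape gives the numbers. -/
theorem good_of_shape (H : ArithHyp k g o inv j0 sgn b deg a1) {P : ι} {S : J → ι} {Z1 Z2 : ι}
    {ε : ℤ} (hε : ε = 1 ∨ ε = -1) (hS : Shape o inv j0 b deg P S Z1 Z2 ε ε) :
    Good k g o inv j0 b deg P S Z1 Z2 ε := by
  have hgpos := g_pos H
  obtain ⟨he1, he2⟩ := eq_shape H hε hε hS
  have hb := sq_bound H hS
  obtain ⟨hcP, hc1, hc2⟩ := cong_shape H hS
  have hdP := H.deg_pos P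
  have hd1 := H.deg_pos Z1
  have hd2 := H.deg_pos Z2
  have hdz := hS.degZ
  by_cases hne : ∃ j, j ≠ j0
  · have hk4 := k_ge_four H hne
    have he1' := he1 hne
    rcases hε with rfl | rfl
    · have hdeg : deg P - deg Z1 - deg Z2 = -1 := by linarith
      have hcong : deg Z1 = (k : ℤ) * a1 Z1 + 1 := hc1
      have e1 : (1 : ℚ) + 1 / (deg P : ℚ) - 4 / ((deg P : ℚ) + 1) = 4 * (k : ℚ) ^ 3 / (g : ℚ) := by
        have := he1'; push_cast at this; linarith
      have e2 : (1 : ℚ) + 1 / (deg P : ℚ) - 1 / (deg Z1 : ℚ) - 1 / (deg Z2 : ℚ) =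
          4 * (k : ℚ) ^ 3 / (g : ℚ) := by
        have := he2; push_cast at this; linarith
      have hb' : 2 + 2 * deg P ^ 2 + ((k : ℤ) - 2) * (deg P + 1) ^ 2 + 2 * deg Z1 ^ 2 +
          2 * deg Z2 ^ 2 ≤ 2 * (g : ℤ) := hb
      obtain ⟨r1, r2, r3, r4⟩ := num_arith_A k g (deg P) (deg Z1) (deg Z2) (a1 Z1) hk4 hdP hd1 hd2
        hgpos hdeg hcong (H.a1_nonneg Z1) e1 e2 hb'
      exact ⟨hS, by rw [r1], by rw [r2], by rw [r3], by rw [r4]⟩
    · have hdeg : -deg P + deg Z1 + deg Z2 = -1 := by linarith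
      have hcong : deg Z1 = (k : ℤ) * a1 Z1 - 1 := by linarith
      have e1 : (1 : ℚ) - 1 / (deg P : ℚ) + 4 / ((deg P : ℚ) - 1) = 4 * (k : ℚ) ^ 3 / (g : ℚ) := by
        have := he1'; push_cast at this
        have e : (-1 : ℚ) / (deg P : ℚ) = - (1 / (deg P : ℚ)) := by ring
        have e' : (4 : ℚ) * -1 / ((deg P : ℚ) + -1) = - (4 / ((deg P : ℚ) - 1)) := by
          rw [← sub_eq_add_neg]; ring
        rw [e, e'] at this; linarith
      have e2 : (1 : ℚ) - 1 / (deg P : ℚ) + 1 / (deg Z1 : ℚ) + 1 / (deg Z2 : ℚ) =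
          4 * (k : ℚ) ^ 3 / (g : ℚ) := by
        have := he2; push_cast at this
        have e : ∀ x : ℚ, (-1 : ℚ) / x = - (1 / x) := fun x => by ring
        rw [e, e, e] at this; linarith
      have hb' : 2 + 2 * deg P ^ 2 + ((k : ℤ) - 2) * (deg P - 1) ^ 2 + 2 * deg Z1 ^ 2 +
          2 * deg Z2 ^ 2 ≤ 2 * (g : ℤ) := by
        have := hb; rw [← sub_eq_add_neg] at this; exact this
      obtain ⟨r1, r2, r3, r4⟩ := num_arith_B k g (deg P) (deg Z1) (deg Z2) (a1 Z1) hk4 hdP hd1 hd2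
        hgpos hdeg hcong e1 e2 hb'
      exact ⟨hS, by rw [r1]; ring, by rw [r2]; ring, by rw [r3]; ring, by rw [r4]; ring⟩
  · push Not at hne
    have hk2 := k_eq_two H hne
    subst hk2
    rcases hε with rfl | rfl
    · have hdeg : deg P - deg Z1 - deg Z2 = -1 := by linarith
      have e2 : (1 : ℚ) + 1 / (deg P : ℚ) - 1 / (deg Z1 : ℚ) - 1 / (deg Z2 : ℚ) = 32 / (g : ℚ) := by
        have := he2; push_cast at this; norm_num at this ⊢; linarith
      have hb' : 2 + 2 * deg P ^ 2 + 2 * deg Z1 ^ 2 + 2 * deg Z2 ^ 2 ≤ 2 * (g : ℤ) := by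
        have := hb; push_cast at this; linarith
      obtain ⟨r1, r2, r3, r4⟩ := k2_arith_A g (deg P) (deg Z1) (deg Z2) (a1 P) (a1 Z1) (a1 Z2)
        hdP hd1 hd2 hgpos hdeg (by rw [hcP]; push_cast; ring) (by rw [hc1]; push_cast; ring)
        (by rw [hc2]; push_cast; ring) e2 hb'
      exact ⟨hS, by rw [r1]; norm_num, by rw [r2]; norm_num, by rw [r3]; norm_num,
        by rw [r4]; norm_num⟩
    · have hdeg : -deg P + deg Z1 + deg Z2 = -1 := by linarith
      have e2 : (1 : ℚ) - 1 / (deg P : ℚ) + 1 / (deg Z1 : ℚ) + 1 / (deg Z2 : ℚ) = 32 / (g : ℚ) := by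
        have := he2; push_cast at this
        have e : ∀ x : ℚ, (-1 : ℚ) / x = - (1 / x) := fun x => by ring
        rw [e, e, e] at this; norm_num at this ⊢; linarith
      have hb' : 2 + 2 * deg P ^ 2 + 2 * deg Z1 ^ 2 + 2 * deg Z2 ^ 2 ≤ 2 * (g : ℤ) := by
        have := hb; push_cast at this; linarith
      obtain ⟨r1, r2, r3, r4⟩ := k2_arith_B g (deg P) (deg Z1) (deg Z2) (a1 P) (a1 Z1) (a1 Z2)
        hdP hd1 hd2 hgpos hdeg (by rw [hcP]; push_cast; ring) (by rw [hc1]; push_cast; ring)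
        (by rw [hc2]; push_cast; ring) e2 hb'
      exact ⟨hS, by rw [r1]; norm_num, by rw [r2]; norm_num, by rw [r3]; norm_num,
        by rw [r4]; norm_num⟩

/-- ARITH. -/
theorem arith (H : ArithHyp k g o inv j0 sgn b deg a1) :
    ∃ (P : ι) (S : J → ι) (Z1 Z2 : ι) (ε : ℤ), (ε = 1 ∨ ε = -1) ∧
      Good k g o inv j0 b deg P S Z1 Z2 ε := by
  by_cases hJ : ∀ j : J, j = j0
  · obtain ⟨P, S, Z1, Z2, ε, hε, hS⟩ := k2_shape H hJ
    exact ⟨P, S, Z1, Z2, ε, hε, good_of_shape H hε hS⟩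
  · push Not at hJ
    obtain ⟨j1, hj1⟩ := hJ
    have hne : ∃ j, j ≠ j0 := ⟨j1, hj1⟩
    obtain ⟨X, Y, D⟩ := pair_data H
    -- the two good branches
    have branchA : ∀ X0 : ι, (∀ j, j ≠ j0 → X j = X0) → b j0 X0 = 1 →
        ∃ (P : ι) (S : J → ι) (Z1 Z2 : ι) (ε : ℤ), (ε = 1 ∨ ε = -1) ∧
          Good k g o inv j0 b deg P S Z1 Z2 ε := by
      intro X0 hX ha
      obtain ⟨Z1, Z2, ζ, hζ, hS⟩ := j0_shape_A H D X0 hX hne ha
      rcases hζ with rfl | rfl
      · exact ⟨X0, Y, Z1, Z2, 1, Or.inl rfl, good_of_shape H (Or.inl rfl) hS⟩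
      · exact (kill_one H (Or.inl rfl) hne hS).elim
    have branchB : ∀ Y0 : ι, (∀ j, j ≠ j0 → Y j = Y0) → b j0 Y0 = -1 →
        ∃ (P : ι) (S : J → ι) (Z1 Z2 : ι) (ε : ℤ), (ε = 1 ∨ ε = -1) ∧
          Good k g o inv j0 b deg P S Z1 Z2 ε := by
      intro Y0 hY hc
      obtain ⟨Z1, Z2, ζ, hζ, hS⟩ := j0_shape_B H D Y0 hY hne hc
      rcases hζ with rfl | rfl
      · have hS' : Shape o inv j0 b deg Y0 X Z1 Z2 (-1) (-(-1)) := by simpa using hS
        exact (kill_one H (Or.inr rfl) hne hS').elim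
      · exact ⟨Y0, X, Z1, Z2, -1, Or.inr rfl, good_of_shape H (Or.inr rfl) hS⟩
    rcases pn_type H D hj1 with ⟨hp1, hp2⟩ | ⟨hn1, hn2⟩
    · -- `j1` of the first kind
      by_cases hX : ∀ j, j ≠ j0 → X j = X j1
      · exact branchA (X j1) hX hp1
      · push Not at hX
        obtain ⟨j2, hj2, hX2⟩ := hX
        -- then type B with `b j0 Y0 = 0`
        rcases type_AB H D with ⟨X0, hX0⟩ | ⟨Y0, hY0⟩
        · exact absurd ((hX0 j2 hj2).trans (hX0 j1 hj1).symm) hX2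
        · have hc : b j0 Y0 = 0 := by rw [← hY0 j1 hj1]; exact hp2
          obtain ⟨Z, hE⟩ := j0_exotic_B H D Y0 hY0 hc hj1 hj2 (fun h => hX2 h.symm)
          exact (kill_two H (Or.inr rfl) hE).elim
    · by_cases hY : ∀ j, j ≠ j0 → Y j = Y j1
      · exact branchB (Y j1) hY hn2
      · push Not at hY
        obtain ⟨j2, hj2, hY2⟩ := hY
        rcases type_AB H D with ⟨X0, hX0⟩ | ⟨Y0, hY0⟩
        · have ha : b j0 X0 = 0 := by rw [← hX0 j1 hj1]; exact hn1
          obtain ⟨Z, hE⟩ := j0_exotic_A H D X0 hX0 ha hj1 hj2 (fun h => hY2 h.symm)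
          exact (kill_two H (Or.inl rfl) hE).elim
        · exact absurd ((hY0 j2 hj2).trans (hY0 j1 hj1).symm) hY2

end Cfsg.Agent.Helper3.BSW
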