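import Mathlib
import Cfsg.Agent.Lib.Helper3.BSWDefs
import Cfsg.Agent.Lib.Helper4.BSWHSTRUCT
import Cfsg.Agent.Lib.Helper25.BSWVALSB
import Cfsg.Agent.Lib.Helper19.BSWCENTB1
import Cfsg.Agent.Lib.Helper17.BSWDVDQ
import Cfsg.Agent.Lib.Helper19.BSWCENTR0
import Cfsg.Agent.Lib.Helper17.BSWPPOW
import Cfsg.Agent.Lib.Helper12.BSWNDB
import Cfsg.Agent.Lib.Helper14.BSWODDCL1
import Cfsg.Agent.Lib.Helper14.BSWODDCL2
import Cfsg.Agent.Lib.Helper12.BSWABW
import Cfsg.Agent.Lib.Helper17.BSWR0B
import Cfsg.Agent.Lib.Helper10.BSWSYLTI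
import Cfsg.Agent.Lib.Helper6.BSWQB
import Cfsg.Agent.Lib.Helper6.BSWNQB
import Cfsg.Agent.Lib.Helper14.BSWSCTI

/-!
# S3282: assembly of case B (`q = 2k-1`), see `plans/S3282_proof.md`, section II-B
-/

set_option autoImplicit false

namespace Cfsg.Agent.Helper3.BSW

universe u

section
variable {G : Type u} [Group G] {t s : G} {K : Subgroup G}

namespace Asm

theorem isMulCommutative_of_comm' {D : Subgroup G} (hD : ∀ a ∈ D, ∀ b ∈ D, a * b = b * a) :
    IsMulCommutative ↥D :=
  ⟨⟨fun a b => Subtype.ext (hD a.1 a.2 b.1 b.2)⟩⟩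

/-- the subgroup `D ∪ D u` for an involution `u` inverting `D`. -/
def dihSub (D : Subgroup G) (u : G) (hu : u * u = 1) (huD : ∀ d ∈ D, u * d * u⁻¹ = d⁻¹) :
    Subgroup G where
  carrier := {g | g ∈ D ∨ ∃ d ∈ D, g = d * u}
  one_mem' := Or.inl D.one_mem
  mul_mem' := by
    have hui : u⁻¹ = u := inv_eq_of_mul_eq_one_left hu
    rintro a b (ha | ⟨d1, hd1, rfl⟩) (hb | ⟨d2, hd2, rfl⟩)
    · exact Or.inl (D.mul_mem ha hb)
    · exact Or.inr ⟨a * d2, D.mul_mem ha hd2, by group⟩
    · refine Or.inr ⟨d1 * b⁻¹, D.mul_mem hd1 (D.inv_mem hb), ?_⟩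
      have := huD b hb
      calc d1 * u * b = d1 * (u * b * u⁻¹) * u := by group
        _ = d1 * b⁻¹ * u := by rw [this]
    · refine Or.inl ?_
      have := huD d2 hd2
      have e : d1 * u * (d2 * u) = d1 * (u * d2 * u⁻¹) * (u * u) := by group
      rw [e, this, hu, mul_one]
      exact D.mul_mem hd1 (D.inv_mem hd2)
  inv_mem' := by
    have hui : u⁻¹ = u := inv_eq_of_mul_eq_one_left hu
    rintro a (ha | ⟨d, hd, rfl⟩)
    · exact Or.inl (D.inv_mem ha)
    · refine Or.inr ⟨d, hd, ?_⟩
      have := huD d⁻¹ (D.inv_mem hd)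
      rw [inv_inv] at this
      calc (d * u)⁻¹ = u⁻¹ * d⁻¹ := by group
        _ = u * d⁻¹ := by rw [hui]
        _ = (u * d⁻¹ * u⁻¹) * u := by group
        _ = d * u := by rw [this]

theorem mem_sup_invol {D : Subgroup G} {u : G} (hu : u * u = 1)
    (huD : ∀ d ∈ D, u * d * u⁻¹ = d⁻¹) {g : G} (hg : g ∈ D ⊔ Subgroup.zpowers u) :
    g ∈ D ∨ ∃ d ∈ D, g = d * u := by
  have hle : D ⊔ Subgroup.zpowers u ≤ dihSub D u hu huD := by
    apply sup_le
    · intro x hx; exact Or.inl hx
    · rw [Subgroup.zpowers_le]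
      exact Or.inr ⟨1, D.one_mem, by simp⟩
  exact hle hg

theorem sq_of_invol {u : G} (hu : orderOf u = 2) : u * u = 1 := by
  have := pow_orderOf_eq_one u
  rw [hu, pow_two] at this
  exact this

/-- odd order elements of `D ⟨u⟩` lie in `D`. -/
theorem mem_of_odd {D : Subgroup G} {u : G} (hu : orderOf u = 2)
    (huD : ∀ d ∈ D, u * d * u⁻¹ = d⁻¹) {g : G} (hg : g ∈ D ⊔ Subgroup.zpowers u)
    (hodd : Odd (orderOf g)) : g ∈ D := by
  have huu := sq_of_invol hu
  rcases mem_sup_invol huu huD hg with h | ⟨d, hd, rfl⟩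
  · exact h
  · have hsq : (d * u) ^ 2 = 1 := by
      have := huD d hd
      have e : (d * u) ^ 2 = d * (u * d * u⁻¹) * (u * u) := by rw [pow_two]; group
      rw [e, this, huu]; group
    have hdvd : orderOf (d * u) ∣ 2 := orderOf_dvd_of_pow_eq_one hsq
    have h1 : orderOf (d * u) = 1 := by
      rcases (Nat.dvd_prime Nat.prime_two).mp hdvd with h1 | h2
      · exact h1
      · rw [h2] at hodd; exact absurd hodd (by decide)
    rw [orderOf_eq_one_iff] at h1
    rw [h1]; exact D.one_mem

end Asm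
end

variable {G : Type u} [Group G] [Fintype G] {t s : G} {K : Subgroup G} {St : G → ℤ}

set_option maxHeartbeats 400000 in
theorem concl_B (h : Hyp t s K) (hB : StB K St) : Concl G := by
  classical
  obtain ⟨hkeven, hk2⟩ := even_card_K h
  have hkodd : Odd (2 * Nat.card K - 1) := by
    rcases hkeven with ⟨m, hm⟩
    exact ⟨2 * m - 1, by omega⟩
  -- existence of `D` when `k > 2`
  have hDex : 2 < Nat.card K → ∃ D : Subgroup G, Nat.card D + 1 = Nat.card K ∧
      ∀ x ∈ D, x ≠ 1 → InR K x ∧ St x = 1 := by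
    intro hk
    have hc := card_R1B h hB
    have hpos : 0 < Nat.card {y : G // InR K y ∧ St y = 1} := by
      rw [hc]
      apply Nat.mul_pos (Nat.mul_pos _ _) <;> omega
    obtain ⟨⟨y, hy, h1⟩⟩ := (Nat.card_pos_iff.mp hpos).1
    obtain ⟨u, hu, huinv, hsc, hcard, hR⟩ := cent_B1 h hB hy h1
    exact ⟨_, hcard, hR⟩
  have hdvd : ∀ M : Subgroup G, (∀ x ∈ M, x ≠ 1 → InR K x ∧ St x = 0) →
      Nat.card M ∣ 2 * Nat.card K - 1 := fun M hM => card_dvd_q h hB hDex hM
  have hcent : ∀ y : G, InR K y → St y = 0 →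
      Nat.card (Subgroup.centralizer ({y} : Set G)) = 2 * Nat.card K - 1 :=
    fun y hy h0 => card_cent_R0B h hB hdvd hy h0
  have hcls : ∀ y y' : G, InR K y → St y = 0 → InR K y' → St y' = 0 →
      IsConj y y' ∨ IsConj y⁻¹ y' :=
    fun y y' hy h0 hy' h0' => classes_R0B h hB hdvd hy h0 hy' h0'
  obtain ⟨p, hp, ha, hord, hp0⟩ := exists_prime_B h hB hcent hcls
  haveI : Fact p.Prime := ⟨hp⟩
  -- data on `R1`
  have hR1 : ∀ y : G, InR K y → St y = 1 → SelfCent (Subgroup.centralizer ({y} : Set G)) ∧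
      Nat.card (Subgroup.centralizer ({y} : Set G)) + 1 = Nat.card K ∧
      (∀ x ∈ Subgroup.centralizer ({y} : Set G), x ≠ 1 → InR K x ∧ St x = 1) ∧
      ∀ g ∈ Subgroup.normalizer ((Subgroup.centralizer ({y} : Set G) : Subgroup G) : Set G),
        Odd (orderOf g) → g ∈ Subgroup.centralizer ({y} : Set G) := by
    intro y hy h1
    obtain ⟨u, hu, huinv, hsc, hcard, hR⟩ := cent_B1 h hB hy h1
    have hne : Subgroup.centralizer ({y} : Set G) ≠ ⊥ := by
      intro hb
      have hymem : y ∈ Subgroup.centralizer ({y} : Set G) := by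
        rw [Subgroup.mem_centralizer_iff]
        intro x hx
        rw [Set.mem_singleton_iff] at hx
        rw [hx]
      rw [hb, Subgroup.mem_bot] at hymem
      exact hy.1 hymem
    have hND := normalizer_DB h hsc hne hcard hu huinv
    refine ⟨hsc, hcard, hR, ?_⟩
    intro g hg hodd
    rw [hND] at hg
    exact Asm.mem_of_odd hu huinv hg hodd
  -- odd order subgroups are `p`-closed
  have hcl : ∀ N : Subgroup G, Odd (Nat.card N) → ∃ P : Subgroup G, P ≤ N ∧ IsPGroup p P ∧
      N ≤ Subgroup.normalizer (P : Set G) ∧ ∀ x ∈ N, (∃ j : ℕ, orderOf x = p ^ j) → x ∈ P := by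
    intro N hN
    apply p_closed_of_compl hp
    intro l hl hlp
    apply exists_normal_compl hl hN
    rintro w hwN hw1 ⟨j, hj⟩
    apply abel_cent_B h hB hw1
    · have hd : orderOf w ∣ Nat.card N := by
        have := Subgroup.orderOf_dvd_natCard N hwN
        exact this
      exact Odd.of_dvd_nat hN hd
    · rintro ⟨hwR, hw0⟩
      have hwp := hord w hwR hw0
      rw [hj] at hwp
      have hlp' : l ∣ p := by
        rw [← hwp]
        apply dvd_pow_self
        intro hj0
        rw [hj0, pow_zero] at hwp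
        exact hp.one_lt.ne hwp
      exact hlp ((Nat.prime_dvd_prime_iff_eq hl hp).mp hlp')
  have hR0 : ∀ x : G, x ≠ 1 → (∃ j : ℕ, orderOf x = p ^ j) →
      Odd (Nat.card (Subgroup.centralizer ({x} : Set G))) ∧ ¬ IsConj x x⁻¹ := by
    intro x hx1 hxp
    obtain ⟨hxR, hx0⟩ := hp0 x hx1 hxp
    refine ⟨?_, not_real_B h hB hxR hx0⟩
    rw [hcent x hxR hx0]
    exact hkodd
  have hti := sylow_ti hR0 hcl
  obtain ⟨Q, hQc, hQ, hQR, hNQ, hQN⟩ := exists_QB h hB ha hp0 hord hcent hti
  have hGc : Nat.card G = 2 * Nat.card K * (2 * Nat.card K - 1) * (Nat.card K - 1) := by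
    have hc := hB.card
    have e1 : ((2 * Nat.card K - 1 : ℕ) : ℤ) = 2 * (Nat.card K : ℤ) - 1 := by
      rw [Nat.cast_sub (by omega)]; push_cast; ring
    have e2 : ((Nat.card K - 1 : ℕ) : ℤ) = (Nat.card K : ℤ) - 1 := by
      rw [Nat.cast_sub (by omega)]; push_cast; ring
    have : (Nat.card G : ℤ) =
        ((2 * Nat.card K * (2 * Nat.card K - 1) * (Nat.card K - 1) : ℕ) : ℤ) := by
      rw [hc]; push_cast [e1, e2]; ring
    exact_mod_cast this
  have hfirst : 2 * Nat.card G = Nat.card ↥Q * (Nat.card ↥Q + 1) * (Nat.card ↥Q - 1) := by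
    rw [hQc, hGc]
    have e1 : 2 * Nat.card K - 1 + 1 = 2 * Nat.card K := by omega
    have e2 : 2 * Nat.card K - 1 - 1 = 2 * (Nat.card K - 1) := by omega
    rw [e1, e2]; ring
  have hQle : Q ≤ Subgroup.normalizer (Q : Set G) := Subgroup.le_normalizer
  by_cases hk : 2 < Nat.card K
  · obtain ⟨y, hy, h1, hle⟩ := exists_DB h hB hk hQc hQ hQR hNQ hQN hR1
    obtain ⟨u, hu, huinv, hsc, hcard, hR⟩ := cent_B1 h hB hy h1
    obtain ⟨-, -, -, hodd'⟩ := hR1 y hy h1
    have hymem : y ∈ Subgroup.centralizer ({y} : Set G) := by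
      rw [Subgroup.mem_centralizer_iff]
      intro x hx
      rw [Set.mem_singleton_iff] at hx
      rw [hx]
    have hne : Subgroup.centralizer ({y} : Set G) ≠ ⊥ := by
      intro hb
      rw [hb, Subgroup.mem_bot] at hymem
      exact hy.1 hymem
    have hND := normalizer_DB h hsc hne hcard hu huinv
    generalize hDdef : Subgroup.centralizer ({y} : Set G) = D at *
    have hcomm := selfCent_comm hsc
    have hdisj : Q ⊓ D = ⊥ := by
      rw [eq_bot_iff]
      intro x hx
      rw [Subgroup.mem_bot]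
      by_contra hx1
      have h0 := (hQR x hx.1 hx1).2
      have h1' := (hR x hx.2 hx1).2
      rw [h0] at h1'
      exact absurd h1' (by norm_num)
    have hsup : Subgroup.normalizer (Q : Set G) = Q ⊔ D := by
      have hle' : Q ⊔ D ≤ Subgroup.normalizer (Q : Set G) := sup_le hQle hle
      symm
      apply Subgroup.eq_of_le_of_card_ge hle'
      have hd1 : Nat.card Q ∣ Nat.card ↥(Q ⊔ D) := Subgroup.card_dvd_of_le le_sup_left
      have hd2 : Nat.card D ∣ Nat.card ↥(Q ⊔ D) := Subgroup.card_dvd_of_le le_sup_right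
      have hcop : Nat.Coprime (Nat.card Q) (Nat.card D) := by
        rw [hQc]
        have : Nat.card D = Nat.card K - 1 := by omega
        rw [this]
        have e : 2 * Nat.card K - 1 = 2 * (Nat.card K - 1) + 1 := by omega
        rw [e]
        simp
      have hd := hcop.mul_dvd_of_dvd_of_dvd hd1 hd2
      rw [hNQ]
      have : Nat.card D = Nat.card K - 1 := by omega
      rw [hQc, this] at hd
      exact Nat.le_of_dvd Nat.card_pos hd
    refine ⟨Q, D, hfirst, hQ, Asm.isMulCommutative_of_comm' hcomm, ?_, hdisj, hsup, ?_⟩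
    · rw [hQc]; omega
    · intro X hX hXne
      have huu := Asm.sq_of_invol hu
      have hui : u⁻¹ = u := inv_eq_of_mul_eq_one_left huu
      refine ⟨le_antisymm (selfCent_normalizer hsc hX hXne) ?_, u, hu, ?_, huinv, hND⟩
      · rw [hND]
        apply sup_le
        · intro d hd
          rw [Subgroup.mem_normalizer_iff]
          intro x
          constructor
          · intro hx
            have : d * x * d⁻¹ = x := by
              rw [hcomm d hd x (hX hx)]; group
            rw [this]; exact hx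
          · intro hx
            have hx' : d * x * d⁻¹ ∈ D := hX hx
            have hxD : x ∈ D := by
              have := D.mul_mem (D.mul_mem (D.inv_mem hd) hx') hd
              have e : d⁻¹ * (d * x * d⁻¹) * d = x := by group
              rwa [e] at this
            have : d * x * d⁻¹ = x := by
              rw [hcomm d hd x hxD]; group
            rwa [this] at hx
        · rw [Subgroup.zpowers_le, Subgroup.mem_normalizer_iff]
          intro x
          constructor
          · intro hx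
            rw [huinv x (hX hx)]
            exact X.inv_mem hx
          · intro hx
            have hx' : u * x * u⁻¹ ∈ D := hX hx
            have hxD : x ∈ D := by
              have h3 := huinv _ hx'
              have e : u * (u * x * u⁻¹) * u⁻¹ = x := by
                have : u * (u * x * u⁻¹) * u⁻¹ = (u * u) * x * (u⁻¹ * u⁻¹) := by group
                rw [this, hui, huu]; group
              rw [e] at h3
              rw [h3]; exact D.inv_mem hx'
            rw [huinv x hxD] at hx
            have := X.inv_mem hx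
            rwa [inv_inv] at this
      · intro huD
        have hu1 : u ≠ 1 := by
          intro h1'
          rw [h1', orderOf_one] at hu
          omega
        have hInR := (hR u huD hu1).1
        obtain ⟨c, hc⟩ := isConj_iff.mp (h.hconj u t hu h.ht)
        exact hInR.2 c (by rw [hc]; exact h.htK)
  · have hk' : Nat.card K = 2 := by omega
    have hNQ' : Nat.card (Subgroup.normalizer (Q : Set G)) = Nat.card Q := by
      rw [hNQ, hQc, hk']
    have hsup : Subgroup.normalizer (Q : Set G) = Q ⊔ ⊥ := by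
      rw [sup_bot_eq]
      symm
      exact Subgroup.eq_of_le_of_card_ge hQle (le_of_eq hNQ')
    refine ⟨Q, ⊥, hfirst, hQ, Asm.isMulCommutative_of_comm' ?_, ?_, inf_bot_eq _, hsup, ?_⟩
    · intro a ha b hb
      rw [Subgroup.mem_bot] at ha hb
      rw [ha, hb]
    · rw [hQc, hk']; simp
    · intro X hX hXne
      exact absurd (le_bot_iff.mp hX) hXne

end Cfsg.Agent.Helper3.BSW
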