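import Mathlib
import Cfsg.Agent.Lib.Helper24.CharComplete
import Cfsg.Agent.Lib.Helper24.BSWRES
import Cfsg.Agent.Lib.Helper3.BSWCharDefs

/-!
# S3282 pieces CONG and TAUF: `res_K` at `x = 1` and at `x = t`
-/

set_option autoImplicit false
set_option linter.unusedSectionVars false

namespace Cfsg.Agent.Helper3.BSW

open Cfsg Cfsg.Agent.Helper24
open scoped ComplexConjugate

universe u

variable {G : Type u} [Group G] [Fintype G] [Fintype (IrrCharacter G)] [DecidableEq (IrrCharacter G)]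
  {t s : G} {K : Subgroup G} [Fintype K] [Fintype (JK K)] [DecidableEq (JK K)]
  {a1 : IrrCharacter G → ℤ} {b : JK K → IrrCharacter G → ℤ} {sgn : JK K → ℤ}

/-- PIECE CONG (C2). `res_K` at `x = 1`, `irr_one_eq_charDegree`. -/
theorem cong_K (h : Hyp t s K) (cd : CharData K t h.htK a1 b sgn) (ψ : IrrCharacter G) :
    degZ ψ = (Nat.card K : ℤ) * a1 ψ - ∑ μ, b μ ψ := by
  classical
  have h1 := res_K h cd ψ (K.one_mem)
  rw [if_pos rfl] at h1
  have h2 : ∀ μ : JK K, (b μ ψ : ℂ) * ((μ.1 ⟨1, K.one_mem⟩ : ℂˣ) : ℂ) = (b μ ψ : ℂ) := by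
    intro μ
    have : (⟨1, K.one_mem⟩ : ↥K) = 1 := rfl
    rw [this, map_one]
    simp
  simp only [h2] at h1
  rw [irr_one_eq_charDegree ψ.2] at h1
  have h3 : ((degZ ψ : ℤ) : ℂ) = (((Nat.card K : ℤ) * a1 ψ - ∑ μ, b μ ψ : ℤ) : ℂ) := by
    unfold degZ
    push_cast
    exact h1
  exact_mod_cast h3

/-- PIECE TAUF (C3). `res_K` at `x = t ≠ 1`. -/
theorem tau_K (h : Hyp t s K) (cd : CharData K t h.htK a1 b sgn) (ψ : IrrCharacter G) :
    (ψ : G → ℂ) t = ((tau sgn b ψ : ℤ) : ℂ) := by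
  classical
  have ht1 : t ≠ 1 := by
    intro h1
    have := h.ht
    rw [h1, orderOf_one] at this
    omega
  have h1 := res_K h cd ψ h.htK
  rw [if_neg ht1, zero_sub] at h1
  rw [h1]
  unfold tau
  push_cast
  congr 1
  refine Finset.sum_congr rfl fun μ _ => ?_
  rw [cd.hsgn μ]

end Cfsg.Agent.Helper3.BSW
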