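import Mathlib
import Cfsg.Agent.Lib.Helper24.CharComplete
import Cfsg.Agent.Lib.Helper6.BSWEQC
import Cfsg.Agent.Lib.Helper3.BSWCONG
import Cfsg.Agent.Lib.Helper3.BSWCharDefs

/-!
# S3282: the rational form of `eqC_K` (piece EQ, helper3's copy in the namespace `BSW.EQF`)
-/

set_option autoImplicit false
set_option linter.unusedSectionVars false

namespace Cfsg.Agent.Helper3.BSW

open Cfsg Cfsg.Agent.Helper24
open scoped ComplexConjugate

universe u

variable {G : Type u} [Group G] [Fintype G] [Fintype (IrrCharacter G)] [DecidableEq (IrrCharacter G)]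
  {t s : G} {K : Subgroup G} [Fintype K] [Fintype (JK K)] [DecidableEq (JK K)]
  {a1 : IrrCharacter G → ℤ} {b : JK K → IrrCharacter G → ℤ} {sgn : JK K → ℤ}

namespace EQF

/-- fallback copy of piece EQ (rational form of `eqC_K`). -/
theorem eq_K (h : Hyp t s K) (cd : CharData K t h.htK a1 b sgn) (μ : JK K) :
    ∑ ψ : IrrCharacter G, (b μ ψ : ℚ) * (tau sgn b ψ : ℚ) ^ 2 / (degZ ψ : ℚ) =
      4 * (Nat.card K : ℚ) ^ 3 / (Nat.card G : ℚ) := by
  have h1 := eqC_K h cd μ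
  have h2 : ∀ ψ : IrrCharacter G, (b μ ψ : ℂ) * (ψ : G → ℂ) t ^ 2 / (ψ : G → ℂ) 1 =
      (((b μ ψ : ℚ) * (tau sgn b ψ : ℚ) ^ 2 / (degZ ψ : ℚ) : ℚ) : ℂ) := by
    intro ψ
    rw [tau_K h cd ψ, irr_one_eq_charDegree ψ.2]
    unfold degZ
    push_cast
    rfl
  simp only [h2] at h1
  rw [← Rat.cast_sum] at h1
  have h3 : ((4 * (Nat.card K : ℚ) ^ 3 / (Nat.card G : ℚ) : ℚ) : ℂ) =
      4 * (Nat.card K : ℂ) ^ 3 / (Nat.card G : ℂ) := by push_cast; rfl
  rw [← h3] at h1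
  exact_mod_cast h1

end EQF

end Cfsg.Agent.Helper3.BSW
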