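import Mathlib
import Cfsg.Agent.Lib.Helper24.CharComplete
import Cfsg.Agent.Lib.Helper24.CharAbelian
import Cfsg.Agent.Lib.Helper24.BSWRES
import Cfsg.Agent.Lib.Helper9.BSWDUAL
import Cfsg.Agent.Lib.Helper3.BSWCharDefs

/-!
# S3282 piece STK: the Steinberg character `P` takes the value `ε` on `K#`
-/

set_option autoImplicit false
set_option linter.unusedSectionVars false

namespace Cfsg.Agent.Helper3.BSW

open Cfsg Cfsg.Agent.Helper24
open scoped ComplexConjugate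

universe u

namespace STK

theorem finite_hom (A : Type u) [Group A] [Finite A] : Finite (A →* ℂˣ) := by
  have h := card_monoidHom_units (G := A)
  have hne : Nat.card (A →* ℂˣ) ≠ 0 := by
    rw [h]
    exact Subgroup.index_ne_zero_of_finite
  exact Nat.finite_of_card_ne_zero hne

/-- `∑_{μ ≠ 1} μ(x) = -1` for `x ≠ 1` in a finite abelian group (classical instances). -/
theorem sum_nonprincipal' {A : Type u} [Group A] [Fintype A] (hA : ∀ a b : A, a * b = b * a)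
    {x : A} (hx : x ≠ 1) :
    ∃ inst : Fintype {μ : A →* ℂˣ // μ ≠ 1},
      @Finset.sum _ _ _ (@Finset.univ _ inst) (fun μ : {μ : A →* ℂˣ // μ ≠ 1} => ((μ.1 x : ℂˣ) : ℂ)) = -1 := by
  classical
  haveI : Finite (A →* ℂˣ) := finite_hom A
  haveI : Fintype (A →* ℂˣ) := Fintype.ofFinite _
  have h1 := dual_orth hA x 1
  rw [if_neg hx] at h1
  have h2 : ∀ μ : A →* ℂˣ, ((μ x : ℂˣ) : ℂ) * conj ((μ 1 : ℂˣ) : ℂ) = ((μ x : ℂˣ) : ℂ) := by
    intro μ
    rw [map_one]
    simp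
  simp only [h2] at h1
  have h3 := Fintype.sum_subtype_add_sum_subtype (fun μ : A →* ℂˣ => μ ≠ 1)
    (fun μ : A →* ℂˣ => ((μ x : ℂˣ) : ℂ))
  rw [h1] at h3
  have h4 : ∑ i : {μ : A →* ℂˣ // ¬ μ ≠ 1}, ((i.1 x : ℂˣ) : ℂ) = 1 := by
    have hu : ∀ i : {μ : A →* ℂˣ // ¬ μ ≠ 1}, i = ⟨1, by simp⟩ := by
      intro i
      apply Subtype.ext
      have := i.2
      push Not at this
      exact this
    rw [Fintype.sum_eq_single (⟨1, by simp⟩ : {μ : A →* ℂˣ // ¬ μ ≠ 1})]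
    · simp
    · intro i hi
      exact absurd (hu i) hi
  rw [h4] at h3
  exact ⟨_, by linear_combination h3⟩

/-- the same for an arbitrary `Fintype` instance. -/
theorem sum_nonprincipal {A : Type u} [Group A] [Fintype A] (hA : ∀ a b : A, a * b = b * a)
    [inst : Fintype {μ : A →* ℂˣ // μ ≠ 1}] {x : A} (hx : x ≠ 1) :
    ∑ μ : {μ : A →* ℂˣ // μ ≠ 1}, ((μ.1 x : ℂˣ) : ℂ) = -1 := by
  obtain ⟨inst', h⟩ := sum_nonprincipal' hA hx
  have e : inst = inst' := Subsingleton.elim _ _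
  rw [e]
  exact h

end STK

variable {G : Type u} [Group G] [Fintype G] [Fintype (IrrCharacter G)] [DecidableEq (IrrCharacter G)]
  {t s : G} {K : Subgroup G} [Fintype K] [Fintype (JK K)] [DecidableEq (JK K)]
  {a1 : IrrCharacter G → ℤ} {b : JK K → IrrCharacter G → ℤ} {sgn : JK K → ℤ}
  {j0 : JK K} {P : IrrCharacter G} {S : JK K → IrrCharacter G} {Z1 Z2 : IrrCharacter G} {ε : ℤ}

/-- PIECE STK (S1). -/
theorem st_on_K (h : Hyp t s K) (cd : CharData K t h.htK a1 b sgn)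
    (hS : Shape (principalChar G) (invJ K) j0 b degZ P S Z1 Z2 ε ε) {x : G} (hx : x ∈ K)
    (hx1 : x ≠ 1) : (P : G → ℂ) x = (ε : ℂ) := by
  classical
  have hbP : ∀ j : JK K, b j P = ε := by
    intro j
    by_cases hj : j = j0
    · rw [hj, hS.bj0]
      unfold ind
      rw [if_neg hS.Po, if_pos rfl, if_neg (Ne.symm hS.Z1P), if_neg (Ne.symm hS.Z2P)]
      ring
    · rw [hS.bj j hj]
      unfold ind
      rw [if_neg hS.Po, if_pos rfl, if_neg (Ne.symm (hS.SP j hj))]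
      ring
  have h1 := res_K h cd P hx
  rw [if_neg hx1, zero_sub] at h1
  have hab : ∀ a b : ↥K, a * b = b * a := fun a b => Subtype.ext (h.hKab a.1 a.2 b.1 b.2)
  have hx' : (⟨x, hx⟩ : ↥K) ≠ 1 := by
    intro h0
    exact hx1 (congrArg Subtype.val h0)
  have h2 := STK.sum_nonprincipal hab hx'
  rw [h1]
  simp only [hbP]
  rw [← Finset.mul_sum]
  have h3 : ∑ i : JK K, ((i.1 ⟨x, hx⟩ : ℂˣ) : ℂ) = -1 := by
    rw [← h2]
  rw [h3]
  ring

end Cfsg.Agent.Helper3.BSW
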