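import Mathlib
import Cfsg.Agent.Lib.Helper24.CharOrtho
import Cfsg.Agent.Lib.Helper24.CharComplete
import Cfsg.Agent.Lib.Helper24.CharAbelian
import Cfsg.Agent.Lib.Helper3.BSWCharDefs
import Cfsg.Agent.Lib.Helper4.BSWHSTRUCT
import Cfsg.Agent.Lib.Helper24.BSWINT
import Cfsg.Agent.Lib.Helper9.BSWREALJ
import Cfsg.Agent.Lib.Helper12.BSWCARDJ
import Cfsg.Agent.Lib.Helper12.BSWBONE
import Cfsg.Agent.Lib.Helper14.BSWDEG
import Cfsg.Agent.Lib.Helper3.BSWCONG
import Cfsg.Agent.Lib.Helper3.BSWSTK
import Cfsg.Agent.Lib.Lead.BSWINTV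
import Cfsg.Agent.Lib.Lead.BSWSUMS
import Cfsg.Agent.Lib.Helper18.BSWBINV
import Cfsg.Agent.Lib.Helper6.BSWGRAM
import Cfsg.Agent.Lib.Helper6.BSWRFORM
import Cfsg.Agent.Lib.Helper3.BSWEQF
import Cfsg.Agent.Lib.Helper3.BSWAsmArith
import Cfsg.Agent.Lib.Helper3.BSWAsmA
import Cfsg.Agent.Lib.Helper3.BSWAsmB

/-!
# S3282 (abstract Brauer--Suzuki--Wall theorem): final assembly

`plans/S3282_proof.md`; pieces by helpers 4, 6, 8, 9, 10, 12, 14, 17, 18, 19, 22, 24, 25 and lead.
-/

set_option autoImplicit false

namespace Cfsg.Agent.Helper3.BSW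

open Cfsg Cfsg.Agent.Helper24
open scoped ComplexConjugate

universe u

namespace Main

variable {G : Type u} [Group G]

theorem finite_hom (A : Type u) [Group A] [Finite A] : Finite (A →* ℂˣ) := by
  have h := card_monoidHom_units (G := A)
  have hne : Nat.card (A →* ℂˣ) ≠ 0 := by
    rw [h]
    exact Subgroup.index_ne_zero_of_finite
  exact Nat.finite_of_card_ne_zero hne

theorem trichotomy (K : Subgroup G) (y : G) : y = 1 ∨ InKK K y ∨ InR K y := by
  by_cases h1 : y = 1
  · exact Or.inl h1
  · by_cases h2 : ∃ g : G, g * y * g⁻¹ ∈ K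
    · exact Or.inr (Or.inl ⟨h1, h2⟩)
    · push Not at h2
      exact Or.inr (Or.inr ⟨h1, h2⟩)

theorem degZ_principal : degZ (principalChar G) = 1 := by
  unfold degZ
  have : charDegree ((principalChar G : IrrCharacter G) : G → ℂ) = 1 :=
    charDegree_natCast 1 (by simp [principalChar])
  rw [this]; rfl

end Main

open Main

set_option maxHeartbeats 800000 in
theorem main {G : Type u} [Group G] [Finite G] {t s : G} {K : Subgroup G} (h : Hyp t s K) :
    Concl G := by
  classical
  haveI : Fintype G := Fintype.ofFinite G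
  haveI : Fintype (IrrCharacter G) := irrFintype
  haveI : Fintype K := Fintype.ofFinite K
  haveI : Finite (↥K →* ℂˣ) := finite_hom ↥K
  haveI : Fintype (JK K) := Fintype.ofFinite _
  obtain ⟨a1, b, sgn, cd, ha1, hsgn⟩ := exists_charData h
  obtain ⟨j0, hj0⟩ := exists_j0 h
  obtain ⟨hcard, hsinv, hssum⟩ := card_JK h cd
  obtain ⟨hkeven, hk2⟩ := even_card_K h
  have H : ArithHyp (Nat.card K) (Nat.card G) (principalChar G) (invJ K) j0 sgn b degZ a1 := by
    refine
      { k_even := hkeven
        k_ge := hk2
        card_J := hcard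
        inv_inv := ?_
        inv_fix := hj0
        sgn_sq := hsgn
        sgn_inv := hsinv
        sgn_sum := hssum
        b_inv := fun j i => b_inv_K h cd j i
        gram := fun j j' => gram_K h cd j j'
        b_o := fun j => b_one_K h cd j
        deg_pos := ?_
        deg_o := degZ_principal
        deg_sum := fun j => deg_sum_K h cd j
        cong := fun i => cong_K h cd i
        a1_nonneg := ha1
        sq_sum := ?_
        eq := fun j => EQF.eq_K h cd j }
    · intro μ
      apply Subtype.ext
      show (μ.1⁻¹)⁻¹ = μ.1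
      ext x
      simp
    · intro ψ
      unfold degZ
      exact_mod_cast charDegree_pos ψ.2
    · have := sum_charDegree_sq (G := G)
      unfold degZ
      exact_mod_cast this
  obtain ⟨P, S, Z1, Z2, ε, hε, hG⟩ := arith H
  have hS := hG.shape
  have hPne : P ≠ principalChar G := hS.Po
  have hPchar : IsCharacter G (P : G → ℂ) := isCharacter_of_isIrrCharacter P.2
  have hPcf : ∀ g x : G, (P : G → ℂ) (g * x * g⁻¹) = (P : G → ℂ) x := fun g x =>
    isClassFunction_of_isIrrCharacter P.2 x g
  have hP1 : (P : G → ℂ) 1 = ((2 * (Nat.card K : ℤ) + ε : ℤ) : ℂ) := by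
    rw [irr_one_eq_charDegree P.2]
    have := hG.degP
    unfold degZ at this
    exact_mod_cast this
  -- integrality of `P`
  have hint : ∀ y : G, ∃ n : ℤ, (P : G → ℂ) y = (n : ℂ) := by
    intro y
    rcases trichotomy K y with rfl | ⟨hy1, g, hg⟩ | hy
    · exact ⟨_, hP1⟩
    · refine ⟨ε, ?_⟩
      have hne : g * y * g⁻¹ ≠ 1 := by
        intro h1
        apply hy1
        have : y = g⁻¹ * (g * y * g⁻¹) * g := by group
        rw [this, h1]; group
      rw [← hPcf g y]
      exact st_on_K h cd hS hg hne
    · obtain ⟨hr1, hr2⟩ := rform_K h cd hε H hG hy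
      have hk0 : (Nat.card K : ℂ) ≠ 0 := by
        have : 0 < Nat.card K := by omega
        exact_mod_cast this.ne'
      rcases hε with rfl | rfl
      · have e := hr1 rfl
        have hq : conj ((P : G → ℂ) y) =
            (((rc y : ℚ) - 2 * (Nat.card K : ℚ) - 1) / (Nat.card K : ℚ) : ℚ) := by
          push_cast
          field_simp
          rw [e]; ring
        have hq' : (P : G → ℂ) y =
            (((rc y : ℚ) - 2 * (Nat.card K : ℚ) - 1) / (Nat.card K : ℚ) : ℚ) := by
          have := congrArg conj hq
          rw [Complex.conj_conj] at this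
          rw [this, map_ratCast]
        exact int_of_rat hPchar y _ hq'
      · have e := hr2 rfl
        have hk1 : ((Nat.card K : ℂ) - 1) ≠ 0 := by
          have : (1 : ℝ) < (Nat.card K : ℝ) := by exact_mod_cast (by omega : 1 < Nat.card K)
          intro h0
          have h1 : (Nat.card K : ℂ) = 1 := by linear_combination h0
          have h2 : (Nat.card K : ℝ) = 1 := by exact_mod_cast h1
          linarith
        have hq : conj ((P : G → ℂ) y) =
            (((rc y : ℚ)) / ((Nat.card K : ℚ) - 1) : ℚ) := by
          push_cast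
          field_simp
          rw [e]; ring
        have hq' : (P : G → ℂ) y = (((rc y : ℚ)) / ((Nat.card K : ℚ) - 1) : ℚ) := by
          have := congrArg conj hq
          rw [Complex.conj_conj] at this
          rw [this, map_ratCast]
        exact int_of_rat hPchar y _ hq'
  choose St hSt using hint
  obtain ⟨hsum, hsq⟩ := st_sums P hPne St hSt
  have hSt1 : St 1 = 2 * (Nat.card K : ℤ) + ε := by
    have := hSt 1
    rw [hP1] at this
    exact_mod_cast this.symm
  have hStconj : ∀ g x : G, St (g * x * g⁻¹) = St x := by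
    intro g x
    have := hPcf g x
    rw [hSt, hSt] at this
    exact_mod_cast this
  have hStK : ∀ x ∈ K, x ≠ 1 → St x = ε := by
    intro x hx hx1
    have := st_on_K h cd hS hx hx1
    rw [hSt] at this
    exact_mod_cast this
  have hcardG := hG.g_eq
  rcases hε with rfl | rfl
  · have hA : StA K St := by
      refine ⟨?_, hStconj, ?_, ?_, hsum, hsq, ?_⟩
      · rw [hcardG]
      · rw [hSt1]
      · intro x hx hx1; exact hStK x hx hx1
      · intro y hy
        obtain ⟨hr1, -⟩ := rform_K h cd (Or.inl rfl) H hG hy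
        have e := hr1 rfl
        rw [hSt, map_intCast] at e
        exact_mod_cast e
    exact concl_A h hA
  · have hB : StB K St := by
      refine ⟨?_, hStconj, ?_, ?_, hsum, hsq, ?_⟩
      · rw [hcardG]; ring
      · rw [hSt1]; ring
      · intro x hx hx1; exact hStK x hx hx1
      · intro y hy
        obtain ⟨-, hr2⟩ := rform_K h cd (Or.inr rfl) H hG hy
        have e := hr2 rfl
        rw [hSt, map_intCast] at e
        exact_mod_cast e
    exact concl_B h hB

end Cfsg.Agent.Helper3.BSW
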