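import Mathlib

/-!
# Two commuting automorphisms of order 3 of an elementary abelian 2-group (piece G for S5559)
-/

set_option autoImplicit false
set_option linter.unusedSimpArgs false

namespace Cfsg.Agent.Helper3.TT232

theorem gen_lemma {V : Type*} [CommGroup V] (hV2 : ∀ v : V, v * v = 1) (x y t : MulAut V) (W : Subgroup V) (hxW : ∀ v ∈ W, x v ∈ W) (hyW : ∀ v ∈ W, y v ∈ W) (hxy : ∀ v ∈ W, x (y v) = y (x v)) (hx3 : ∀ v ∈ W, x (x (x v)) = v) (hy3 : ∀ v ∈ W, y (y (y v)) = v) (h1 : ∀ v ∈ W, x v = v → t v = v) (h2 : ∀ v ∈ W, y v = v → t v = v) (h3 : ∀ v ∈ W, x (y v) = v → t v = v) (h4 : ∀ v ∈ W, x (y (y v)) = v → t v = v) : ∀ v ∈ W, t v = v := by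
  intro v hv
  -- the nine translates
  have m10 : x v ∈ W := hxW v hv
  have m20 : x (x v) ∈ W := hxW _ m10
  have m01 : y v ∈ W := hyW v hv
  have m02 : y (y v) ∈ W := hyW _ m01
  have m11 : x (y v) ∈ W := hxW _ m01
  have m21 : x (x (y v)) ∈ W := hxW _ m11
  have m12 : x (y (y v)) ∈ W := hxW _ m02
  have m22 : x (x (y (y v))) ∈ W := hxW _ m12
  -- action of `x`
  have x20 : x (x (x v)) = v := hx3 v hv
  have x21 : x (x (x (y v))) = y v := hx3 _ m01
  have x22 : x (x (x (y (y v)))) = y (y v) := hx3 _ m02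
  -- action of `y`
  have y10 : y (x v) = x (y v) := (hxy v hv).symm
  have y20 : y (x (x v)) = x (x (y v)) := by
    rw [← hxy _ m10, y10]
  have y11 : y (x (y v)) = x (y (y v)) := (hxy _ m01).symm
  have y21 : y (x (x (y v))) = x (x (y (y v))) := by
    rw [← hxy _ m11, y11]
  have y02 : y (y (y v)) = v := hy3 v hv
  have y12 : y (x (y (y v))) = x v := by
    rw [← hxy _ m02, y02]
  have y22 : y (x (x (y (y v)))) = x (x v) := by
    rw [← hxy _ m12, y12]
  -- the five pieces
  set nx := v * x v * x (x v) with hnx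
  set ny := v * y v * y (y v) with hny
  set nxy := v * x (y v) * x (x (y (y v))) with hnxy
  set nxyy := v * x (y (y v)) * x (x (y v)) with hnxyy
  set N := v * x v * x (x v) * (y v * x (y v) * x (x (y v))) *
    (y (y v) * x (y (y v)) * x (x (y (y v)))) with hN
  have nxW : nx ∈ W := W.mul_mem (W.mul_mem hv m10) m20
  have nyW : ny ∈ W := W.mul_mem (W.mul_mem hv m01) m02
  have nxyW : nxy ∈ W := W.mul_mem (W.mul_mem hv m11) m22
  have nxyyW : nxyy ∈ W := W.mul_mem (W.mul_mem hv m12) m21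
  have NW : N ∈ W := W.mul_mem (W.mul_mem (W.mul_mem (W.mul_mem hv m10) m20)
    (W.mul_mem (W.mul_mem m01 m11) m21)) (W.mul_mem (W.mul_mem m02 m12) m22)
  have fx : x nx = nx := by
    rw [hnx]
    simp only [map_mul]
    rw [x20]; ac_rfl
  have fy : y ny = ny := by
    rw [hny]
    simp only [map_mul]
    rw [y02]; ac_rfl
  have fxy : x (y nxy) = nxy := by
    rw [hnxy]
    simp only [map_mul, y10, y20, y11, y21, y02, y12, y22, x20, x21, x22]
    ac_rfl
  have fxyy : x (y (y nxyy)) = nxyy := by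
    rw [hnxyy]
    simp only [map_mul, y10, y20, y11, y21, y02, y12, y22, x20, x21, x22]
    ac_rfl
  have fN : x N = N := by
    rw [hN]
    simp only [map_mul]
    rw [x20, x21, x22]
    ac_rfl
  have key : v = N * nx * ny * nxy * nxyy := by
    have e : N * nx * ny * nxy * nxyy = v * ((v * v) * (v * v) * (x v * x v) *
        (x (x v) * x (x v)) * (y v * y v) * (x (y v) * x (y v)) *
        (x (x (y v)) * x (x (y v))) * (y (y v) * y (y v)) *
        (x (y (y v)) * x (y (y v))) * (x (x (y (y v))) * x (x (y (y v))))) := by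
      rw [hN, hnx, hny, hnxy, hnxyy]; ac_rfl
    rw [e]
    simp only [hV2, mul_one]
  have tN := h1 N NW fN
  have tx := h1 nx nxW fx
  have ty := h2 ny nyW fy
  have txy := h3 nxy nxyW fxy
  have txyy := h4 nxyy nxyyW fxyy
  calc t v = t (N * nx * ny * nxy * nxyy) := by rw [← key]
    _ = N * nx * ny * nxy * nxyy := by
      rw [map_mul, map_mul, map_mul, map_mul, tN, tx, ty, txy, txyy]
    _ = v := key.symm

end Cfsg.Agent.Helper3.TT232
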