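import Mathlib
import Cfsg.Agent.Lib.Helper22.BG13A
import Cfsg.Agent.Lib.Helper22.BG13C
import Cfsg.Agent.Lib.Helper8.SecRep5
import Cfsg.Agent.S0023

/-!
# BG 14.12 (S1376), part A (helper3): the Frobenius-Wielandt step

* `frob_centralizes'` : if a Frobenius-like group `V K` (nilpotent kernel `V`, `K` acting freely on
  it) acts coprimely on a solvable group `L` and every fixed point of `K` on `L` centralises `V`,
  then `V` centralises `L`.
* `false_of_partner` : the contradiction of step (4d) of helper3's proof of S1376.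
* `inf_centralizer_sigmaCore_eq_bot` : step (3), `C_{E₁}(M_σ) = 1`.
-/

set_option autoImplicit false
set_option linter.unusedSectionVars false
set_option linter.unusedVariables false

namespace Cfsg.Agent.Helper3.BG1376

open Cfsg Subgroup
open Cfsg.Agent.Helper15 (IsSylowIn)

section Generic

variable {X : Type*} [Group X] [Finite X]

/-- the Frobenius trick, relative version -/
theorem frob_centralizes' (V K L : Subgroup X)
    (hKV : ∀ e ∈ K, ∀ u ∈ V, e * u * e⁻¹ ∈ V)
    (hfpf : ∀ e ∈ K, e ≠ 1 → ∀ u ∈ V, e * u = u * e → u = 1)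
    (hnil : Group.IsNilpotent ↥V)
    (hsolv : Group.IsSolvable ↥L)
    (hnorm : V ⊔ K ≤ normalizer (L : Set X))
    (hcop : (Nat.card ↥L).Coprime (Nat.card ↥(V ⊔ K)))
    (hLK : L ⊓ centralizer (K : Set X) ≤ centralizer (V : Set X)) :
    L ≤ centralizer (V : Set X) := by
  have h := Cfsg.Agent.Helper8.SecRep.fw_group V K hKV hfpf hnil (Nat.card ↥L) L rfl hsolv hnorm hcop
  have h1 : L ⊓ centralizer ((V ⊔ K : Subgroup X) : Set X) = L ⊓ centralizer (K : Set X) := by
    apply le_antisymm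
    · refine inf_le_inf le_rfl ?_
      exact centralizer_le (by exact_mod_cast (le_sup_right : K ≤ V ⊔ K))
    · refine le_inf inf_le_left ?_
      intro y hy
      have hyV : y ∈ centralizer (V : Set X) := hLK hy
      have hyK : y ∈ centralizer (K : Set X) := (Subgroup.mem_inf.mp hy).2
      have hle : V ⊔ K ≤ centralizer ({y} : Set X) := by
        apply sup_le
        · intro v hv
          rw [Subgroup.mem_centralizer_singleton_iff]
          exact hyV v hv
        · intro k hk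
          rw [Subgroup.mem_centralizer_singleton_iff]
          exact hyK k hk
      rw [Subgroup.mem_centralizer_iff]
      intro z hz
      have := hle hz
      rw [Subgroup.mem_centralizer_singleton_iff] at this
      exact this
  rw [h1] at h
  have hpos : 0 < Nat.card ↥(L ⊓ centralizer (K : Set X)) ^ Nat.card ↥K :=
    Nat.pow_pos Nat.card_pos
  have h3 : Nat.card ↥L = Nat.card ↥(L ⊓ centralizer (V : Set X)) :=
    Nat.eq_of_mul_eq_mul_left hpos h
  have h2 : L ⊓ centralizer (V : Set X) = L := by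
    apply Subgroup.eq_of_le_of_card_ge inf_le_left
    rw [← h3]
  rw [← h2]
  exact inf_le_right

end Generic

universe u

variable {G : Type u} [Group G] [Finite G]

omit [Finite G] in
theorem mem_map_conj_iff' {X : Subgroup G} {g y : G} :
    y ∈ X.map (MulAut.conj g).toMonoidHom ↔ g⁻¹ * y * g ∈ X := by
  constructor
  · rintro ⟨x, hx, rfl⟩
    simp only [MulEquiv.coe_toMonoidHom, MulAut.conj_apply]
    have e : g⁻¹ * (g * x * g⁻¹) * g = x := by group
    rw [e]; exact hx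
  · intro h
    refine ⟨g⁻¹ * y * g, h, ?_⟩
    simp only [MulEquiv.coe_toMonoidHom, MulAut.conj_apply]
    group

omit [Finite G] in
theorem centralizer_singleton_conj_le {M : Subgroup G} {a c : G}
    (h : centralizer ({a} : Set G) ≤ M) :
    centralizer ({c * a * c⁻¹} : Set G) ≤ M.map (MulAut.conj c).toMonoidHom := by
  intro y hy
  rw [mem_map_conj_iff']
  apply h
  rw [Subgroup.mem_centralizer_singleton_iff] at hy ⊢
  have e1 : c⁻¹ * y * c * a = c⁻¹ * (y * (c * a * c⁻¹)) * c := by group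
  have e2 : a * (c⁻¹ * y * c) = c⁻¹ * ((c * a * c⁻¹) * y) * c := by group
  rw [e1, e2, hy]

/-- **Step (4d).**  `P` a normal solvable subgroup of the maximal subgroup `Ns`, contained in no
other maximal subgroup, of order coprime to `s` and to `|Kst|`; `Kst ≤ Ns` acts coprimely on
`D ≤ Ns` (normalised by `Kst`) with all fixed points of its non-identity elements on `D ⊔ P` inside
`K`, where `K ≤ P` centralises `D`.  Then no element `a ≠ 1` of `s`-power order of `D` has its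
centraliser inside a maximal subgroup `M ≠ Ns`. -/
theorem false_of_partner {M Ns P D K Kst : Subgroup G} {s : ℕ} [Fact s.Prime]
    (hM : IsCoatom M) (hne : M ≠ Ns)
    (hPn : Ns ≤ normalizer (P : Set G)) (hPsolv : Group.IsSolvable ↥P)
    (hPuniq : ∀ L : Subgroup G, IsCoatom L → P ≤ L → L = Ns)
    (hDNs : D ≤ Ns) (hKstNs : Kst ≤ Ns) (hKst1 : Kst ≠ ⊥)
    (hKstD : Kst ≤ normalizer (D : Set G))
    (hcopD : (Nat.card ↥Kst).Coprime (Nat.card ↥D))
    (hcopP : (Nat.card ↥Kst).Coprime (Nat.card ↥P))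
    (hsP : ¬ s ∣ Nat.card ↥P)
    (hsK : ¬ s ∣ Nat.card ↥K)
    (hDK : D ≤ centralizer (K : Set G))
    (hregD : ∀ y ∈ Kst, y ≠ 1 → D ⊓ centralizer ({y} : Set G) ≤ K)
    (hregP : ∀ y ∈ Kst, y ≠ 1 → P ⊓ centralizer ({y} : Set G) ≤ K)
    {a : G} (haD : a ∈ D) (ha1 : a ≠ 1) (hao : orderOf a = s)
    (haM : centralizer ({a} : Set G) ≤ M) : False := by
  have hsp : s.Prime := Fact.out
  -- a subgroup `Y₀ ≤ Kst` of prime order
  obtain ⟨y, hyK, hy1⟩ : ∃ y ∈ Kst, y ≠ 1 := by
    by_contra hcon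
    push Not at hcon
    apply hKst1
    rw [eq_bot_iff]
    intro z hz
    rw [Subgroup.mem_bot]
    exact hcon z hz
  set Y₀ : Subgroup G := zpowers y with hY₀
  have hY₀K : Y₀ ≤ Kst := by rw [hY₀, Subgroup.zpowers_le]; exact hyK
  have hY₀D : Y₀ ≤ normalizer (D : Set G) := hY₀K.trans hKstD
  have hcopY : (Nat.card ↥Y₀).Coprime (Nat.card ↥D) :=
    Nat.Coprime.coprime_dvd_left (Subgroup.card_dvd_of_le hY₀K) hcopD
  -- a `Y₀`-invariant Sylow `s`-subgroup of `D`
  obtain ⟨S0, hS0n⟩ := Cfsg.Agent.S0023.result Y₀ D hY₀D hcopY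
    (Or.inl (by rw [hY₀]; infer_instance)) s
  set Sg : Subgroup G := (S0 : Subgroup D).map D.subtype with hSg
  have hSgS : IsSylowIn s Sg D := Cfsg.Agent.Helper15.isSylowIn_map_subtype S0
  -- a conjugate of `a` inside `Sg`
  have hza : zpowers a ≤ D := by rw [Subgroup.zpowers_le]; exact haD
  have hzp : IsPGroup s ↥(zpowers a) := by
    apply IsPGroup.of_card (n := 1)
    rw [Nat.card_zpowers, hao, pow_one]
  obtain ⟨T, hzT, hT⟩ := Cfsg.Agent.Helper15.exists_isSylowIn_ge hzp hza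
  obtain ⟨c, hcD, hcT⟩ := hT.exists_conj hSgS
  have ha'Sg : c * a * c⁻¹ ∈ Sg := by
    rw [← hcT]
    exact ⟨a, hzT (Subgroup.mem_zpowers a), rfl⟩
  -- `Y₀` acts freely on `Sg`
  have hSgD : Sg ≤ D := hSgS.le
  have hfpf : ∀ e ∈ Y₀, e ≠ 1 → ∀ u ∈ Sg, e * u = u * e → u = 1 := by
    intro e he he1 u hu hcomm
    have huK : u ∈ K := by
      apply hregD e (hY₀K he) he1
      refine Subgroup.mem_inf.mpr ⟨hSgD hu, ?_⟩
      rw [Subgroup.mem_centralizer_singleton_iff]
      exact hcomm.symm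
    have ho1 : orderOf u ∣ Nat.card ↥K := by
      have := orderOf_dvd_natCard (⟨u, huK⟩ : ↥K)
      rwa [Subgroup.orderOf_mk] at this
    obtain ⟨n, hn⟩ := (IsPGroup.iff_orderOf.mp hSgS.isPGroup) ⟨u, hu⟩
    rw [Subgroup.orderOf_mk] at hn
    rcases Nat.eq_zero_or_pos n with h0 | hpos
    · rw [h0, pow_zero] at hn
      exact orderOf_eq_one_iff.mp hn
    · exfalso
      apply hsK
      refine Dvd.dvd.trans ?_ ho1
      rw [hn]
      exact dvd_pow_self s hpos.ne'
  have hnil : Group.IsNilpotent ↥Sg := hSgS.isPGroup.isNilpotent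
  have hUn : ∀ e ∈ Y₀, ∀ u ∈ Sg, e * u * e⁻¹ ∈ Sg := by
    intro e he u hu
    exact ((mem_normalizer_iff.mp (hS0n he)) u).mp hu
  have hnorm : Sg ⊔ Y₀ ≤ normalizer (P : Set G) :=
    (sup_le (hSgD.trans hDNs) (hY₀K.trans hKstNs)).trans hPn
  have hcard : Nat.card ↥(Sg ⊔ Y₀ : Subgroup G) ∣ Nat.card ↥Sg * Nat.card ↥Y₀ :=
    Cfsg.Agent.Helper7.card_sup_dvd_mul_of_le_normalizer hS0n
  have hcop : (Nat.card ↥P).Coprime (Nat.card ↥(Sg ⊔ Y₀ : Subgroup G)) := by
    apply Nat.Coprime.coprime_dvd_right hcard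
    apply Nat.Coprime.mul_right
    · obtain ⟨n, hn⟩ := hSgS.isPGroup.exists_card_eq
      rw [hn]
      apply Nat.Coprime.pow_right
      rw [Nat.coprime_comm, Nat.Prime.coprime_iff_not_dvd hsp]
      exact hsP
    · exact (Nat.Coprime.coprime_dvd_left (Subgroup.card_dvd_of_le hY₀K) hcopP).symm
  have hLK : P ⊓ centralizer (Y₀ : Set G) ≤ centralizer (Sg : Set G) := by
    intro z hz
    have hzK : z ∈ K := by
      apply hregP y hyK hy1
      refine Subgroup.mem_inf.mpr ⟨(Subgroup.mem_inf.mp hz).1, ?_⟩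
      rw [Subgroup.mem_centralizer_singleton_iff]
      exact ((Subgroup.mem_inf.mp hz).2 y (Subgroup.mem_zpowers y)).symm
    rw [Subgroup.mem_centralizer_iff]
    intro u hu
    exact ((hDK (hSgD hu)) z hzK).symm
  have hPc : P ≤ centralizer (Sg : Set G) :=
    frob_centralizes' Sg Y₀ P hUn hfpf hnil hPsolv hnorm hcop hLK
  -- so `P ≤ C(a') ≤ M^c`
  have h1 : P ≤ M.map (MulAut.conj c).toMonoidHom := by
    refine le_trans ?_ (centralizer_singleton_conj_le (c := c) haM)
    intro z hz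
    rw [Subgroup.mem_centralizer_singleton_iff]
    exact (hPc hz (c * a * c⁻¹) ha'Sg).symm
  have h2 := hPuniq _ (Cfsg.Agent.Helper14.BGUniq.isCoatom_map_conj hM c) h1
  apply hne
  have hcNs : c ∈ Ns := hDNs hcD
  have h3 : (M.map (MulAut.conj c).toMonoidHom).map (MulAut.conj c⁻¹).toMonoidHom = M :=
    Cfsg.Agent.Helper15.map_conj_inv_map_conj M c
  rw [← h3, h2]
  exact Cfsg.Agent.Helper15.map_conj_eq_self_of_mem (Ns.inv_mem hcNs)

omit [Finite G] in
/-- **Step (3).**  `C_{E₁}(M_σ) = 1`: here `x ∈ M_σ` with `C_G(x) ≤ N`, `M ∩ N = U K` with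
`U ≤ M_σ` abelian, non-trivial, and `K` acting freely on `U`. -/
theorem inf_centralizer_sigmaCore_eq_bot {M N U K E₁ : Subgroup G} {x : G}
    (hx : x ∈ sigmaCore M) (hxN : centralizer ({x} : Set G) ≤ N)
    (hMN : M ⊓ N = U ⊔ K) (hUσ : U ≤ sigmaCore M)
    (hUab : ∀ a ∈ U, ∀ b ∈ U, a * b = b * a) (hKU : K ≤ normalizer (U : Set G))
    (hKfpf : ∀ k ∈ K, k ≠ 1 → ∀ u ∈ U, k * u = u * k → u = 1) (hU1 : U ≠ ⊥)
    (hE₁M : E₁ ≤ M) (hE₁σ : E₁ ⊓ sigmaCore M = ⊥) :
    E₁ ⊓ centralizer (sigmaCore M : Set G) = ⊥ := by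
  rw [eq_bot_iff]
  intro y hy
  obtain ⟨hyE, hyC⟩ := Subgroup.mem_inf.mp hy
  rw [Subgroup.mem_bot]
  have hyN : y ∈ N := by
    apply hxN
    rw [Subgroup.mem_centralizer_singleton_iff]
    exact (hyC x hx).symm
  have hyUK : y ∈ U ⊔ K := by
    rw [← hMN]; exact Subgroup.mem_inf.mpr ⟨hE₁M hyE, hyN⟩
  obtain ⟨u, hu, k, hk, rfl⟩ := Cfsg.Agent.Helper22.BG13.exists_mul_of_mem_sup hKU hyUK
  obtain ⟨u₀, hu₀, hu₀1⟩ : ∃ u₀ ∈ U, u₀ ≠ 1 := by
    by_contra hcon
    push Not at hcon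
    apply hU1
    rw [eq_bot_iff]
    intro z hz
    rw [Subgroup.mem_bot]
    exact hcon z hz
  have hk1 : k = 1 := by
    by_contra hk1
    apply hu₀1
    apply hKfpf k hk hk1 u₀ hu₀
    -- `u * k` and `u` commute with `u₀`
    have h1 : u₀ * (u * k) = (u * k) * u₀ := hyC u₀ (hUσ hu₀)
    have h2 : u₀ * u = u * u₀ := hUab u₀ hu₀ u hu
    have h3 : u * (u₀ * k) = u * (k * u₀) := by
      calc u * (u₀ * k) = (u * u₀) * k := by group
        _ = (u₀ * u) * k := by rw [h2]
        _ = u₀ * (u * k) := by group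
        _ = (u * k) * u₀ := h1
        _ = u * (k * u₀) := by group
    exact (mul_left_cancel h3).symm
  subst hk1
  rw [mul_one] at hyE ⊢
  have : u ∈ E₁ ⊓ sigmaCore M := Subgroup.mem_inf.mpr ⟨hyE, hUσ hu⟩
  rw [hE₁σ, Subgroup.mem_bot] at this
  exact this

end Cfsg.Agent.Helper3.BG1376
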