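import Mathlib
import Cfsg.Agent.Lib.Helper3.BG1376A
import Cfsg.Agent.Lib.Helper16.BG147D
import Cfsg.Agent.Lib.Helper21.BG143D
import Cfsg.Agent.Lib.Helper7.TypeP
import Cfsg.Agent.Lib.Helper1.BG152
import Cfsg.Agent.Lib.Helper14.BGUniqA
import Cfsg.Agent.Lib.Helper21.PiSubgroup
import Cfsg.Agent.S0058

/-!
# BG 14.12 (S1376), part B (helper3): `τ₂(M) = ∅`

Setting: `M ≠ Ns` maximal subgroups, `E := M ⊓ Ns` a complement of `M_σ` in `M`;
`Kst ≠ 1` a Hall `κ(Ns)`-subgroup of `Ns`, `K = C_{Ns_σ}(Kst)` of prime order `k`, `K ≤ M`,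
`K ≤ F(E)`, `K ≤ (Ns)_F`, and `C_E(M_σ) = 1`.  Then `τ₂(M) = ∅`.
-/

set_option autoImplicit false
set_option linter.unusedSectionVars false
set_option linter.unusedVariables false
set_option linter.style.haveILetI false

namespace Cfsg.Agent.Helper3.BG1376

open Cfsg Subgroup
open Cfsg.Agent.Helper15 (IsSylowIn)
open Cfsg.Agent.Helper10 (IsPiNum)
open Cfsg.Agent.Helper22.BG13 (Hyp1350 Hyp1416 Hyp1417 Hyp1418)
open Cfsg.Agent.Helper21.BG143 (Hyp1419)
open Cfsg.Agent.Helper16.BG147 (St1430 St1431)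

universe u

variable {G : Type u} [Group G] [Finite G]

/-- `M_F` is nilpotent, as a subgroup of `G` -/
theorem isNilpotent_fittingHallOf' (M : Subgroup G) : Group.IsNilpotent ↥(fittingHallOf M) := by
  have h := Cfsg.Agent.Helper7.fittingHall_isNilpotent ↥M
  unfold fittingHallOf
  exact Group.nilpotent_of_mulEquiv
    ((fittingHall ↥M).equivMapOfInjective M.subtype M.subtype_injective)

/-- the normal Sylow `k`-subgroup `P` of `Ns` containing `K` -/
theorem exists_normal_sylow (h1350 : Hyp1350 G) {Ns K : Subgroup G} (hNs : IsCoatom Ns)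
    {k : ℕ} [Fact k.Prime] (hKc : Nat.card ↥K = k) (hKσ : K ≤ sigmaCore Ns)
    (hKNF : K ≤ fittingHallOf Ns) :
    ∃ P : Subgroup G, IsSylowIn k P Ns ∧ Ns ≤ normalizer (P : Set G) ∧ K ≤ P ∧
      P ≤ sigmaCore Ns ∧ k ∈ sigma Ns := by
  have hkp : k.Prime := Fact.out
  set F := fittingHallOf Ns with hF
  have hFnil : Group.IsNilpotent ↥F := isNilpotent_fittingHallOf' Ns
  have hFle : F ≤ Ns := Cfsg.Agent.Helper7.fittingHallOf_le Ns
  have hFn : Ns ≤ normalizer (F : Set G) := Cfsg.Agent.Helper7.le_normalizer_fittingHallOf Ns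
  have hFcop : (Nat.card ↥F).Coprime (F.relIndex Ns) := Cfsg.Agent.Helper7.fittingHallOf_coprime Ns
  have hKpg : IsPGroup k ↥K := by
    apply IsPGroup.of_card (n := 1)
    rw [hKc, pow_one]
  obtain ⟨P, hKP, hP⟩ := Cfsg.Agent.Helper15.exists_isSylowIn_ge hKpg hKNF
  have hPn : Ns ≤ normalizer (P : Set G) :=
    Cfsg.Agent.Helper22.BG13.le_normalizer_sylow_of_nilpotent_normal hFn hFnil hP
  have hkF : k ∣ Nat.card ↥F := by
    rw [← hKc]; exact Subgroup.card_dvd_of_le hKNF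
  have hPNs : IsSylowIn k P Ns := by
    apply Cfsg.Agent.Helper15.isSylowIn_of_not_dvd_relIndex hP.isPGroup (hP.le.trans hFle)
    rw [← Subgroup.relIndex_mul_relIndex P F Ns hP.le hFle]
    intro hdvd
    rcases (Nat.Prime.dvd_mul hkp).mp hdvd with h | h
    · exact hP.not_dvd_relIndex h
    · have := Nat.dvd_gcd hkF h
      rw [hFcop.gcd_eq_one] at this
      exact hkp.one_lt.ne' (Nat.dvd_one.mp this)
  have hkσ : k ∈ sigma Ns := by
    apply Cfsg.Agent.Helper22.BG13.isPiNum_card_sigmaCore Ns k hkp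
    rw [← hKc]; exact Subgroup.card_dvd_of_le hKσ
  refine ⟨P, hPNs, hPn, hKP, ?_, hkσ⟩
  exact Cfsg.Agent.Helper22.BG13.le_sigmaCore_of_isPiNum h1350 hNs hPNs.le
    (Cfsg.Agent.Helper22.BG13.isPiNum_of_isPGroup hkσ hPNs.isPGroup)

/-- a `k`-subgroup of `Ns` lies in the normal Sylow `k`-subgroup -/
theorem le_of_normal_sylow {Ns P A : Subgroup G} {k : ℕ} [Fact k.Prime] (hP : IsSylowIn k P Ns)
    (hPn : Ns ≤ normalizer (P : Set G)) (hA : IsPGroup k ↥A) (hANs : A ≤ Ns) : A ≤ P := by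
  obtain ⟨T, hAT, hT⟩ := Cfsg.Agent.Helper15.exists_isSylowIn_ge hA hANs
  obtain ⟨c, hc, hcT⟩ := hP.exists_conj hT
  have : P.map (MulAut.conj c).toMonoidHom = P :=
    Cfsg.Agent.Helper15.map_conj_eq_of_mem_normalizer (hPn hc)
  rw [this] at hcT
  rw [hcT]; exact hAT

omit [Finite G] in
theorem le_normalizer_of_conj_mem {E A : Subgroup G}
    (h : ∀ e ∈ E, ∀ a ∈ A, e * a * e⁻¹ ∈ A) : E ≤ normalizer (A : Set G) := by
  intro e he
  rw [Subgroup.mem_normalizer_iff]
  intro a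
  constructor
  · exact h e he a
  · intro ha
    have := h e⁻¹ (E.inv_mem he) _ ha
    have h2 : e⁻¹ * (e * a * e⁻¹) * e⁻¹⁻¹ = a := by group
    rwa [h2] at this

omit [Finite G] in
theorem centralizer_zpowers_eq_singleton (y : G) :
    centralizer (zpowers y : Set G) = centralizer ({y} : Set G) := by
  ext g
  simp only [mem_centralizer_iff, Set.mem_singleton_iff, SetLike.mem_coe]
  constructor
  · intro h z hz
    subst hz
    exact h z (mem_zpowers z)
  · intro h z hz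
    obtain ⟨k, rfl⟩ := mem_zpowers_iff.1 hz
    have h1 : Commute y g := h y rfl
    exact (h1.zpow_left k).eq

/-- **Step (4).**  `τ₂(M) = ∅`. -/
theorem tau2_eq_empty (hG : IsMinSimpleOddOrder G) (h1350 : Hyp1350 G)
    (hασ : ∀ L : Subgroup G, IsCoatom L → alpha L ⊆ sigma L)
    (h1416 : Hyp1416 G) (h1417 : Hyp1417 G) (h1418 : Hyp1418 G) (h1419 : Hyp1419 G)
    (h1430 : St1430 G) (h1431 : St1431 G)
    {M Ns K Kst : Subgroup G} (hM : IsCoatom M) (hNs : IsCoatom Ns) (hne : M ≠ Ns)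
    (hMσ : sigmaCore M ≠ ⊥)
    (hE : IsComplIn (M ⊓ Ns) (sigmaCore M) M)
    (hKstH : IsPiHallOf (kappa Ns) Kst Ns) (hKst1 : Kst ≠ ⊥)
    (hK : K = sigmaCore Ns ⊓ centralizer (Kst : Set G)) (hKp : (Nat.card ↥K).Prime)
    (hKM : K ≤ M) (hKF : K ≤ fittingOf (M ⊓ Ns)) (hKNF : K ≤ fittingHallOf Ns)
    (hcent : (M ⊓ Ns) ⊓ centralizer (sigmaCore M : Set G) = ⊥) :
    ∀ s, s ∉ tau2 M := by
  intro s hs
  obtain ⟨k, hKc⟩ : ∃ k, Nat.card ↥K = k := ⟨_, rfl⟩
  rw [hKc] at hKp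
  haveI : Fact k.Prime := ⟨hKp⟩
  have hsp : s.Prime := hs.1
  haveI : Fact s.Prime := ⟨hsp⟩
  have hKσ : K ≤ sigmaCore Ns := by rw [hK]; exact inf_le_left
  have hKC : K ≤ centralizer (Kst : Set G) := by rw [hK]; exact inf_le_right
  have hKNs : K ≤ Ns := hKσ.trans (Cfsg.Agent.Helper22.BG13.sigmaCore_le Ns)
  obtain ⟨P, hPS, hPn, hKP, hPσ, hkσ⟩ := exists_normal_sylow h1350 hNs hKc hKσ hKNF
  -- S1430 (1) for `(Ns, Kst)`
  have h30 := (h1430 Ns hNs Kst hKstH hKst1).1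
  have hreg : ∀ y ∈ Kst, y ≠ 1 → sigmaCore Ns ⊓ centralizer ({y} : Set G) = K := by
    intro y hy hy1
    rw [h30 y hy hy1, ← hK]
  -- S1431 (3): `Ns` is the only maximal subgroup over `P`
  have hPuniq : ∀ L : Subgroup G, IsCoatom L → P ≤ L → L = Ns := by
    have hPσS : IsSylowIn k P (sigmaCore Ns) :=
      hPS.of_le hPσ (Cfsg.Agent.Helper22.BG13.sigmaCore_le Ns)
    have hdvd : k ∣ Nat.card ↥(sigmaCore Ns ⊓ centralizer (Kst : Set G)) := by
      rw [← hK, hKc]
    obtain ⟨⟨L₀, -, huniq⟩, -, -⟩ :=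
      (h1431 Ns hNs Kst hKstH hKst1).2.2.1 k hKp hdvd hPσS.toSylow
    rw [hPσS.map_toSylow] at huniq
    intro L hL hPL
    rw [huniq L ⟨hL, hPL⟩, huniq Ns ⟨hNs, hPS.le⟩]
  -- the elementary abelian subgroup `A`
  obtain ⟨A, hAE, hAe, hAc⟩ :=
    Cfsg.Agent.Helper21.BG143.exists_elemAb_sq_le_compl hG h1350 hM hE hs
  have hAM : A ≤ M := hAE.trans inf_le_left
  have hANs : A ≤ Ns := hAE.trans inf_le_right
  have hApg : IsPGroup s ↥A := Cfsg.Agent.Helper14.BGUniq.isPGroup_of_isElementaryAbelian hAe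
  obtain ⟨⟨hEA, hXA⟩, -, h18c⟩ := h1418 M hM (M ⊓ Ns) hE s hs A ⟨hAE, hAe, hAc⟩
  have hK1 : K ≠ ⊥ := by
    intro h
    rw [h, Subgroup.card_bot] at hKc
    rw [← hKc] at hKp
    exact Nat.not_prime_one hKp
  -- (4a) `s ∈ σ(Ns)`
  have hsσ : s ∈ sigma Ns := by
    by_contra hsn
    have hs2 : s ∈ tau2 Ns := by
      refine ⟨hsp, hsn, ?_,
        Cfsg.Agent.Helper21.BG143.not_pRankLE_one_of_elemAb_sq hsp hANs hAe hAc⟩
      by_contra hr
      exact hsn (hασ Ns hNs ⟨hsp, hr⟩)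
    have h17 := (h1417 Ns hNs s hs2 A ⟨hANs, hAe, hAc⟩).2.2.2.2.1 M hM hne hAM
    apply hK1
    rw [eq_bot_iff, ← h17]
    exact le_inf hKσ hKM
  have hAσ : A ≤ sigmaCore Ns :=
    Cfsg.Agent.Helper22.BG13.le_sigmaCore_of_isPiNum h1350 hNs hANs
      (Cfsg.Agent.Helper22.BG13.isPiNum_of_isPGroup hsσ hApg)
  -- (4b) some `a ∈ A#` has `C_{M_σ}(a) ≠ 1`
  haveI := hAe.1
  have hAncyc : ¬ IsCyclic ↥A := by
    apply Cfsg.Agent.Helper14.BGUniq.not_isCyclic_of_isElementaryAbelian hAe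
    rw [hAc]
    calc s = s ^ 1 := (pow_one s).symm
      _ < s ^ 2 := Nat.pow_lt_pow_right hsp.one_lt (by norm_num)
  have hcopA : (Nat.card ↥A).Coprime (Nat.card ↥(sigmaCore M)) := by
    rw [hAc]
    apply Nat.Coprime.pow_left
    rw [Nat.Prime.coprime_iff_not_dvd hsp]
    intro hd
    exact hs.2.1 (Cfsg.Agent.Helper22.BG13.isPiNum_card_sigmaCore M s hsp hd)
  have hgen := Cfsg.Agent.S0058.result A (sigmaCore M) hAncyc
    (hAM.trans (Cfsg.Agent.Helper22.BG13.le_normalizer_sigmaCore M)) hcopA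
  obtain ⟨a, haA, ha1, hane⟩ :
      ∃ a ∈ A, a ≠ 1 ∧ sigmaCore M ⊓ centralizer ({a} : Set G) ≠ ⊥ := by
    by_contra hcon
    push Not at hcon
    apply hMσ
    rw [← hgen]
    simp only [iSup_eq_bot]
    intro a ha
    exact hcon a ha.1 ha.2
  have hao : orderOf a = s := orderOf_eq_prime (hAe.2 a haA) ha1
  have hza : zpowers a ≤ A := by rw [Subgroup.zpowers_le]; exact haA
  have hzc : Nat.card ↥(zpowers a) = s := by rw [Nat.card_zpowers, hao]
  have haM : centralizer ({a} : Set G) ≤ M := by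
    have := (h18c (zpowers a) hza hzc (by rw [centralizer_zpowers_eq_singleton]; exact hane)).1
    rwa [centralizer_zpowers_eq_singleton] at this
  by_cases hsk : s = k
  · -- (4e)
    subst hsk
    have hKA : K ≤ A := hXA K (le_inf hKM hKNs) hKc
    have hAP : A ≤ P := le_of_normal_sylow hPS hPn hApg hANs
    by_cases hPab : ∀ x ∈ P, ∀ y ∈ P, x * y = y * x
    · apply hne
      apply hPuniq M hM
      refine le_trans ?_ (h1416 M hM s A ⟨hAM, hAe, hAc⟩).1
      intro x hx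
      rw [Subgroup.mem_centralizer_iff]
      intro y hy
      exact hPab y (hAP hy) x hx
    · have hPtop : IsSylowIn s P ⊤ :=
        Cfsg.Agent.Helper22.BG13.isSylowIn_top_of_mem_sigma hkσ hPS
      have hS : ∀ S : Sylow s G, ¬ IsMulCommutative (S : Subgroup G) := by
        intro S hSc
        apply hPab
        obtain ⟨g, -, hg⟩ := (Cfsg.Agent.Helper15.isSylowIn_top S).exists_conj hPtop
        intro x hx y hy
        rw [← hg] at hx hy
        obtain ⟨x', hx', rfl⟩ := hx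
        obtain ⟨y', hy', rfl⟩ := hy
        have hc := hSc.is_comm.comm (⟨x', hx'⟩ : ↥(S : Subgroup G)) ⟨y', hy'⟩
        have hc' : x' * y' = y' * x' := congrArg Subtype.val hc
        rw [← map_mul, ← map_mul, hc']
      have h19 := (h1419 M hM (M ⊓ Ns) hE s hs hS A ⟨hAE, hAe, hAc⟩).2.1.1
      have hbot : A ⊓ centralizer (sigmaCore M : Set G) = ⊥ := by
        rw [eq_bot_iff, ← hcent]
        exact inf_le_inf hAE le_rfl
      rw [hbot, Subgroup.card_bot] at h19
      rw [← h19] at hsp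
      exact Nat.not_prime_one hsp
  · -- (4d)
    have hKcentA : ∀ κ ∈ K, ∀ b ∈ A, κ * b = b * κ := by
      intro κ hκ b hb
      have hAF : A ≤ fittingOf (M ⊓ Ns) :=
        Cfsg.Agent.Helper1.BG152.le_fittingOf hAE hEA hApg.isNilpotent
      apply Cfsg.Agent.Helper21.commute_of_mem_of_nilpotent
        (Cfsg.Agent.Helper14.BGUniq.isNilpotent_fittingOf (M ⊓ Ns)) (hKF hκ) (hAF hb)
      have h1 : orderOf κ ∣ k := by
        have := orderOf_dvd_natCard (⟨κ, hκ⟩ : ↥K)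
        rwa [Subgroup.orderOf_mk, hKc] at this
      have h2 : orderOf b ∣ s := orderOf_dvd_of_pow_eq_one (hAe.2 b hb)
      apply Nat.Coprime.coprime_dvd_left h1
      apply Nat.Coprime.coprime_dvd_right h2
      rw [Nat.coprime_primes hKp hsp]
      exact fun h => hsk h.symm
    have hKstNs : Kst ≤ Ns := hKstH.1
    have hcopσ : (Nat.card ↥Kst).Coprime (Nat.card ↥(sigmaCore Ns)) := by
      apply Nat.coprime_of_dvd
      intro p hp h1 h2
      have h3 : p ∈ kappa Ns := hKstH.2.1 p hp h1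
      exact h3.2.2.1 (Cfsg.Agent.Helper22.BG13.isPiNum_card_sigmaCore Ns p hp h2)
    have hKstC : Kst ≤ centralizer (K : Set G) := by
      intro y hy
      rw [Subgroup.mem_centralizer_iff]
      intro κ hκ
      exact ((hKC hκ) y hy).symm
    set D : Subgroup G := sigmaCore Ns ⊓ centralizer (K : Set G) with hD
    have hKstD : Kst ≤ normalizer (D : Set G) := by
      apply le_normalizer_of_conj_mem
      intro e he d hd
      obtain ⟨hd1, hd2⟩ := Subgroup.mem_inf.mp hd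
      refine Subgroup.mem_inf.mpr ⟨?_, ?_⟩
      · exact ((mem_normalizer_iff.mp
          (Cfsg.Agent.Helper22.BG13.le_normalizer_sigmaCore Ns (hKstNs he))) d).mp hd1
      · exact Subgroup.mul_mem _ (Subgroup.mul_mem _ (hKstC he) hd2)
          (Subgroup.inv_mem _ (hKstC he))
    have hsP : ¬ s ∣ Nat.card ↥P := by
      obtain ⟨n, hn⟩ := hPS.isPGroup.exists_card_eq
      rw [hn]
      intro hd
      exact hsk ((Nat.prime_dvd_prime_iff_eq hsp hKp).mp (hsp.dvd_of_dvd_pow hd))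
    have hsK : ¬ s ∣ Nat.card ↥K := by
      rw [hKc]
      intro hd
      exact hsk ((Nat.prime_dvd_prime_iff_eq hsp hKp).mp hd)
    have hPsolv : Group.IsSolvable ↥P := by
      haveI := hPS.isPGroup.isNilpotent
      infer_instance
    have haD : a ∈ D := by
      refine Subgroup.mem_inf.mpr ⟨hAσ haA, ?_⟩
      rw [Subgroup.mem_centralizer_iff]
      intro κ hκ
      exact hKcentA κ hκ a haA
    exact false_of_partner (M := M) (Ns := Ns) (P := P) (D := D) (K := K) (Kst := Kst) (s := s)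
      hM hne hPn hPsolv hPuniq (inf_le_left.trans (Cfsg.Agent.Helper22.BG13.sigmaCore_le Ns))
      hKstNs hKst1 hKstD
      (Nat.Coprime.coprime_dvd_right (Subgroup.card_dvd_of_le inf_le_left) hcopσ)
      (Nat.Coprime.coprime_dvd_right (Subgroup.card_dvd_of_le hPσ) hcopσ)
      hsP hsK inf_le_right
      (fun y hy hy1 => by
        rw [← hreg y hy hy1]
        exact inf_le_inf inf_le_left le_rfl)
      (fun y hy hy1 => by
        rw [← hreg y hy hy1]
        exact inf_le_inf hPσ le_rfl)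
      haD ha1 hao haM

end Cfsg.Agent.Helper3.BG1376
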