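import Mathlib
import Cfsg.Agent.Lib.Helper22.BG13A
import Cfsg.Agent.Lib.Helper16.BG147D
import Cfsg.Agent.Lib.Helper20.BG12B

/-!
# BG 14.12 (S1376), part C (helper3): free action and the Frobenius complement

* `free_of_tau2_empty` : `κ(M) = ∅` and `τ₂(M) = ∅` force a complement `E₁` of `M_σ` to act freely
  on `M_σ` (S1432).
* `isFrobeniusComplement_of_free` : a non-trivial complement of `M_σ ≠ 1` acting freely on `M_σ` is
  a Frobenius complement of `M`.
-/

set_option autoImplicit false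
set_option linter.unusedSectionVars false
set_option linter.unusedVariables false

namespace Cfsg.Agent.Helper3.BG1376

open Cfsg Subgroup
open Cfsg.Agent.Helper22.BG13 (Hyp1350)
open Cfsg.Agent.Helper16.BG147 (St1432)

universe u

variable {G : Type u} [Group G] [Finite G]

/-- **Step (5).** -/
theorem free_of_tau2_empty (h32 : St1432 G) {M E1 : Subgroup G} (hM : IsCoatom M)
    (hκ : kappa M = ∅) (hτ : ∀ s, s ∉ tau2 M) (hE : IsComplIn E1 (sigmaCore M) M)
    (h50 : Hyp1350 G) :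
    ∀ e ∈ E1, e ≠ 1 → sigmaCore M ⊓ centralizer ({e} : Set G) = ⊥ := by
  intro e he he1
  rw [eq_bot_iff]
  intro y hy
  rw [Subgroup.mem_bot]
  by_contra hy1
  obtain ⟨hyσ, hyc⟩ := Subgroup.mem_inf.mp hy
  rw [Subgroup.mem_centralizer_singleton_iff] at hyc
  have hhall : IsPiHallOf (sigma M) (sigmaCore M) M := (h50 M hM).1
  have hσ : ∀ p : ℕ, p.Prime → p ∣ orderOf e → p ∉ sigma M := by
    intro p hp hd
    apply Cfsg.Agent.Helper20.BG12.not_mem_sigma_of_dvd_card_compl hhall hE hp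
    refine hd.trans ?_
    have := orderOf_dvd_natCard (⟨e, he⟩ : ↥E1)
    rwa [Subgroup.orderOf_mk] at this
  have heC : e ∈ M ⊓ centralizer ({y} : Set G) := by
    refine Subgroup.mem_inf.mpr ⟨hE.1 he, ?_⟩
    rw [Subgroup.mem_centralizer_singleton_iff]
    exact hyc.symm
  have ho : orderOf e ≠ 1 := by
    intro h
    exact he1 (orderOf_eq_one_iff.mp h)
  obtain ⟨q, hq, hqd⟩ := Nat.exists_prime_and_dvd ho
  rcases h32 M hM y hyσ hy1 e heC he1 hσ with ⟨h1, -⟩ | ⟨h1, -, -⟩
  · have := h1 q hq hqd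
    rw [hκ] at this
    exact this
  · exact hτ q (h1 q hq hqd)

/-- a complement of `M_σ` acting freely on `M_σ` is a Frobenius complement of `M` -/
theorem isFrobeniusComplement_of_free {M E1 : Subgroup G}
    (hE : IsComplIn E1 (sigmaCore M) M) (hE1 : E1 ≠ ⊥) (hσ : sigmaCore M ≠ ⊥)
    (hfree : ∀ e ∈ E1, e ≠ 1 → sigmaCore M ⊓ centralizer ({e} : Set G) = ⊥) :
    IsFrobeniusComplement (E1.subgroupOf M) := by
  obtain ⟨hE1M, hσM, hdisj, hfac⟩ := hE
  have hnorm : ∀ m ∈ M, ∀ b ∈ sigmaCore M, m * b * m⁻¹ ∈ sigmaCore M := by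
    intro m hm b hb
    exact ((mem_normalizer_iff.mp
      (Cfsg.Agent.Helper22.BG13.le_normalizer_sigmaCore M hm)) b).mp hb
  refine ⟨?_, ?_, ?_⟩
  · intro h
    apply hE1
    rw [eq_bot_iff]
    intro z hz
    have : (⟨z, hE1M hz⟩ : ↥M) ∈ E1.subgroupOf M := Subgroup.mem_subgroupOf.mpr hz
    rw [h, Subgroup.mem_bot] at this
    rw [Subgroup.mem_bot]
    exact congrArg Subtype.val this
  · intro h
    apply hσ
    rw [eq_bot_iff]
    intro z hz
    have : (⟨z, hσM hz⟩ : ↥M) ∈ E1.subgroupOf M := by rw [h]; exact Subgroup.mem_top _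
    have hzE : z ∈ E1 := Subgroup.mem_subgroupOf.mp this
    rw [← hdisj]
    exact Subgroup.mem_inf.mpr ⟨hzE, hz⟩
  · intro g hg
    rw [eq_bot_iff]
    intro z hz
    obtain ⟨hz1, hz2⟩ := Subgroup.mem_inf.mp hz
    rw [Subgroup.mem_bot]
    have hzE : (z : G) ∈ E1 := Subgroup.mem_subgroupOf.mp hz1
    have hgE : (g : G) ∉ E1 := fun h => hg (Subgroup.mem_subgroupOf.mpr h)
    -- `w := g⁻¹ z g ∈ E1`
    have hw : (g : G)⁻¹ * z * g ∈ E1 := by
      rw [Subgroup.mem_pointwise_smul_iff_inv_smul_mem] at hz2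
      have := Subgroup.mem_subgroupOf.mp hz2
      simpa [MulAut.smul_def, MulAut.conj_apply] using this
    obtain ⟨a, ha, b, hb, hab⟩ := hfac (g : G) g.2
    have hb1 : b ≠ 1 := by
      intro h
      apply hgE
      rw [hab, h, mul_one]
      exact ha
    set z' : G := a⁻¹ * z * a with hz'
    have hz'E : z' ∈ E1 := E1.mul_mem (E1.mul_mem (E1.inv_mem ha) hzE) ha
    have hw' : b⁻¹ * z' * b ∈ E1 := by
      have e : b⁻¹ * z' * b = (g : G)⁻¹ * z * g := by
        rw [hab, hz']; group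
      rw [e]; exact hw
    have hcomm : z'⁻¹ * (b⁻¹ * z' * b) = 1 := by
      have h1 : z'⁻¹ * (b⁻¹ * z' * b) ∈ E1 := E1.mul_mem (E1.inv_mem hz'E) hw'
      have h2 : z'⁻¹ * (b⁻¹ * z' * b) ∈ sigmaCore M := by
        have e : z'⁻¹ * (b⁻¹ * z' * b) = (z'⁻¹ * b⁻¹ * z'⁻¹⁻¹) * b := by group
        rw [e]
        exact (sigmaCore M).mul_mem
          (hnorm z'⁻¹ (M.inv_mem (hE1M hz'E)) b⁻¹ ((sigmaCore M).inv_mem hb)) hb
      have : z'⁻¹ * (b⁻¹ * z' * b) ∈ E1 ⊓ sigmaCore M := Subgroup.mem_inf.mpr ⟨h1, h2⟩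
      rw [hdisj, Subgroup.mem_bot] at this
      exact this
    have hzb : b * z' = z' * b := by
      have h1 : b⁻¹ * z' * b = z' := by
        have := congrArg (fun t => z' * t) hcomm
        simpa using this
      calc b * z' = b * (b⁻¹ * z' * b) := by rw [h1]
        _ = z' * b := by group
    have hz'1 : z' = 1 := by
      by_contra hne
      apply hb1
      have : b ∈ sigmaCore M ⊓ centralizer ({z'} : Set G) := by
        refine Subgroup.mem_inf.mpr ⟨hb, ?_⟩
        rw [Subgroup.mem_centralizer_singleton_iff]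
        exact hzb
      rw [hfree z' hz'E hne, Subgroup.mem_bot] at this
      exact this
    have hz1' : (z : G) = 1 := by
      have e : (z : G) = a * z' * a⁻¹ := by rw [hz']; group
      rw [e, hz'1]; group
    exact Subtype.ext hz1'

end Cfsg.Agent.Helper3.BG1376
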