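import Mathlib
import Cfsg.Agent.Lib.Helper8.RankTwoAut

/-!
# Sigma-partition helper (5a) (helper3, for helper4's S1378)

An odd-order solvable `q'`-group normalizing a `q`-group `S` of rank at most two (`q` odd) has its
derived subgroup centralizing `S`.
-/

set_option autoImplicit false
set_option linter.unusedSectionVars false
set_option linter.unusedVariables false
set_option linter.style.haveILetI false

namespace Cfsg.Agent.Helper3.BGSig

open Subgroup Cfsg
open scoped commutatorElement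

variable {G : Type*} [Group G] [Finite G]

theorem commutator_le_centralizer_of_rankTwo (q : ℕ) [Fact q.Prime] (hq2 : q ≠ 2)
    (S A : Subgroup G) (hS : IsPGroup q ↥S) (hSr : Cfsg.PRankLE q 2 ↥S)
    (hAS : A ≤ normalizer (S : Set G)) (hodd : Odd (Nat.card ↥A))
    (hsolv : Group.IsSolvable ↥A) (hcop : (Nat.card ↥A).Coprime q) :
    ⁅A, A⁆ ≤ centralizer (S : Set G) := by
  have hqp : q.Prime := Fact.out
  set φ : ↥A →* MulAut ↥S := S.normalizerMonoidHom.comp (Subgroup.inclusion hAS) with hφ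
  have hφapp : ∀ (a : ↥A) (s : ↥S), ((φ a s : ↥S) : G) = (a : G) * s * (a : G)⁻¹ := fun a s => rfl
  set Γ := ↥A ⧸ φ.ker with hΓ
  set ψ : Γ →* MulAut ↥S := QuotientGroup.kerLift φ with hψ
  have hψinj : Function.Injective ψ := QuotientGroup.kerLift_injective φ
  haveI : Group.IsSolvable Γ :=
    Group.isSolvable_of_surjective (QuotientGroup.mk'_surjective φ.ker)
  have hcardΓ : Nat.card Γ ∣ Nat.card ↥A := Subgroup.card_quotient_dvd_card φ.ker
  have hoddΓ : Odd (Nat.card Γ) := Odd.of_dvd_nat hodd hcardΓ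
  have hP : IsPGroup q ↥(commutator Γ) :=
    Cfsg.Agent.Helper8.RankTwo.derived_isPGroup q hq2 hS hSr inferInstance hoddΓ ψ hψinj
  have hcomm : commutator Γ = ⊥ := by
    obtain ⟨n, hn⟩ := IsPGroup.exists_card_eq hP
    have h1 : Nat.card ↥(commutator Γ) ∣ Nat.card ↥A :=
      (Subgroup.card_subgroup_dvd_card _).trans hcardΓ
    have h2 : (q ^ n).Coprime q := by
      rw [← hn]; exact Nat.Coprime.coprime_dvd_left h1 hcop
    have h3 : n = 0 := by
      by_contra hne
      have h4 : q ∣ q ^ n := dvd_pow_self q hne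
      have h5 := Nat.Coprime.eq_one_of_dvd h2.symm h4
      exact hqp.one_lt.ne' h5
    rw [h3, pow_zero] at hn
    exact Subgroup.card_eq_one.mp hn
  rw [Subgroup.commutator_le]
  intro a ha b hb
  have h1 : (QuotientGroup.mk' φ.ker) ⁅(⟨a, ha⟩ : ↥A), ⟨b, hb⟩⁆ ∈ commutator Γ := by
    rw [map_commutatorElement, _root_.commutator_def]
    exact Subgroup.commutator_mem_commutator (Subgroup.mem_top _) (Subgroup.mem_top _)
  rw [hcomm, Subgroup.mem_bot] at h1
  have h2 : ⁅(⟨a, ha⟩ : ↥A), ⟨b, hb⟩⁆ ∈ φ.ker :=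
    (QuotientGroup.eq_one_iff (N := φ.ker) _).mp h1
  rw [MonoidHom.mem_ker] at h2
  rw [Subgroup.mem_centralizer_iff]
  intro s hs
  have h3 := hφapp ⁅(⟨a, ha⟩ : ↥A), ⟨b, hb⟩⁆ ⟨s, hs⟩
  rw [h2] at h3
  have h4 : (s : G) = ⁅a, b⁆ * s * ⁅a, b⁆⁻¹ := h3
  calc s * ⁅a, b⁆ = (⁅a, b⁆ * s * ⁅a, b⁆⁻¹) * ⁅a, b⁆ := by rw [← h4]
    _ = ⁅a, b⁆ * s := by group

end Cfsg.Agent.Helper3.BGSig
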