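import Mathlib
import Cfsg.Prelude.Def_Blocks
import Cfsg.Agent.Lib.Helper10.BR996Defs

/-!
# S0996, piece ENDD: `W ≤ H` cyclic of order `≥ 3` and index `≥ 3`, all elements of `H ∖ W` involutions: impossible
-/

set_option autoImplicit false
set_option linter.unusedSectionVars false
set_option linter.unusedVariables false

namespace Cfsg.Agent.Helper10.BR996

open Cfsg

universe u

variable {G : Type u} [Group G] [Fintype G] [Fintype (IrrCharacter G)]
  (p : ℕ) [Fact p.Prime] (P : Subgroup G)

namespace ENDD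

/-- the purely group-theoretic core, for an arbitrary group -/
theorem core {G : Type*} [Group G] (H W : Subgroup G) (hWH : W ≤ H) (hWc : IsCyclic W)
    (hw : 3 ≤ Nat.card W)
    (hidx : 3 * Nat.card W ≤ Nat.card H) (hinv : ∀ x ∈ H, x ∉ W → x * x = 1) : False := by
  classical
  haveI : Finite W := Nat.finite_of_card_ne_zero (by omega)
  haveI : Finite H := Nat.finite_of_card_ne_zero (by omega)
  -- an element outside `W`
  have hex : ∃ x ∈ H, x ∉ W := by
    by_contra hcon
    push Not at hcon
    have hle : H ≤ W := fun x hx => hcon x hx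
    have := Subgroup.card_le_of_le hle
    omega
  obtain ⟨x, hxH, hxW⟩ := hex
  have hx2 : x * x = 1 := hinv x hxH hxW
  -- every element outside `W` inverts `W`
  have hinvert : ∀ y ∈ H, y ∉ W → ∀ w ∈ W, y * w * y⁻¹ = w⁻¹ := by
    intro y hyH hyW w hwW
    have hy2 : y * y = 1 := hinv y hyH hyW
    have hyw : y * w ∉ W := by
      intro h
      apply hyW
      have : y = y * w * w⁻¹ := by group
      rw [this]
      exact W.mul_mem h (W.inv_mem hwW)
    have h2 : (y * w) * (y * w) = 1 := hinv (y * w) (H.mul_mem hyH (hWH hwW)) hyw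
    have hyinv : y⁻¹ = y := by
      rw [inv_eq_iff_mul_eq_one]; exact hy2
    rw [hyinv]
    -- y w y w = 1
    have : y * w * y = w⁻¹ := by
      have h3 : y * w * y * w = 1 := by rw [← h2]; group
      exact eq_inv_of_mul_eq_one_left h3
    exact this
  -- the product of two elements outside `W` lies in `W`
  obtain ⟨g, hg⟩ := hWc.exists_generator
  have hgsq : (g : G) * (g : G) ≠ 1 := by
    intro h
    have hord : orderOf g ∣ 2 := by
      apply orderOf_dvd_of_pow_eq_one
      apply Subtype.ext
      rw [pow_two]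
      exact h
    have hcard : orderOf g = Nat.card W := orderOf_eq_card_of_forall_mem_zpowers hg
    have := Nat.le_of_dvd (by norm_num) hord
    omega
  have hprod : ∀ y ∈ H, y ∉ W → x * y ∈ W := by
    intro y hyH hyW
    by_contra hxy
    have h1 := hinvert (x * y) (H.mul_mem hxH hyH) hxy g g.2
    have h2 := hinvert y hyH hyW g g.2
    have h3 := hinvert x hxH hxW (g : G)⁻¹ (W.inv_mem g.2)
    have h4 : x * y * (g : G) * (x * y)⁻¹ = x * (y * g * y⁻¹) * x⁻¹ := by group
    rw [h4, h2, h3, inv_inv] at h1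
    apply hgsq
    calc (g : G) * g = (g : G) * (g : G)⁻¹ := by rw [← h1]
      _ = 1 := mul_inv_cancel _
  -- counting
  have hsub : (H : Set G) ⊆ (W : Set G) ∪ ((fun y => x⁻¹ * y) '' (W : Set G)) := by
    intro y hy
    by_cases hyW : y ∈ W
    · exact Or.inl hyW
    · right
      refine ⟨x * y, hprod y hy hyW, ?_⟩
      show x⁻¹ * (x * y) = y
      group
  have hfinW : (W : Set G).Finite := Set.toFinite _
  have hc1 : Set.ncard (H : Set G) ≤ Set.ncard ((W : Set G) ∪ ((fun y => x⁻¹ * y) '' (W : Set G))) :=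
    Set.ncard_le_ncard hsub (hfinW.union (hfinW.image _))
  have hc2 := Set.ncard_union_le (W : Set G) ((fun y => x⁻¹ * y) '' (W : Set G))
  have hc3 : Set.ncard ((fun y => x⁻¹ * y) '' (W : Set G)) ≤ Set.ncard (W : Set G) :=
    Set.ncard_image_le hfinW
  have hH : Set.ncard (H : Set G) = Nat.card H := by
    rw [← Nat.card_coe_set_eq]; rfl
  have hW : Set.ncard (W : Set G) = Nat.card W := by
    rw [← Nat.card_coe_set_eq]; rfl
  omega

end ENDD

/-- PIECE ENDD: `H` finite group, `W ⊴ H` cyclic of order `≥ 3` and index `≥ 3` (here only: `W ≤ H`, all elements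
of `H ∖ W` are involutions): impossible. -/
theorem endD_false (H W : Subgroup G) (hWH : W ≤ H) (hWc : IsCyclic W) (hw : 3 ≤ Nat.card W)
    (hidx : 3 * Nat.card W ≤ Nat.card H) (hinv : ∀ x ∈ H, x ∉ W → x * x = 1) : False :=
  ENDD.core H W hWH hWc hw hidx hinv

end Cfsg.Agent.Helper10.BR996
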