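import Mathlib

/-!
# S0999, piece ARITH: `deg_lt` (pure arithmetic)
-/

set_option autoImplicit false
set_option linter.unusedSectionVars false
set_option linter.unusedVariables false

namespace Cfsg.Agent.Helper23.BR999

namespace ARITH

/-- the integer core: everything in `ℤ`, `g' = y c = (1 + n p) k w`, `y ≥ p`: impossible -/
theorem core (p w t k n y c v : ℤ) (hp3 : 3 ≤ p) (hp : p = 1 + w * t) (hw : 2 ≤ w) (hk : 2 ≤ k)
    (ht : 1 ≤ t) (hn : 1 ≤ n) (hnkw : n * k * w < p)
    (hyc : y * c = (1 + n * p) * k * w) (hyp : p ≤ y) (hc0 : 1 ≤ c) (hcp : c < p)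
    (hsq : t * y ^ 2 ≤ p * ((1 + n * p) * k * w))
    (hcase : c = k ∨ (c = p - k ∧ y + w = v * p ∧ 2 ≤ v)) : False := by
  have hkw : k * w < p := by nlinarith
  rcases hcase with hck | ⟨hck, hv, hv2⟩
  · -- c = k, y = d w
    subst hck
    have hy : y = (1 + n * p) * w := by
      have hc_pos : (0 : ℤ) < c := by linarith
      have h1 : y * c = ((1 + n * p) * w) * c := by rw [hyc]; ring
      exact mul_right_cancel₀ (ne_of_gt hc_pos) h1
    subst hy
    -- t d^2 w^2 ≤ p d k w  ⇒ t d w ≤ p k
    set d := 1 + n * p with hd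
    have hdpos : 0 < d := by nlinarith
    have hd1 : p + 1 ≤ d := by nlinarith
    have hwpos : (0 : ℤ) < w := by linarith
    have h2 : t * d * w ≤ p * c := by
      have h3 : (d * w) * (t * d * w) ≤ (d * w) * (p * c) := by nlinarith
      exact le_of_mul_le_mul_left h3 (by positivity)
    -- t w = p - 1
    have htw : t * w = p - 1 := by linarith [mul_comm w t]
    have h4 : (p - 1) * d ≤ p * c := by nlinarith
    -- 2 c d ≤ d c w < p^2 : from n p c w < p * p
    have h5 : d * c * w < p * p := by nlinarith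
    have h6 : 2 * c * d < p * p := by nlinarith
    -- contradiction
    have h7 : 2 * (p - 1) * d * d ≤ 2 * p * c * d := by nlinarith
    have h8 : 2 * p * c * d < p * (p * p) := by nlinarith
    have h9 : 2 * (p - 1) * (p + 1) * (p + 1) ≤ 2 * (p - 1) * d * d := by
      have : (p + 1) * (p + 1) ≤ d * d := by nlinarith
      have hp1 : 0 ≤ 2 * (p - 1) := by linarith
      nlinarith
    nlinarith
  · -- c = p - k
    subst hck
    have hyv : y = v * p - w := by linarith
    subst hyv
    -- v (p - k) = w + n k w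
    have h1 : v * (p - k) = w + n * k * w := by
      have hp_pos : (0 : ℤ) < p := by linarith
      have h2 : p * (v * (p - k)) = p * (w + n * k * w) := by nlinarith
      exact mul_left_cancel₀ (ne_of_gt hp_pos) h2
    have hpk : 0 < p - k := by linarith
    have h3 : 2 * (p - k) ≤ v * (p - k) := by nlinarith
    have h4 : p < w + 2 * k := by nlinarith
    have h5 : w + 2 * k ≤ w * k + 2 := by nlinarith
    have h6 : w * k ≤ p - 1 := by nlinarith
    have h7 : w + 2 * k = p + 1 := by omega
    have h8 : w * k = p - 1 := by omega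
    have h9 : n = 1 := by
      by_contra hne
      have : 2 ≤ n := by omega
      nlinarith
    subst h9
    have h10 : (w - 2) * (k - 1) = 0 := by nlinarith
    have hw2 : w = 2 := by
      rcases mul_eq_zero.1 h10 with h | h
      · linarith
      · omega
    subst hw2
    have hpk2 : p = 2 * k + 1 := by omega
    subst hpk2
    have hv : v = 2 := by
      have : v * (k + 1) = 2 * (k + 1) := by nlinarith
      have hk1 : (0 : ℤ) < k + 1 := by linarith
      exact mul_right_cancel₀ (ne_of_gt hk1) this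
    subst hv
    have ht : t = k := by nlinarith
    subst ht
    nlinarith

end ARITH

theorem deg_lt (p w t k d y : ℕ) (hpp : p.Prime) (hp : p = 1 + w * t) (hw : 2 ≤ w) (hk : 2 ≤ k)
    (hd1 : 1 < d) (hdmod : d % p = 1) (hsmall : d * k * w < p ^ 2)
    (hy : y ∣ p * (d * k * w))
    (hcong : (y : ℤ) ≡ (w : ℤ) [ZMOD p] ∨ (y : ℤ) ≡ -(w : ℤ) [ZMOD p])
    (hsq : t * y ^ 2 ≤ p * (d * k * w)) : y < p := by
  by_contra hyp
  push Not at hyp
  have hp2 : 2 ≤ p := hpp.two_le
  have ht1 : 1 ≤ t := by
    rcases Nat.eq_zero_or_pos t with rfl | h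
    · simp at hp; omega
    · exact h
  have hwp : w < p := by nlinarith
  have hp3 : 3 ≤ p := by omega
  -- d = 1 + n p
  obtain ⟨n, hn⟩ : ∃ n, d = 1 + n * p := by
    refine ⟨d / p, ?_⟩
    have := Nat.div_add_mod d p
    rw [hdmod] at this
    nlinarith
  have hn1 : 1 ≤ n := by
    rcases Nat.eq_zero_or_pos n with rfl | h
    · simp at hn; omega
    · exact h
  -- p does not divide y
  have hpy : ¬ (p ∣ y) := by
    intro h
    have h0 : (y : ℤ) ≡ 0 [ZMOD p] := by
      rw [Int.modEq_zero_iff_dvd]
      exact_mod_cast h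
    have hw0 : (p : ℤ) ∣ (w : ℤ) := by
      rcases hcong with h1 | h1
      · have := h1.symm.trans h0
        rwa [Int.modEq_zero_iff_dvd] at this
      · have := h1.symm.trans h0
        rw [Int.modEq_zero_iff_dvd] at this
        exact (dvd_neg.1 this)
    have hw0' : p ∣ w := by exact_mod_cast hw0
    have := Nat.le_of_dvd (by omega) hw0'
    omega
  have hcop : Nat.Coprime y p := ((Nat.Prime.coprime_iff_not_dvd hpp).2 hpy).symm
  have hyg : y ∣ d * k * w := hcop.dvd_of_dvd_mul_left hy
  obtain ⟨c, hc⟩ := hyg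
  -- n k w < p
  have hnkw : n * k * w < p := by
    have h1 : n * p * k * w < p * p := by
      have : d * k * w = k * w + n * p * k * w := by rw [hn]; ring
      nlinarith
    have h2 : p * (n * k * w) < p * p := by nlinarith
    exact lt_of_mul_lt_mul_left h2 (Nat.zero_le p)
  have hkwp : k * w < p := by nlinarith
  have hkp : k < p := by nlinarith
  -- c ≥ 1, c < p
  have hgpos : 0 < d * k * w := by positivity
  have hc0 : 1 ≤ c := by
    rcases Nat.eq_zero_or_pos c with rfl | h
    · simp at hc; omega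
    · exact h
  have hcp : c < p := by
    by_contra hcon
    push Not at hcon
    have : p * p ≤ y * c := Nat.mul_le_mul hyp hcon
    rw [← hc] at this
    nlinarith
  -- congruences in ℤ
  have hycZ : (y : ℤ) * c = (1 + n * p) * k * w := by
    have : ((d * k * w : ℕ) : ℤ) = ((y * c : ℕ) : ℤ) := by rw [hc]
    push_cast at this
    rw [← this, hn]
    push_cast
    ring
  have hpZ : Prime (p : ℤ) := Nat.prime_iff_prime_int.1 hpp
  have hpw : ¬ ((p : ℤ) ∣ (w : ℤ)) := by
    intro h
    have h' : p ∣ w := by exact_mod_cast h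
    have := Nat.le_of_dvd (by omega) h'
    omega
  have hcase : (c : ℤ) = k ∨ ((c : ℤ) = p - k ∧ ∃ v : ℤ, (y : ℤ) + w = v * p ∧ 2 ≤ v) := by
    rcases hcong with h1 | h1
    · left
      -- p ∣ y - w ; y c - k w = n p k w
      have hd1' : (p : ℤ) ∣ (y : ℤ) - w := (Int.modEq_iff_dvd.1 h1.symm)
      have hd2 : (p : ℤ) ∣ (w : ℤ) * ((c : ℤ) - k) := by
        have e1 : (w : ℤ) * ((c : ℤ) - k) = (y : ℤ) * c - ((y : ℤ) - w) * c - k * w := by ring
        rw [e1, hycZ]
        have e2 : (1 + (n : ℤ) * p) * k * w - ((y : ℤ) - w) * c - k * w =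
            (p : ℤ) * (n * k * w) - ((y : ℤ) - w) * c := by ring
        rw [e2]
        exact dvd_sub (dvd_mul_right _ _) (Dvd.dvd.mul_right hd1' _)
      have hd3 : (p : ℤ) ∣ (c : ℤ) - k := (hpZ.dvd_or_dvd hd2).resolve_left hpw
      have habs : |(c : ℤ) - k| < p := by
        rw [abs_lt]
        constructor <;> [skip; skip] <;> omega
      have := Int.eq_zero_of_abs_lt_dvd hd3 habs
      linarith
    · right
      have hd1' : (p : ℤ) ∣ (y : ℤ) + w := by
        have := Int.modEq_iff_dvd.1 h1
        -- p ∣ -w - y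
        have h2 : (p : ℤ) ∣ -((y : ℤ) + w) := by
          have e : -((y : ℤ) + w) = -(w : ℤ) - y := by ring
          rw [e]; exact this
        exact (dvd_neg.1 h2)
      have hd2 : (p : ℤ) ∣ (w : ℤ) * ((c : ℤ) + k) := by
        have e1 : (w : ℤ) * ((c : ℤ) + k) = ((y : ℤ) + w) * c - (y : ℤ) * c + k * w := by ring
        rw [e1, hycZ]
        have e2 : ((y : ℤ) + w) * c - (1 + (n : ℤ) * p) * k * w + k * w =
            ((y : ℤ) + w) * c - (p : ℤ) * (n * k * w) := by ring
        rw [e2]
        exact dvd_sub (Dvd.dvd.mul_right hd1' _) (dvd_mul_right _ _)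
      have hd3 : (p : ℤ) ∣ (c : ℤ) + k := (hpZ.dvd_or_dvd hd2).resolve_left hpw
      obtain ⟨m, hm⟩ := hd3
      have hm1 : m = 1 := by
        have h1 : 0 < (p : ℤ) * m := by rw [← hm]; omega
        have h2 : (p : ℤ) * m < p * 2 := by rw [← hm]; omega
        have hp0 : (0 : ℤ) < p := by omega
        have h3 : 0 < m := by
          by_contra hcon
          push Not at hcon
          nlinarith
        have h4 : m < 2 := lt_of_mul_lt_mul_left h2 (le_of_lt hp0)
        omega
      refine ⟨by rw [hm1] at hm; linarith, ?_⟩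
      obtain ⟨v, hv⟩ := hd1'
      refine ⟨v, by rw [hv]; ring, ?_⟩
      by_contra hcon
      push Not at hcon
      have hp0 : (0 : ℤ) < p := by omega
      have h1 : (p : ℤ) * v ≤ p * 1 := by nlinarith
      have h2 : (p : ℤ) < (y : ℤ) + w := by
        have : (p : ℤ) ≤ y := by exact_mod_cast hyp
        have : (2 : ℤ) ≤ w := by exact_mod_cast hw
        linarith
      rw [hv] at h2
      linarith
  have hsqZ : (t : ℤ) * (y : ℤ) ^ 2 ≤ p * ((1 + n * p) * k * w) := by
    have : ((t * y ^ 2 : ℕ) : ℤ) ≤ ((p * (d * k * w) : ℕ) : ℤ) := by exact_mod_cast hsq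
    rw [hn] at this
    push_cast at this
    linarith
  have hpZ' : (p : ℤ) = 1 + w * t := by exact_mod_cast hp
  have hnkwZ : (n : ℤ) * k * w < p := by exact_mod_cast hnkw
  rcases hcase with h | ⟨h, v, hv, hv2⟩
  · exact ARITH.core p w t k n y c 0 (by exact_mod_cast hp3) hpZ' (by exact_mod_cast hw)
      (by exact_mod_cast hk) (by exact_mod_cast ht1) (by exact_mod_cast hn1) hnkwZ hycZ
      (by exact_mod_cast hyp) (by exact_mod_cast hc0) (by exact_mod_cast hcp) hsqZ (Or.inl h)
  · exact ARITH.core p w t k n y c v (by exact_mod_cast hp3) hpZ' (by exact_mod_cast hw)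
      (by exact_mod_cast hk) (by exact_mod_cast ht1) (by exact_mod_cast hn1) hnkwZ hycZ
      (by exact_mod_cast hyp) (by exact_mod_cast hc0) (by exact_mod_cast hcp) hsqZ
      (Or.inr ⟨h, hv, hv2⟩)

end Cfsg.Agent.Helper23.BR999
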