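import Mathlib
import Cfsg.Agent.Lib.Helper3.BisetTransfer

/-!
# The transfer of an involution through a biset, and fixed point counts of cyclic subgroups
-/

set_option autoImplicit false
set_option linter.style.haveILetI false
set_option linter.unusedSectionVars false

namespace Cfsg.Agent.Helper3.Biset

open MulAction

section General

/-- A product over a finite type with an involution pairing off inverse factors reduces to the
product over the fixed points. -/
theorem prod_eq_prod_fixed {α M : Type*} [Fintype α] [DecidableEq α] [CommMonoid M] (σ : α → α)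
    (hσ : ∀ z, σ (σ z) = z) (f : α → M) (hf : ∀ z, σ z ≠ z → f z * f (σ z) = 1) :
    ∏ z, f z = ∏ z ∈ Finset.univ.filter (fun z => σ z = z), f z := by
  rw [← Finset.prod_filter_mul_prod_filter_not Finset.univ (fun z => σ z = z) f]
  have h1 : ∏ z ∈ Finset.univ.filter (fun z => ¬ σ z = z), f z = 1 := by
    refine Finset.prod_involution (fun z _ => σ z) ?_ ?_ ?_ ?_
    · intro z hz
      exact hf z (Finset.mem_filter.1 hz).2
    · intro z hz _
      exact (Finset.mem_filter.1 hz).2
    · intro z hz
      rw [Finset.mem_filter]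
      refine ⟨Finset.mem_univ _, fun h => (Finset.mem_filter.1 hz).2 ?_⟩
      rw [hσ] at h
      exact h.symm
    · intro z _
      exact hσ z
  rw [h1, mul_one]

theorem mem_fix_zpowers {G : Type*} [Group G] {X : Type*} [MulAction G X] {g : G} {x : X} :
    x ∈ fix (Subgroup.zpowers g) X ↔ g • x = x := by
  show Subgroup.zpowers g ≤ stabilizer G x ↔ _
  rw [Subgroup.zpowers_le, mem_stabilizer_iff]

end General

section Invol

variable {A : Type*} {B : Type*} [Group A] [Group B] {Y : Type*} [MulAction (A × B) Y]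

theorem dd_one (hfree : RFree A B Y) (z : RQ A B Y) : dd (1 : A) z = 1 := by
  symm
  apply dd_unique hfree
  rw [one_smul, Prod.mk_one_one, one_smul]

theorem dd_mul_self (hfree : RFree A B Y) {a : A} (ha : a * a = 1) (z : RQ A B Y) :
    dd a z * dd a (a • z) = 1 := by
  rw [← dd_mul hfree, ha, dd_one hfree]

theorem smul_smul_self {a : A} (ha : a * a = 1) (z : RQ A B Y) : a • a • z = z := by
  rw [← mul_smul, ha, one_smul]

/-- The transfer of an involution, composed with a homomorphism into a commutative group, is the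
product over the fixed orbits. -/
theorem transfer_invol [Finite Y] [Fintype (RQ A B Y)] [DecidableEq (RQ A B Y)]
    (hfree : RFree A B Y) {a : A} (ha : a * a = 1)
    {M : Type*} [CommGroup M] (χ : Abelianization B →* M) :
    χ (transfer A B Y hfree a) =
      ∏ z ∈ Finset.univ.filter (fun z : RQ A B Y => a • z = z),
        χ (Abelianization.of (dd a z)) := by
  rw [transfer_apply]
  unfold transferFun
  rw [finprod_eq_prod_of_fintype, map_prod]
  refine prod_eq_prod_fixed (fun z => a • z) (smul_smul_self ha) _ fun z _ => ?_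
  rw [← map_mul, ← map_mul, dd_mul_self hfree ha, map_one, map_one]

/-- The parity of the number of fixed points of an involution. -/
theorem neg_one_pow_card_fixed [Fintype (RQ A B Y)] [DecidableEq (RQ A B Y)]
    {a : A} (ha : a * a = 1) :
    (-1 : ℤˣ) ^ Fintype.card (RQ A B Y) =
      (-1 : ℤˣ) ^ (Finset.univ.filter (fun z : RQ A B Y => a • z = z)).card := by
  have h := prod_eq_prod_fixed (fun z : RQ A B Y => a • z) (smul_smul_self ha)
    (fun _ => (-1 : ℤˣ)) (fun _ _ => by decide)
  rw [Finset.prod_const, Finset.prod_const, Finset.card_univ] at h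
  exact h

/-- A free right action identifies `Y` with the product of its orbit set and the group. -/
noncomputable def rqEquiv (hfree : RFree A B Y) : Y ≃ RQ A B Y × B := by
  have hb : ∀ y : Y, ∃ b : B, ((1 : A), b) • (RQ.mk y : RQ A B Y).out = y := by
    intro y
    have h : (RQ.mk (RQ.mk y : RQ A B Y).out : RQ A B Y) = RQ.mk y := RQ.mk_out _
    exact RQ.mk_eq_mk.1 h
  choose β hβ using hb
  refine ⟨fun y => (RQ.mk y, β y), fun p => ((1 : A), p.2) • p.1.out, hβ, ?_⟩
  rintro ⟨z, b⟩
  have h1 : (RQ.mk (((1 : A), b) • z.out) : RQ A B Y) = z := by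
    rw [RQ.mk_smul_right, RQ.mk_out]
  refine Prod.ext h1 ?_
  apply hfree.cancel (y := z.out)
  have h2 := hβ (((1 : A), b) • z.out)
  rw [h1] at h2
  exact h2

theorem rqEquiv_symm_apply (hfree : RFree A B Y) (z : RQ A B Y) (b : B) :
    (rqEquiv hfree).symm (z, b) = ((1 : A), b) • z.out := rfl

theorem smul_rq (a : A) (t b : B) (z : RQ A B Y) :
    ((a, t) : A × B) • ((1 : A), b) • z.out = ((1 : A), t * b * dd a z) • (a • z).out := by
  have h1 : ((a, t) : A × B) = ((1 : A), t) * ((a, (1 : B)) : A × B) := by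
    rw [Prod.mk_mul_mk, one_mul, mul_one]
  rw [h1, mul_smul, smul_comm_lr, dd_spec, smul_right_mul, smul_right_mul, mul_assoc]

theorem smul_rq_eq_iff (hfree : RFree A B Y) (a : A) (t b : B) (z : RQ A B Y) :
    ((a, t) : A × B) • ((1 : A), b) • z.out = ((1 : A), b) • z.out ↔
      a • z = z ∧ t * b * dd a z = b := by
  rw [smul_rq]
  constructor
  · intro h
    have h1 : a • z = z := by
      have := congrArg (RQ.mk : Y → RQ A B Y) h
      rwa [RQ.mk_smul_right, RQ.mk_smul_right, RQ.mk_out, RQ.mk_out] at this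
    refine ⟨h1, ?_⟩
    apply hfree.cancel (y := z.out)
    rw [← h]
    congr 2
    exact h1.symm
  · rintro ⟨h1, h2⟩
    rw [h2]
    congr 2

/-- The number of solutions of `t * b * d = b`. -/
noncomputable def cnt (t d : B) : ℕ := Nat.card {b : B // t * b * d = b}

/-- The number of fixed points of the element `(a, t)`. -/
theorem card_fix_zpowers [Finite Y] [Fintype (RQ A B Y)] [DecidableEq (RQ A B Y)] [Finite B]
    (hfree : RFree A B Y) (a : A) (t : B) :
    Nat.card (fix (Subgroup.zpowers ((a, t) : A × B)) Y) =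
      ∑ z ∈ Finset.univ.filter (fun z : RQ A B Y => a • z = z), cnt t (dd a z) := by
  classical
  haveI : Fintype B := Fintype.ofFinite B
  have e1 : Nat.card (fix (Subgroup.zpowers ((a, t) : A × B)) Y) =
      Nat.card {p : RQ A B Y × B // a • p.1 = p.1 ∧ t * p.2 * dd a p.1 = p.2} := by
    refine Nat.card_congr ((rqEquiv hfree).subtypeEquiv fun y => ?_)
    obtain ⟨⟨z, b⟩, rfl⟩ := (rqEquiv hfree).symm.surjective y
    rw [Equiv.apply_symm_apply, rqEquiv_symm_apply, mem_fix_zpowers]
    exact smul_rq_eq_iff hfree a t b z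
  rw [e1, Nat.card_eq_fintype_card, Fintype.card_subtype, Finset.card_filter,
    Fintype.sum_prod_type, Finset.sum_filter]
  refine Finset.sum_congr rfl fun z _ => ?_
  by_cases hz : a • z = z
  · rw [if_pos hz]
    unfold cnt
    rw [Nat.card_eq_fintype_card, Fintype.card_subtype, Finset.card_filter]
    refine Finset.sum_congr rfl fun b _ => ?_
    simp only [hz, true_and]
  · rw [if_neg hz]
    refine Finset.sum_eq_zero fun b _ => ?_
    simp only [hz, false_and, if_false]

end Invol

section Count

variable {B : Type*} [Group B] [Finite B]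

theorem eq_conj_of_mul_eq {t b d : B} (h : t * b * d = b) : d = b⁻¹ * t⁻¹ * b := by
  calc d = (t * b)⁻¹ * (t * b * d) := by group
    _ = (t * b)⁻¹ * b := by rw [h]
    _ = b⁻¹ * t⁻¹ * b := by group

theorem card_centralizer_dvd_cnt (t d : B) :
    Nat.card (Subgroup.centralizer ({t} : Set B)) ∣ cnt t d := by
  unfold cnt
  by_cases h : ∃ b₀ : B, t * b₀ * d = b₀
  · obtain ⟨b₀, hb₀⟩ := h
    have hd : d = b₀⁻¹ * t⁻¹ * b₀ := eq_conj_of_mul_eq hb₀
    have key1 : ∀ b : B, t * b * d = b → b * b₀⁻¹ ∈ Subgroup.centralizer ({t} : Set B) := by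
      intro b hb
      rw [Subgroup.mem_centralizer_singleton_iff]
      rw [hd] at hb
      have h1 : t * (b * b₀⁻¹) * t⁻¹ = b * b₀⁻¹ := by
        calc t * (b * b₀⁻¹) * t⁻¹ = (t * b * (b₀⁻¹ * t⁻¹ * b₀)) * b₀⁻¹ := by group
          _ = b * b₀⁻¹ := by rw [hb]
      calc b * b₀⁻¹ * t = (t * (b * b₀⁻¹) * t⁻¹) * t := by rw [h1]
        _ = t * (b * b₀⁻¹) := by group
    have key2 : ∀ c : B, c ∈ Subgroup.centralizer ({t} : Set B) → t * (c * b₀) * d = c * b₀ := by
      intro c hc
      have hc' := Subgroup.mem_centralizer_singleton_iff.1 hc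
      calc t * (c * b₀) * d = (t * c) * b₀ * d := by group
        _ = (c * t) * b₀ * d := by rw [hc']
        _ = c * (t * b₀ * d) := by group
        _ = c * b₀ := by rw [hb₀]
    have e : {b : B // t * b * d = b} ≃ Subgroup.centralizer ({t} : Set B) :=
      { toFun := fun b => ⟨b.1 * b₀⁻¹, key1 b.1 b.2⟩
        invFun := fun c => ⟨c.1 * b₀, key2 c.1 c.2⟩
        left_inv := fun b => Subtype.ext (by simp)
        right_inv := fun c => Subtype.ext (by simp) }
    rw [Nat.card_congr e]
  · have : IsEmpty {b : B // t * b * d = b} := ⟨fun b => h ⟨b.1, b.2⟩⟩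
    have h0 : Nat.card {b : B // t * b * d = b} = 0 := Nat.card_of_isEmpty
    rw [h0]
    exact dvd_zero _

/-- Summing the counts over a normal subgroup. -/
theorem sum_cnt_normal [Fintype B] [DecidableEq B] (N : Subgroup B) [N.Normal]
    [DecidablePred (· ∈ N)] (d : B) :
    ∑ t ∈ Finset.univ.filter (fun t : B => t ∈ N), cnt t d =
      if d ∈ N then Nat.card B else 0 := by
  have e1 : ∑ t ∈ Finset.univ.filter (fun t : B => t ∈ N), cnt t d =
      Nat.card {p : B × B // p.1 ∈ N ∧ p.1 * p.2 * d = p.2} := by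
    rw [Nat.card_eq_fintype_card, Fintype.card_subtype, Finset.card_filter,
      Fintype.sum_prod_type, Finset.sum_filter]
    refine Finset.sum_congr rfl fun t _ => ?_
    by_cases ht : t ∈ N
    · rw [if_pos ht]
      unfold cnt
      rw [Nat.card_eq_fintype_card, Fintype.card_subtype, Finset.card_filter]
      refine Finset.sum_congr rfl fun b _ => ?_
      simp only [ht, true_and]
    · rw [if_neg ht]
      symm
      refine Finset.sum_eq_zero fun b _ => ?_
      simp only [ht, false_and, if_false]
  rw [e1]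
  by_cases hd : d ∈ N
  · rw [if_pos hd]
    refine Nat.card_congr ⟨fun p => p.1.2, fun b => ⟨(b * d⁻¹ * b⁻¹, b), ?_, ?_⟩, ?_, ?_⟩
    · exact ‹N.Normal›.conj_mem _ (N.inv_mem hd) b
    · show b * d⁻¹ * b⁻¹ * b * d = b
      group
    · rintro ⟨⟨t, b⟩, h1, h2⟩
      apply Subtype.ext
      refine Prod.ext ?_ rfl
      show b * d⁻¹ * b⁻¹ = t
      have h2' : t * b * d = b := h2
      calc b * d⁻¹ * b⁻¹ = (t * b * d) * d⁻¹ * b⁻¹ := by rw [h2']
        _ = t := by group
    · intro b
      rfl
  · rw [if_neg hd]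
    have : IsEmpty {p : B × B // p.1 ∈ N ∧ p.1 * p.2 * d = p.2} := by
      refine ⟨fun p => hd ?_⟩
      obtain ⟨⟨t, b⟩, h1, h2⟩ := p
      have h2' : t * b * d = b := h2
      have hd' : d = b⁻¹ * t⁻¹ * b := eq_conj_of_mul_eq h2'
      rw [hd']
      have := ‹N.Normal›.conj_mem _ (N.inv_mem h1) b⁻¹
      simpa using this
    exact Nat.card_of_isEmpty

end Count

end Cfsg.Agent.Helper3.Biset
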