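import Mathlib
import Cfsg.Agent.Lib.Helper3.BisetChar
import Cfsg.Agent.Lib.Helper3.BisetInvol

/-!
# A Thompson-Lyons transfer lemma for saturated fusion systems (on the top subgroup)
-/

set_option autoImplicit false
set_option linter.style.haveILetI false
set_option linter.unusedSectionVars false

namespace Cfsg.Agent.Helper3.Biset

open Cfsg Cfsg.FusionSystem Cfsg.Agent.Helper25

universe u

section Orbits

/-- If `N` divides `k` times the size of every orbit in an invariant finite set, it divides `k` times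
the size of the set. -/
theorem dvd_mul_ncard_of_orbits {G α : Type*} [Group G] [MulAction G α] (N k : ℕ) :
    ∀ (n : ℕ) (X : Set α), X.Finite → X.ncard = n → (∀ g : G, ∀ x ∈ X, g • x ∈ X) →
      (∀ x ∈ X, N ∣ k * (MulAction.orbit G x).ncard) → N ∣ k * X.ncard := by
  intro n
  induction n using Nat.strong_induction_on with
  | _ n ih =>
    intro X hfin hn hinv hdvd
    by_cases hne : X = ∅
    · rw [hne, Set.ncard_empty, mul_zero]
      exact dvd_zero _
    · obtain ⟨x, hx⟩ := Set.nonempty_iff_ne_empty.2 hne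
      have hO : MulAction.orbit G x ⊆ X := by
        rintro _ ⟨g, rfl⟩
        exact hinv g x hx
      have hsplit := Set.ncard_sdiff_add_ncard_of_subset hO hfin
      have hOpos : 0 < (MulAction.orbit G x).ncard :=
        (Set.ncard_pos (hfin.subset hO)).2 ⟨x, MulAction.mem_orbit_self x⟩
      have hlt : (X \ MulAction.orbit G x).ncard < n := by omega
      have hinv' : ∀ g : G, ∀ y ∈ X \ MulAction.orbit G x, g • y ∈ X \ MulAction.orbit G x := by
        rintro g y ⟨hyX, hyO⟩
        refine ⟨hinv g y hyX, fun h => hyO ?_⟩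
        have h1 : MulAction.orbit G (g • y) = MulAction.orbit G x := MulAction.orbit_eq_iff.2 h
        rw [MulAction.orbit_smul] at h1
        rw [← h1]
        exact MulAction.mem_orbit_self y
      have h2 := ih _ hlt (X \ MulAction.orbit G x) (hfin.subset Set.sdiff_subset) rfl hinv'
        (fun y hy => hdvd y hy.1)
      rw [← hsplit, mul_add]
      exact dvd_add h2 (hdvd x hx)

theorem ncard_orbit_conjAct_mul {U : Type*} [Group U] [Finite U] (t : U) :
    (MulAction.orbit (ConjAct U) t).ncard * Nat.card (Subgroup.centralizer ({t} : Set U)) =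
      Nat.card U := by
  rw [Subgroup.nat_card_centralizer_nat_card_stabilizer, ← MulAction.index_stabilizer,
    Subgroup.index_mul_card]
  rfl

/-- A conjugation invariant subset all of whose elements have centralizers of order dividing `c / 2`
has `2 |U|` dividing `c` times its cardinality. -/
theorem two_mul_card_dvd {U : Type*} [Group U] [Finite U] (X : Set U)
    (hX : ∀ g t : U, t ∈ X → g * t * g⁻¹ ∈ X) (c : ℕ)
    (h : ∀ t ∈ X, 2 * Nat.card (Subgroup.centralizer ({t} : Set U)) ∣ c) :
    2 * Nat.card U ∣ c * X.ncard := by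
  refine dvd_mul_ncard_of_orbits (G := ConjAct U) (2 * Nat.card U) c X.ncard X (Set.toFinite X) rfl
    ?_ ?_
  · intro g x hx
    rw [ConjAct.smul_def]
    exact hX _ _ hx
  · intro t ht
    obtain ⟨q, hq⟩ := h t ht
    rw [hq, ← ncard_orbit_conjAct_mul t]
    exact ⟨q, by ring⟩

end Orbits

section Thompson

variable {U : Type u} [Group U] [Finite U] {F : FusionSystem (⊤ : Subgroup U)}

theorem isConjElt_self (a : U) : F.IsConjElt a a :=
  ⟨_, subtype_mem F le_top, rfl⟩

theorem isConjElt_conj {a t : U} (h : F.IsConjElt a t) (g : U) : F.IsConjElt a (g * t * g⁻¹) := by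
  obtain ⟨φ, hφ, rfl⟩ := h
  have h2 : conjHom ⊤ g ∈ F.Hom ⊤ := F.conj_mem le_rfl (Subgroup.mem_top g)
  refine ⟨_, F.comp_mem hφ h2 (fun _ => Subgroup.mem_top _), ?_⟩
  rw [MonoidHom.comp_apply, conjHom_apply]
  rfl

theorem zpowers_subgroupOf {G : Type*} [Group G] {K : Subgroup G} {g : G} (hg : g ∈ K) :
    (Subgroup.zpowers g).subgroupOf K = Subgroup.zpowers (⟨g, hg⟩ : K) := by
  ext y
  rw [Subgroup.mem_subgroupOf, Subgroup.mem_zpowers_iff, Subgroup.mem_zpowers_iff]
  constructor
  · rintro ⟨k, hk⟩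
    exact ⟨k, Subtype.ext (by rw [Subgroup.coe_zpow]; exact hk)⟩
  · rintro ⟨k, rfl⟩
    exact ⟨k, by rw [Subgroup.coe_zpow]⟩

/-- The cyclic subgroups generated by `(a, t)` for `t` conjugate to `a` in the system are all related
to the one generated by `(a, a)`. -/
theorem ffconj_zpowers {a t : U} (h : F.IsConjElt a t) :
    FFConj F (Subgroup.zpowers ((a, a) : U × U)) (Subgroup.zpowers ((a, t) : U × U)) := by
  obtain ⟨φ, hφ, rfl⟩ := h
  have hmem : ((a, a) : U × U) ∈ (Subgroup.zpowers a).prod (Subgroup.zpowers a) :=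
    Subgroup.mem_prod.2 ⟨Subgroup.mem_zpowers a, Subgroup.mem_zpowers a⟩
  refine ⟨Subgroup.zpowers a, Subgroup.zpowers a, (Subgroup.zpowers a).subtype, φ,
    subtype_mem F le_top, hφ, Subgroup.zpowers_le.2 hmem, ?_⟩
  unfold ffimg
  rw [zpowers_subgroupOf hmem, MonoidHom.map_zpowers]
  rfl

/-- A cyclic subgroup generated by `(a, t)` which is a twisted diagonal exhibits `t` as a conjugate
of `a`. -/
theorem isConjElt_of_mem_TD {a t : U} (h : Subgroup.zpowers ((a, t) : U × U) ∈ TD F) :
    F.IsConjElt a t := by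
  obtain ⟨P, φ, hφ, hP⟩ := h
  have hmem : ((a, t) : U × U) ∈ graph P φ := hP ▸ Subgroup.mem_zpowers _
  obtain ⟨ha, hat⟩ := mem_graph.1 hmem
  exact ⟨_, restrict_mem F (Subgroup.zpowers_le.2 ha) hφ, hat⟩

/-- The sign homomorphism of a subgroup of index two. -/
noncomputable def sgnHom (T₀ : Subgroup U) (h : T₀.index = 2) : U →* ℤˣ := by
  classical
  exact MonoidHom.mk' (fun g => if g ∈ T₀ then 1 else -1) (by
    intro x y
    by_cases hx : x ∈ T₀ <;> by_cases hy : y ∈ T₀ <;>
      simp [hx, hy, Subgroup.mul_mem_iff_of_index_two h])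

theorem sgnHom_apply (T₀ : Subgroup U) (h : T₀.index = 2) [DecidablePred (· ∈ T₀)] (g : U) :
    sgnHom T₀ h g = if g ∈ T₀ then 1 else -1 := by
  unfold sgnHom
  rw [MonoidHom.mk'_apply]
  congr

/-- **Thompson-Lyons transfer**: if no conjugate of the involution `a` with centralizer of maximal
order lies in the subgroup `T₀` of index two, then `a` is not in the focal subgroup. -/
theorem not_mem_focal_of_thompson (hU : IsPGroup 2 U) (hF : F.IsSaturated 2) (T₀ : Subgroup U)
    (hT₀ : T₀.index = 2) (a : U) (ha : a * a = 1)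
    (h : ∀ t, F.IsConjElt a t →
      (∀ t', F.IsConjElt a t' → Nat.card (Subgroup.centralizer ({t'} : Set U)) ≤
        Nat.card (Subgroup.centralizer ({t} : Set U))) → t ∉ T₀) :
    a ∉ F.focalSubgroup := by
  classical
  haveI : Fact (Nat.Prime 2) := ⟨Nat.prime_two⟩
  haveI : Fintype U := Fintype.ofFinite U
  haveI hnorm : T₀.Normal := Subgroup.normal_of_index_eq_two hT₀
  obtain ⟨c, hc1, hc2, hc3⟩ := exists_char hU hF
  have hc : ∀ D, c D ≠ 0 → D ∈ TD F := hc1
  have hstab : ∀ E E' : Subgroup (U × U), FFConj F E E' → marks c E = marks c E' :=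
    fun E E' hEE => hc3 E E' hEE (Nat.zero_le _)
  have htop : ∀ D : Subgroup (U × U), Nat.card D = Nat.card U → c D = cTop F D :=
    fun D hD => hc2 D hD.ge
  have hfree := rfree_Om hc
  haveI : Fintype (RQ U U (Om c)) := Fintype.ofFinite _
  -- the homomorphism killing the focal subgroup
  set τ := transfer U U (Om c) hfree with hτ
  set χ : Abelianization U →* ℤˣ := Abelianization.lift (sgnHom T₀ hT₀) with hχ
  intro hafoc
  have hker : F.focalSubgroup ≤ τ.ker := by
    unfold FusionSystem.focalSubgroup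
    rw [Subgroup.closure_le]
    rintro _ ⟨P, φ, x, hφ, rfl⟩
    rw [SetLike.mem_coe, MonoidHom.mem_ker, map_mul, map_inv, hτ,
      transfer_stable hc hstab hφ x, inv_mul_cancel]
  have hτa : τ a = 1 := hker hafoc
  -- the fixed orbits
  set Fix := Finset.univ.filter (fun z : RQ U U (Om c) => a • z = z) with hFix
  have h8 : χ (τ a) = ∏ z ∈ Fix, χ (Abelianization.of (dd a z)) := transfer_invol hfree ha χ
  have h9 := neg_one_pow_card_fixed (A := U) (B := U) (Y := Om c) ha
  have hodd : ¬ 2 ∣ Nat.card (RQ U U (Om c)) := not_dvd_card_RQ hU hF hc htop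
  -- the marks of the cyclic subgroups
  set m : U → ℕ := fun t => Nat.card (fix (Subgroup.zpowers ((a, t) : U × U)) (Om c)) with hm
  have hm1 : ∀ t, m t = ∑ z ∈ Fix, cnt t (dd a z) := fun t => card_fix_zpowers hfree a t
  have hm2 : ∀ t, F.IsConjElt a t → m t = m a := fun t ht => (hstab _ _ (ffconj_zpowers ht)).symm
  have hm3 : ∀ t, ¬ F.IsConjElt a t → m t = 0 := by
    intro t ht
    apply (stabSys hU hF).marks_eq_zero_of_notMem hc1
    intro hmem
    exact ht (isConjElt_of_mem_TD hmem)
  -- a conjugate with the largest centralizer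
  obtain ⟨ts, hts, htsmax⟩ : ∃ ts, F.IsConjElt a ts ∧ ∀ t', F.IsConjElt a t' →
      Nat.card (Subgroup.centralizer ({t'} : Set U)) ≤
        Nat.card (Subgroup.centralizer ({ts} : Set U)) := by
    have hne : (Finset.univ.filter (fun t : U => F.IsConjElt a t)).Nonempty :=
      ⟨a, Finset.mem_filter.2 ⟨Finset.mem_univ _, isConjElt_self a⟩⟩
    obtain ⟨ts, hts, hmax⟩ := Finset.exists_max_image _
      (fun t : U => Nat.card (Subgroup.centralizer ({t} : Set U))) hne
    exact ⟨ts, (Finset.mem_filter.1 hts).2,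
      fun t' ht' => hmax t' (Finset.mem_filter.2 ⟨Finset.mem_univ _, ht'⟩)⟩
  set cs := Nat.card (Subgroup.centralizer ({ts} : Set U)) with hcs
  -- `cs` divides `m a`
  have h5 : cs ∣ m a := by
    rw [← hm2 ts hts, hm1]
    exact Finset.dvd_sum fun z _ => card_centralizer_dvd_cnt ts (dd a z)
  -- the conjugates inside `T₀`
  set X : Set U := {t | t ∈ T₀ ∧ F.IsConjElt a t} with hX
  have h6 : 2 * Nat.card U ∣ cs * X.ncard := by
    apply two_mul_card_dvd X
    · rintro g t ⟨ht1, ht2⟩
      exact ⟨hnorm.conj_mem t ht1 g, isConjElt_conj ht2 g⟩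
    · rintro t ⟨ht1, ht2⟩
      have hle := htsmax t ht2
      have hne : Nat.card (Subgroup.centralizer ({t} : Set U)) ≠ cs := by
        intro heq
        refine h t ht2 (fun t' ht' => ?_) ht1
        rw [heq]
        exact htsmax t' ht'
      have hlt : Nat.card (Subgroup.centralizer ({t} : Set U)) < cs := lt_of_le_of_ne hle hne
      obtain ⟨i, hi⟩ := IsPGroup.iff_card.1 (hU.to_subgroup (Subgroup.centralizer ({t} : Set U)))
      obtain ⟨j, hj⟩ := IsPGroup.iff_card.1 (hU.to_subgroup (Subgroup.centralizer ({ts} : Set U)))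
      rw [hcs, hj, hi] at hlt ⊢
      have hij : i < j := (Nat.pow_lt_pow_iff_right (by norm_num)).1 hlt
      rw [← pow_succ']
      exact pow_dvd_pow 2 hij
  -- double counting
  have h3 : ∑ t ∈ Finset.univ.filter (fun t : U => t ∈ T₀), m t =
      Nat.card U * (Fix.filter (fun z => dd a z ∈ T₀)).card := by
    rw [Finset.sum_congr rfl fun t _ => hm1 t, Finset.sum_comm,
      Finset.sum_congr rfl fun z _ => sum_cnt_normal T₀ (dd a z), Finset.sum_ite,
      Finset.sum_const, Finset.sum_const_zero, add_zero, smul_eq_mul, mul_comm]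
  have h4 : ∑ t ∈ Finset.univ.filter (fun t : U => t ∈ T₀), m t = X.ncard * m a := by
    have e1 : ∀ t ∈ Finset.univ.filter (fun t : U => t ∈ T₀),
        m t = if F.IsConjElt a t then m a else 0 := by
      intro t _
      by_cases ht : F.IsConjElt a t
      · rw [if_pos ht, hm2 t ht]
      · rw [if_neg ht, hm3 t ht]
    rw [Finset.sum_congr rfl e1, Finset.sum_ite, Finset.sum_const, Finset.sum_const_zero,
      add_zero, smul_eq_mul, Finset.filter_filter]
    congr 1
    rw [← Set.ncard_coe_finset]
    congr 1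
    ext t
    simp [hX]
  -- `N_in` is even
  have h7 : Even (Fix.filter (fun z => dd a z ∈ T₀)).card := by
    obtain ⟨r, hr⟩ := h5
    obtain ⟨s, hs⟩ := h6
    have e : Nat.card U * (Fix.filter (fun z => dd a z ∈ T₀)).card =
        Nat.card U * (2 * (r * s)) := by
      rw [← h3, h4, hr]
      calc X.ncard * (cs * r) = (cs * X.ncard) * r := by ring
        _ = 2 * Nat.card U * s * r := by rw [hs]
        _ = Nat.card U * (2 * (r * s)) := by ring
    have := Nat.eq_of_mul_eq_mul_left Nat.card_pos e
    rw [this]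
    exact even_two_mul _
  -- conclusion
  have h10 : χ (τ a) * (-1 : ℤˣ) ^ Fix.card = 1 := by
    rw [h8, ← Finset.prod_const, ← Finset.prod_mul_distrib]
    have e2 : ∀ z ∈ Fix, χ (Abelianization.of (dd a z)) * (-1 : ℤˣ) =
        if dd a z ∈ T₀ then (-1 : ℤˣ) else 1 := by
      intro z _
      rw [hχ, Abelianization.lift_apply_of, sgnHom_apply]
      by_cases hz : dd a z ∈ T₀
      · rw [if_pos hz, if_pos hz, one_mul]
      · rw [if_neg hz, if_neg hz]
        decide
    rw [Finset.prod_congr rfl e2, Finset.prod_ite, Finset.prod_const, Finset.prod_const_one,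
      mul_one]
    exact Even.neg_one_pow h7
  rw [hτa, map_one, one_mul, ← h9] at h10
  have hodd' : Odd (Fintype.card (RQ U U (Om c))) := by
    rw [← Nat.card_eq_fintype_card]
    exact Nat.odd_iff.2 (Nat.two_dvd_ne_zero.1 hodd)
  rw [Odd.neg_one_pow hodd'] at h10
  exact absurd h10 (by decide)

end Thompson

end Cfsg.Agent.Helper3.Biset
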