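import Mathlib
import Cfsg.Agent.Lib.Helper3.BisetTransport

/-!
# Conjugacy of elements and normalizers of involutions through the top copy of a fusion system
-/

set_option autoImplicit false
set_option linter.style.haveILetI false
set_option linter.unusedSectionVars false

namespace Cfsg.Agent.Helper3.Biset

open Cfsg Cfsg.FusionSystem Cfsg.Agent.Helper25

variable {Ω : Type*} [Group Ω] {S : Subgroup Ω}

theorem map_zpowers_subtype (a : ↥S) :
    (Subgroup.zpowers a).map S.subtype = Subgroup.zpowers (a : Ω) := by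
  rw [MonoidHom.map_zpowers]
  rfl

theorem range_eq_zpowers {G : Type*} [Group G] {g : Ω} (ψ : ↥(Subgroup.zpowers g) →* G) :
    ψ.range = Subgroup.zpowers (ψ ⟨g, Subgroup.mem_zpowers g⟩) := by
  ext y
  rw [MonoidHom.mem_range, Subgroup.mem_zpowers_iff]
  constructor
  · rintro ⟨⟨x, hx⟩, rfl⟩
    obtain ⟨k, rfl⟩ := Subgroup.mem_zpowers_iff.1 hx
    refine ⟨k, ?_⟩
    rw [← map_zpow]
    congr 1
  · rintro ⟨k, rfl⟩
    exact ⟨⟨g, Subgroup.mem_zpowers g⟩ ^ k, map_zpow _ _ _⟩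

theorem isConjElt_trans (F : FusionSystem S) {x y z : Ω} (h1 : F.IsConjElt x y)
    (h2 : F.IsConjElt y z) : F.IsConjElt x z := by
  obtain ⟨φ, hφ, rfl⟩ := h1
  obtain ⟨ψ, hψ, rfl⟩ := h2
  have hr := range_eq_zpowers φ
  have h : ∀ u : ↥(Subgroup.zpowers x), φ u ∈ Subgroup.zpowers (φ ⟨x, Subgroup.mem_zpowers x⟩) :=
    fun u => hr ▸ MonoidHom.mem_range.2 ⟨u, rfl⟩
  exact ⟨_, F.comp_mem hφ hψ h, rfl⟩

theorem IsConjElt.mul_self {F : FusionSystem S} {x y : Ω} (h : F.IsConjElt x y) (hx : x * x = 1)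
    (hx1 : x ≠ 1) : y * y = 1 ∧ y ≠ 1 := by
  obtain ⟨φ, hφ, rfl⟩ := h
  constructor
  · rw [← map_mul]
    have : (⟨x, Subgroup.mem_zpowers x⟩ : ↥(Subgroup.zpowers x)) * ⟨x, Subgroup.mem_zpowers x⟩ = 1 :=
      Subtype.ext hx
    rw [this, map_one]
  · intro h1
    have hinj := F.injective_of_mem hφ
    have h2 : (⟨x, Subgroup.mem_zpowers x⟩ : ↥(Subgroup.zpowers x)) = 1 := hinj (by rw [h1, map_one])
    exact hx1 (congrArg Subtype.val h2)

/-- Conjugacy of elements in the copy gives conjugacy in `F`. -/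
theorem IsTopCopy.isConjElt_of {F : FusionSystem S} {E : FusionSystem (⊤ : Subgroup ↥S)}
    (h : IsTopCopy F E) {a t : ↥S} (hat : E.IsConjElt a t) : F.IsConjElt (a : Ω) (t : Ω) := by
  obtain ⟨φ', hφ', rfl⟩ := hat
  obtain ⟨φ, hφ, hφeq⟩ := h.exists_of_mem hφ'
  have hmap := map_zpowers_subtype a
  refine ⟨_, hom_transport F hmap.symm hφ, ?_⟩
  have ha : ((⟨a, Subgroup.mem_zpowers a⟩ : ↥(Subgroup.zpowers a)) : ↥S).1 ∈
      (Subgroup.zpowers a).map S.subtype := hmap ▸ Subgroup.mem_zpowers (a : Ω)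
  exact hφeq ⟨a, Subgroup.mem_zpowers a⟩ ha

/-- Conjugacy of elements in `F` gives conjugacy in the copy. -/
theorem IsTopCopy.isConjElt_to {F : FusionSystem S} {E : FusionSystem (⊤ : Subgroup ↥S)}
    (h : IsTopCopy F E) {a : ↥S} {j : Ω} (haj : F.IsConjElt (a : Ω) j) :
    ∃ hj : j ∈ S, E.IsConjElt a ⟨j, hj⟩ := by
  obtain ⟨φ, hφ, rfl⟩ := haj
  have hφS := (F.le_of_mem hφ).2
  refine ⟨hφS _, ?_⟩
  have hmap := map_zpowers_subtype a
  have hφ₀ := hom_transport F hmap hφ
  have hφ₀S := (F.le_of_mem hφ₀).2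
  let φ' : ↥(Subgroup.zpowers a) →* ↥S :=
    ((φ.comp (Subgroup.inclusion hmap.le)).codRestrict S hφ₀S).comp
      (Subgroup.equivMapOfInjective _ S.subtype S.subtype_injective).toMonoidHom
  have hφ' : φ' ∈ E.Hom (Subgroup.zpowers a) := h.mem_of_mem hφ₀ rfl φ' (fun x hx => rfl)
  exact ⟨φ', hφ', Subtype.ext rfl⟩

theorem mem_zpowers_of_mul_self {G : Type*} [Group G] {t y : G} (ht : t * t = 1)
    (hy : y ∈ Subgroup.zpowers t) : y = 1 ∨ y = t := by
  obtain ⟨k, rfl⟩ := Subgroup.mem_zpowers_iff.1 hy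
  have hsq : t ^ (2 : ℤ) = 1 := by
    rw [zpow_ofNat, pow_two, ht]
  have hk : t ^ k = t ^ (k % 2) := by
    conv_lhs => rw [← Int.mul_ediv_add_emod k 2]
    rw [zpow_add, zpow_mul, hsq, one_zpow, one_mul]
  rcases Int.emod_two_eq_zero_or_one k with h0 | h1
  · left
    rw [hk, h0, zpow_zero]
  · right
    rw [hk, h1, zpow_one]

/-- For an involution `t` of `↥S`, `N_S(⟨t⟩)` has the order of the centralizer of `t` in `↥S`. -/
theorem card_normalizerIn_zpowers {t : ↥S} (ht : t * t = 1) (ht1 : t ≠ 1) :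
    Nat.card (normalizerIn S (Subgroup.zpowers (t : Ω))) =
      Nat.card (Subgroup.centralizer ({t} : Set ↥S)) := by
  have ht' : (t : Ω) * (t : Ω) = 1 := congrArg Subtype.val ht
  have ht1' : (t : Ω) ≠ 1 := fun h => ht1 (Subtype.ext h)
  have key : (Subgroup.centralizer ({t} : Set ↥S)).map S.subtype =
      normalizerIn S (Subgroup.zpowers (t : Ω)) := by
    ext x
    unfold normalizerIn
    rw [Subgroup.mem_map, Subgroup.mem_inf]
    constructor
    · rintro ⟨s, hs, rfl⟩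
      refine ⟨s.2, ?_⟩
      have hs' := Subgroup.mem_centralizer_singleton_iff.1 hs
      have hcomm : (s : Ω) * (t : Ω) = (t : Ω) * (s : Ω) := congrArg Subtype.val hs'
      have hconj : ∀ y ∈ Subgroup.zpowers (t : Ω), (s : Ω) * y * (s : Ω)⁻¹ = y := by
        intro y hy
        rcases mem_zpowers_of_mul_self ht' hy with rfl | rfl
        · group
        · rw [hcomm]; group
      have hcomm' : (s : Ω)⁻¹ * (t : Ω) = (t : Ω) * (s : Ω)⁻¹ := by
        calc (s : Ω)⁻¹ * (t : Ω) = (s : Ω)⁻¹ * ((t : Ω) * (s : Ω)) * (s : Ω)⁻¹ := by group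
          _ = (s : Ω)⁻¹ * ((s : Ω) * (t : Ω)) * (s : Ω)⁻¹ := by rw [hcomm]
          _ = (t : Ω) * (s : Ω)⁻¹ := by group
      have hconj' : ∀ y ∈ Subgroup.zpowers (t : Ω), (s : Ω)⁻¹ * y * (s : Ω) = y := by
        intro y hy
        rcases mem_zpowers_of_mul_self ht' hy with rfl | rfl
        · group
        · rw [hcomm']; group
      rw [Subgroup.coe_subtype, Subgroup.mem_normalizer_iff]
      intro y
      constructor
      · intro hy
        rw [hconj y hy]
        exact hy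
      · intro hy
        have h3 := hconj' _ hy
        have h4 : (s : Ω)⁻¹ * ((s : Ω) * y * (s : Ω)⁻¹) * (s : Ω) = y := by group
        rw [h4] at h3
        rw [h3]
        exact hy
    · rintro ⟨hxS, hxN⟩
      refine ⟨⟨x, hxS⟩, ?_, rfl⟩
      rw [Subgroup.mem_centralizer_singleton_iff]
      apply Subtype.ext
      show x * (t : Ω) = (t : Ω) * x
      have h1 := (Subgroup.mem_normalizer_iff.1 hxN (t : Ω)).1 (Subgroup.mem_zpowers _)
      rcases mem_zpowers_of_mul_self ht' h1 with h2 | h2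
      · exfalso
        apply ht1'
        have : (t : Ω) = x⁻¹ * (x * (t : Ω) * x⁻¹) * x := by group
        rw [this, h2]
        group
      · calc x * (t : Ω) = (x * (t : Ω) * x⁻¹) * x := by group
          _ = (t : Ω) * x := by rw [h2]
  rw [← key, Subgroup.card_map_of_injective S.subtype_injective]

end Cfsg.Agent.Helper3.Biset
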