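import Mathlib
import Cfsg.Agent.S0182
import Cfsg.Agent.S0496

set_option autoImplicit false
set_option linter.unusedSectionVars false

/-!
# Simple CT-groups (S5748), as a corollary of S2202 (groups with abelian involution centralizers)
and S0182 (CA-groups of odd order).
-/

namespace Cfsg.Agent.Helper3.CT

open Matrix

/-! ## Linear algebra: the commutant of a non-scalar `2 × 2` matrix is commutative -/

theorem key_field {F : Type*} [Field F] (a b c d e f g h e' f' g' h' : F)
    (hns : b ≠ 0 ∨ c ≠ 0 ∨ a ≠ d)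
    (Y1 : b * g = f * c) (Y2 : f * (a - d) = b * (e - h)) (Y3 : g * (a - d) = c * (e - h))
    (Z1 : b * g' = f' * c) (Z2 : f' * (a - d) = b * (e' - h')) (Z3 : g' * (a - d) = c * (e' - h')) :
    f * g' = f' * g ∧ f * (e' - h') = f' * (e - h) ∧ g * (e' - h') = g' * (e - h) := by
  rcases hns with hb | hc | had
  · have h1 : f * g' = f' * g := by
      apply mul_left_cancel₀ hb
      linear_combination f * Z1 - f' * Y1
    have h2 : f * (e' - h') = f' * (e - h) := by
      apply mul_left_cancel₀ hb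
      linear_combination f' * Y2 - f * Z2
    refine ⟨h1, h2, ?_⟩
    apply mul_left_cancel₀ hb
    linear_combination g' * Y2 - g * Z2 - (a - d) * h1
  · have h1 : f * g' = f' * g := by
      apply mul_left_cancel₀ hc
      linear_combination g * Z1 - g' * Y1
    have h3 : g * (e' - h') = g' * (e - h) := by
      apply mul_left_cancel₀ hc
      linear_combination g' * Y3 - g * Z3
    refine ⟨h1, ?_, h3⟩
    apply mul_left_cancel₀ hc
    linear_combination f' * Y3 - f * Z3 + (a - d) * h1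
  · have had' : a - d ≠ 0 := sub_ne_zero.mpr had
    have h2 : f * (e' - h') = f' * (e - h) := by
      apply mul_left_cancel₀ had'
      linear_combination (e' - h') * Y2 - (e - h) * Z2
    have h3 : g * (e' - h') = g' * (e - h) := by
      apply mul_left_cancel₀ had'
      linear_combination (e' - h') * Y3 - (e - h) * Z3
    refine ⟨?_, h2, h3⟩
    apply mul_left_cancel₀ had'
    linear_combination f * Z3 - f' * Y3 + c * h2

theorem entries_of_commute {F : Type*} [Field F] (x y : Matrix (Fin 2) (Fin 2) F)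
    (hy : x * y = y * x) :
    x 0 1 * y 1 0 = y 0 1 * x 1 0 ∧
    y 0 1 * (x 0 0 - x 1 1) = x 0 1 * (y 0 0 - y 1 1) ∧
    y 1 0 * (x 0 0 - x 1 1) = x 1 0 * (y 0 0 - y 1 1) := by
  have h00 := congrFun (congrFun hy 0) 0
  have h01 := congrFun (congrFun hy 0) 1
  have h10 := congrFun (congrFun hy 1) 0
  simp only [Matrix.mul_apply, Fin.sum_univ_two] at h00 h01 h10
  refine ⟨?_, ?_, ?_⟩
  · linear_combination h00
  · linear_combination h01
  · linear_combination -h10

theorem commute_of_commute_nonscalar {F : Type*} [Field F] (x y z : Matrix (Fin 2) (Fin 2) F)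
    (hx : x 0 1 ≠ 0 ∨ x 1 0 ≠ 0 ∨ x 0 0 ≠ x 1 1) (hy : x * y = y * x) (hz : x * z = z * x) :
    y * z = z * y := by
  obtain ⟨Y1, Y2, Y3⟩ := entries_of_commute x y hy
  obtain ⟨Z1, Z2, Z3⟩ := entries_of_commute x z hz
  obtain ⟨h1, h2, h3⟩ := key_field _ _ _ _ _ _ _ _ _ _ _ _ hx Y1 Y2 Y3 Z1 Z2 Z3
  ext i j
  fin_cases i <;> fin_cases j <;>
    simp only [Matrix.mul_apply, Fin.sum_univ_two, Fin.zero_eta, Fin.mk_one, Fin.isValue]
  · linear_combination h1
  · linear_combination -h2
  · linear_combination h3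
  · linear_combination -h1

/-! ## `SL₂` in characteristic two -/

theorem sl2_eq_one_of_scalar {F : Type*} [Field F] [CharP F 2]
    (b : Matrix.SpecialLinearGroup (Fin 2) F)
    (h : ¬ ((b : Matrix (Fin 2) (Fin 2) F) 0 1 ≠ 0 ∨ (b : Matrix (Fin 2) (Fin 2) F) 1 0 ≠ 0 ∨
      (b : Matrix (Fin 2) (Fin 2) F) 0 0 ≠ (b : Matrix (Fin 2) (Fin 2) F) 1 1)) : b = 1 := by
  push Not at h
  obtain ⟨h01, h10, h00⟩ := h
  have hdet := b.det_coe
  rw [Matrix.det_fin_two, h01, h10, ← h00] at hdet
  set r := (b : Matrix (Fin 2) (Fin 2) F) 0 0 with hr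
  have h2 : (2 : F) = 0 := CharTwo.two_eq_zero
  have hr1 : (r + 1) * (r + 1) = 0 := by
    linear_combination hdet + (r + 1) * h2
  have hr2 : r + 1 = 0 := by
    rcases mul_eq_zero.mp hr1 with h | h <;> exact h
  have hr3 : r = 1 := by
    linear_combination hr2 - h2
  ext i j
  fin_cases i <;> fin_cases j
  · simpa [← hr] using hr3
  · simpa using h01
  · simpa using h10
  · have : (b : Matrix (Fin 2) (Fin 2) F) 1 1 = 1 := by rw [← h00]; exact hr3
    simpa using this

theorem sl2_CT {F : Type*} [Field F] [CharP F 2] (a b c : Matrix.SpecialLinearGroup (Fin 2) F)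
    (hb : b ≠ 1) (hab : Commute a b) (hbc : Commute b c) : Commute a c := by
  have hns : (b : Matrix (Fin 2) (Fin 2) F) 0 1 ≠ 0 ∨ (b : Matrix (Fin 2) (Fin 2) F) 1 0 ≠ 0 ∨
      (b : Matrix (Fin 2) (Fin 2) F) 0 0 ≠ (b : Matrix (Fin 2) (Fin 2) F) 1 1 := by
    by_contra h
    exact hb (sl2_eq_one_of_scalar b h)
  have h1 : (b : Matrix (Fin 2) (Fin 2) F) * (a : Matrix (Fin 2) (Fin 2) F) =
      (a : Matrix (Fin 2) (Fin 2) F) * (b : Matrix (Fin 2) (Fin 2) F) := by
    have := congrArg (fun g : Matrix.SpecialLinearGroup (Fin 2) F => (g : Matrix (Fin 2) (Fin 2) F)) hab.eq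
    simpa using this.symm
  have h2 : (b : Matrix (Fin 2) (Fin 2) F) * (c : Matrix (Fin 2) (Fin 2) F) =
      (c : Matrix (Fin 2) (Fin 2) F) * (b : Matrix (Fin 2) (Fin 2) F) := by
    have := congrArg (fun g : Matrix.SpecialLinearGroup (Fin 2) F => (g : Matrix (Fin 2) (Fin 2) F)) hbc.eq
    simpa using this
  have h3 := commute_of_commute_nonscalar _ _ _ hns h1 h2
  apply Subtype.ext
  simpa using h3

theorem sl2_center_eq_bot {F : Type*} [Field F] [CharP F 2] :
    Subgroup.center (Matrix.SpecialLinearGroup (Fin 2) F) = ⊥ := by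
  rw [eq_bot_iff]
  intro b hb
  rw [Subgroup.mem_bot]
  by_contra hb1
  -- a non-identity element is non-scalar, but it commutes with everything
  have hcomm : ∀ g : Matrix.SpecialLinearGroup (Fin 2) F, Commute g b := fun g =>
    (Subgroup.mem_center_iff.mp hb g)
  -- two non-commuting elements
  let u : Matrix.SpecialLinearGroup (Fin 2) F := ⟨!![1, 1; 0, 1], by simp [Matrix.det_fin_two]⟩
  let l : Matrix.SpecialLinearGroup (Fin 2) F := ⟨!![1, 0; 1, 1], by simp [Matrix.det_fin_two]⟩
  have hu : (u : Matrix (Fin 2) (Fin 2) F) = !![1, 1; 0, 1] := rfl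
  have hl : (l : Matrix (Fin 2) (Fin 2) F) = !![1, 0; 1, 1] := rfl
  have hul : Commute u l := sl2_CT u b l hb1 (hcomm u) (hcomm l).symm
  have hmat : (u : Matrix (Fin 2) (Fin 2) F) * (l : Matrix (Fin 2) (Fin 2) F) =
      (l : Matrix (Fin 2) (Fin 2) F) * (u : Matrix (Fin 2) (Fin 2) F) := by
    rw [← Matrix.SpecialLinearGroup.coe_mul, ← Matrix.SpecialLinearGroup.coe_mul, hul.eq]
  rw [hu, hl, Matrix.mul_fin_two, Matrix.mul_fin_two] at hmat
  have h00 := congrFun (congrFun hmat 0) 0
  simp at h00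

/-- `PSL₂(F) ≃* SL₂(F)` in characteristic two -/
noncomputable def pslEquiv (F : Type*) [Field F] [CharP F 2] :
    Matrix.ProjectiveSpecialLinearGroup (Fin 2) F ≃* Matrix.SpecialLinearGroup (Fin 2) F :=
  (QuotientGroup.quotientMulEquivOfEq sl2_center_eq_bot).trans QuotientGroup.quotientBot

end Cfsg.Agent.Helper3.CT
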