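import Mathlib
import Cfsg.Agent.S0182
import Cfsg.Agent.S0496
import Cfsg.Agent.Lib.Helper3.CTSimple

set_option autoImplicit false
set_option linter.unusedSectionVars false

namespace Cfsg.Agent.Helper3.CT

open Matrix

variable {G : Type*} [Group G] [Finite G]

/-- the conclusion of S2202 for `G` -/
def Concl2202 (G : Type*) [Group G] : Prop :=
  (∀ P : Sylow 2 G, IsCyclic ↥P) ∨ (∀ P : Sylow 2 G, (P : Subgroup G).Normal) ∨
    (∃ (F : Type) (_ : Field F) (_ : Fintype F) (A : Type) (_ : CommGroup A) (_ : Finite A),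
      CharP F 2 ∧ Odd (Nat.card A) ∧ Nonempty (G ≃* Matrix.SpecialLinearGroup (Fin 2) F × A))

theorem CA_of_CT
    (hCT : ∀ a b c : G, a ≠ 1 → b ≠ 1 → c ≠ 1 → Commute a b → Commute b c → Commute a c)
    (x : G) (hx : x ≠ 1) (a : G) (ha : a ∈ Subgroup.centralizer ({x} : Set G)) (b : G)
    (hb : b ∈ Subgroup.centralizer ({x} : Set G)) : a * b = b * a := by
  rw [Subgroup.mem_centralizer_singleton_iff] at ha hb
  by_cases ha1 : a = 1
  · rw [ha1, one_mul, mul_one]
  by_cases hb1 : b = 1
  · rw [hb1, one_mul, mul_one]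
  exact (hCT a x b ha1 hx hb1 ha hb.symm).eq

theorem comm_of_isCyclic_top (P : Subgroup G) (hP : IsCyclic ↥P) (htop : P = ⊤) :
    ∀ a b : G, a * b = b * a := by
  obtain ⟨g, hg⟩ := hP.exists_generator
  have key : ∀ a : G, ∃ n : ℤ, a = (g : G) ^ n := by
    intro a
    have ha : a ∈ P := by rw [htop]; exact Subgroup.mem_top a
    obtain ⟨n, hn⟩ := Subgroup.mem_zpowers_iff.mp (hg ⟨a, ha⟩)
    refine ⟨n, ?_⟩
    have := congrArg Subtype.val hn
    simpa using this.symm
  intro a b
  obtain ⟨m, rfl⟩ := key a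
  obtain ⟨n, rfl⟩ := key b
  rw [← _root_.zpow_add, ← _root_.zpow_add, add_comm]

theorem forward [IsSimpleGroup G] (hG : ¬ IsMulCommutative G)
    (hCT : ∀ a b c : G, a ≠ 1 → b ≠ 1 → c ≠ 1 → Commute a b → Commute b c → Commute a c)
    (hS : Even (Nat.card G) →
      (∀ t : G, orderOf t = 2 → IsMulCommutative ↥(Subgroup.centralizer ({t} : Set G))) →
      Concl2202 G) :
    ∃ (F : Type) (_ : Field F) (_ : Fintype F) (f : ℕ), 2 ≤ f ∧ Fintype.card F = 2 ^ f ∧
      Nonempty (G ≃* Matrix.ProjectiveSpecialLinearGroup (Fin 2) F) := by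
  haveI : Fact (Nat.Prime 2) := ⟨Nat.prime_two⟩
  have hncomm : ¬ ∀ a b : G, a * b = b * a := fun h => hG ⟨⟨h⟩⟩
  have hCA := CA_of_CT hCT
  rcases Nat.even_or_odd (Nat.card G) with heven | hodd
  swap
  · exfalso
    have hsol := Cfsg.Agent.S0182.result hodd hCA
    exact hncomm (IsSimpleGroup.comm_iff_isSolvable.mpr hsol)
  have h2dvd : 2 ∣ Nat.card G := even_iff_two_dvd.mp heven
  have hcent : ∀ t : G, orderOf t = 2 →
      IsMulCommutative ↥(Subgroup.centralizer ({t} : Set G)) := by
    intro t ht
    have ht1 : t ≠ 1 := by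
      rintro rfl
      rw [orderOf_one] at ht
      omega
    exact ⟨⟨fun a b => Subtype.ext (hCA t ht1 a a.2 b b.2)⟩⟩
  rcases hS heven hcent with hcyc | hnor | ⟨F, hF, hFin, A, hA, hAfin, hchar, hAodd, ⟨φ⟩⟩
  · -- cyclic Sylow 2-subgroups
    exfalso
    let P : Sylow 2 G := default
    have hmin : (Nat.card G).minFac = 2 := by
      rw [Nat.minFac_eq_two_iff]; exact h2dvd
    have hcomp := IsCyclic.isComplement' hmin (hcyc P)
    set K := (MonoidHom.transferSylow P ((hcyc P).normalizer_le_centralizer hmin)).ker with hK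
    have hPne : (P : Subgroup G) ≠ ⊥ := P.ne_bot_of_dvd_card h2dvd
    have hcard := hcomp.card_mul
    have hKn : K.Normal := by rw [hK]; exact MonoidHom.normal_ker _
    rcases hKn.eq_bot_or_eq_top with h | h
    · rw [h, Subgroup.card_bot, one_mul] at hcard
      have htop : (P : Subgroup G) = ⊤ := (Subgroup.card_eq_iff_eq_top _).mp hcard
      exact hncomm (comm_of_isCyclic_top _ (hcyc P) htop)
    · rw [h, Subgroup.card_top] at hcard
      have : Nat.card ↥(P : Subgroup G) = 1 := by
        have hpos : 0 < Nat.card G := Nat.card_pos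
        exact Nat.eq_of_mul_eq_mul_left hpos (by rw [hcard, mul_one])
      exact hPne (Subgroup.card_eq_one.mp this)
  · -- normal Sylow 2-subgroups
    exfalso
    let P : Sylow 2 G := default
    have hPne : (P : Subgroup G) ≠ ⊥ := P.ne_bot_of_dvd_card h2dvd
    rcases (hnor P).eq_bot_or_eq_top with h | h
    · exact hPne h
    · have hpG : IsPGroup 2 G := by
        have := P.isPGroup'
        intro g
        obtain ⟨k, hk⟩ := this ⟨g, by rw [h]; exact Subgroup.mem_top g⟩
        exact ⟨k, by simpa using congrArg Subtype.val hk⟩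
      haveI : Nontrivial G := IsSimpleGroup.toNontrivial
      have hZ := hpG.center_nontrivial
      rcases (inferInstance : (Subgroup.center G).Normal).eq_bot_or_eq_top with hz | hz
      · rw [hz] at hZ
        exact not_nontrivial _ hZ
      · apply hncomm
        intro a b
        have : a ∈ Subgroup.center G := by rw [hz]; exact Subgroup.mem_top a
        exact ((Subgroup.mem_center_iff.mp this) b).symm
  · -- `G ≃* SL₂(F) × A`
    -- the projection to `A` has kernel `⊥` or `⊤`
    let π : G →* A := (MonoidHom.snd _ A).comp φ.toMonoidHom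
    have hπsurj : Function.Surjective π := by
      intro a
      exact ⟨φ.symm (1, a), by simp [π]⟩
    rcases (MonoidHom.normal_ker π).eq_bot_or_eq_top with h | h
    · exfalso
      apply hncomm
      intro a b
      have hinj : Function.Injective π := (MonoidHom.ker_eq_bot_iff π).mp h
      apply hinj
      rw [map_mul, map_mul, mul_comm]
    · -- `A` is trivial
      have hAtriv : ∀ a : A, a = 1 := by
        intro a
        obtain ⟨g, rfl⟩ := hπsurj a
        have : g ∈ π.ker := by rw [h]; exact Subgroup.mem_top g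
        exact this
      haveI : Unique A := ⟨⟨1⟩, hAtriv⟩
      let ψ : G ≃* Matrix.SpecialLinearGroup (Fin 2) F := φ.trans MulEquiv.prodUnique
      obtain ⟨n, -, hn⟩ := FiniteField.card F 2
      have hn2 : 2 ≤ (n : ℕ) := by
        by_contra hlt
        have hn1 : (n : ℕ) = 1 := by
          have := n.pos
          omega
        rw [hn1, pow_one] at hn
        -- `|G| ≤ 16`
        have hle : Nat.card G ≤ 16 := by
          have h1 : Nat.card G = Nat.card (Matrix.SpecialLinearGroup (Fin 2) F) :=
            Nat.card_congr ψ.toEquiv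
          have h2 : Nat.card (Matrix.SpecialLinearGroup (Fin 2) F) ≤
              Nat.card (Matrix (Fin 2) (Fin 2) F) :=
            Nat.card_le_card_of_injective _ Subtype.val_injective
          have h3 : Nat.card (Matrix (Fin 2) (Fin 2) F) = 16 := by
            rw [Nat.card_eq_fintype_card]
            change Fintype.card (Fin 2 → Fin 2 → F) = 16
            rw [Fintype.card_fun, Fintype.card_fun, hn]
            simp
          omega
        have := Cfsg.Agent.S0496.result hG (by omega)
        omega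
      refine ⟨F, hF, hFin, n, hn2, hn, ⟨ψ.trans (pslEquiv F).symm⟩⟩

theorem backward (F : Type) [Field F] [Fintype F] (f : ℕ) (hf : 2 ≤ f) (hF : Fintype.card F = 2 ^ f)
    (e : G ≃* Matrix.ProjectiveSpecialLinearGroup (Fin 2) F) :
    ∀ a b c : G, a ≠ 1 → b ≠ 1 → c ≠ 1 → Commute a b → Commute b c → Commute a c := by
  -- characteristic two
  haveI hchar : CharP F 2 := by
    obtain ⟨p, hp⟩ := CharP.exists F
    haveI := hp
    haveI : Fact p.Prime := ⟨CharP.char_is_prime F p⟩
    obtain ⟨n, -, hn⟩ := FiniteField.card F p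
    have hpp : p.Prime := Fact.out
    have h2 : p ∣ 2 ^ f := by
      rw [← hF, hn]
      exact dvd_pow_self p n.ne_zero
    have hp2 : p = 2 := (Nat.prime_dvd_prime_iff_eq hpp Nat.prime_two).mp (hpp.dvd_of_dvd_pow h2)
    rw [← hp2]
    exact hp
  let ψ : G ≃* Matrix.SpecialLinearGroup (Fin 2) F := e.trans (pslEquiv F)
  intro a b c _ hb _ hab hbc
  have hb' : ψ b ≠ 1 := by
    intro h
    apply hb
    exact (MulEquiv.map_eq_one_iff ψ).mp h
  have h1 : Commute (ψ a) (ψ b) := hab.map ψ
  have h2 : Commute (ψ b) (ψ c) := hbc.map ψ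
  have h3 := sl2_CT _ _ _ hb' h1 h2
  have h4 : ψ (a * c) = ψ (c * a) := by rw [map_mul, map_mul, h3.eq]
  exact ψ.injective h4

end Cfsg.Agent.Helper3.CT
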