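import Mathlib
import Cfsg.Agent.S5088
import Cfsg.Agent.S5128
import Cfsg.Agent.Lib.Helper25.FusionNormal
import Cfsg.Agent.Lib.Helper25.FusionNormal2
import Cfsg.Agent.Lib.Helper25.FusionNormal3

/-!
# Saturated subsystems of constrained fusion systems over strongly closed subgroups

If `F` is a constrained saturated fusion system over `S`, `T ≤ S` is strongly closed in `F` and `E` is a
saturated subsystem of `F` over `T`, then `E` is constrained: `R = O_p(F) ∩ T` is normal in `E`
and contains its centralizer in `T`.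
-/

set_option autoImplicit false
set_option linter.style.haveILetI false
set_option linter.unusedSectionVars false

namespace Cfsg.Agent.Helper3.SubConstrained

open Cfsg Cfsg.FusionSystem Cfsg.Agent.Helper25
open scoped commutatorElement

variable {Ω : Type*} [Group Ω] {S : Subgroup Ω}

theorem stronglyClosed_inf (F : FusionSystem S) {A B : Subgroup Ω} (hA : F.StronglyClosed A)
    (hB : F.StronglyClosed B) : F.StronglyClosed (A ⊓ B) := by
  refine ⟨inf_le_left.trans hA.1, fun R hR φ hφ x => ⟨?_, ?_⟩⟩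
  · exact hA.2 R (hR.trans inf_le_left) φ hφ x
  · exact hB.2 R (hR.trans inf_le_right) φ hφ x

theorem stronglyClosed_sub {T : Subgroup Ω} (E : FusionSystem T) (F : FusionSystem S)
    (hEF : E.IsSubsystemOf F) {X : Subgroup Ω} (hX : F.StronglyClosed X) (hXT : X ≤ T) :
    E.StronglyClosed X :=
  ⟨hXT, fun R hR φ hφ x => hX.2 R hR φ (hEF R hφ) x⟩

theorem eq_of_isConj_of_stronglyClosed [Finite S] (F : FusionSystem S) {Q R : Subgroup Ω}
    (hQ : F.StronglyClosed Q) (h : F.IsConj Q R) : R = Q := by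
  obtain ⟨φ, hφ, rfl⟩ := h
  haveI : Finite Q := finite_of_le_finite hQ.1
  have hle : φ.range ≤ Q := by
    rintro _ ⟨x, rfl⟩
    exact hQ.2 Q le_rfl φ hφ x
  have hinj := F.injective_of_mem hφ
  haveI : Finite φ.range := finite_of_le_finite hle
  have hcard : Nat.card Q ≤ Nat.card φ.range :=
    Nat.card_le_card_of_injective (fun x => (⟨φ x, x, rfl⟩ : φ.range))
      (fun a b hab => hinj (congrArg Subtype.val hab))
  exact Subgroup.eq_of_le_of_card_ge hle hcard

/-- The core of a constrained system is centric. -/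
theorem core_isCentric [Finite S] (F : FusionSystem S) {p : ℕ} (hF : F.IsConstrained p) :
    F.IsCentric F.core := by
  obtain ⟨-, Q₀, hQ₀n, hQ₀c⟩ := hF
  have hcore := isNormal_core F
  have hle : Q₀ ≤ F.core := le_sSup hQ₀n
  refine ⟨hcore.1, fun Q' hconj => ?_⟩
  have hQ' := eq_of_isConj_of_stronglyClosed F (stronglyClosed_of_isNormal F hcore) hconj
  rw [hQ']
  intro x hx
  apply hle
  apply hQ₀c.2 Q₀ (isConj_refl F hQ₀n.1)
  refine ⟨hx.1, ?_⟩
  exact Subgroup.centralizer_le (by exact_mod_cast hle) hx.2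

/-- The commutator of a strongly closed subgroup with a subgroup of `S` lies in it. -/
theorem commutator_le_of_stronglyClosed (F : FusionSystem S) {A B : Subgroup Ω}
    (hA : F.StronglyClosed A) (hB : B ≤ S) : ⁅A, B⁆ ≤ A := by
  rw [Subgroup.commutator_le]
  intro a ha b hb
  rw [commutatorElement_def]
  have h1 : b * a⁻¹ * b⁻¹ ∈ A := conj_mem_of_stronglyClosed F hA (hB hb) (A.inv_mem ha)
  have : a * b * a⁻¹ * b⁻¹ = a * (b * a⁻¹ * b⁻¹) := by group
  rw [this]
  exact A.mul_mem ha h1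

theorem commutator_le_of_stronglyClosed' (F : FusionSystem S) {A B : Subgroup Ω}
    (hA : F.StronglyClosed A) (hB : B ≤ S) : ⁅B, A⁆ ≤ A := by
  rw [Subgroup.commutator_comm]
  exact commutator_le_of_stronglyClosed F hA hB

/-- Commutator with a join. -/
theorem commutator_sup_le {A B Y K : Subgroup Ω} (hA : ⁅A, Y⁆ ≤ K) (hB : ⁅B, Y⁆ ≤ K)
    (hK : ∀ g ∈ A ⊔ B, ∀ k ∈ K, g * k * g⁻¹ ∈ K) : ⁅A ⊔ B, Y⁆ ≤ K := by
  let M : Subgroup Ω :=
    { carrier := {w | w ∈ A ⊔ B ∧ ∀ y ∈ Y, ⁅w, y⁆ ∈ K}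
      one_mem' := ⟨Subgroup.one_mem _, fun y _ => by
        rw [commutatorElement_one_left]; exact K.one_mem⟩
      mul_mem' := by
        rintro a b ⟨ha, hay⟩ ⟨hb, hby⟩
        refine ⟨Subgroup.mul_mem _ ha hb, fun y hy => ?_⟩
        have e : ⁅a * b, y⁆ = (a * ⁅b, y⁆ * a⁻¹) * ⁅a, y⁆ := by
          simp only [commutatorElement_def]; group
        rw [e]
        exact K.mul_mem (hK a ha _ (hby y hy)) (hay y hy)
      inv_mem' := by
        rintro a ⟨ha, hay⟩
        refine ⟨Subgroup.inv_mem _ ha, fun y hy => ?_⟩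
        have e : ⁅a⁻¹, y⁆ = a⁻¹ * (⁅a, y⁆)⁻¹ * (a⁻¹)⁻¹ := by
          simp only [commutatorElement_def]; group
        rw [e]
        exact hK a⁻¹ (Subgroup.inv_mem _ ha) _ (K.inv_mem (hay y hy)) }
  have hAM : A ≤ M := fun a ha =>
    ⟨Subgroup.mem_sup_left ha, fun y hy => hA (Subgroup.commutator_mem_commutator ha hy)⟩
  have hBM : B ≤ M := fun b hb =>
    ⟨Subgroup.mem_sup_right hb, fun y hy => hB (Subgroup.commutator_mem_commutator hb hy)⟩
  rw [Subgroup.commutator_le]
  intro w hw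
  exact ((sup_le hAM hBM) hw).2

/-- **Main theorem.** -/
theorem isConstrained_of_sub [Finite S] (p : ℕ) [Fact p.Prime] (hS : IsPGroup p S)
    (F : FusionSystem S) (hF : F.IsConstrained p) {T : Subgroup Ω} (E : FusionSystem T)
    (hE : E.IsSaturated p) (hEF : E.IsSubsystemOf F) (hT : F.StronglyClosed T) :
    E.IsConstrained p := by
  have hFsat : F.IsSaturated p := hF.1
  have hTS : T ≤ S := hT.1
  haveI : Finite T := finite_of_le_finite hTS
  have hTp : IsPGroup p T := hS.to_le hTS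
  set Q := F.core with hQdef
  have hQn : F.IsNormal Q := isNormal_core F
  have hQsc : F.StronglyClosed Q := stronglyClosed_of_isNormal F hQn
  have hQc : F.IsCentric Q := core_isCentric F hF
  have hQS : Q ≤ S := hQn.1
  obtain ⟨n, Qs, hQs0, hQsn, hQsmono, hQsstep⟩ := (Cfsg.Agent.S5088.result p hS F hFsat Q).mp hQn
  set R := Q ⊓ T with hRdef
  have hRsc : F.StronglyClosed R := stronglyClosed_inf F hQsc hT
  have hRS : R ≤ S := hRsc.1
  -- the chain for `R`
  let Rs : Fin (n + 1) → Subgroup Ω := fun i => Qs i ⊓ T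
  have hRs0 : Rs 0 = ⊥ := by show Qs 0 ⊓ T = ⊥; rw [hQs0]; exact bot_inf_eq T
  have hRsn : Rs (Fin.last n) = R := by show Qs (Fin.last n) ⊓ T = R; rw [hQsn]
  have hRsmono : Monotone Rs := fun i j hij => inf_le_inf_right T (hQsmono hij)
  have hRssc : ∀ i : Fin n, F.StronglyClosed (Rs i.succ) := fun i =>
    stronglyClosed_inf F (hQsstep i).1 hT
  have hRsstep : ∀ i : Fin n, ⁅R, Rs i.succ⁆ ≤ Rs (Fin.castSucc i) := by
    intro i
    apply le_inf
    · exact (Subgroup.commutator_mono inf_le_left inf_le_left).trans (hQsstep i).2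
    · exact (Subgroup.commutator_mono inf_le_right inf_le_right).trans
        (commutator_le_of_stronglyClosed F hT hTS)
  -- `R` is normal in `F` and in `E`
  have hRnF : F.IsNormal R :=
    (Cfsg.Agent.S5088.result p hS F hFsat R).mpr
      ⟨n, Rs, hRs0, hRsn, hRsmono, fun i => ⟨hRssc i, hRsstep i⟩⟩
  have hRnE : E.IsNormal R :=
    (Cfsg.Agent.S5088.result p hTp E hE R).mpr
      ⟨n, Rs, hRs0, hRsn, hRsmono, fun i =>
        ⟨stronglyClosed_sub E F hEF (hRssc i) inf_le_right, hRsstep i⟩⟩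
  -- the centralizer of `R` in `T`
  set X := centralizerIn T R with hXdef
  have hXT : X ≤ T := inf_le_left
  have hXS : X ≤ S := hXT.trans hTS
  have hXcent : X ≤ Subgroup.centralizer (R : Set Ω) := inf_le_right
  have hXsc : F.StronglyClosed X := by
    refine ⟨hXS, fun P hP φ hφ x => ⟨?_, ?_⟩⟩
    · exact hT.2 P (hP.trans hXT) φ hφ x
    · obtain ⟨ψ, hψ, hψP, himg⟩ := hRnF.2 P φ hφ
      show φ x ∈ Subgroup.centralizer (R : Set Ω)
      rw [Subgroup.mem_centralizer_iff]
      intro r hr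
      have hr' : r ∈ (R.subgroupOf (P ⊔ R)).map ψ := by rw [himg]; exact hr
      obtain ⟨r₀, hr₀, rfl⟩ := hr'
      rw [← hψP x, ← map_mul, ← map_mul]
      congr 1
      apply Subtype.ext
      have hr₀R : (r₀ : Ω) ∈ R := Subgroup.mem_subgroupOf.mp hr₀
      have hxc := Subgroup.mem_centralizer_iff.mp (hXcent (hP x.2)) (r₀ : Ω) hr₀R
      simpa using hxc
  -- `⁅X, X⁆ ≤ R`
  have hXQR : ⁅X, Q⁆ ≤ R := le_inf (commutator_le_of_stronglyClosed' F hQsc hXS)
    ((Subgroup.commutator_mono hXT le_rfl).trans (commutator_le_of_stronglyClosed F hT hQS))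
  have hRX : ⁅R, X⁆ = ⊥ := by
    rw [Subgroup.commutator_comm, Subgroup.commutator_eq_bot_iff_le_centralizer]
    exact hXcent
  have h1 : ⁅⁅X, Q⁆, X⁆ = ⊥ := by
    rw [eq_bot_iff, ← hRX]
    exact Subgroup.commutator_mono hXQR le_rfl
  have h2 : ⁅⁅Q, X⁆, X⁆ = ⊥ := by
    rw [Subgroup.commutator_comm Q X]; exact h1
  have h3 : ⁅⁅X, X⁆, Q⁆ = ⊥ := Subgroup.commutator_commutator_eq_bot_of_rotate h1 h2
  have h5 : ⁅X, X⁆ ≤ X := by
    rw [Subgroup.commutator_le]
    intro a ha b hb
    rw [commutatorElement_def]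
    exact X.mul_mem (X.mul_mem (X.mul_mem ha hb) (X.inv_mem ha)) (X.inv_mem hb)
  have hXXQ : ⁅X, X⁆ ≤ Q := by
    have h4 : ⁅X, X⁆ ≤ Subgroup.centralizer (Q : Set Ω) :=
      Subgroup.commutator_eq_bot_iff_le_centralizer.mp h3
    intro y hy
    apply hQc.2 Q (isConj_refl F hQS)
    exact ⟨hXS (h5 hy), h4 hy⟩
  have hXXR : ⁅X, X⁆ ≤ R := le_inf hXXQ (h5.trans hXT)
  -- the chain for `W = X ⊔ R`
  set W := X ⊔ R with hWdef
  have hWS : W ≤ S := sup_le hXS hRS
  have hWsc : F.StronglyClosed W := Cfsg.Agent.S5128.result p hS F hFsat X R hXsc hRsc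
  have hXY : ∀ Y : Subgroup Ω, Y ≤ R → ⁅X, Y⁆ = ⊥ := by
    intro Y hY
    rw [Subgroup.commutator_eq_bot_iff_le_centralizer]
    exact hXcent.trans (Subgroup.centralizer_le (by exact_mod_cast hY))
  have hRsall : ∀ k : Fin (n + 1), F.StronglyClosed (Rs k) := by
    intro k
    refine Fin.cases ?_ (fun j => ?_) k
    · rw [hRs0]
      exact ⟨bot_le, fun P hP φ hφ x => by
        have hx : (x : Ω) = 1 := by
          have := hP x.2
          rwa [Subgroup.mem_bot] at this
        have hx1 : x = 1 := Subtype.ext hx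
        rw [hx1, map_one]; exact Subgroup.one_mem _⟩
    · exact hRssc j
  have hWstep : ∀ i : Fin n, ⁅W, Rs i.succ⁆ ≤ Rs (Fin.castSucc i) := by
    intro i
    have hYR : Rs i.succ ≤ R := by rw [← hRsn]; exact hRsmono (Fin.le_last _)
    have hKsc : F.StronglyClosed (Rs (Fin.castSucc i)) := hRsall _
    apply commutator_sup_le
    · rw [hXY _ hYR]; exact bot_le
    · exact hRsstep i
    · intro g hg k hk
      exact conj_mem_of_stronglyClosed F hKsc (hWS hg) hk
  have hWW : ⁅W, W⁆ ≤ R := by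
    apply commutator_sup_le
    · rw [Subgroup.commutator_comm]
      apply commutator_sup_le
      · exact hXXR
      · rw [hRX]; exact bot_le
      · intro g hg k hk
        exact conj_mem_of_stronglyClosed F hRsc (hWS hg) hk
    · exact commutator_le_of_stronglyClosed F hRsc hWS
    · intro g hg k hk
      exact conj_mem_of_stronglyClosed F hRsc (hWS hg) hk
  let Ws : Fin (n + 2) → Subgroup Ω := Fin.snoc (α := fun _ => Subgroup Ω) Rs W
  have hWs_cast : ∀ i : Fin (n + 1), Ws (Fin.castSucc i) = Rs i := fun i =>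
    Fin.snoc_castSucc (α := fun _ => Subgroup Ω) W Rs i
  have hWs_last : Ws (Fin.last (n + 1)) = W := Fin.snoc_last (α := fun _ => Subgroup Ω) W Rs
  have hRW : R ≤ W := le_sup_right
  have hWnF : F.IsNormal W := by
    refine (Cfsg.Agent.S5088.result p hS F hFsat W).mpr ⟨n + 1, Ws, ?_, hWs_last, ?_, ?_⟩
    · have : (0 : Fin (n + 2)) = Fin.castSucc (0 : Fin (n + 1)) := rfl
      rw [this, hWs_cast, hRs0]
    · intro i j
      refine Fin.lastCases ?_ (fun j' => ?_) j
      · intro _
        rw [hWs_last]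
        refine Fin.lastCases ?_ (fun i' => ?_) i
        · rw [hWs_last]
        · rw [hWs_cast]
          exact ((hRsmono (Fin.le_last i')).trans (le_of_eq hRsn)).trans hRW
      · refine Fin.lastCases ?_ (fun i' => ?_) i
        · intro hij
          exfalso
          have h1 : (Fin.castSucc j' : Fin (n + 2)) < Fin.last (n + 1) := Fin.castSucc_lt_last j'
          exact absurd (lt_of_le_of_lt hij h1) (lt_irrefl _)
        · intro hij
          rw [hWs_cast, hWs_cast]
          exact hRsmono (Fin.castSucc_le_castSucc_iff.mp hij)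
    · intro i
      refine Fin.lastCases ?_ (fun i' => ?_) i
      · have h1 : (Fin.last n).succ = Fin.last (n + 1) := Fin.succ_last n
        rw [h1, hWs_last, hWs_cast, hRsn]
        exact ⟨hWsc, hWW⟩
      · have h1 : (Fin.castSucc i').succ = Fin.castSucc i'.succ := Fin.succ_castSucc i'
        rw [h1, hWs_cast, hWs_cast]
        exact ⟨hRssc i', hWstep i'⟩
  -- conclusion
  have hWQ : W ≤ Q := le_sSup hWnF
  have hXR : X ≤ R := le_inf (le_sup_left.trans hWQ) hXT
  refine ⟨hE, R, hRnE, inf_le_right, fun R' hconj => ?_⟩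
  have hR' := eq_of_isConj_of_stronglyClosed E (stronglyClosed_of_isNormal E hRnE) hconj
  rw [hR']
  exact hXR

end Cfsg.Agent.Helper3.SubConstrained
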