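import Mathlib
import Cfsg.Agent.Lib.Helper3.SubConstrained

/-!
# A criterion for lying in the core of a constrained fusion system

`isNormal_of_chain`: a strongly closed `W` with a `W`-central chain of strongly closed subgroups
up to a subgroup containing `⁅W, W⁆` is normal in the system.

`le_core_of_commutator_le`: in a constrained system with core `Q`, a strongly closed `X` with
`⁅X, Q⁆` inside a strongly closed subgroup `Z₀` central in `S` lies in `Q`.
-/

set_option autoImplicit false
set_option linter.style.haveILetI false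
set_option linter.unusedSectionVars false

namespace Cfsg.Agent.Helper3.SubConstrained

open Cfsg Cfsg.FusionSystem Cfsg.Agent.Helper25
open scoped commutatorElement

variable {Ω : Type*} [Group Ω] {S : Subgroup Ω}

theorem stronglyClosed_bot (F : FusionSystem S) : F.StronglyClosed (⊥ : Subgroup Ω) :=
  ⟨bot_le, fun P hP φ hφ x => by
    have hx : (x : Ω) = 1 := by
      have := hP x.2
      rwa [Subgroup.mem_bot] at this
    have hx1 : x = 1 := Subtype.ext hx
    rw [hx1, map_one]; exact Subgroup.one_mem _⟩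

/-- A strongly closed subgroup with a central chain of strongly closed subgroups is normal. -/
theorem isNormal_of_chain [Finite S] (p : ℕ) [Fact p.Prime] (hS : IsPGroup p S)
    (F : FusionSystem S) (hF : F.IsSaturated p) {W : Subgroup Ω} (hW : F.StronglyClosed W)
    (n : ℕ) (C : Fin (n + 1) → Subgroup Ω) (hC0 : C 0 = ⊥) (hCW : C (Fin.last n) ≤ W)
    (hCmono : Monotone C)
    (hCstep : ∀ i : Fin n, F.StronglyClosed (C i.succ) ∧ ⁅W, C i.succ⁆ ≤ C (Fin.castSucc i))
    (hWW : ⁅W, W⁆ ≤ C (Fin.last n)) : F.IsNormal W := by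
  let Ws : Fin (n + 2) → Subgroup Ω := Fin.snoc (α := fun _ => Subgroup Ω) C W
  have hWs_cast : ∀ i : Fin (n + 1), Ws (Fin.castSucc i) = C i := fun i =>
    Fin.snoc_castSucc (α := fun _ => Subgroup Ω) W C i
  have hWs_last : Ws (Fin.last (n + 1)) = W := Fin.snoc_last (α := fun _ => Subgroup Ω) W C
  refine (Cfsg.Agent.S5088.result p hS F hF W).mpr ⟨n + 1, Ws, ?_, hWs_last, ?_, ?_⟩
  · have : (0 : Fin (n + 2)) = Fin.castSucc (0 : Fin (n + 1)) := rfl
    rw [this, hWs_cast, hC0]
  · intro i j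
    refine Fin.lastCases ?_ (fun j' => ?_) j
    · intro _
      rw [hWs_last]
      refine Fin.lastCases ?_ (fun i' => ?_) i
      · rw [hWs_last]
      · rw [hWs_cast]
        exact (hCmono (Fin.le_last i')).trans hCW
    · refine Fin.lastCases ?_ (fun i' => ?_) i
      · intro hij
        exfalso
        have h1 : (Fin.castSucc j' : Fin (n + 2)) < Fin.last (n + 1) := Fin.castSucc_lt_last j'
        exact absurd (lt_of_le_of_lt hij h1) (lt_irrefl _)
      · intro hij
        rw [hWs_cast, hWs_cast]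
        exact hCmono (Fin.castSucc_le_castSucc_iff.mp hij)
  · intro i
    refine Fin.lastCases ?_ (fun i' => ?_) i
    · have h1 : (Fin.last n).succ = Fin.last (n + 1) := Fin.succ_last n
      rw [h1, hWs_last, hWs_cast]
      exact ⟨hW, hWW⟩
    · have h1 : (Fin.castSucc i').succ = Fin.castSucc i'.succ := Fin.succ_castSucc i'
      rw [h1, hWs_cast, hWs_cast]
      exact hCstep i'

/-- In a constrained system with core `Q`: a strongly closed `X` acting on `Q` with commutators in
a strongly closed subgroup `Z₀` central in `S` is contained in `Q`. -/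
theorem le_core_of_commutator_le [Finite S] (p : ℕ) [Fact p.Prime] (hS : IsPGroup p S)
    (F : FusionSystem S) (hF : F.IsConstrained p) {Z₀ X : Subgroup Ω}
    (hZ₀ : F.StronglyClosed Z₀) (hZ₀c : ⁅S, Z₀⁆ = ⊥) (hX : F.StronglyClosed X)
    (hXQ : ⁅X, F.core⁆ ≤ Z₀) : X ≤ F.core := by
  have hFsat : F.IsSaturated p := hF.1
  set Q := F.core with hQdef
  have hQn : F.IsNormal Q := isNormal_core F
  have hQsc : F.StronglyClosed Q := stronglyClosed_of_isNormal F hQn
  have hQc : F.IsCentric Q := core_isCentric F hF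
  have hQS : Q ≤ S := hQn.1
  have hXS : X ≤ S := hX.1
  have hZ₀S : Z₀ ≤ S := hZ₀.1
  have hZ₀Q : Z₀ ≤ Q := by
    intro z hz
    apply hQc.2 Q (isConj_refl F hQS)
    refine ⟨hZ₀S hz, ?_⟩
    show z ∈ Subgroup.centralizer (Q : Set Ω)
    rw [Subgroup.mem_centralizer_iff]
    intro q hq
    have h1 : ⁅q, z⁆ ∈ ⁅S, Z₀⁆ := Subgroup.commutator_mem_commutator (hQS hq) hz
    rw [hZ₀c, Subgroup.mem_bot, commutatorElement_eq_one_iff_mul_comm] at h1
    exact h1
  obtain ⟨n, Qs, hQs0, hQsn, hQsmono, hQsstep⟩ := (Cfsg.Agent.S5088.result p hS F hFsat Q).mp hQn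
  set W := X ⊔ Q with hWdef
  have hWS : W ≤ S := sup_le hXS hQS
  have hWsc : F.StronglyClosed W := Cfsg.Agent.S5128.result p hS F hFsat X Q hX hQsc
  have hWZ : ⁅W, Z₀⁆ = ⊥ :=
    eq_bot_iff.mpr ((Subgroup.commutator_mono hWS le_rfl).trans hZ₀c.le)
  have hZW : ⁅Z₀, W⁆ = ⊥ := by rw [Subgroup.commutator_comm]; exact hWZ
  have hQsall : ∀ k : Fin (n + 1), F.StronglyClosed (Qs k) := by
    intro k
    refine Fin.cases ?_ (fun j => ?_) k
    · rw [hQs0]; exact stronglyClosed_bot F
    · exact (hQsstep j).1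
  have hQsQ : ∀ k : Fin (n + 1), Qs k ≤ Q := fun k => by
    rw [← hQsn]; exact hQsmono (Fin.le_last k)
  -- the chain `D i = Z₀ ⊔ Qs i`
  let D : Fin (n + 1) → Subgroup Ω := fun i => Z₀ ⊔ Qs i
  have hDsc : ∀ i, F.StronglyClosed (D i) := fun i =>
    Cfsg.Agent.S5128.result p hS F hFsat Z₀ (Qs i) hZ₀ (hQsall i)
  have hDlast : D (Fin.last n) = Q := by
    show Z₀ ⊔ Qs (Fin.last n) = Q
    rw [hQsn]; exact sup_eq_right.mpr hZ₀Q
  have hD0 : D 0 = Z₀ := by
    show Z₀ ⊔ Qs 0 = Z₀
    rw [hQs0]; exact sup_bot_eq Z₀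
  have hDmono : Monotone D := fun i j hij => sup_le_sup_left (hQsmono hij) Z₀
  have hDstep : ∀ i : Fin n, ⁅W, D i.succ⁆ ≤ D (Fin.castSucc i) := by
    intro i
    have hK := hDsc (Fin.castSucc i)
    rw [Subgroup.commutator_comm]
    apply commutator_sup_le
    · rw [hZW]; exact bot_le
    · rw [Subgroup.commutator_comm]
      apply commutator_sup_le
      · exact ((Subgroup.commutator_mono le_rfl (hQsQ i.succ)).trans hXQ).trans le_sup_left
      · exact (hQsstep i).2.trans le_sup_right
      · intro g hg k hk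
        exact conj_mem_of_stronglyClosed F hK (hWS hg) hk
    · intro g hg k hk
      have hgS : g ∈ S := (sup_le hZ₀S ((hQsQ i.succ).trans hQS)) hg
      exact conj_mem_of_stronglyClosed F hK hgS hk
  -- `⁅W, W⁆ ≤ Q`
  have hZX : ⁅Z₀, X⁆ = ⊥ := by
    rw [Subgroup.commutator_comm]
    exact eq_bot_iff.mpr ((Subgroup.commutator_mono hXS le_rfl).trans hZ₀c.le)
  have h1 : ⁅⁅X, Q⁆, X⁆ = ⊥ := by
    rw [eq_bot_iff, ← hZX]
    exact Subgroup.commutator_mono hXQ le_rfl
  have h2 : ⁅⁅Q, X⁆, X⁆ = ⊥ := by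
    rw [Subgroup.commutator_comm Q X]; exact h1
  have h3 : ⁅⁅X, X⁆, Q⁆ = ⊥ := Subgroup.commutator_commutator_eq_bot_of_rotate h1 h2
  have h5 : ⁅X, X⁆ ≤ X := by
    rw [Subgroup.commutator_le]
    intro a ha b hb
    rw [commutatorElement_def]
    exact X.mul_mem (X.mul_mem (X.mul_mem ha hb) (X.inv_mem ha)) (X.inv_mem hb)
  have hXXQ : ⁅X, X⁆ ≤ Q := by
    have h4 : ⁅X, X⁆ ≤ Subgroup.centralizer (Q : Set Ω) :=
      Subgroup.commutator_eq_bot_iff_le_centralizer.mp h3
    intro y hy
    apply hQc.2 Q (isConj_refl F hQS)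
    exact ⟨hXS (h5 hy), h4 hy⟩
  have hWW : ⁅W, W⁆ ≤ Q := by
    apply commutator_sup_le
    · rw [Subgroup.commutator_comm]
      apply commutator_sup_le
      · exact hXXQ
      · exact commutator_le_of_stronglyClosed F hQsc hXS
      · intro g hg k hk
        exact conj_mem_of_stronglyClosed F hQsc (hWS hg) hk
    · exact commutator_le_of_stronglyClosed F hQsc hWS
    · intro g hg k hk
      exact conj_mem_of_stronglyClosed F hQsc (hWS hg) hk
  -- the chain `⊥, D 0, ..., D n`
  let C : Fin (n + 2) → Subgroup Ω := Fin.cons (α := fun _ => Subgroup Ω) ⊥ D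
  have hC0 : C 0 = ⊥ := Fin.cons_zero (α := fun _ => Subgroup Ω) ⊥ D
  have hCsucc : ∀ i : Fin (n + 1), C i.succ = D i := fun i =>
    Fin.cons_succ (α := fun _ => Subgroup Ω) ⊥ D i
  have hWnF : F.IsNormal W := by
    refine isNormal_of_chain p hS F hFsat hWsc (n + 1) C hC0 ?_ ?_ ?_ ?_
    · have : Fin.last (n + 1) = (Fin.last n).succ := (Fin.succ_last n).symm
      rw [this, hCsucc, hDlast]
      exact le_sup_right
    · intro i j
      refine Fin.cases ?_ (fun i' => ?_) i
      · intro _
        rw [hC0]; exact bot_le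
      · refine Fin.cases ?_ (fun j' => ?_) j
        · intro hij
          exfalso
          exact absurd hij (not_le.mpr (Fin.succ_pos i'))
        · intro hij
          rw [hCsucc, hCsucc]
          exact hDmono (Fin.succ_le_succ_iff.mp hij)
    · intro i
      rw [hCsucc]
      refine ⟨hDsc i, ?_⟩
      refine Fin.cases ?_ (fun j => ?_) i
      · rw [Fin.castSucc_zero, hC0, hD0, hWZ]
      · have : Fin.castSucc j.succ = (Fin.castSucc j).succ := (Fin.succ_castSucc j).symm
        rw [this, hCsucc]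
        exact hDstep j
    · have : Fin.last (n + 1) = (Fin.last n).succ := (Fin.succ_last n).symm
      rw [this, hCsucc, hDlast]
      exact hWW
  have hWQ : W ≤ Q := le_sSup hWnF
  exact le_sup_left.trans hWQ

end Cfsg.Agent.Helper3.SubConstrained
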