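import Mathlib
import Cfsg.Agent.S5076
import Cfsg.Agent.Lib.Helper3.CoreCommutator

/-!
# Constrained group fusion systems pass to the quotient by the centre
-/

set_option autoImplicit false
set_option linter.style.haveILetI false
set_option linter.unusedSectionVars false

namespace Cfsg.Agent.Helper3.CentralQuot

open Cfsg Cfsg.FusionSystem Cfsg.Agent.Helper25 Cfsg.Agent.Helper3.SubConstrained
open scoped commutatorElement

variable {G : Type*} [Group G]

/-- A central element of `p`-power order lies in every Sylow `p`-subgroup. -/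
theorem central_mem_sylow (p : ℕ) [Fact p.Prime] (S : Sylow p G) {z : G}
    (hz : z ∈ Subgroup.center G) {k : ℕ} (hk : z ^ p ^ k = 1) : z ∈ (S : Subgroup G) := by
  let N : Subgroup G := Subgroup.zpowers z
  haveI : N.Normal := ⟨fun n hn g => by
    have hnc : n ∈ Subgroup.center G := (Subgroup.zpowers_le.mpr hz) hn
    have : g * n * g⁻¹ = n := by
      rw [Subgroup.mem_center_iff.mp hnc g, mul_inv_cancel_right]
    rw [this]; exact hn⟩
  have hN : IsPGroup p N := by
    rintro ⟨g, hg⟩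
    obtain ⟨i, rfl⟩ := Subgroup.mem_zpowers_iff.mp hg
    refine ⟨k, Subtype.ext ?_⟩
    show (z ^ i) ^ p ^ k = 1
    rw [← zpow_natCast, ← zpow_mul, mul_comm, zpow_mul, zpow_natCast, hk, one_zpow]
  exact hN.le_sylow_of_normal S (Subgroup.mem_zpowers z)

/-- An element of `p`-power order mapping into the image of `S` in `G / Z(G)` lies in `S`. -/
theorem mem_of_mk_mem (p : ℕ) [Fact p.Prime] (S : Sylow p G) {y : G} {k : ℕ}
    (hy : y ^ p ^ k = 1)
    (h : QuotientGroup.mk' (Subgroup.center G) y ∈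
      (S : Subgroup G).map (QuotientGroup.mk' (Subgroup.center G))) : y ∈ (S : Subgroup G) := by
  obtain ⟨s, hs, hsy⟩ := h
  have hz : s⁻¹ * y ∈ Subgroup.center G := QuotientGroup.eq.mp hsy
  have h1 := Subgroup.mem_center_iff.mp hz s
  have hcomm : Commute s y := by
    show s * y = y * s
    calc s * y = s * (s * (s⁻¹ * y)) := by group
      _ = s * (s⁻¹ * y * s) := by rw [h1]
      _ = y * s := by group
  obtain ⟨a, ha⟩ := S.isPGroup' ⟨s, hs⟩
  have ha' : s ^ p ^ a = 1 := congrArg Subtype.val ha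
  have hzp : (s⁻¹ * y) ^ p ^ (a + k) = 1 := by
    rw [(hcomm.inv_left).mul_pow, pow_add, pow_mul, inv_pow, ha', inv_one, one_pow, one_mul,
      mul_comm, pow_mul, hy, one_pow]
  have hzS := central_mem_sylow p S hz hzp
  have : y = s * (s⁻¹ * y) := by group
  rw [this]
  exact Subgroup.mul_mem _ hs hzS

/-- If `F_S(G)` is constrained then so is the fusion system of `G / Z(G)` on the image of `S`. -/
theorem isConstrained_quot_center [Finite G] (p : ℕ) [Fact p.Prime] (S : Sylow p G)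
    (hF : (groupFusionSystem (S : Subgroup G)).IsConstrained p) :
    (groupFusionSystem
      ((S : Subgroup G).map (QuotientGroup.mk' (Subgroup.center G)))).IsConstrained p := by
  set Z := Subgroup.center G with hZdef
  set π := QuotientGroup.mk' Z with hπdef
  have hπsurj : Function.Surjective π := QuotientGroup.mk'_surjective Z
  have hS : IsPGroup p (S : Subgroup G) := S.isPGroup'
  have hFsat := hF.1
  have hQn : (groupFusionSystem (S : Subgroup G)).IsNormal
      (groupFusionSystem (S : Subgroup G)).core := isNormal_core _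
  have hQc := core_isCentric _ hF
  set F := groupFusionSystem (S : Subgroup G) with hFdef
  set Q := F.core with hQdef
  have hQsc := stronglyClosed_of_isNormal F hQn
  have hQS : Q ≤ S := hQn.1
  -- saturation of the quotient system
  have hsat : (groupFusionSystem ((S : Subgroup G).map π)).IsSaturated p :=
    Cfsg.Agent.S5076.result p (S.mapSurjective hπsurj)
  -- the central `p`-part
  set Z₀ := Z ⊓ (S : Subgroup G) with hZ₀def
  have hZ₀sc : F.StronglyClosed Z₀ := by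
    refine ⟨inf_le_right, ?_⟩
    rintro R hR φ ⟨-, hφS, g, hg⟩ x
    have hxZ : (x : G) ∈ Z := (hR x.2).1
    have : φ x = x := by
      rw [hg, Subgroup.mem_center_iff.mp hxZ g, mul_inv_cancel_right]
    rw [this]
    exact hR x.2
  have hZ₀c : ⁅(S : Subgroup G), Z₀⁆ = ⊥ := by
    rw [Subgroup.commutator_eq_bot_iff_le_centralizer]
    intro s hs
    rw [Subgroup.mem_centralizer_iff]
    intro z hz
    exact (Subgroup.mem_center_iff.mp hz.1 s).symm
  -- the centralizer of `Q` modulo `Z`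
  set X := (S : Subgroup G) ⊓
    (Subgroup.centralizer ((Q.map π : Subgroup (G ⧸ Z)) : Set (G ⧸ Z))).comap π with hXdef
  have hXsc : F.StronglyClosed X := by
    refine ⟨inf_le_left, fun P hP φ hφ x => ⟨(F.le_of_mem hφ).2 x, ?_⟩⟩
    obtain ⟨ψ, hψ, hψP, himg⟩ := hQn.2 P φ hφ
    obtain ⟨hPQ, hψS, h, hh⟩ := hψ
    have e : ∀ y : ↥(P ⊔ Q), π (ψ y) = π h * π y * (π h)⁻¹ := fun y => by
      rw [hh y, map_mul, map_mul, map_inv]
    show φ x ∈ (Subgroup.centralizer ((Q.map π : Subgroup (G ⧸ Z)) : Set (G ⧸ Z))).comap π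
    rw [Subgroup.mem_comap, Subgroup.mem_centralizer_iff]
    rintro _ ⟨q, hq, rfl⟩
    have hq' : q ∈ (Q.subgroupOf (P ⊔ Q)).map ψ := by rw [himg]; exact hq
    obtain ⟨q₀, hq₀, rfl⟩ := hq'
    have hq₀Q : (q₀ : G) ∈ Q := Subgroup.mem_subgroupOf.mp hq₀
    have hxX : π (x : G) ∈ Subgroup.centralizer ((Q.map π : Subgroup (G ⧸ Z)) : Set (G ⧸ Z)) :=
      (hP x.2).2
    have hc : π (q₀ : G) * π (x : G) = π (x : G) * π (q₀ : G) :=
      Subgroup.mem_centralizer_iff.mp hxX _ ⟨q₀, hq₀Q, rfl⟩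
    rw [← hψP x, e, e]
    have e1 : π h * π (q₀ : G) * (π h)⁻¹ *
        (π h * π ((Subgroup.inclusion le_sup_left x : ↥(P ⊔ Q)) : G) * (π h)⁻¹) =
        π h * (π (q₀ : G) * π (x : G)) * (π h)⁻¹ := by
      show π h * π (q₀ : G) * (π h)⁻¹ * (π h * π (x : G) * (π h)⁻¹) = _
      group
    have e2 : π h * π ((Subgroup.inclusion le_sup_left x : ↥(P ⊔ Q)) : G) * (π h)⁻¹ *
        (π h * π (q₀ : G) * (π h)⁻¹) = π h * (π (x : G) * π (q₀ : G)) * (π h)⁻¹ := by
      show π h * π (x : G) * (π h)⁻¹ * (π h * π (q₀ : G) * (π h)⁻¹) = _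
      group
    rw [e1, e2, hc]
  have hXQ : ⁅X, Q⁆ ≤ Z₀ := by
    rw [Subgroup.commutator_le]
    intro x hx q hq
    refine ⟨?_, ?_⟩
    · have hker : ⁅x, q⁆ ∈ π.ker := by
        rw [MonoidHom.mem_ker, map_commutatorElement, commutatorElement_eq_one_iff_mul_comm]
        have hxX : π x ∈
            Subgroup.centralizer ((Q.map π : Subgroup (G ⧸ Z)) : Set (G ⧸ Z)) := hx.2
        exact (Subgroup.mem_centralizer_iff.mp hxX _ ⟨q, hq, rfl⟩).symm
      rwa [hπdef, QuotientGroup.ker_mk'] at hker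
    · have hxS : x ∈ (S : Subgroup G) := hx.1
      have hqS : q ∈ (S : Subgroup G) := hQS hq
      rw [commutatorElement_def]
      exact Subgroup.mul_mem _ (Subgroup.mul_mem _ (Subgroup.mul_mem _ hxS hqS)
        (Subgroup.inv_mem _ hxS)) (Subgroup.inv_mem _ hqS)
  have hX_le_Q : X ≤ Q := le_core_of_commutator_le p hS F hF hZ₀sc hZ₀c hXsc hXQ
  -- normality of the image of `Q`
  have hn : (groupFusionSystem ((S : Subgroup G).map π)).IsNormal (Q.map π) := by
    refine ⟨Subgroup.map_mono hQS, ?_⟩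
    rintro Pb φb ⟨hPb, hφbS, gb, hgb⟩
    obtain ⟨g, rfl⟩ := hπsurj gb
    set P := Pb.comap π ⊓ (S : Subgroup G) with hPdef
    have hPS : P ≤ S := inf_le_right
    have hPmap : P.map π = Pb := by
      apply le_antisymm
      · rintro _ ⟨x, hx, rfl⟩
        exact hx.1
      · intro xb hxb
        obtain ⟨s, hs, rfl⟩ := hPb hxb
        exact ⟨s, ⟨hxb, hs⟩, rfl⟩
    have hφ : conjHom P g ∈ F.Hom P := by
      refine ⟨hPS, fun x => ?_, g, fun x => rfl⟩
      obtain ⟨k, hk⟩ := hS ⟨x, hPS x.2⟩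
      have hk' : (x : G) ^ p ^ k = 1 := congrArg Subtype.val hk
      apply mem_of_mk_mem p S (k := k)
      · show (g * (x : G) * g⁻¹) ^ p ^ k = 1
        rw [conj_pow, hk', mul_one, mul_inv_cancel]
      · have hxb : π (x : G) ∈ Pb := x.2.1
        have := hφbS ⟨π (x : G), hxb⟩
        rw [hgb] at this
        show π (g * (x : G) * g⁻¹) ∈ _
        rw [map_mul, map_mul, map_inv]
        exact this
    obtain ⟨ψ, hψ, hext, himg⟩ := hQn.2 P _ hφ
    obtain ⟨hPQ, hψS, h, hh⟩ := hψ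
    have hmap : (P ⊔ Q).map π = Pb ⊔ Q.map π := by rw [Subgroup.map_sup, hPmap]
    have e : ∀ y : ↥(P ⊔ Q), π (ψ y) = π h * π y * (π h)⁻¹ := fun y => by
      rw [hh y, map_mul, map_mul, map_inv]
    refine ⟨conjHom (Pb ⊔ Q.map π) (π h),
      ⟨sup_le hPb (Subgroup.map_mono hQS), ?_, π h, fun x => rfl⟩, ?_, ?_⟩
    · intro xb
      have hx1 : (xb : G ⧸ Z) ∈ (P ⊔ Q).map π := by rw [hmap]; exact xb.2
      obtain ⟨x, hx, hxxb⟩ := hx1
      show π h * (xb : G ⧸ Z) * (π h)⁻¹ ∈ (S : Subgroup G).map π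
      rw [← hxxb, ← e ⟨x, hx⟩]
      exact ⟨ψ ⟨x, hx⟩, hψS _, rfl⟩
    · intro xb
      have hx1 : (xb : G ⧸ Z) ∈ P.map π := by rw [hPmap]; exact xb.2
      obtain ⟨x, hx, hxxb⟩ := hx1
      show π h * (xb : G ⧸ Z) * (π h)⁻¹ = φb xb
      rw [hgb xb, ← hxxb]
      have e1 := hext ⟨x, hx⟩
      have e2 := e (Subgroup.inclusion le_sup_left ⟨x, hx⟩)
      rw [e1] at e2
      have e3 : π (conjHom P g ⟨x, hx⟩) = π g * π x * (π g)⁻¹ := by
        show π (g * x * g⁻¹) = _
        rw [map_mul, map_mul, map_inv]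
      rw [← e3, e2]
      rfl
    · ext yb
      constructor
      · rintro ⟨wb, hwb, rfl⟩
        have hwb' : (wb : G ⧸ Z) ∈ Q.map π := hwb
        obtain ⟨w, hw, hwwb⟩ := hwb'
        have hw2 : w ∈ P ⊔ Q := (le_sup_right : Q ≤ P ⊔ Q) hw
        have h1 : ψ ⟨w, hw2⟩ ∈ Q := himg.le ⟨⟨w, hw2⟩, Subgroup.mem_subgroupOf.2 hw, rfl⟩
        show π h * (wb : G ⧸ Z) * (π h)⁻¹ ∈ Q.map π
        rw [← hwwb, ← e ⟨w, hw2⟩]
        exact ⟨_, h1, rfl⟩
      · rintro ⟨y, hy, rfl⟩
        obtain ⟨v, hv, hvy⟩ := himg.ge hy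
        have hvQ : (v : G) ∈ Q := Subgroup.mem_subgroupOf.1 hv
        have hvb : π (v : G) ∈ Q.map π := ⟨v, hvQ, rfl⟩
        have hvb2 : π (v : G) ∈ Pb ⊔ Q.map π := (le_sup_right : Q.map π ≤ Pb ⊔ Q.map π) hvb
        refine ⟨⟨π (v : G), hvb2⟩, Subgroup.mem_subgroupOf.2 hvb, ?_⟩
        show π h * π (v : G) * (π h)⁻¹ = π y
        rw [← e v, hvy]
  -- centricity of the image of `Q`
  haveI : Finite ↥((S : Subgroup G).map π) := inferInstance
  refine ⟨hsat, Q.map π, hn, Subgroup.map_mono hQS, fun Rb hRb => ?_⟩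
  rw [eq_of_isConj_of_stronglyClosed _ (stronglyClosed_of_isNormal _ hn) hRb]
  intro sb hsb
  rw [mem_centralizerIn] at hsb
  obtain ⟨s, hs, rfl⟩ := hsb.1
  have hsX : s ∈ X := by
    refine ⟨hs, ?_⟩
    show s ∈ (Subgroup.centralizer ((Q.map π : Subgroup (G ⧸ Z)) : Set (G ⧸ Z))).comap π
    rw [Subgroup.mem_comap, Subgroup.mem_centralizer_iff]
    intro qb hqb
    exact hsb.2 qb hqb
  exact ⟨s, hX_le_Q hsX, rfl⟩

end Cfsg.Agent.Helper3.CentralQuot
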