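import Mathlib
import Cfsg.Agent.Lib.Helper3.WClos4

/-!
# A factorization `G = C_G(Z(P)^p) N_G(W(P))`

If for every finite group `W(P)` is normal or some element of `P` outside `O_p(G)` acts quadratically
on `Z(O_p(G))`, then every finite group `G` with `Z(P) ≤ O_p(G)` is the product of the centralizer of
the `p`-th powers of the elements of `Z(P)` and the normalizer of `W(P)`.
-/

set_option autoImplicit false
set_option linter.style.haveILetI false
set_option linter.unusedSectionVars false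

namespace Cfsg.Agent.Helper3.TF

open Cfsg Cfsg.Agent.Helper25 Cfsg.Agent.Helper3.KL Cfsg.Agent.Helper10 Cfsg.Agent.Helper3.WC
open scoped commutatorElement

universe u

variable {p : ℕ} [Fact p.Prime] {W : ∀ (Q : Type u) [Group Q], Subgroup Q}

/-- **The factorization.** -/
theorem factor_of_quadratic
    (hW2 : ∀ (Q R : Type u) [Group Q] [Group R] [Finite Q], IsPGroup p Q → ∀ φ : Q ≃* R,
      (W Q).map φ.toMonoidHom = W R)
    (hq : ∀ (G : Type u) [Group G] [Finite G] (P : Sylow p G), ¬ (((W ↥(P : Subgroup G)).map (P : Subgroup G).subtype : Subgroup G)).Normal → ∃ g : G, g ∈ (P : Subgroup G) ∧ g ∉ Cfsg.pCore p G ∧ ⁅⁅Subgroup.center ↥(Cfsg.pCore p G) |>.map (Cfsg.pCore p G).subtype, Subgroup.zpowers g⁆, Subgroup.zpowers g⁆ = ⊥) :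
    ∀ (n : ℕ) (G : Type u) [Group G] [Finite G], Nat.card G ≤ n → ∀ (P : Sylow p G),
      (∀ z ∈ (P : Subgroup G), (∀ t ∈ (P : Subgroup G), t * z = z * t) → z ∈ pCore p G) →
      ∀ g : G, ∃ c n' : G, g = c * n' ∧
        (∀ z ∈ (P : Subgroup G), (∀ t ∈ (P : Subgroup G), t * z = z * t) →
          c * z ^ p = z ^ p * c) ∧
        n' ∈ Subgroup.normalizer ((wOf W (P : Subgroup G) : Subgroup G) : Set G) := by
  intro n
  induction n with
  | zero =>
    intro G _ _ hn
    have := Nat.card_pos (α := G)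
    omega
  | succ n ih =>
    intro G _ _ hn P hZK
    by_cases hnorm : (((W ↥(P : Subgroup G)).map (P : Subgroup G).subtype : Subgroup G)).Normal
    · intro g
      refine ⟨1, g, (one_mul g).symm, fun z _ _ => by rw [one_mul, mul_one], ?_⟩
      rw [Subgroup.mem_normalizer_iff]
      intro h
      constructor
      · intro hh
        exact hnorm.conj_mem h hh g
      · intro hh
        have := hnorm.conj_mem _ hh g⁻¹
        have e : g⁻¹ * (g * h * g⁻¹) * g⁻¹⁻¹ = h := by group
        rwa [e] at this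
    · obtain ⟨g, hgP, hgK, hquad⟩ := hq G P hnorm
      obtain ⟨K, hK⟩ : ∃ K, K = pCore p G := ⟨_, rfl⟩
      rw [← hK] at hgK hquad hZK
      have hKn : K.Normal := hK ▸ pCore_normal p G
      have hKp : IsPGroup p K := hK ▸ isPGroup_pCore p G
      have hKP : K ≤ (P : Subgroup G) := by
        haveI := hKn
        exact hKp.le_sylow_of_normal P
      obtain ⟨Z₀, hZ₀def⟩ : ∃ Z₀, Z₀ = (Subgroup.center ↥K).map K.subtype := ⟨_, rfl⟩
      rw [← hZ₀def] at hquad
      have mem_Z₀ : ∀ v : G, v ∈ Z₀ ↔ v ∈ K ∧ ∀ k ∈ K, k * v = v * k := by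
        intro v
        rw [hZ₀def]
        constructor
        · rintro ⟨c, hc, rfl⟩
          refine ⟨c.2, fun k hk => ?_⟩
          have := Subgroup.mem_center_iff.mp hc ⟨k, hk⟩
          exact congrArg Subtype.val this
        · rintro ⟨hvK, hv⟩
          refine ⟨⟨v, hvK⟩, ?_, rfl⟩
          rw [SetLike.mem_coe, Subgroup.mem_center_iff]
          intro k
          exact Subtype.ext (hv k k.2)
      have hZ₀K : Z₀ ≤ K := fun v hv => ((mem_Z₀ v).mp hv).1
      have hZ₀c : ∀ v ∈ Z₀, ∀ k ∈ K, k * v = v * k := fun v hv => ((mem_Z₀ v).mp hv).2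
      have hZ₀n : ∀ (h : G), ∀ v ∈ Z₀, h * v * h⁻¹ ∈ Z₀ := by
        intro h v hv
        rw [mem_Z₀] at hv ⊢
        refine ⟨hKn.conj_mem v hv.1 h, fun k hk => ?_⟩
        have hk' : h⁻¹ * k * h ∈ K := by
          have := hKn.conj_mem k hk h⁻¹
          rwa [inv_inv] at this
        have h1 := hv.2 _ hk'
        calc k * (h * v * h⁻¹) = h * ((h⁻¹ * k * h) * v) * h⁻¹ := by group
          _ = h * (v * (h⁻¹ * k * h)) * h⁻¹ := by rw [h1]
          _ = h * v * h⁻¹ * k := by group
      have hZPZ₀ : ∀ z ∈ (P : Subgroup G), (∀ t ∈ (P : Subgroup G), t * z = z * t) → z ∈ Z₀ :=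
        fun z hz hzc => (mem_Z₀ z).mpr ⟨hZK z hz hzc, fun k hk => hzc k (hKP hk)⟩
      -- the centralizer of the `p`-th powers
      obtain ⟨E, hE⟩ : ∃ E : Set G, E = (fun v => v ^ p) '' (Z₀ : Set G) := ⟨_, rfl⟩
      have hEn : ∀ (h : G), ∀ e ∈ E, h * e * h⁻¹ ∈ E := by
        intro h e he
        rw [hE] at he ⊢
        obtain ⟨v, hv, rfl⟩ := he
        refine ⟨h * v * h⁻¹, hZ₀n h v hv, ?_⟩
        show (h * v * h⁻¹) ^ p = h * v ^ p * h⁻¹
        rw [conj_pow]
      obtain ⟨C₁, hC₁⟩ : ∃ C₁, C₁ = Subgroup.centralizer E := ⟨_, rfl⟩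
      have mem_C₁ : ∀ c : G, c ∈ C₁ ↔ ∀ e ∈ E, e * c = c * e := by
        intro c
        rw [hC₁, Subgroup.mem_centralizer_iff]
      have hC₁n : C₁.Normal := by
        constructor
        intro c hc h
        rw [mem_C₁] at hc ⊢
        intro e he
        have he' : h⁻¹ * e * h ∈ E := by
          have := hEn h⁻¹ e he
          rwa [inv_inv] at this
        have h1 := hc _ he'
        calc e * (h * c * h⁻¹) = h * ((h⁻¹ * e * h) * c) * h⁻¹ := by group
          _ = h * (c * (h⁻¹ * e * h)) * h⁻¹ := by rw [h1]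
          _ = h * c * h⁻¹ * e := by group
      -- a power `g'` of `g` outside `K` with `g' ^ p ∈ K`
      have hex : ∃ k : ℕ, g ^ (p ^ k) ∈ K := by
        obtain ⟨k, hk⟩ := P.isPGroup' ⟨g, hgP⟩
        refine ⟨k, ?_⟩
        have : g ^ (p ^ k) = 1 := by
          have := congrArg Subtype.val hk
          simpa using this
        rw [this]
        exact K.one_mem
      classical
      have hk₀ : Nat.find hex ≠ 0 := by
        intro h0
        have := Nat.find_spec hex
        rw [h0, pow_zero, pow_one] at this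
        exact hgK this
      obtain ⟨m, hm⟩ : ∃ m, Nat.find hex = m + 1 := ⟨Nat.find hex - 1, by omega⟩
      obtain ⟨g', hg'⟩ : ∃ g', g' = g ^ (p ^ m) := ⟨_, rfl⟩
      have hg'K : g' ∉ K := by
        rw [hg']
        exact Nat.find_min hex (by omega : m < Nat.find hex)
      have hg'p : g' ^ p ∈ K := by
        have := Nat.find_spec hex
        rw [hm, pow_succ, pow_mul] at this
        rw [hg']
        exact this
      have hg'z : g' ∈ Subgroup.zpowers g := by
        rw [hg']
        exact Subgroup.npow_mem_zpowers g _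
      have hg'P : g' ∈ (P : Subgroup G) := by
        rw [hg']
        exact Subgroup.pow_mem _ hgP _
      have hquad' : ∀ v ∈ Z₀, ∀ d, d = v⁻¹ * (g' * v * g'⁻¹) → g' * d * g'⁻¹ = d := by
        intro v hv d hd
        have h1 : d = ⁅v⁻¹, g'⁆ := by
          rw [hd, commutatorElement_def, inv_inv]
          group
        have h2 : d ∈ ⁅Z₀, Subgroup.zpowers g⁆ := by
          rw [h1]
          exact Subgroup.commutator_mem_commutator (Z₀.inv_mem hv) hg'z
        have h3 : ⁅d, g'⁆ ∈ ⁅⁅Z₀, Subgroup.zpowers g⁆, Subgroup.zpowers g⁆ :=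
          Subgroup.commutator_mem_commutator h2 hg'z
        rw [hquad, Subgroup.mem_bot, commutatorElement_eq_one_iff_commute] at h3
        rw [← h3.eq, mul_inv_cancel_right]
      have hg'C₁ : g' ∈ C₁ := by
        rw [mem_C₁]
        intro e he
        rw [hE] at he
        obtain ⟨v, hv, rfl⟩ := he
        have := quadratic_centralizes_pow hZ₀c hZ₀K hZ₀n hg'p hquad' hv
        show v ^ p * g' = g' * v ^ p
        calc v ^ p * g' = (g' * v ^ p * g'⁻¹) * g' := by rw [this]
          _ = g' * v ^ p := by group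
      -- Frattini
      obtain ⟨R, hR⟩ : ∃ R, R = (P : Subgroup G) ⊓ C₁ := ⟨_, rfl⟩
      have hRP : R ≤ (P : Subgroup G) := hR ▸ inf_le_left
      have hRC : R ≤ C₁ := hR ▸ inf_le_right
      have hRp : IsPGroup p R := P.isPGroup'.to_le hRP
      have hRidx : ¬ p ∣ R.relIndex C₁ := by
        haveI := hC₁n
        rw [hR]
        exact inf_normal_relSylow (P : Subgroup G) C₁ P.isPGroup' P.not_dvd_index
      have hg'R : g' ∈ R := hR ▸ ⟨hg'P, hg'C₁⟩
      obtain ⟨H₂, hH₂⟩ : ∃ H₂, H₂ = Subgroup.normalizer (R : Set G) := ⟨_, rfl⟩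
      have hPH₂ : (P : Subgroup G) ≤ H₂ := by
        intro t ht
        rw [hH₂]
        have key : ∀ t ∈ (P : Subgroup G), ∀ r ∈ R, t * r * t⁻¹ ∈ R := by
          intro t ht r hr
          rw [hR] at hr ⊢
          exact ⟨Subgroup.mul_mem _ (Subgroup.mul_mem _ ht hr.1) (Subgroup.inv_mem _ ht),
            hC₁n.conj_mem r hr.2 t⟩
        apply mem_normalizer_of_forall (key t ht)
        intro r hr
        have := key t⁻¹ (Subgroup.inv_mem _ ht) r hr
        rwa [inv_inv] at this
      by_cases hH₂top : H₂ = ⊤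
      · exfalso
        have hRn : R.Normal := by
          constructor
          intro r hr h
          have hh : h ∈ Subgroup.normalizer (R : Set G) := by
            rw [← hH₂, hH₂top]
            exact Subgroup.mem_top h
          exact (Subgroup.mem_normalizer_iff.mp hh r).mp hr
        have : R ≤ pCore p G := le_pCore hRn hRp
        rw [← hK] at this
        exact hg'K (this hg'R)
      · have hcard : Nat.card H₂ ≤ n := by
          have h1 : Nat.card H₂ ≤ Nat.card G := Subgroup.card_le_card_group H₂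
          have h2 : Nat.card H₂ ≠ Nat.card G := fun h => hH₂top (Subgroup.eq_top_of_card_eq _ h)
          omega
        obtain ⟨P₂, hP₂⟩ : ∃ P₂ : Sylow p ↥H₂, (P₂ : Subgroup ↥H₂) = (P : Subgroup G).subgroupOf H₂ :=
          ⟨P.subtype hPH₂, Sylow.coe_subtype _ _⟩
        have hZK₂ : ∀ z ∈ (P₂ : Subgroup ↥H₂), (∀ t ∈ (P₂ : Subgroup ↥H₂), t * z = z * t) →
            z ∈ pCore p ↥H₂ := by
          intro z hz hzc
          rw [hP₂, Subgroup.mem_subgroupOf] at hz
          have hzc' : ∀ t ∈ (P : Subgroup G), t * (z : G) = (z : G) * t := by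
            intro t ht
            have := hzc ⟨t, hPH₂ ht⟩ (by rw [hP₂, Subgroup.mem_subgroupOf]; exact ht)
            exact congrArg Subtype.val this
          have hzK : (z : G) ∈ K := hZK _ hz hzc'
          have hn' : (K.subgroupOf H₂).Normal := Subgroup.Normal.subgroupOf hKn H₂
          have hp' : IsPGroup p ↥(K.subgroupOf H₂) := hKp.comap_subtype
          exact le_pCore hn' hp' (Subgroup.mem_subgroupOf.mpr hzK)
        have hmap : (wOf W (P₂ : Subgroup ↥H₂)).map H₂.subtype = wOf W (P : Subgroup G) :=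
          wOf_map_subgroupOf hW2 P.isPGroup' hPH₂ _ hP₂
        have hnorm₂ : ∀ g₂ ∈ Subgroup.normalizer
            ((wOf W (P₂ : Subgroup ↥H₂) : Subgroup ↥H₂) : Set ↥H₂),
            (g₂ : G) ∈ Subgroup.normalizer ((wOf W (P : Subgroup G) : Subgroup G) : Set G) := by
          intro g₂ hg₂
          have key : ∀ g₃ ∈ Subgroup.normalizer
              ((wOf W (P₂ : Subgroup ↥H₂) : Subgroup ↥H₂) : Set ↥H₂),
              ∀ u ∈ wOf W (P : Subgroup G), (g₃ : G) * u * (g₃ : G)⁻¹ ∈ wOf W (P : Subgroup G) := by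
            intro g₃ hg₃ u hu
            rw [← hmap] at hu ⊢
            obtain ⟨u₂, hu₂, rfl⟩ := hu
            exact ⟨g₃ * u₂ * g₃⁻¹, (Subgroup.mem_normalizer_iff.mp hg₃ u₂).mp hu₂, rfl⟩
          apply mem_normalizer_of_forall (key g₂ hg₂)
          intro u hu
          have := key g₂⁻¹ (Subgroup.inv_mem _ hg₂) u hu
          simpa using this
        have hIH := ih ↥H₂ hcard P₂ hZK₂
        intro h
        haveI := hC₁n
        obtain ⟨c, hc, hhc⟩ := frattini_elt C₁ R hRC hRp hRidx h
        have hhc' : h * c ∈ H₂ := hH₂ ▸ hhc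
        obtain ⟨c₂, n₂, hfac, hc₂, hn₂⟩ := hIH ⟨h * c, hhc'⟩
        have hfac' : h * c = (c₂ : G) * (n₂ : G) := congrArg Subtype.val hfac
        refine ⟨(c₂ : G) * ((n₂ : G) * c⁻¹ * (n₂ : G)⁻¹), (n₂ : G), ?_, ?_, hnorm₂ n₂ hn₂⟩
        · calc h = (h * c) * c⁻¹ := by group
            _ = (c₂ : G) * (n₂ : G) * c⁻¹ := by rw [hfac']
            _ = (c₂ : G) * ((n₂ : G) * c⁻¹ * (n₂ : G)⁻¹) * (n₂ : G) := by group
        · intro z hz hzc
          have hzE : z ^ p ∈ E := hE ▸ ⟨z, hZPZ₀ z hz hzc, rfl⟩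
          have h1 : (c₂ : G) * z ^ p = z ^ p * (c₂ : G) := by
            have hz₂ : (⟨z, hPH₂ hz⟩ : ↥H₂) ∈ (P₂ : Subgroup ↥H₂) := by
              rw [hP₂, Subgroup.mem_subgroupOf]; exact hz
            have := hc₂ ⟨z, hPH₂ hz⟩ hz₂ (by
              intro t ht
              rw [hP₂, Subgroup.mem_subgroupOf] at ht
              exact Subtype.ext (hzc _ ht))
            exact congrArg Subtype.val this
          have h2 : (n₂ : G) * c⁻¹ * (n₂ : G)⁻¹ ∈ C₁ := hC₁n.conj_mem _ (C₁.inv_mem hc) _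
          have h3 := (mem_C₁ _).mp h2 _ hzE
          rw [mul_assoc, ← h3, ← mul_assoc, h1, mul_assoc]

end Cfsg.Agent.Helper3.TF
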