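import Mathlib
import Cfsg.Agent.Lib.Helper3.ThFac1
import Cfsg.Agent.Lib.Helper9.ThompsonRepl

/-!
# A quadratic element from Thompson's replacement theorem

If `J(P)` is not normal in `G`, some element of `P` outside `O_p(G)` acts quadratically on
`Z(O_p(G))`.
-/

set_option autoImplicit false
set_option linter.style.haveILetI false
set_option linter.unusedSectionVars false

namespace Cfsg.Agent.Helper3.TF

open Cfsg Cfsg.Agent.Helper25 Cfsg.Agent.Helper9
open scoped commutatorElement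

variable {p : ℕ} [Fact p.Prime]

theorem exists_quadratic {G : Type*} [Group G] [Finite G] (P : Sylow p G)
    (hn : ¬ (((thompsonSubgroupA ↥(P : Subgroup G)).map (P : Subgroup G).subtype :
      Subgroup G)).Normal) :
    ∃ g : G, g ∈ (P : Subgroup G) ∧ g ∉ Cfsg.pCore p G ∧
      ⁅⁅(Subgroup.center ↥(Cfsg.pCore p G)).map (Cfsg.pCore p G).subtype, Subgroup.zpowers g⁆,
        Subgroup.zpowers g⁆ = ⊥ := by
  classical
  obtain ⟨K, hK⟩ : ∃ K, K = pCore p G := ⟨_, rfl⟩
  rw [← hK]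
  have hKn : K.Normal := hK ▸ pCore_normal p G
  have hKp : IsPGroup p K := hK ▸ isPGroup_pCore p G
  have hKP : K ≤ (P : Subgroup G) := by
    haveI := hKn
    exact hKp.le_sylow_of_normal P
  obtain ⟨V, hVdef⟩ : ∃ V, V = (Subgroup.center ↥K).map K.subtype := ⟨_, rfl⟩
  rw [← hVdef]
  have mem_V : ∀ v : G, v ∈ V ↔ v ∈ K ∧ ∀ k ∈ K, k * v = v * k := by
    intro v
    rw [hVdef]
    constructor
    · rintro ⟨c, hc, rfl⟩
      refine ⟨c.2, fun k hk => ?_⟩
      have := Subgroup.mem_center_iff.mp hc ⟨k, hk⟩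
      exact congrArg Subtype.val this
    · rintro ⟨hvK, hv⟩
      refine ⟨⟨v, hvK⟩, ?_, rfl⟩
      rw [SetLike.mem_coe, Subgroup.mem_center_iff]
      intro k
      exact Subtype.ext (hv k k.2)
  have hVK : V ≤ K := fun v hv => ((mem_V v).mp hv).1
  have hVc : ∀ v ∈ V, ∀ k ∈ K, k * v = v * k := fun v hv => ((mem_V v).mp hv).2
  have hVn : ∀ (h : G), ∀ v ∈ V, h * v * h⁻¹ ∈ V := by
    intro h v hv
    rw [mem_V] at hv ⊢
    refine ⟨hKn.conj_mem v hv.1 h, fun k hk => ?_⟩
    have hk' : h⁻¹ * k * h ∈ K := by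
      have := hKn.conj_mem k hk h⁻¹
      rwa [inv_inv] at this
    have h1 := hv.2 _ hk'
    calc k * (h * v * h⁻¹) = h * ((h⁻¹ * k * h) * v) * h⁻¹ := by group
      _ = h * (v * (h⁻¹ * k * h)) * h⁻¹ := by rw [h1]
      _ = h * v * h⁻¹ * k := by group
  obtain ⟨σ, hσ⟩ : ∃ σ : ↥(P : Subgroup G) →* G, σ = (P : Subgroup G).subtype := ⟨_, rfl⟩
  have hσv : ∀ x : ↥(P : Subgroup G), σ x = (x : G) := fun x => by rw [hσ]; rfl
  have hσinj : Function.Injective σ := by rw [hσ]; exact Subgroup.subtype_injective _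
  obtain ⟨K', hK'⟩ : ∃ K' : Subgroup ↥(P : Subgroup G), K' = K.subgroupOf (P : Subgroup G) :=
    ⟨_, rfl⟩
  obtain ⟨V', hV'⟩ : ∃ V' : Subgroup ↥(P : Subgroup G), V' = V.subgroupOf (P : Subgroup G) :=
    ⟨_, rfl⟩
  have mem_K' : ∀ x : ↥(P : Subgroup G), x ∈ K' ↔ (x : G) ∈ K := fun x => by
    rw [hK', Subgroup.mem_subgroupOf]
  have mem_V' : ∀ x : ↥(P : Subgroup G), x ∈ V' ↔ (x : G) ∈ V := fun x => by
    rw [hV', Subgroup.mem_subgroupOf]
  -- Step 1: some abelian subgroup of largest order is not inside `K`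
  have step1 : ∃ A ∈ maxAbelianSubgroups ↥(P : Subgroup G), ¬ A ≤ K' := by
    by_contra hcon
    push Not at hcon
    apply hn
    rw [← hσ]
    have key : ∀ g : G, (thompsonSubgroupA ↥(P : Subgroup G)).map σ ≤
        ((thompsonSubgroupA ↥(P : Subgroup G)).map σ).comap (MulAut.conj g).toMonoidHom := by
      intro g
      rw [Subgroup.map_le_iff_le_comap]
      unfold thompsonSubgroupA
      apply sSup_le
      intro A hA a ha
      rw [Subgroup.mem_comap, Subgroup.mem_comap]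
      show g * σ a * g⁻¹ ∈ _
      have hAK := hcon A hA
      have hle : (A.map σ).map (MulAut.conj g).toMonoidHom ≤ (P : Subgroup G) := by
        rintro _ ⟨_, ⟨a', ha', rfl⟩, rfl⟩
        apply hKP
        show g * σ a' * g⁻¹ ∈ K
        refine hKn.conj_mem _ ?_ g
        rw [hσv]
        exact (mem_K' a').mp (hAK ha')
      obtain ⟨B, hB⟩ : ∃ B : Subgroup ↥(P : Subgroup G),
          B = ((A.map σ).map (MulAut.conj g).toMonoidHom).subgroupOf (P : Subgroup G) := ⟨_, rfl⟩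
      have hBcard : Nat.card B = Nat.card A := by
        rw [hB, Nat.card_congr (Subgroup.subgroupOfEquivOfLe hle).toEquiv,
          Subgroup.card_map_of_injective (MulAut.conj g).injective,
          Subgroup.card_map_of_injective hσinj]
      have hBmem : ∀ b : ↥(P : Subgroup G), b ∈ B ↔ ∃ a' ∈ A, (b : G) = g * σ a' * g⁻¹ := by
        intro b
        rw [hB, Subgroup.mem_subgroupOf]
        constructor
        · rintro ⟨_, ⟨a', ha', rfl⟩, h⟩
          exact ⟨a', ha', h.symm⟩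
        · rintro ⟨a', ha', h⟩
          exact ⟨σ a', ⟨a', ha', rfl⟩, h.symm⟩
      have hBA : B ∈ maxAbelianSubgroups ↥(P : Subgroup G) := by
        refine ⟨⟨⟨fun b b' => ?_⟩⟩, fun B' hB' => ?_⟩
        · obtain ⟨a₁, ha₁, h₁⟩ := (hBmem b.1).mp b.2
          obtain ⟨a₂, ha₂, h₂⟩ := (hBmem b'.1).mp b'.2
          have hc : a₁ * a₂ = a₂ * a₁ :=
            congrArg Subtype.val (hA.1.is_comm.comm ⟨a₁, ha₁⟩ ⟨a₂, ha₂⟩)
          apply Subtype.ext
          apply Subtype.ext
          show ((b : ↥(P : Subgroup G)) : G) * ((b' : ↥(P : Subgroup G)) : G) = _ * _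
          rw [h₁, h₂]
          calc g * σ a₁ * g⁻¹ * (g * σ a₂ * g⁻¹) = g * σ (a₁ * a₂) * g⁻¹ := by
                rw [map_mul]; group
            _ = g * σ (a₂ * a₁) * g⁻¹ := by rw [hc]
            _ = g * σ a₂ * g⁻¹ * (g * σ a₁ * g⁻¹) := by rw [map_mul]; group
        · rw [hBcard]
          exact hA.2 B' hB'
      have hmemP : g * σ a * g⁻¹ ∈ (P : Subgroup G) := hle ⟨σ a, ⟨a, ha, rfl⟩, rfl⟩
      have hbB : (⟨g * σ a * g⁻¹, hmemP⟩ : ↥(P : Subgroup G)) ∈ B :=
        (hBmem _).mpr ⟨a, ha, rfl⟩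
      have : (⟨g * σ a * g⁻¹, hmemP⟩ : ↥(P : Subgroup G)) ∈ sSup (maxAbelianSubgroups ↥(P : Subgroup G)) :=
        (le_sSup hBA) hbB
      exact ⟨_, this, by rw [hσv]⟩
    constructor
    intro y hy g
    exact key g hy
  -- Step 2: choose one with the largest intersection with `V`
  obtain ⟨A₀, hA₀, hA₀K⟩ := step1
  obtain ⟨s, hs⟩ : ∃ s : Set (Subgroup ↥(P : Subgroup G)),
      s = {A | A ∈ maxAbelianSubgroups ↥(P : Subgroup G) ∧ ¬ A ≤ K'} := ⟨_, rfl⟩
  have hsne : s.Nonempty := ⟨A₀, by rw [hs]; exact ⟨hA₀, hA₀K⟩⟩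
  obtain ⟨A, hAs, hAmax⟩ := Set.exists_max_image s (fun A => Nat.card ↥(A ⊓ V')) (Set.toFinite s) hsne
  rw [hs] at hAs
  obtain ⟨hA, hAK⟩ := hAs
  have hAc : ∀ a ∈ A, ∀ a' ∈ A, a * a' = a' * a := fun a ha a' ha' =>
    congrArg Subtype.val (hA.1.is_comm.comm ⟨a, ha⟩ ⟨a', ha'⟩)
  have hV'c : ∀ b ∈ V', ∀ b' ∈ V', b * b' = b' * b := by
    intro b hb b' hb'
    apply Subtype.ext
    show (b : G) * (b' : G) = (b' : G) * (b : G)
    exact hVc _ ((mem_V' b').mp hb') _ (hVK ((mem_V' b).mp hb))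
  have hV'n : ∀ a ∈ A, ∀ b ∈ V', a * b * a⁻¹ ∈ V' := by
    intro a _ b hb
    rw [mem_V'] at hb ⊢
    exact hVn _ _ hb
  have hV'N : V' ≤ Subgroup.normalizer (A : Set ↥(P : Subgroup G)) := by
    by_contra hnot
    obtain ⟨Astar, hAstar, hlt, hAsN⟩ :=
      haveI : Group.IsNilpotent ↥(P : Subgroup G) := P.isPGroup'.isNilpotent
      thompson_replacement hA V' hV'c hV'n hnot
    have hAsK : Astar ≤ K' := by
      by_contra hAsK
      have h1 := hAmax Astar (by rw [hs]; exact ⟨hAstar, hAsK⟩)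
      have h2 : A ⊓ V' = Astar ⊓ V' := Subgroup.eq_of_le_of_card_ge hlt.le h1
      exact hlt.ne h2
    have hV'As : V' ≤ Astar := by
      have hAsc : ∀ a ∈ Astar, ∀ a' ∈ Astar, a * a' = a' * a := fun a ha a' ha' =>
        congrArg Subtype.val (hAstar.1.is_comm.comm ⟨a, ha⟩ ⟨a', ha'⟩)
      have hVA : ∀ v ∈ V', ∀ a ∈ Astar, a * v = v * a := by
        intro v hv a ha
        apply Subtype.ext
        exact hVc _ ((mem_V' v).mp hv) _ ((mem_K' a).mp (hAsK ha))
      have h1 : V' ⊔ Astar ≤ Subgroup.centralizer ((V' : Subgroup ↥(P : Subgroup G)) : Set _) := by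
        apply sup_le
        · intro v hv
          rw [Subgroup.mem_centralizer_iff]
          intro v' hv'
          exact hV'c v' hv' v hv
        · intro a ha
          rw [Subgroup.mem_centralizer_iff]
          intro v hv
          exact (hVA v hv a ha).symm
      have h2 : V' ⊔ Astar ≤ Subgroup.centralizer ((Astar : Subgroup ↥(P : Subgroup G)) : Set _) := by
        apply sup_le
        · intro v hv
          rw [Subgroup.mem_centralizer_iff]
          intro a ha
          exact hVA v hv a ha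
        · intro a ha
          rw [Subgroup.mem_centralizer_iff]
          intro a' ha'
          exact hAsc a' ha' a ha
      have h3 : V' ⊔ Astar ≤ Subgroup.centralizer ((V' ⊔ Astar : Subgroup ↥(P : Subgroup G)) : Set _) := by
        apply sup_le
        · exact Subgroup.le_centralizer_iff.mp h1
        · exact Subgroup.le_centralizer_iff.mp h2
      have h4 : IsMulCommutative ↥(V' ⊔ Astar) := Subgroup.le_centralizer_iff_isMulCommutative.mp h3
      have h5 := hAstar.2 _ h4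
      have h6 : Astar = V' ⊔ Astar := Subgroup.eq_of_le_of_card_ge le_sup_right h5
      rw [h6]
      exact le_sup_left
    exact hnot (hV'As.trans hAsN)
  -- Step 3: the quadratic element
  obtain ⟨a, haA, haK⟩ := SetLike.not_le_iff_exists.mp hAK
  refine ⟨(a : G), a.2, fun h => haK ((mem_K' a).mpr h), ?_⟩
  obtain ⟨AG, hAG⟩ : ∃ AG : Subgroup G, AG = A.map σ := ⟨_, rfl⟩
  have haAG : (a : G) ∈ AG := by rw [hAG]; exact ⟨a, haA, hσv a⟩
  have hAGc : ∀ x ∈ AG, ∀ y ∈ AG, x * y = y * x := by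
    rw [hAG]
    rintro _ ⟨x, hx, rfl⟩ _ ⟨y, hy, rfl⟩
    rw [← map_mul, ← map_mul, hAc x hx y hy]
  have hVAG : ∀ v ∈ V, ∀ x ∈ AG, v * x * v⁻¹ ∈ AG := by
    intro v hv x hx
    rw [hAG] at hx ⊢
    obtain ⟨x', hx', rfl⟩ := hx
    have hvP : v ∈ (P : Subgroup G) := hKP (hVK hv)
    have hv' : (⟨v, hvP⟩ : ↥(P : Subgroup G)) ∈ V' := (mem_V' _).mpr hv
    have := (Subgroup.mem_normalizer_iff.mp (hV'N hv') x').mp hx'
    exact ⟨_, this, by rw [hσv, hσv]; rfl⟩
  have hz : Subgroup.zpowers (a : G) ≤ AG := by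
    rw [Subgroup.zpowers_le]; exact haAG
  have h1 : ⁅V, Subgroup.zpowers (a : G)⁆ ≤ AG := by
    rw [Subgroup.commutator_le]
    intro v hv z hz'
    rw [commutatorElement_def]
    exact AG.mul_mem (hVAG v hv z (hz hz')) (AG.inv_mem (hz hz'))
  rw [eq_bot_iff, Subgroup.commutator_le]
  intro x hx z hz'
  rw [Subgroup.mem_bot, commutatorElement_eq_one_iff_commute]
  exact hAGc x (h1 hx) z (hz hz')

end Cfsg.Agent.Helper3.TF
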