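import Mathlib
import Cfsg.Prelude.Def_FusionSystem
import Cfsg.Prelude.Def_PLocal

/-!
# Counting the maps of a fusion system; the centre and the Thompson subgroup
-/

set_option autoImplicit false
set_option linter.style.haveILetI false
set_option linter.unusedSectionVars false

namespace Cfsg.Agent.Helper3.TF

open Cfsg Cfsg.FusionSystem

section graph

variable {Ω : Type*} [Group Ω]

/-- the graph of a map -/
def graphOf {P : Subgroup Ω} (φ : P →* Ω) : Set (Ω × Ω) := {q | ∃ x : P, q = ((x : Ω), φ x)}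

/-- the set of graphs of the maps of a system -/
def graphSet {S : Subgroup Ω} (F : FusionSystem S) : Set (Set (Ω × Ω)) :=
  {R | ∃ (P : Subgroup Ω) (φ : P →* Ω), φ ∈ F.Hom P ∧ R = graphOf φ}

theorem graphSet_finite {S : Subgroup Ω} [Finite S] (F : FusionSystem S) : (graphSet F).Finite := by
  have hfin : ((S : Set Ω) ×ˢ (S : Set Ω)).Finite :=
    Set.Finite.prod (Set.toFinite _) (Set.toFinite _)
  apply Set.Finite.subset hfin.finite_subsets
  rintro R ⟨P, φ, hφ, rfl⟩
  rintro q ⟨x, rfl⟩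
  obtain ⟨h1, h2⟩ := F.le_of_mem hφ
  exact ⟨h1 x.2, h2 x⟩

theorem mem_of_graphOf_eq {S : Subgroup Ω} (F : FusionSystem S) {P P' : Subgroup Ω} {φ : P →* Ω}
    {φ' : P' →* Ω} (hφ' : φ' ∈ F.Hom P') (h : graphOf φ = graphOf φ') : φ ∈ F.Hom P := by
  have hP : P' = P := by
    ext x
    constructor
    · intro hx
      have h1 : ((x, φ' ⟨x, hx⟩) : Ω × Ω) ∈ graphOf φ' := ⟨⟨x, hx⟩, rfl⟩
      rw [← h] at h1
      obtain ⟨y, hy⟩ := h1
      have : x = (y : Ω) := congrArg Prod.fst hy
      rw [this]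
      exact y.2
    · intro hx
      have h1 : ((x, φ ⟨x, hx⟩) : Ω × Ω) ∈ graphOf φ := ⟨⟨x, hx⟩, rfl⟩
      rw [h] at h1
      obtain ⟨y, hy⟩ := h1
      have : x = (y : Ω) := congrArg Prod.fst hy
      rw [this]
      exact y.2
  subst hP
  have : φ = φ' := by
    ext x
    have h1 : (((x : Ω), φ x) : Ω × Ω) ∈ graphOf φ := ⟨x, rfl⟩
    rw [h] at h1
    obtain ⟨y, hy⟩ := h1
    have h2 : (x : Ω) = (y : Ω) := congrArg Prod.fst hy
    have h3 : φ x = φ' y := congrArg Prod.snd hy
    have h4 : x = y := Subtype.ext h2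
    rw [h3, h4]
  rw [this]
  exact hφ'

theorem graphSet_subset {S T : Subgroup Ω} (F : FusionSystem S) (F' : FusionSystem T)
    (hsub : ∀ P : Subgroup Ω, F'.Hom P ⊆ F.Hom P) : graphSet F' ⊆ graphSet F := by
  rintro R ⟨P, φ, hφ, rfl⟩
  exact ⟨P, φ, hsub P hφ, rfl⟩

theorem ncard_graphSet_le {S T : Subgroup Ω} [Finite S] (F : FusionSystem S) (F' : FusionSystem T)
    (hsub : ∀ P : Subgroup Ω, F'.Hom P ⊆ F.Hom P) : (graphSet F').ncard ≤ (graphSet F).ncard :=
  Set.ncard_le_ncard (graphSet_subset F F' hsub) (graphSet_finite F)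

/-- a subsystem with at least as many maps is the whole system -/
theorem hom_subset_of_ncard_le {S T : Subgroup Ω} [Finite S] (F : FusionSystem S)
    (F' : FusionSystem T) (hsub : ∀ P : Subgroup Ω, F'.Hom P ⊆ F.Hom P)
    (hcard : (graphSet F).ncard ≤ (graphSet F').ncard) (P : Subgroup Ω) : F.Hom P ⊆ F'.Hom P := by
  have heq : graphSet F' = graphSet F :=
    Set.eq_of_subset_of_ncard_le (graphSet_subset F F' hsub) hcard (graphSet_finite F)
  intro φ hφ
  have h1 : graphOf φ ∈ graphSet F := ⟨P, φ, hφ, rfl⟩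
  rw [← heq] at h1
  obtain ⟨P', φ', hφ', h⟩ := h1
  exact mem_of_graphOf_eq F' hφ' h

end graph

section center

/-- the centre lies in every abelian subgroup of largest order -/
theorem center_le_thompsonSubgroupA (T : Type*) [Group T] [Finite T] :
    Subgroup.center T ≤ thompsonSubgroupA T := by
  have hne : {X : Subgroup T | IsMulCommutative X}.Nonempty :=
    ⟨⊥, (inferInstance : IsMulCommutative (⊥ : Subgroup T))⟩
  obtain ⟨M, hM, hmax⟩ := Set.exists_max_image {X : Subgroup T | IsMulCommutative X}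
    (fun X => Nat.card X) (Set.toFinite _) hne
  have hMm : M ∈ maxAbelianSubgroups T := ⟨hM, fun Y hY => hmax Y hY⟩
  have hMc : ∀ a ∈ M, ∀ a' ∈ M, a * a' = a' * a := fun a ha a' ha' =>
    congrArg Subtype.val (hMm.1.is_comm.comm ⟨a, ha⟩ ⟨a', ha'⟩)
  intro z hz
  have hzc : ∀ t : T, t * z = z * t := fun t => Subgroup.mem_center_iff.mp hz t
  have h1 : M ⊔ Subgroup.zpowers z ≤ Subgroup.centralizer ((M : Subgroup T) : Set T) := by
    apply sup_le
    · intro a ha
      rw [Subgroup.mem_centralizer_iff]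
      intro a' ha'
      exact hMc a' ha' a ha
    · rw [Subgroup.zpowers_le, Subgroup.mem_centralizer_iff]
      intro a _
      exact hzc a
  have h2 : M ⊔ Subgroup.zpowers z ≤
      Subgroup.centralizer ((Subgroup.zpowers z : Subgroup T) : Set T) := by
    rw [Subgroup.le_centralizer_iff, Subgroup.zpowers_le, Subgroup.mem_centralizer_iff]
    intro a _
    exact hzc a
  have h3 : M ⊔ Subgroup.zpowers z ≤
      Subgroup.centralizer ((M ⊔ Subgroup.zpowers z : Subgroup T) : Set T) := by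
    apply sup_le
    · exact Subgroup.le_centralizer_iff.mp h1
    · exact Subgroup.le_centralizer_iff.mp h2
  have h4 : IsMulCommutative ↥(M ⊔ Subgroup.zpowers z) :=
    Subgroup.le_centralizer_iff_isMulCommutative.mp h3
  have h5 := hmax _ h4
  have h6 : M = M ⊔ Subgroup.zpowers z := Subgroup.eq_of_le_of_card_ge le_sup_left h5
  have h7 : z ∈ M := by
    rw [h6]
    exact le_sup_right (a := M) (Subgroup.mem_zpowers z)
  exact (le_sSup hMm) h7

variable {Ω : Type*} [Group Ω]

/-- `Z(T) ≤ J(T)` -/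
theorem center_le_thompsonSubgroupAOf (T : Subgroup Ω) [Finite T] :
    T ⊓ Subgroup.centralizer (T : Set Ω) ≤ thompsonSubgroupAOf T := by
  intro x hx
  have hxT : x ∈ T := hx.1
  have hxc := Subgroup.mem_centralizer_iff.mp hx.2
  have h1 : (⟨x, hxT⟩ : ↥T) ∈ Subgroup.center ↥T := by
    rw [Subgroup.mem_center_iff]
    intro t
    exact Subtype.ext (hxc t t.2)
  exact ⟨⟨x, hxT⟩, center_le_thompsonSubgroupA ↥T h1, rfl⟩

/-- the `p`-th powers of the centre: monotonicity -/
theorem powerClosure_mono (p n : ℕ) {H K : Subgroup Ω} (h : H ≤ K) :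
    powerClosure p n H ≤ powerClosure p n K := by
  unfold powerClosure
  apply Subgroup.closure_mono
  rintro y ⟨x, hx, rfl⟩
  exact ⟨x, h hx, rfl⟩

theorem powerClosure_le (p n : ℕ) (H : Subgroup Ω) : powerClosure p n H ≤ H := by
  unfold powerClosure
  rw [Subgroup.closure_le]
  rintro y ⟨x, hx, rfl⟩
  exact H.pow_mem hx _

/-- if `Z(S) ≤ T ≤ S` then `Z(S) ≤ Z(T)` -/
theorem center_le_center_of_le {S T : Subgroup Ω} (hTS : T ≤ S)
    (hZT : S ⊓ Subgroup.centralizer (S : Set Ω) ≤ T) :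
    S ⊓ Subgroup.centralizer (S : Set Ω) ≤ T ⊓ Subgroup.centralizer (T : Set Ω) := by
  intro x hx
  refine ⟨hZT hx, ?_⟩
  exact Subgroup.centralizer_le (by exact_mod_cast hTS) hx.2

end center

end Cfsg.Agent.Helper3.TF
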