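import Mathlib
import Cfsg.Agent.Lib.Helper3.ThFac2
import Cfsg.Agent.Lib.Helper3.ThFac3
import Cfsg.Agent.Lib.Helper3.KLApply
import Cfsg.Agent.Lib.Helper3.ModelTransport
import Cfsg.Agent.Lib.Helper9.SylowLemmas

/-!
# The constrained case of `F = ⟨C_F(Z(S)^p), N_F(J(S))⟩`
-/

set_option autoImplicit false
set_option linter.style.haveILetI false
set_option linter.unusedSectionVars false

namespace Cfsg.Agent.Helper3.TF

open Cfsg Cfsg.FusionSystem Cfsg.Agent.Helper25 Cfsg.Agent.Helper3.KL Cfsg.Agent.Helper3.Model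

universe u

section conj

variable {Ω : Type*} [Group Ω] {S : Subgroup Ω} {G : Type*} [Group G]

/-- conjugation by an element normalizing the image of `X` gives a map of `N_F(X)` -/
theorem exists_normalizerHom_of_conj (F : FusionSystem S) {ι : S →* G} (hreal : F.IsRealizedBy ι)
    {P X : Subgroup Ω} (hP : P ≤ S) (hX : X ≤ S) (hSX : S ≤ Subgroup.normalizer (X : Set Ω))
    (n : G) (hn : ∀ x : P, n * ι ⟨x, hP x.2⟩ * n⁻¹ ∈ ι.range)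
    (hnX : ∀ x : X, n * ι ⟨x, hX x.2⟩ * n⁻¹ ∈ (X.subgroupOf S).map ι)
    (hnX' : ∀ x : X, n⁻¹ * ι ⟨x, hX x.2⟩ * n ∈ (X.subgroupOf S).map ι) :
    ∃ φ ∈ F.normalizerHom X P, ∃ hφS : ∀ x, φ x ∈ S,
      ∀ x : P, ι ⟨φ x, hφS x⟩ = n * ι ⟨x, hP x.2⟩ * n⁻¹ := by
  have hι := hreal.1
  have hle : P ⊔ X ≤ S := sup_le hP hX
  obtain ⟨D, hD⟩ : ∃ D : Subgroup Ω,
      D = ((ι.range.comap (MulAut.conj n).toMonoidHom).comap ι).map S.subtype := ⟨_, rfl⟩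
  have hmemD : ∀ y : Ω, y ∈ D ↔ ∃ h : y ∈ S, n * ι ⟨y, h⟩ * n⁻¹ ∈ ι.range := by
    intro y
    rw [hD]
    constructor
    · rintro ⟨s, hs, rfl⟩
      exact ⟨s.2, hs⟩
    · rintro ⟨h, hy⟩
      exact ⟨⟨y, h⟩, hy, rfl⟩
  have hPD : P ≤ D := fun x hx => (hmemD x).mpr ⟨hP hx, hn ⟨x, hx⟩⟩
  have hXD : X ≤ D := fun x hx => (hmemD x).mpr ⟨hX hx, by
    obtain ⟨s, -, hs⟩ := hnX ⟨x, hx⟩
    exact ⟨s, hs⟩⟩
  have hsupD : P ⊔ X ≤ D := sup_le hPD hXD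
  obtain ⟨ψ, hψ, hψS, hιψ⟩ := exists_hom_of_conj F hreal hle n (fun y => by
    obtain ⟨h, hy⟩ := (hmemD _).mp (hsupD y.2)
    exact hy)
  have hφF : ψ.comp (Subgroup.inclusion le_sup_left) ∈ F.Hom P := restrict_mem F le_sup_left hψ
  have hSN : S ≤ normalizerIn S X := fun s hs => ⟨hs, hSX hs⟩
  refine ⟨ψ.comp (Subgroup.inclusion le_sup_left), ⟨hφF, hP.trans hSN, fun x => hSN (hψS _), ψ, hψ,
    fun x => rfl, ?_⟩, fun x => hψS _, fun x => hιψ _⟩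
  ext y
  rw [mem_map_subgroupOf]
  constructor
  · rintro ⟨x, hxK, hxX, rfl⟩
    obtain ⟨s, hs, hs'⟩ := hnX ⟨x, hxX⟩
    have h1 := hιψ ⟨x, hxK⟩
    have h2 : ι ⟨ψ ⟨x, hxK⟩, hψS _⟩ = ι s := by rw [h1, hs']
    have h3 := hι h2
    have h4 : ψ ⟨x, hxK⟩ = (s : Ω) := congrArg Subtype.val h3
    rw [h4]
    exact Subgroup.mem_subgroupOf.mp hs
  · intro hy
    obtain ⟨s, hs, hs'⟩ := hnX' ⟨y, hy⟩
    have hsX : (s : Ω) ∈ X := Subgroup.mem_subgroupOf.mp hs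
    refine ⟨(s : Ω), le_sup_right (a := P) hsX, hsX, ?_⟩
    have h1 := hιψ ⟨(s : Ω), le_sup_right (a := P) hsX⟩
    have e : (⟨((⟨(s : Ω), le_sup_right (a := P) hsX⟩ : ↥(P ⊔ X)) : Ω), hle (le_sup_right (a := P) hsX)⟩ : S)
        = s := Subtype.ext rfl
    rw [e, hs'] at h1
    have h2 : ι ⟨ψ ⟨(s : Ω), le_sup_right (a := P) hsX⟩, hψS _⟩ = ι ⟨y, hX hy⟩ := by
      rw [h1]; group
    exact congrArg Subtype.val (hι h2)

/-- conjugation by an element centralizing the image of `Y` gives a map of `C_F(Y)` -/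
theorem exists_centralizerHom_of_conj (F : FusionSystem S) {ι : S →* G} (hreal : F.IsRealizedBy ι)
    {P Y : Subgroup Ω} (hP : P ≤ S) (hY : Y ≤ S) (hSY : S ≤ Subgroup.centralizer (Y : Set Ω))
    (c : G) (hc : ∀ x : P, c * ι ⟨x, hP x.2⟩ * c⁻¹ ∈ ι.range)
    (hcY : ∀ y : Y, c * ι ⟨y, hY y.2⟩ = ι ⟨y, hY y.2⟩ * c) :
    ∃ φ ∈ F.centralizerHom Y P, ∃ hφS : ∀ x, φ x ∈ S,
      ∀ x : P, ι ⟨φ x, hφS x⟩ = c * ι ⟨x, hP x.2⟩ * c⁻¹ := by
  have hι := hreal.1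
  have hle : P ⊔ Y ≤ S := sup_le hP hY
  obtain ⟨D, hD⟩ : ∃ D : Subgroup Ω,
      D = ((ι.range.comap (MulAut.conj c).toMonoidHom).comap ι).map S.subtype := ⟨_, rfl⟩
  have hmemD : ∀ y : Ω, y ∈ D ↔ ∃ h : y ∈ S, c * ι ⟨y, h⟩ * c⁻¹ ∈ ι.range := by
    intro y
    rw [hD]
    constructor
    · rintro ⟨s, hs, rfl⟩
      exact ⟨s.2, hs⟩
    · rintro ⟨h, hy⟩
      exact ⟨⟨y, h⟩, hy, rfl⟩
  have hPD : P ≤ D := fun x hx => (hmemD x).mpr ⟨hP hx, hc ⟨x, hx⟩⟩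
  have hYD : Y ≤ D := fun y hy => (hmemD y).mpr ⟨hY hy, by
    rw [hcY ⟨y, hy⟩, mul_inv_cancel_right]
    exact ⟨_, rfl⟩⟩
  have hsupD : P ⊔ Y ≤ D := sup_le hPD hYD
  obtain ⟨ψ, hψ, hψS, hιψ⟩ := exists_hom_of_conj F hreal hle c (fun y => by
    obtain ⟨h, hy⟩ := (hmemD _).mp (hsupD y.2)
    exact hy)
  have hφF : ψ.comp (Subgroup.inclusion le_sup_left) ∈ F.Hom P := restrict_mem F le_sup_left hψ
  have hSC : S ≤ centralizerIn S Y := fun s hs => ⟨hs, hSY hs⟩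
  refine ⟨ψ.comp (Subgroup.inclusion le_sup_left), ⟨hφF, hP.trans hSC, fun x => hSC (hψS _), ψ, hψ,
    fun x => rfl, ?_⟩, fun x => hψS _, fun x => hιψ _⟩
  intro y
  have h1 := hιψ (Subgroup.inclusion le_sup_right y)
  have e : (⟨((Subgroup.inclusion (le_sup_right : Y ≤ P ⊔ Y) y : ↥(P ⊔ Y)) : Ω),
      hle (Subgroup.inclusion (le_sup_right : Y ≤ P ⊔ Y) y).2⟩ : S) = ⟨y, hY y.2⟩ := Subtype.ext rfl
  rw [e, hcY y, mul_inv_cancel_right] at h1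
  exact congrArg Subtype.val (hι h1)

end conj

section hyp

variable {Ω : Type*} [Group Ω]

/-- the hypothesis: the maps of `C_F(Z(S)^p)` and of `N_F(J(S))` lie in `E` -/
def Hyp (p : ℕ) {S S₀ : Subgroup Ω} (F : FusionSystem S) (E : FusionSystem S₀) : Prop :=
  (∀ (P : Subgroup Ω) (φ : P →* Ω),
    φ ∈ F.centralizerHom (powerClosure p 1 (S ⊓ Subgroup.centralizer (S : Set Ω))) P → φ ∈ E.Hom P) ∧
  (∀ (P : Subgroup Ω) (φ : P →* Ω), φ ∈ F.normalizerHom (thompsonSubgroupAOf S) P → φ ∈ E.Hom P)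

end hyp

section constrained

variable {p : ℕ} [Fact p.Prime] {Ω : Type u} [Group Ω] {S S₀ : Subgroup Ω}

/-- **The constrained case.** -/
theorem subset_of_constrained [Finite S] (hS : IsPGroup p S) (F : FusionSystem S)
    (hF : F.IsConstrained p) (E : FusionSystem S₀) (hyp : Hyp p F E) (P : Subgroup Ω) :
    F.Hom P ⊆ E.Hom P := by
  obtain ⟨G, _, ι, hfin, hreal, ⟨P₀, hP₀⟩, hcen⟩ := exists_model p hS F hF
  haveI := hfin
  have hι := hreal.1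
  intro φ hφ
  have hPS := (F.le_of_mem hφ).1
  have hφS := (F.le_of_mem hφ).2
  obtain ⟨g, hg⟩ := (hreal.2 P hPS φ hφS).mp hφ
  obtain ⟨Z, hZ⟩ : ∃ Z : Subgroup Ω, Z = S ⊓ Subgroup.centralizer (S : Set Ω) := ⟨_, rfl⟩
  obtain ⟨V₀, hV₀⟩ : ∃ V₀ : Subgroup Ω, V₀ = powerClosure p 1 Z := ⟨_, rfl⟩
  obtain ⟨J, hJ⟩ : ∃ J : Subgroup Ω, J = thompsonSubgroupAOf S := ⟨_, rfl⟩
  obtain ⟨hypC, hypN⟩ := hyp
  rw [← hZ, ← hV₀] at hypC
  rw [← hJ] at hypN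
  have hZS : Z ≤ S := hZ ▸ inf_le_left
  have hV₀Z : V₀ ≤ Z := hV₀ ▸ powerClosure_le p 1 Z
  have hV₀S : V₀ ≤ S := hV₀Z.trans hZS
  have hJS : J ≤ S := hJ ▸ jOf_le S
  have hSJ : S ≤ Subgroup.normalizer (J : Set Ω) := hJ ▸ le_normalizer_of_char (jOf_le S) (jOf_char S)
  have hSV₀ : S ≤ Subgroup.centralizer (V₀ : Set Ω) := by
    intro s hs
    rw [Subgroup.mem_centralizer_iff]
    intro v hv
    have hvZ : v ∈ Z := hV₀Z hv
    rw [hZ] at hvZ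
    exact (Subgroup.mem_centralizer_iff.mp hvZ.2 s hs).symm
  -- the factorization in the model
  have hKn : (pCore p G).Normal := pCore_normal p G
  have hKp : IsPGroup p (pCore p G) := isPGroup_pCore p G
  have hKP₀ : pCore p G ≤ (P₀ : Subgroup G) := hKp.le_sylow_of_normal P₀
  have hZK : ∀ z ∈ (P₀ : Subgroup G), (∀ t ∈ (P₀ : Subgroup G), t * z = z * t) → z ∈ pCore p G := by
    intro z _ hzc
    apply hcen
    rw [Subgroup.mem_centralizer_iff]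
    intro k hk
    exact hzc k (hKP₀ hk)
  have hW2 : ∀ (Q R : Type u) [Group Q] [Group R] [Finite Q], IsPGroup p Q → ∀ φ : Q ≃* R,
      (thompsonSubgroupA Q).map φ.toMonoidHom = thompsonSubgroupA R :=
    fun Q R _ _ _ _ φ => thompsonSubgroupA_map_equiv φ
  have hq : ∀ (G : Type u) [Group G] [Finite G] (P : Sylow p G), ¬ (((thompsonSubgroupA ↥(P : Subgroup G)).map (P : Subgroup G).subtype : Subgroup G)).Normal → ∃ g : G, g ∈ (P : Subgroup G) ∧ g ∉ Cfsg.pCore p G ∧ ⁅⁅Subgroup.center ↥(Cfsg.pCore p G) |>.map (Cfsg.pCore p G).subtype, Subgroup.zpowers g⁆, Subgroup.zpowers g⁆ = ⊥ :=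
    fun G _ _ P h => exists_quadratic P h
  obtain ⟨c, n, hgcn, hc, hn⟩ := factor_of_quadratic (W := fun Q _ => thompsonSubgroupA Q) hW2 hq
    (Nat.card G) G le_rfl P₀ hZK g
  -- `c` centralizes the image of `V₀`
  have hcV : ∀ v : V₀, c * ι ⟨v, hV₀S v.2⟩ = ι ⟨v, hV₀S v.2⟩ * c := by
    obtain ⟨D, hD⟩ : ∃ D : Subgroup Ω,
        D = ((Subgroup.centralizer ({c} : Set G)).comap ι).map S.subtype := ⟨_, rfl⟩
    have hmemD : ∀ y : Ω, y ∈ D ↔ ∃ h : y ∈ S, c * ι ⟨y, h⟩ = ι ⟨y, h⟩ * c := by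
      intro y
      rw [hD]
      constructor
      · rintro ⟨s, hs, rfl⟩
        refine ⟨s.2, ?_⟩
        have := Subgroup.mem_centralizer_iff.mp hs c rfl
        exact this
      · rintro ⟨h, hy⟩
        refine ⟨⟨y, h⟩, ?_, rfl⟩
        show ι ⟨y, h⟩ ∈ Subgroup.centralizer ({c} : Set G)
        rw [Subgroup.mem_centralizer_iff]
        intro c' hc'
        rw [Set.mem_singleton_iff] at hc'
        rw [hc']
        exact hy
    have hle : V₀ ≤ D := by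
      rw [hV₀]
      unfold powerClosure
      rw [Subgroup.closure_le]
      rintro y ⟨z, hz, rfl⟩
      rw [pow_one]
      have hzS : z ∈ S := hZS hz
      rw [SetLike.mem_coe, hmemD]
      refine ⟨S.pow_mem hzS _, ?_⟩
      have h1 : ι ⟨z, hzS⟩ ∈ (P₀ : Subgroup G) := by rw [hP₀]; exact ⟨_, rfl⟩
      have h2 : ∀ t ∈ (P₀ : Subgroup G), t * ι ⟨z, hzS⟩ = ι ⟨z, hzS⟩ * t := by
        intro t ht
        rw [hP₀] at ht
        obtain ⟨s, rfl⟩ := ht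
        rw [← map_mul, ← map_mul]
        congr 1
        apply Subtype.ext
        rw [hZ] at hz
        exact (Subgroup.mem_centralizer_iff.mp hz.2 s s.2)
      have h3 := hc _ h1 h2
      have e : (⟨z ^ p, S.pow_mem hzS _⟩ : S) = ⟨z, hzS⟩ ^ p := Subtype.ext rfl
      rw [e, map_pow]
      exact h3
    intro v
    obtain ⟨h, hv⟩ := (hmemD _).mp (hle v.2)
    exact hv
  -- `n` normalizes the image of `J`
  have hnJ : n ∈ Subgroup.normalizer (((J.subgroupOf S).map ι : Subgroup G) : Set G) := by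
    have e : wOf (fun Q _ => thompsonSubgroupA Q) (P₀ : Subgroup G) =
        (J.subgroupOf S).map ι := by
      show thompsonSubgroupAOf (P₀ : Subgroup G) = _
      rw [hP₀, jOf_range ι hι, hJ]
    rw [e] at hn
    exact hn
  -- the subgroup `N₀`
  obtain ⟨JG, hJG⟩ : ∃ JG : Subgroup G, JG = (J.subgroupOf S).map ι := ⟨_, rfl⟩
  obtain ⟨VG, hVG⟩ : ∃ VG : Subgroup G, VG = (V₀.subgroupOf S).map ι := ⟨_, rfl⟩
  rw [← hJG] at hnJ
  obtain ⟨N₀, hN₀⟩ : ∃ N₀ : Subgroup G,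
      N₀ = Subgroup.normalizer (JG : Set G) ⊓ Subgroup.centralizer (VG : Set G) := ⟨_, rfl⟩
  have hcVG : c ∈ Subgroup.centralizer (VG : Set G) := by
    rw [Subgroup.mem_centralizer_iff, hVG]
    rintro _ ⟨s, hs, rfl⟩
    have := hcV ⟨s, Subgroup.mem_subgroupOf.mp hs⟩
    exact this.symm
  have hrangeN₀ : ι.range ≤ N₀ := by
    rintro _ ⟨s, rfl⟩
    rw [hN₀]
    constructor
    · have key : ∀ s : S, ∀ y ∈ JG, ι s * y * (ι s)⁻¹ ∈ JG := by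
        intro s y hy
        rw [hJG] at hy ⊢
        obtain ⟨j, hj, rfl⟩ := hy
        refine ⟨s * j * s⁻¹, ?_, by simp⟩
        rw [SetLike.mem_coe, Subgroup.mem_subgroupOf] at hj ⊢
        exact (Subgroup.mem_normalizer_iff.mp (hSJ s.2) _).mp hj
      apply mem_normalizer_of_forall (key s)
      intro y hy
      have := key s⁻¹ y hy
      simpa using this
    · show ι s ∈ Subgroup.centralizer (VG : Set G)
      rw [Subgroup.mem_centralizer_iff, hVG]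
      rintro _ ⟨v, hv, rfl⟩
      rw [← map_mul, ← map_mul]
      congr 1
      apply Subtype.ext
      exact Subgroup.mem_centralizer_iff.mp (hSV₀ s.2) _ (Subgroup.mem_subgroupOf.mp hv)
  have hP₀N₀ : (P₀ : Subgroup G) ≤ N₀ := hP₀ ▸ hrangeN₀
  -- the conjugate `B` of the image of `P`
  obtain ⟨B, hB⟩ : ∃ B : Subgroup G,
      B = ((P.subgroupOf S).map ι).map (MulAut.conj n).toMonoidHom := ⟨_, rfl⟩
  have hBmem : ∀ x : P, n * ι ⟨x, hPS x.2⟩ * n⁻¹ ∈ B := by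
    intro x
    rw [hB]
    exact ⟨ι ⟨x, hPS x.2⟩, ⟨⟨x, hPS x.2⟩, Subgroup.mem_subgroupOf.mpr x.2, rfl⟩, rfl⟩
  have hBp : IsPGroup p B := by
    rw [hB]
    exact ((hS.to_subgroup _).map ι).map _
  have hnc : n = c⁻¹ * g := by rw [hgcn]; group
  have hBN₀ : B ≤ N₀ := by
    rw [hB]
    rintro _ ⟨_, ⟨x, hx, rfl⟩, rfl⟩
    show n * ι x * n⁻¹ ∈ N₀
    rw [hN₀]
    constructor
    · have h1 : ι x ∈ Subgroup.normalizer (JG : Set G) := by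
        have := hrangeN₀ ⟨x, rfl⟩
        rw [hN₀] at this
        exact this.1
      exact Subgroup.mul_mem _ (Subgroup.mul_mem _ hnJ h1) (Subgroup.inv_mem _ hnJ)
    · have hxP : (x : Ω) ∈ P := Subgroup.mem_subgroupOf.mp hx
      have h1 := hg ⟨x, hxP⟩
      have e : (⟨((⟨(x : Ω), hxP⟩ : P) : Ω), hPS hxP⟩ : S) = x := Subtype.ext rfl
      rw [e] at h1
      have h2 : n * ι x * n⁻¹ = c⁻¹ * ι ⟨φ ⟨x, hxP⟩, hφS _⟩ * c := by
        rw [h1, hnc]; group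
      rw [h2]
      have h3 : ι ⟨φ ⟨x, hxP⟩, hφS _⟩ ∈ Subgroup.centralizer (VG : Set G) := by
        have := hrangeN₀ ⟨⟨φ ⟨x, hxP⟩, hφS _⟩, rfl⟩
        rw [hN₀] at this
        exact this.2
      exact Subgroup.mul_mem _ (Subgroup.mul_mem _ (Subgroup.inv_mem _ hcVG) h3) hcVG
  -- Sylow's theorem in `N₀`
  obtain ⟨m, hm⟩ := Cfsg.Agent.Helper9.exists_conj_le_sylow (P₀.subtype hP₀N₀) (B.subgroupOf N₀)
    hBp.comap_subtype
  have hmB : ∀ b ∈ B, (m : G) * b * (m : G)⁻¹ ∈ ι.range := by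
    intro b hb
    have h1 := hm ⟨b, hBN₀ hb⟩ (Subgroup.mem_subgroupOf.mpr hb)
    have h2 : (m * ⟨b, hBN₀ hb⟩ * m⁻¹ : ↥N₀) ∈ ((P₀.subtype hP₀N₀ : Sylow p ↥N₀) : Subgroup ↥N₀) := h1
    rw [Sylow.coe_subtype, Subgroup.mem_subgroupOf] at h2
    rw [← hP₀]
    exact h2
  have hN₀l : N₀ ≤ Subgroup.normalizer (JG : Set G) := by rw [hN₀]; exact inf_le_left
  have hN₀r : N₀ ≤ Subgroup.centralizer (VG : Set G) := by rw [hN₀]; exact inf_le_right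
  have hmN : (m : G) ∈ Subgroup.normalizer (JG : Set G) := hN₀l m.2
  have hmC : (m : G) ∈ Subgroup.centralizer (VG : Set G) := hN₀r m.2
  obtain ⟨n', hn'⟩ : ∃ n' : G, n' = (m : G) * n := ⟨_, rfl⟩
  obtain ⟨c', hc'⟩ : ∃ c' : G, c' = c * (m : G)⁻¹ := ⟨_, rfl⟩
  have hgcn' : g = c' * n' := by rw [hc', hn', hgcn]; group
  have hn'N : n' ∈ Subgroup.normalizer (JG : Set G) := hn' ▸ Subgroup.mul_mem _ hmN hnJ
  have hc'C : c' ∈ Subgroup.centralizer (VG : Set G) :=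
    hc' ▸ Subgroup.mul_mem _ hcVG (Subgroup.inv_mem _ hmC)
  have hn'P : ∀ x : P, n' * ι ⟨x, hPS x.2⟩ * n'⁻¹ ∈ ι.range := by
    intro x
    have := hmB _ (hBmem x)
    have e : n' * ι ⟨x, hPS x.2⟩ * n'⁻¹ = (m : G) * (n * ι ⟨x, hPS x.2⟩ * n⁻¹) * (m : G)⁻¹ := by
      rw [hn']; group
    rw [e]
    exact this
  -- the first map
  obtain ⟨φ₁, hφ₁, hφ₁S, hιφ₁⟩ := exists_normalizerHom_of_conj F hreal hPS hJS hSJ n' hn'P
    (fun x => by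
      have h1 : ι ⟨x, hJS x.2⟩ ∈ JG := by
        rw [hJG]; exact ⟨_, Subgroup.mem_subgroupOf.mpr x.2, rfl⟩
      have := (Subgroup.mem_normalizer_iff.mp hn'N _).mp h1
      rwa [hJG] at this)
    (fun x => by
      have h1 : ι ⟨x, hJS x.2⟩ ∈ JG := by
        rw [hJG]; exact ⟨_, Subgroup.mem_subgroupOf.mpr x.2, rfl⟩
      have := (Subgroup.mem_normalizer_iff.mp (Subgroup.inv_mem _ hn'N) _).mp h1
      rw [inv_inv] at this
      rwa [hJG] at this)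
  have hφ₁E : φ₁ ∈ E.Hom P := hypN P φ₁ hφ₁
  -- the second map
  have hP₁S : φ₁.range ≤ S := by
    rintro _ ⟨x, rfl⟩
    exact hφ₁S x
  have hc'P₁ : ∀ y : φ₁.range, c' * ι ⟨y, hP₁S y.2⟩ * c'⁻¹ ∈ ι.range := by
    rintro ⟨_, x, rfl⟩
    have h1 := hιφ₁ x
    have h2 := hg x
    refine ⟨⟨φ x, hφS x⟩, ?_⟩
    rw [h2]
    show _ = c' * ι ⟨φ₁ x, hφ₁S x⟩ * c'⁻¹
    rw [h1, hgcn']
    group
  obtain ⟨φ₂, hφ₂, hφ₂S, hιφ₂⟩ := exists_centralizerHom_of_conj F hreal hP₁S hV₀S hSV₀ c' hc'P₁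
    (fun v => by
      have h1 : ι ⟨v, hV₀S v.2⟩ ∈ VG := by
        rw [hVG]; exact ⟨_, Subgroup.mem_subgroupOf.mpr v.2, rfl⟩
      exact (Subgroup.mem_centralizer_iff.mp hc'C _ h1).symm)
  have hφ₂E : φ₂ ∈ E.Hom φ₁.range := hypC _ φ₂ hφ₂
  have hcomp := E.comp_mem hφ₁E hφ₂E (fun x => ⟨x, rfl⟩)
  have heq : φ₂.comp (φ₁.codRestrict φ₁.range fun x => ⟨x, rfl⟩) = φ := by
    ext x
    show φ₂ ⟨φ₁ x, ⟨x, rfl⟩⟩ = φ x
    have h1 := hιφ₂ ⟨φ₁ x, ⟨x, rfl⟩⟩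
    have h2 := hιφ₁ x
    have h3 := hg x
    have h4 : ι ⟨φ₂ ⟨φ₁ x, ⟨x, rfl⟩⟩, hφ₂S _⟩ = ι ⟨φ x, hφS x⟩ := by
      rw [h1, h3]
      show c' * ι ⟨φ₁ x, hφ₁S x⟩ * c'⁻¹ = _
      rw [h2, hgcn']
      group
    exact congrArg Subtype.val (hι h4)
  rw [heq] at hcomp
  exact hcomp

end constrained

end Cfsg.Agent.Helper3.TF
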