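import Mathlib
import Cfsg.Agent.Lib.Helper3.ThFac4

/-!
# Transport lemmas for `F = ⟨C_F(Z(S)^p), N_F(J(S))⟩`
-/

set_option autoImplicit false
set_option linter.style.haveILetI false
set_option linter.unusedSectionVars false

namespace Cfsg.Agent.Helper3.TF

open Cfsg Cfsg.FusionSystem Cfsg.Agent.Helper25 Cfsg.Agent.Helper3.KL

section basic

variable {Ω : Type*} [Group Ω] {S S₀ : Subgroup Ω}

/-- a subgroup normal in the system is weakly closed -/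
theorem range_eq_of_isNormal (F : FusionSystem S) {X : Subgroup Ω} (hX : F.IsNormal X)
    {χ : X →* Ω} (hχ : χ ∈ F.Hom X) : χ.range = X := by
  obtain ⟨ψ, -, hψP, hmap⟩ := hX.2 X χ hχ
  ext y
  constructor
  · rintro ⟨x, rfl⟩
    rw [← hψP]
    have h0 : ψ (Subgroup.inclusion le_sup_left x) ∈ (X.subgroupOf (X ⊔ X)).map ψ :=
      ⟨_, Subgroup.mem_subgroupOf.mpr x.2, rfl⟩
    exact hmap.le h0
  · intro hy
    have h0 : y ∈ (X.subgroupOf (X ⊔ X)).map ψ := hmap.ge hy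
    obtain ⟨x, hx, rfl⟩ := h0
    refine ⟨⟨x, Subgroup.mem_subgroupOf.mp hx⟩, ?_⟩
    rw [← hψP]
    congr 1

/-- the hypothesis passes to subsystems on subgroups containing `Z(S)` -/
theorem hyp_of_sub (p : ℕ) {T : Subgroup Ω} (F : FusionSystem S) (F' : FusionSystem T)
    (E : FusionSystem S₀) (hsub : ∀ P : Subgroup Ω, F'.Hom P ⊆ F.Hom P) (hTS : T ≤ S)
    (hZT : S ⊓ Subgroup.centralizer (S : Set Ω) ≤ T)
    (hC : ∀ (P : Subgroup Ω) (φ : P →* Ω),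
      φ ∈ F.centralizerHom (powerClosure p 1 (S ⊓ Subgroup.centralizer (S : Set Ω))) P →
        φ ∈ E.Hom P)
    (hN : ∀ (P : Subgroup Ω) (φ : P →* Ω), φ ∈ F.normalizerHom (thompsonSubgroupAOf T) P →
      φ ∈ E.Hom P) : Hyp p F' E := by
  have hv : powerClosure p 1 (S ⊓ Subgroup.centralizer (S : Set Ω)) ≤
      powerClosure p 1 (T ⊓ Subgroup.centralizer (T : Set Ω)) :=
    powerClosure_mono p 1 (center_le_center_of_le hTS hZT)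
  constructor
  · rintro P φ ⟨hφ, hPle, hval, ψ, hψ, hagree, hfix⟩
    apply hC
    have hcl : centralizerIn T (powerClosure p 1 (T ⊓ Subgroup.centralizer (T : Set Ω))) ≤
        centralizerIn S (powerClosure p 1 (S ⊓ Subgroup.centralizer (S : Set Ω))) := by
      intro x hx
      exact ⟨hTS hx.1, Subgroup.centralizer_le (by exact_mod_cast hv) hx.2⟩
    have hle : P ⊔ powerClosure p 1 (S ⊓ Subgroup.centralizer (S : Set Ω)) ≤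
        P ⊔ powerClosure p 1 (T ⊓ Subgroup.centralizer (T : Set Ω)) := sup_le_sup_left hv P
    refine ⟨hsub P hφ, hPle.trans hcl, fun x => hcl (hval x), ψ.comp (Subgroup.inclusion hle),
      restrict_mem F hle (hsub _ hψ), fun x => ?_, fun x => ?_⟩
    · rw [← hagree x]
      rfl
    · rw [← hfix ⟨x, hv x.2⟩]
      rfl
  · rintro P φ ⟨hφ, hPle, hval, ψ, hψ, hagree, hmap⟩
    apply hN
    have hnl : normalizerIn T (thompsonSubgroupAOf T) ≤ normalizerIn S (thompsonSubgroupAOf T) :=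
      fun x hx => ⟨hTS hx.1, hx.2⟩
    exact ⟨hsub P hφ, hPle.trans hnl, fun x => hnl (hval x), ψ, hsub _ hψ, hagree, hmap⟩

/-- values of an extension normalizing `X` -/
theorem ext_mem_of_normalizerHom {N A X : Subgroup Ω} {φ : A →* Ω} {ψ : ↥(A ⊔ X) →* Ω}
    (hagree : ∀ x : A, ψ (Subgroup.inclusion le_sup_left x) = φ x)
    (hmap : (X.subgroupOf (A ⊔ X)).map ψ = X) (hval : ∀ x : A, φ x ∈ N) (hXN : X ≤ N)
    (y : ↥(A ⊔ X)) : ψ y ∈ N := by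
  have key : ∀ z : Ω, z ∈ A ⊔ X → ∀ hz : z ∈ A ⊔ X, ψ ⟨z, hz⟩ ∈ N := by
    intro z hz
    refine sup_induction (C := fun z => ∀ hz : z ∈ A ⊔ X, ψ ⟨z, hz⟩ ∈ N) ?_ ?_ ?_ hz
    · intro a ha hz'
      have := hagree ⟨a, ha⟩
      have e : Subgroup.inclusion (le_sup_left : A ≤ A ⊔ X) ⟨a, ha⟩ = ⟨a, hz'⟩ := Subtype.ext rfl
      rw [e] at this
      rw [this]
      exact hval _
    · intro x hx hz'
      apply hXN
      have h0 : ψ ⟨x, hz'⟩ ∈ (X.subgroupOf (A ⊔ X)).map ψ :=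
        ⟨⟨x, hz'⟩, Subgroup.mem_subgroupOf.mpr hx, rfl⟩
      exact hmap.le h0
    · intro a b ha hb hCa hCb hz'
      have e : (⟨a * b, hz'⟩ : ↥(A ⊔ X)) = ⟨a, ha⟩ * ⟨b, hb⟩ := Subtype.ext rfl
      rw [e, map_mul]
      exact N.mul_mem (hCa ha) (hCb hb)
  exact key y.1 y.2 y.2

/-- transport of the normalizer system along a map `N_S(X) → N_S(X')` of both systems -/
theorem normalizerHom_subset_of_conj (F : FusionSystem S) (E : FusionSystem S₀) {X X' : Subgroup Ω}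
    (hXS : X ≤ S) {β : ↥(normalizerIn S X) →* Ω} (hβF : β ∈ F.Hom (normalizerIn S X))
    (hβE : β ∈ E.Hom (normalizerIn S X)) (hβN : ∀ x, β x ∈ normalizerIn S X')
    (hβX : (X.subgroupOf (normalizerIn S X)).map β = X')
    (hsub : ∀ (A : Subgroup Ω) (φ : A →* Ω), φ ∈ F.normalizerHom X' A → φ ∈ E.Hom A)
    (A : Subgroup Ω) (φ : A →* Ω) (hφ : φ ∈ F.normalizerHom X A) : φ ∈ E.Hom A := by
  obtain ⟨hφF, hAN, hval, ψ, hψ, hagree, hmap⟩ := hφ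
  have hXN : X ≤ normalizerIn S X := le_normalizerIn hXS
  have hKN : A ⊔ X ≤ normalizerIn S X := sup_le hAN hXN
  have hψN : ∀ y : ↥(A ⊔ X), ψ y ∈ normalizerIn S X :=
    ext_mem_of_normalizerHom hagree hmap hval hXN
  -- the restriction of `β`
  obtain ⟨β₁, hβ₁⟩ : ∃ β₁ : ↥(A ⊔ X) →* Ω, β₁ = β.comp (Subgroup.inclusion hKN) := ⟨_, rfl⟩
  have hβ₁v : ∀ x : ↥(A ⊔ X), β₁ x = β ⟨x, hKN x.2⟩ := fun x => by rw [hβ₁]; rfl
  have hβ₁F : β₁ ∈ F.Hom (A ⊔ X) := hβ₁ ▸ restrict_mem F hKN hβF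
  have hβ₁E : β₁ ∈ E.Hom (A ⊔ X) := hβ₁ ▸ restrict_mem E hKN hβE
  have hβ₁r : ∀ x : ↥(A ⊔ X), β₁ x ∈ β₁.range := fun x => ⟨x, rfl⟩
  obtain ⟨γ, hγ, hγinv, hγr⟩ := exists_inv F hβ₁F rfl
  have hγK : ∀ y : β₁.range, γ y ∈ A ⊔ X := fun y => by
    have : γ y ∈ γ.range := ⟨y, rfl⟩
    rwa [hγr] at this
  have hψγ : ψ.comp (γ.codRestrict (A ⊔ X) hγK) ∈ F.Hom β₁.range := F.comp_mem hγ hψ hγK
  have hψγN : ∀ y : β₁.range, (ψ.comp (γ.codRestrict (A ⊔ X) hγK)) y ∈ normalizerIn S X :=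
    fun y => hψN _
  obtain ⟨ψ₁, hψ₁def⟩ : ∃ ψ₁ : β₁.range →* Ω, ψ₁ = β.comp
      ((ψ.comp (γ.codRestrict (A ⊔ X) hγK)).codRestrict (normalizerIn S X) hψγN) := ⟨_, rfl⟩
  have hψ₁F : ψ₁ ∈ F.Hom β₁.range := hψ₁def ▸ F.comp_mem hψγ hβF hψγN
  have key : ∀ (x : ↥(A ⊔ X)) (h : β₁ x ∈ β₁.range), ψ₁ ⟨β₁ x, h⟩ = β ⟨ψ x, hψN x⟩ := by
    intro x h
    have e : (γ.codRestrict (A ⊔ X) hγK) ⟨β₁ x, h⟩ = x := Subtype.ext (hγinv x h)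
    rw [hψ₁def]
    show β ⟨ψ ((γ.codRestrict (A ⊔ X) hγK) ⟨β₁ x, h⟩), _⟩ = _
    congr 1
    apply Subtype.ext
    show ψ ((γ.codRestrict (A ⊔ X) hγK) ⟨β₁ x, h⟩) = ψ x
    rw [e]
  have hψ₁N : ∀ y : β₁.range, ψ₁ y ∈ normalizerIn S X' := by
    intro y
    rw [hψ₁def]
    exact hβN _
  have hK₁N : β₁.range ≤ normalizerIn S X' := by
    rintro _ ⟨x, rfl⟩
    rw [hβ₁v]
    exact hβN _
  have hX'mem : ∀ y : Ω, y ∈ X' ↔ ∃ (n : Ω) (hn : n ∈ A ⊔ X), n ∈ X ∧ β₁ ⟨n, hn⟩ = y := by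
    intro y
    rw [← hβX, mem_map_subgroupOf]
    constructor
    · rintro ⟨n, hnN, hnX, rfl⟩
      exact ⟨n, le_sup_right (a := A) hnX, hnX, by rw [hβ₁v]⟩
    · rintro ⟨n, hn, hnX, rfl⟩
      exact ⟨n, hKN hn, hnX, by rw [hβ₁v]⟩
  have hX'K₁ : X' ≤ β₁.range := by
    intro y hy
    obtain ⟨n, hn, -, rfl⟩ := (hX'mem y).mp hy
    exact ⟨_, rfl⟩
  have hle : β₁.range ⊔ X' ≤ β₁.range := sup_le le_rfl hX'K₁
  have hψX : ∀ (n : Ω) (hn : n ∈ A ⊔ X), n ∈ X → ψ ⟨n, hn⟩ ∈ X := by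
    intro n hn hnX
    have h0 : ψ ⟨n, hn⟩ ∈ (X.subgroupOf (A ⊔ X)).map ψ :=
      ⟨⟨n, hn⟩, Subgroup.mem_subgroupOf.mpr hnX, rfl⟩
    exact hmap.le h0
  have hψ₁n : ψ₁ ∈ F.normalizerHom X' β₁.range := by
    refine ⟨hψ₁F, hK₁N, hψ₁N, ψ₁.comp (Subgroup.inclusion hle), restrict_mem F hle hψ₁F,
      fun y => ?_, ?_⟩
    · exact congrArg ψ₁ (Subtype.ext rfl)
    · ext y
      rw [mem_map_subgroupOf]
      constructor
      · rintro ⟨x', hx'K, hx'X', rfl⟩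
        obtain ⟨n, hn, hnX, hnx'⟩ := (hX'mem x').mp hx'X'
        have e : (Subgroup.inclusion hle ⟨x', hx'K⟩ : β₁.range) = ⟨β₁ ⟨n, hn⟩, hβ₁r _⟩ :=
          Subtype.ext hnx'.symm
        show ψ₁ (Subgroup.inclusion hle ⟨x', hx'K⟩) ∈ X'
        rw [e, key ⟨n, hn⟩ (hβ₁r _)]
        rw [hX'mem]
        refine ⟨ψ ⟨n, hn⟩, le_sup_right (a := A) (hψX n hn hnX), hψX n hn hnX, ?_⟩
        rw [hβ₁v]
      · intro hy
        obtain ⟨n, hn, hnX, rfl⟩ := (hX'mem y).mp hy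
        have h0 : n ∈ (X.subgroupOf (A ⊔ X)).map ψ := hmap.ge hnX
        obtain ⟨n₀, hn₀, hn₀n⟩ := h0
        have hn₀X : (n₀ : Ω) ∈ X := Subgroup.mem_subgroupOf.mp hn₀
        have hx' : β₁ n₀ ∈ X' := (hX'mem _).mpr ⟨n₀, n₀.2, hn₀X, rfl⟩
        refine ⟨β₁ n₀, le_sup_right (a := β₁.range) hx', hx', ?_⟩
        have e : (Subgroup.inclusion hle ⟨β₁ n₀, le_sup_right (a := β₁.range) hx'⟩ : β₁.range)
            = ⟨β₁ n₀, hβ₁r _⟩ := Subtype.ext rfl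
        show ψ₁ (Subgroup.inclusion hle ⟨β₁ n₀, le_sup_right (a := β₁.range) hx'⟩) = _
        rw [e, key n₀ (hβ₁r _), hβ₁v]
        congr 1
        exact Subtype.ext hn₀n
  have hψ₁E : ψ₁ ∈ E.Hom β₁.range := hsub _ ψ₁ hψ₁n
  -- recover `ψ`
  have hK₂N : ψ.range ≤ normalizerIn S X := by
    rintro _ ⟨x, rfl⟩
    exact hψN x
  obtain ⟨β₂, hβ₂⟩ : ∃ β₂ : ψ.range →* Ω, β₂ = β.comp (Subgroup.inclusion hK₂N) := ⟨_, rfl⟩
  have hβ₂v : ∀ y : ψ.range, β₂ y = β ⟨y, hK₂N y.2⟩ := fun y => by rw [hβ₂]; rfl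
  have hβ₂E : β₂ ∈ E.Hom ψ.range := hβ₂ ▸ restrict_mem E hK₂N hβE
  obtain ⟨δ, hδ, hδinv, -⟩ := exists_inv E hβ₂E rfl
  have hψr : ∀ x : ↥(A ⊔ X), ψ x ∈ ψ.range := fun x => ⟨x, rfl⟩
  have hβ₂r : ∀ y : ψ.range, β₂ y ∈ β₂.range := fun y => ⟨y, rfl⟩
  have hc₁ := E.comp_mem hβ₁E hψ₁E hβ₁r
  have hc₁v : ∀ x : ↥(A ⊔ X), (ψ₁.comp (β₁.codRestrict β₁.range hβ₁r)) x =
      β₂ ⟨ψ x, hψr x⟩ := by
    intro x
    show ψ₁ ⟨β₁ x, hβ₁r x⟩ = _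
    rw [key x (hβ₁r x), hβ₂v]
  have hc₁r : ∀ x : ↥(A ⊔ X), (ψ₁.comp (β₁.codRestrict β₁.range hβ₁r)) x ∈ β₂.range :=
    fun x => by rw [hc₁v]; exact hβ₂r _
  have hc₂ := E.comp_mem hc₁ hδ hc₁r
  have heq : δ.comp ((ψ₁.comp (β₁.codRestrict β₁.range hβ₁r)).codRestrict β₂.range hc₁r)
      = ψ := by
    ext x
    show δ ⟨(ψ₁.comp (β₁.codRestrict β₁.range hβ₁r)) x, hc₁r x⟩ = ψ x
    have e : (⟨(ψ₁.comp (β₁.codRestrict β₁.range hβ₁r)) x, hc₁r x⟩ : β₂.range) =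
        ⟨β₂ ⟨ψ x, hψr x⟩, hβ₂r _⟩ := Subtype.ext (hc₁v x)
    rw [e, hδinv ⟨ψ x, hψr x⟩ (hβ₂r _)]
  rw [heq] at hc₂
  have hfin := restrict_mem E (le_sup_left : A ≤ A ⊔ X) hc₂
  have : ψ.comp (Subgroup.inclusion (le_sup_left : A ≤ A ⊔ X)) = φ := by
    ext x
    exact hagree x
  rwa [this] at hfin

end basic

end Cfsg.Agent.Helper3.TF
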