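import Mathlib
import Cfsg.Agent.Lib.Helper3.KLFunctor1
import Cfsg.Agent.Lib.Helper3.ThFac5
import Cfsg.Agent.Lib.Helper25.FusionAlperin2

/-!
# Control of transfer by a characteristic functor: basic notions

`TrivMod D φ` says that the map `φ` is trivial modulo `D`: `x⁻¹ φ(x) ∈ D` for all `x`.
`Ctl W F D` says that the maps of `N_F(W(S))` are trivial modulo `D`.
-/

set_option autoImplicit false
set_option linter.style.haveILetI false
set_option linter.unusedSectionVars false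

namespace Cfsg.Agent.Helper3.CT

open Cfsg Cfsg.FusionSystem Cfsg.Agent.Helper25 Cfsg.Agent.Helper3.KL

universe u

section basic

variable {Ω : Type*} [Group Ω] {S : Subgroup Ω}

/-- the map is trivial modulo `D` -/
def TrivMod (D : Subgroup Ω) {P : Subgroup Ω} (φ : P →* Ω) : Prop :=
  ∀ x : P, (x : Ω)⁻¹ * φ x ∈ D

theorem trivMod_comp {D : Subgroup Ω} {P Q : Subgroup Ω} {φ : P →* Ω} {ψ : Q →* Ω}
    (hφ : TrivMod D φ) (hψ : TrivMod D ψ) (h : ∀ x : P, φ x ∈ Q) :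
    TrivMod D (ψ.comp (φ.codRestrict Q h)) := by
  intro x
  have h1 := hφ x
  have h2 := hψ ⟨φ x, h x⟩
  have e : (x : Ω)⁻¹ * (ψ.comp (φ.codRestrict Q h)) x =
      ((x : Ω)⁻¹ * φ x) * ((φ x)⁻¹ * ψ ⟨φ x, h x⟩) := by
    show (x : Ω)⁻¹ * ψ ⟨φ x, h x⟩ = _
    group
  rw [e]
  exact D.mul_mem h1 h2

theorem trivMod_inv {D : Subgroup Ω} {P : Subgroup Ω} {φ : P →* Ω} (hφ : TrivMod D φ)
    (ψ : φ.range →* Ω) (hinv : ∀ x : P, ψ ⟨φ x, ⟨x, rfl⟩⟩ = (x : Ω)) : TrivMod D ψ := by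
  rintro ⟨_, x, rfl⟩
  rw [hinv x]
  have h1 := D.inv_mem (hφ x)
  have e : ((x : Ω)⁻¹ * φ x)⁻¹ = (φ x)⁻¹ * (x : Ω) := by group
  rw [e] at h1
  exact h1

theorem trivMod_restrict {D : Subgroup Ω} {P P' : Subgroup Ω} (h : P' ≤ P) {φ : P →* Ω}
    (hφ : TrivMod D φ) : TrivMod D (φ.comp (Subgroup.inclusion h)) := fun x =>
  hφ (Subgroup.inclusion h x)

theorem trivMod_mono {D D' : Subgroup Ω} (h : D ≤ D') {P : Subgroup Ω} {φ : P →* Ω}
    (hφ : TrivMod D φ) : TrivMod D' φ := fun x => h (hφ x)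

/-- the subsystem of the maps trivial modulo `D` -/
def trivSub (F : FusionSystem S) (D : Subgroup Ω)
    (hconj : ∀ {P : Subgroup Ω} {g : Ω}, P ≤ S → g ∈ S → TrivMod D (conjHom P g)) :
    FusionSystem S :=
  predSub F (fun _ φ => TrivMod D φ) hconj
    (fun _ _ hPφ hPψ h => trivMod_comp hPφ hPψ h)
    (fun _ hPφ ψ _ hinv => trivMod_inv hPφ ψ hinv)

theorem mem_trivSub {F : FusionSystem S} {D : Subgroup Ω}
    {hconj : ∀ {P : Subgroup Ω} {g : Ω}, P ≤ S → g ∈ S → TrivMod D (conjHom P g)}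
    {P : Subgroup Ω} {φ : P →* Ω} :
    φ ∈ (trivSub F D hconj).Hom P ↔ φ ∈ F.Hom P ∧ TrivMod D φ := Iff.rfl

/-- the maps of a normalizer system of a subsystem are maps of the normalizer system -/
theorem normalizerHom_of_sub {T : Subgroup Ω} (F : FusionSystem S) (F' : FusionSystem T)
    (hsub : ∀ P : Subgroup Ω, F'.Hom P ⊆ F.Hom P) (hTS : T ≤ S) {X A : Subgroup Ω} {φ : A →* Ω}
    (hφ : φ ∈ F'.normalizerHom X A) : φ ∈ F.normalizerHom X A := by
  obtain ⟨hφF, hAN, hval, ψ, hψ, hagree, hmap⟩ := hφ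
  have hnl : normalizerIn T X ≤ normalizerIn S X := fun x hx => ⟨hTS hx.1, hx.2⟩
  exact ⟨hsub A hφF, hAN.trans hnl, fun x => hnl (hval x), ψ, hsub _ hψ, hagree, hmap⟩

/-- a map trivial modulo `D` on a subgroup: restriction to a smaller subgroup, elementwise -/
theorem trivMod_of_agree {D : Subgroup Ω} {P K : Subgroup Ω} (hPK : P ≤ K) {φ : P →* Ω}
    {ψ : K →* Ω} (hψ : TrivMod D ψ) (h : ∀ x : P, ψ ⟨x, hPK x.2⟩ = φ x) : TrivMod D φ := by
  intro x
  rw [← h x]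
  exact hψ ⟨x, hPK x.2⟩

end basic

section functor

variable (W : ∀ (Q : Type u) [Group Q], Subgroup Q)

/-- the maps of `N_F(W(S))` are trivial modulo `D` -/
def Ctl {Ω : Type u} [Group Ω] {S : Subgroup Ω} (F : FusionSystem S) (D : Subgroup Ω) : Prop :=
  ∀ (P : Subgroup Ω) (φ : P →* Ω), φ ∈ F.normalizerHom (wOf W S) P → TrivMod D φ

variable {W} {p : ℕ} [Fact p.Prime]

/-- `W(T)` is characteristic in `T` -/
theorem wOf_char
    (hW2 : ∀ (Q R : Type u) [Group Q] [Group R] [Finite Q], IsPGroup p Q → ∀ φ : Q ≃* R,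
      (W Q).map φ.toMonoidHom = W R)
    {Ω : Type u} [Group Ω] {T : Subgroup Ω} [Finite T] (hT : IsPGroup p T) :
    ((wOf W T).subgroupOf T).Characteristic := by
  have e : (wOf W T).subgroupOf T = W ↥T := by
    unfold wOf
    exact Subgroup.comap_map_eq_self_of_injective T.subtype_injective _
  rw [e]
  rw [Subgroup.characteristic_iff_map_eq]
  intro α
  exact hW2 ↥T ↥T hT α

/-- a map of `F` defined on `S` is a map of `N_F(W(S))` -/
theorem top_mem_normalizerHom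
    (hW2 : ∀ (Q R : Type u) [Group Q] [Group R] [Finite Q], IsPGroup p Q → ∀ φ : Q ≃* R,
      (W Q).map φ.toMonoidHom = W R)
    {Ω : Type u} [Group Ω] {S : Subgroup Ω} [Finite S] (hS : IsPGroup p S) (F : FusionSystem S)
    {ψ : S →* Ω} (hψ : ψ ∈ F.Hom S) : ψ ∈ F.normalizerHom (wOf W S) S := by
  have hSN : S ≤ normalizerIn S (wOf W S) := fun s hs =>
    ⟨hs, normalizer_le_normalizer_wOf hW2 hS (Subgroup.le_normalizer hs)⟩
  apply mem_normalizerHom_of_le F (wOf_le S) hSN hψ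
  intro x hx
  -- `ψ` is an automorphism of `S`
  have hval := (F.le_of_mem hψ).2
  have hinj : Function.Injective (ψ.codRestrict S hval) := fun a b hab =>
    F.injective_of_mem hψ (congrArg Subtype.val hab)
  have hbij : Function.Bijective (ψ.codRestrict S hval) :=
    ⟨hinj, Finite.surjective_of_injective hinj⟩
  obtain ⟨α, hα⟩ : ∃ α : S ≃* S, α = MulEquiv.ofBijective _ hbij := ⟨_, rfl⟩
  have h := hW2 ↥S ↥S hS α
  obtain ⟨hxS, hxW⟩ := mem_wOf.mp hx
  have h1 : α ⟨x, hxS⟩ ∈ (W ↥S).map α.toMonoidHom := ⟨⟨x, hxS⟩, hxW, rfl⟩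
  rw [h] at h1
  have h2 : ((α ⟨x, hxS⟩ : S) : Ω) = ψ ⟨x, wOf_le S hx⟩ := by rw [hα]; rfl
  rw [← h2]
  exact mem_wOf.mpr ⟨(α ⟨x, hxS⟩).2, h1⟩

/-- conjugations by elements of `S` are trivial modulo `D` -/
theorem ctl_conj
    (hW2 : ∀ (Q R : Type u) [Group Q] [Group R] [Finite Q], IsPGroup p Q → ∀ φ : Q ≃* R,
      (W Q).map φ.toMonoidHom = W R)
    {Ω : Type u} [Group Ω] {S : Subgroup Ω} [Finite S] (hS : IsPGroup p S) (F : FusionSystem S)
    {D : Subgroup Ω} (hctl : Ctl W F D) {P : Subgroup Ω} {g : Ω} (hP : P ≤ S) (hg : g ∈ S) :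
    TrivMod D (conjHom P g) := by
  have h1 := hctl S _ (top_mem_normalizerHom hW2 hS F (F.conj_mem le_rfl hg))
  intro x
  have := h1 ⟨x, hP x.2⟩
  rw [conjHom_apply] at this ⊢
  exact this

/-- every map of `F` defined on a subgroup of `S` which extends to `S` is trivial modulo `D` -/
theorem ctl_of_top
    (hW2 : ∀ (Q R : Type u) [Group Q] [Group R] [Finite Q], IsPGroup p Q → ∀ φ : Q ≃* R,
      (W Q).map φ.toMonoidHom = W R)
    {Ω : Type u} [Group Ω] {S : Subgroup Ω} [Finite S] (hS : IsPGroup p S) (F : FusionSystem S)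
    {D : Subgroup Ω} (hctl : Ctl W F D) {ψ : S →* Ω} (hψ : ψ ∈ F.Hom S) : TrivMod D ψ :=
  hctl S ψ (top_mem_normalizerHom hW2 hS F hψ)

/-- the control hypothesis passes to subsystems on subgroups `T`, given the claim for `W(T)` -/
theorem ctl_of_sub {Ω : Type u} [Group Ω] {S T : Subgroup Ω} (F : FusionSystem S)
    (F' : FusionSystem T) (hsub : ∀ P : Subgroup Ω, F'.Hom P ⊆ F.Hom P) (hTS : T ≤ S)
    {D : Subgroup Ω}
    (h : ∀ (A : Subgroup Ω) (φ : A →* Ω), φ ∈ F.normalizerHom (wOf W T) A → TrivMod D φ) :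
    Ctl W F' D := fun A φ hφ => h A φ (normalizerHom_of_sub F F' hsub hTS hφ)

/-- the control hypothesis passes to subsystems on the same group -/
theorem ctl_of_sub_eq {Ω : Type u} [Group Ω] {S T : Subgroup Ω} (F : FusionSystem S)
    (F' : FusionSystem T) (hsub : ∀ P : Subgroup Ω, F'.Hom P ⊆ F.Hom P) (hTS : T = S)
    {D : Subgroup Ω} (hctl : Ctl W F D) : Ctl W F' D := by
  subst hTS
  exact ctl_of_sub F F' hsub le_rfl hctl

end functor

end Cfsg.Agent.Helper3.CT
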