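import Mathlib
import Cfsg.Agent.Lib.Helper3.CtlTr1
import Cfsg.Agent.Lib.Helper3.ThFac4
import Cfsg.Agent.Lib.Helper1.Focal

/-!
# Control of transfer: the constrained (local) step
-/

set_option autoImplicit false
set_option linter.style.haveILetI false
set_option linter.unusedSectionVars false

namespace Cfsg.Agent.Helper3.CT

open Cfsg Cfsg.FusionSystem Cfsg.Agent.Helper25 Cfsg.Agent.Helper3.KL Cfsg.Agent.Helper3.Model
  Cfsg.Agent.Helper3.TF

open scoped commutatorElement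

universe u

variable {W : ∀ (Q : Type u) [Group Q], Subgroup Q} {p : ℕ} [Fact p.Prime]

/-- **The constrained step.** In a constrained system whose maps in `N_F(W(S))` are trivial modulo
`D`, the maps defined on a subgroup normal in the system are trivial modulo `D`. -/
theorem trivMod_of_constrained
    (hW2 : ∀ (Q R : Type u) [Group Q] [Group R] [Finite Q], IsPGroup p Q → ∀ φ : Q ≃* R,
      (W Q).map φ.toMonoidHom = W R)
    (hT : ∀ (G : Type u) [Group G] [Finite G] (P : Sylow p G), Subgroup.centralizer ((Cfsg.pCore p G : Subgroup G) : Set G) ≤ Cfsg.pCore p G → Cfsg.pCore p G ⊓ commutator G = Cfsg.pCore p G ⊓ (commutator ↥(Subgroup.normalizer (((W ↥(P : Subgroup G)).map (P : Subgroup G).subtype : Subgroup G) : Set G))).map (Subgroup.normalizer (((W ↥(P : Subgroup G)).map (P : Subgroup G).subtype : Subgroup G) : Set G)).subtype)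
    {Ω : Type u} [Group Ω] {S : Subgroup Ω} [Finite S] (hS : IsPGroup p S) (F : FusionSystem S)
    (hF : F.IsConstrained p) {D : Subgroup Ω} (hctl : Ctl W F D) {U : Subgroup Ω}
    (hU : F.IsNormal U) {φ : U →* Ω} (hφ : φ ∈ F.Hom U) : TrivMod D φ := by
  obtain ⟨G, _, ι, hm⟩ := exists_model p hS F hF
  have hUn := normal_map_of_isNormal_of_isModel p F ι hm hU
  obtain ⟨hfin, hreal, ⟨P₀, hP₀⟩, hcen⟩ := hm
  haveI := hfin
  have hι := hreal.1
  have hUS := hU.1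
  have hφS := (F.le_of_mem hφ).2
  obtain ⟨g, hg⟩ := (hreal.2 U hUS φ hφS).mp hφ
  have hsc := stronglyClosed_of_isNormal F hU
  intro x
  have hφU : φ x ∈ U := hsc.2 U le_rfl φ hφ x
  have hyU : (x : Ω)⁻¹ * φ x ∈ U := U.mul_mem (U.inv_mem x.2) hφU
  have hyS : (x : Ω)⁻¹ * φ x ∈ S := hUS hyU
  obtain ⟨y, hy⟩ : ∃ y : G, y = ι ⟨(x : Ω)⁻¹ * φ x, hyS⟩ := ⟨_, rfl⟩
  have hy1 : y = ⁅(ι ⟨x, hUS x.2⟩)⁻¹, g⁆ := by
    rw [commutatorElement_def, hy]
    have e : (⟨(x : Ω)⁻¹ * φ x, hyS⟩ : S) = ⟨x, hUS x.2⟩⁻¹ * ⟨φ x, hφS x⟩ := Subtype.ext rfl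
    rw [e, map_mul, map_inv, hg x]
    group
  have hyc : y ∈ commutator G := by
    rw [hy1, commutator_def]
    exact Subgroup.commutator_mem_commutator (Subgroup.mem_top _) (Subgroup.mem_top _)
  have hUp : IsPGroup p ((U.subgroupOf S).map ι) := (hS.to_subgroup _).map ι
  have hyK : y ∈ pCore p G := by
    apply le_pCore hUn hUp
    rw [hy]
    exact ⟨_, Subgroup.mem_subgroupOf.mpr hyU, rfl⟩
  obtain ⟨M, hM⟩ : ∃ M : Subgroup G, M = Subgroup.normalizer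
      (((W ↥(P₀ : Subgroup G)).map (P₀ : Subgroup G).subtype : Subgroup G) : Set G) := ⟨_, rfl⟩
  have hTeq := hT G P₀ hcen
  rw [← hM] at hTeq
  have hyM : y ∈ (commutator ↥M).map M.subtype := by
    have h0 : y ∈ pCore p G ⊓ commutator G := ⟨hyK, hyc⟩
    rw [hTeq] at h0
    exact h0.2
  have hP₀p : IsPGroup p (P₀ : Subgroup G) := P₀.isPGroup'
  have hP₀M : (P₀ : Subgroup G) ≤ M := by
    rw [hM]
    exact Subgroup.le_normalizer.trans (normalizer_le_normalizer_wOf hW2 hP₀p)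
  -- the image of `W(S)`
  have hWS : ((wOf W S).subgroupOf S).map ι = wOf W (P₀ : Subgroup G) := by
    have e : (wOf W S).subgroupOf S = W ↥S := by
      unfold wOf
      exact Subgroup.comap_map_eq_self_of_injective S.subtype_injective _
    rw [e, wOf_range hW2 hS ι hι, hP₀]
  have hMn : ∀ u ∈ M, ∀ z ∈ wOf W (P₀ : Subgroup G), u * z * u⁻¹ ∈ wOf W (P₀ : Subgroup G) := by
    intro u hu z hz
    rw [hM] at hu
    exact (Subgroup.mem_normalizer_iff.mp hu z).mp hz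
  have hXS : wOf W S ≤ S := wOf_le S
  have hSX : S ≤ Subgroup.normalizer ((wOf W S : Subgroup Ω) : Set Ω) :=
    Subgroup.le_normalizer.trans (normalizer_le_normalizer_wOf hW2 hS)
  obtain ⟨DG, hDG⟩ : ∃ DG : Subgroup G, DG = (D.subgroupOf S).map ι := ⟨_, rfl⟩
  -- the focal subgroup of `P₀` in `M`
  have hfoc : Subgroup.focalSubgroup ((P₀ : Subgroup G).subgroupOf M) ≤ DG.subgroupOf M := by
    apply Cfsg.Agent.Helper1.focalSubgroup_le_of_forall
    intro a ha u hu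
    rw [Subgroup.mem_subgroupOf] at ha hu ⊢
    rw [hP₀] at ha
    obtain ⟨s, hs⟩ := ha
    -- conjugation by `u` on the cyclic group generated by `s`
    have hPs : Subgroup.zpowers (s : Ω) ≤ S := (Subgroup.zpowers_le).mpr s.2
    have hn : ∀ x : Subgroup.zpowers (s : Ω), (u : G) * ι ⟨x, hPs x.2⟩ * (u : G)⁻¹ ∈ ι.range := by
      rintro ⟨_, k, rfl⟩
      have e : (⟨(s : Ω) ^ k, hPs ⟨k, rfl⟩⟩ : S) = s ^ k := Subtype.ext (by simp)
      rw [e, map_zpow, hs]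
      have e2 : (u : G) * (a : G) ^ k * (u : G)⁻¹ = ((u : G) * (a : G) * (u : G)⁻¹) ^ k := by
        rw [conj_zpow]
      rw [e2, ← hP₀]
      exact Subgroup.zpow_mem _ hu k
    have hnX : ∀ x : wOf W S, (u : G) * ι ⟨x, hXS x.2⟩ * (u : G)⁻¹ ∈
        ((wOf W S).subgroupOf S).map ι := by
      intro x
      rw [hWS]
      apply hMn u u.2
      rw [← hWS]
      exact ⟨_, Subgroup.mem_subgroupOf.mpr x.2, rfl⟩
    have hnX' : ∀ x : wOf W S, (u : G)⁻¹ * ι ⟨x, hXS x.2⟩ * (u : G) ∈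
        ((wOf W S).subgroupOf S).map ι := by
      intro x
      rw [hWS]
      have := hMn (u : G)⁻¹ (M.inv_mem u.2) (ι ⟨x, hXS x.2⟩) (by
        rw [← hWS]
        exact ⟨_, Subgroup.mem_subgroupOf.mpr x.2, rfl⟩)
      rwa [inv_inv] at this
    obtain ⟨φu, hφu, hφuS, hιφu⟩ := exists_normalizerHom_of_conj F hreal hPs hXS hSX (u : G) hn
      hnX hnX'
    have hsinv : (s : Ω)⁻¹ ∈ Subgroup.zpowers (s : Ω) :=
      Subgroup.inv_mem _ (Subgroup.mem_zpowers _)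
    have h1 := hctl _ φu hφu ⟨(s : Ω)⁻¹, hsinv⟩
    have h2 := hιφu ⟨(s : Ω)⁻¹, hsinv⟩
    have hmemS : ((⟨(s : Ω)⁻¹, hsinv⟩ : Subgroup.zpowers (s : Ω)) : Ω)⁻¹ * φu ⟨(s : Ω)⁻¹, hsinv⟩ ∈ S :=
      S.mul_mem (S.inv_mem (S.inv_mem s.2)) (hφuS _)
    rw [hDG]
    refine ⟨⟨_, hmemS⟩, Subgroup.mem_subgroupOf.mpr h1, ?_⟩
    have e : (⟨((⟨(s : Ω)⁻¹, hsinv⟩ : Subgroup.zpowers (s : Ω)) : Ω)⁻¹ * φu ⟨(s : Ω)⁻¹, hsinv⟩,
        hmemS⟩ : S) = s * ⟨φu ⟨(s : Ω)⁻¹, hsinv⟩, hφuS _⟩ := by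
      apply Subtype.ext
      show ((s : Ω)⁻¹)⁻¹ * _ = (s : Ω) * _
      rw [inv_inv]
    rw [e, map_mul, h2]
    have e2 : (⟨((⟨(s : Ω)⁻¹, hsinv⟩ : Subgroup.zpowers (s : Ω)) : Ω), hPs hsinv⟩ : S) = s⁻¹ :=
      Subtype.ext rfl
    rw [e2, map_inv, hs]
    show (a : G) * ((u : G) * (a : G)⁻¹ * (u : G)⁻¹) = ((a * (u * a * u⁻¹)⁻¹ : ↥M) : G)
    push_cast
    group
  -- conclusion
  have hyP : y ∈ (P₀ : Subgroup G) := by
    rw [hP₀, hy]
    exact ⟨_, rfl⟩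
  obtain ⟨m, hm, hmy⟩ := hyM
  have hm1 : m ∈ commutator ↥M ⊓ (P₀.subtype hP₀M : Sylow p ↥M) := by
    refine ⟨hm, ?_⟩
    show m ∈ ((P₀.subtype hP₀M : Sylow p ↥M) : Subgroup ↥M)
    rw [Sylow.coe_subtype, Subgroup.mem_subgroupOf]
    have : (m : G) = y := hmy
    rw [this]
    exact hyP
  rw [Subgroup.commutator_inf_eq_focalSubgroup] at hm1
  have hm2 : m ∈ Subgroup.focalSubgroup ((P₀ : Subgroup G).subgroupOf M) := by
    have e : ((P₀.subtype hP₀M : Sylow p ↥M) : Subgroup ↥M) = (P₀ : Subgroup G).subgroupOf M :=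
      Sylow.coe_subtype _ _
    rw [← e]
    exact hm1
  have hm3 := hfoc hm2
  rw [Subgroup.mem_subgroupOf] at hm3
  have hmy' : (m : G) = y := hmy
  rw [hmy', hDG] at hm3
  obtain ⟨d, hd, hdy⟩ := hm3
  rw [hy] at hdy
  have := hι hdy
  have hd' : (d : Ω) ∈ D := Subgroup.mem_subgroupOf.mp hd
  rw [this] at hd'
  exact hd'

end Cfsg.Agent.Helper3.CT
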