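import Mathlib
import Cfsg.Agent.Lib.Helper3.ThFac5
import Cfsg.Agent.Lib.Helper3.KLLocal
import Cfsg.Agent.Lib.Helper25.FusionModel2
import Cfsg.Agent.S5096

/-!
# The case of a normal subgroup containing `Z(S)^p`
-/

set_option autoImplicit false
set_option linter.style.haveILetI false
set_option linter.unusedSectionVars false

namespace Cfsg.Agent.Helper3.TF

open Cfsg Cfsg.FusionSystem Cfsg.Agent.Helper25 Cfsg.Agent.Helper3.KL

universe u

variable {p : ℕ} [Fact p.Prime] {Ω : Type u} [Group Ω] {S S₀ : Subgroup Ω}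

/-- If some subgroup normal in `F` contains `Z(S)^p`, the conclusion holds. -/
theorem subset_of_normal [Finite S] (hS : IsPGroup p S) (F : FusionSystem S)
    (hF : F.IsSaturated p) (E : FusionSystem S₀) (hyp : Hyp p F E) {X : Subgroup Ω}
    (hX : F.IsNormal X)
    (hVX : powerClosure p 1 (S ⊓ Subgroup.centralizer (S : Set Ω)) ≤ X) (A : Subgroup Ω) :
    F.Hom A ⊆ E.Hom A := by
  have hXS : X ≤ S := hX.1
  have hsc := stronglyClosed_of_isNormal F hX
  have hSX : S ≤ Subgroup.normalizer (X : Set Ω) := by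
    intro s hs
    apply mem_normalizer_of_forall
    · intro y hy; exact conj_mem_of_stronglyClosed F hsc hs hy
    · intro y hy; exact conj_mem_of_stronglyClosed' F hsc hs hy
  obtain ⟨R, hR⟩ : ∃ R, R = X ⊔ centralizerIn S X := ⟨_, rfl⟩
  have hRS : R ≤ S := hR ▸ sup_le hXS centralizerIn_le
  have hXR : X ≤ R := hR ▸ le_sup_left
  have hCR : centralizerIn S X ≤ R := hR ▸ le_sup_right
  have hSR : S ≤ Subgroup.normalizer (R : Set Ω) := by
    have key : ∀ s ∈ S, ∀ r ∈ R, s * r * s⁻¹ ∈ R := by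
      intro s hs r hr
      rw [hR] at hr ⊢
      refine sup_induction (C := fun r => s * r * s⁻¹ ∈ X ⊔ centralizerIn S X) ?_ ?_ ?_ hr
      · intro x hx; exact le_sup_left (a := X) (conj_mem_of_stronglyClosed F hsc hs hx)
      · intro c hc
        apply le_sup_right (a := X)
        rw [mem_centralizerIn] at hc ⊢
        refine ⟨S.mul_mem (S.mul_mem hs hc.1) (S.inv_mem hs), fun x hx => ?_⟩
        have hx' : s⁻¹ * x * s ∈ X := conj_mem_of_stronglyClosed' F hsc hs hx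
        have := hc.2 _ hx'
        calc x * (s * c * s⁻¹) = s * ((s⁻¹ * x * s) * c) * s⁻¹ := by group
          _ = s * (c * (s⁻¹ * x * s)) * s⁻¹ := by rw [this]
          _ = s * c * s⁻¹ * x := by group
      · intro a b _ _ ha hb
        have e : s * (a * b) * s⁻¹ = (s * a * s⁻¹) * (s * b * s⁻¹) := by group
        rw [e]; exact Subgroup.mul_mem _ ha hb
    intro s hs
    apply mem_normalizer_of_forall (key s hs)
    intro r hr
    have := key s⁻¹ (S.inv_mem hs) r hr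
    rwa [inv_inv] at this
  haveI : Finite R := finite_of_le_finite hRS
  -- `R` is weakly closed
  have hRwc : ∀ χ : R →* Ω, χ ∈ F.Hom R → χ.range = R := by
    intro χ hχ
    have hχS := (F.le_of_mem hχ).2
    have hχinj := F.injective_of_mem hχ
    have hχX : ∀ (x : Ω) (hx : x ∈ X), χ ⟨x, hXR hx⟩ ∈ X := by
      intro x hx
      exact hsc.2 X le_rfl (χ.comp (Subgroup.inclusion hXR)) (restrict_mem F hXR hχ) ⟨x, hx⟩
    have hχXsurj : ∀ y ∈ X, ∃ (x : Ω) (hx : x ∈ X), χ ⟨x, hXR hx⟩ = y := by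
      have hr := range_eq_of_isNormal F hX (restrict_mem F hXR hχ)
      intro y hy
      rw [← hr] at hy
      obtain ⟨x, rfl⟩ := hy
      exact ⟨x, x.2, rfl⟩
    have hle : χ.range ≤ R := by
      rintro _ ⟨r, rfl⟩
      have key : ∀ z : Ω, z ∈ X ⊔ centralizerIn S X → ∀ hz : z ∈ R, χ ⟨z, hz⟩ ∈ R := by
        intro z hz
        refine sup_induction (C := fun z => ∀ hz : z ∈ R, χ ⟨z, hz⟩ ∈ R) ?_ ?_ ?_ hz
        · intro x hx hz'; exact hXR (hχX x hx)
        · intro c hc hz'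
          apply hCR
          rw [mem_centralizerIn]
          refine ⟨hχS _, fun y hy => ?_⟩
          obtain ⟨x, hx, rfl⟩ := hχXsurj y hy
          rw [← map_mul, ← map_mul]
          congr 1
          apply Subtype.ext
          exact (mem_centralizerIn.mp hc).2 x hx
        · intro a b ha hb hCa hCb hz'
          have ha' : a ∈ R := by rw [hR]; exact ha
          have hb' : b ∈ R := by rw [hR]; exact hb
          have e : (⟨a * b, hz'⟩ : R) = ⟨a, ha'⟩ * ⟨b, hb'⟩ := Subtype.ext rfl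
          rw [e, map_mul]
          exact R.mul_mem (hCa ha') (hCb hb')
      exact key r.1 (by rw [← hR]; exact r.2) r.2
    apply Subgroup.eq_of_le_of_card_ge hle
    exact (Nat.card_congr (MonoidHom.ofInjective hχinj).toEquiv).le
  have hRc : F.IsCentric R := by
    refine ⟨hRS, ?_⟩
    rintro R' ⟨χ, hχ, rfl⟩
    rw [hRwc χ hχ]
    intro c hc
    apply hCR
    rw [mem_centralizerIn] at hc ⊢
    exact ⟨hc.1, fun x hx => hc.2 x (hXR hx)⟩
  have hRfn : F.IsFullyNormalized R := isFullyNormalized_of_normal F hRS hSR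
  -- the normalizer system of `R`
  obtain ⟨F'', hF''⟩ := Cfsg.Agent.S5096.result F R hRS
  have hsat'' := normalizerSystem_isSaturated p hS F hF hRfn F'' hF''
  have hcons : F''.IsConstrained p := ⟨hsat'', R, normalizerSystem_isNormal F hRS F'' hF'',
    normalizerSystem_isCentric F hRc F'' hF''⟩
  have hNR : normalizerIn S R = S := normalizerIn_eq_of_le hSR
  have hsub'' : ∀ P : Subgroup Ω, F''.Hom P ⊆ F.Hom P := fun P φ hφ => by
    rw [hF'' P] at hφ; exact hφ.1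
  have hyp'' : Hyp p F'' E := by
    apply hyp_of_sub p F F'' E hsub'' normalizerIn_le ?_ hyp.1 ?_
    · rw [hNR]; exact inf_le_left
    · rw [hNR]; exact hyp.2
  haveI : Finite ↥(normalizerIn S R) := finite_of_le_finite normalizerIn_le
  have hS'' : IsPGroup p ↥(normalizerIn S R) := hS.to_le normalizerIn_le
  have hF''E := subset_of_constrained hS'' F'' hcons E hyp''
  -- the main argument
  intro φ hφ
  obtain ⟨φ', hφ', hagree, hmapX⟩ := hX.2 A φ hφ
  have hAS := (F.le_of_mem hφ).1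
  have hφ'S := (F.le_of_mem hφ').2
  obtain ⟨β₀, hβ₀⟩ : ∃ β₀ : X →* Ω, β₀ = φ'.comp (Subgroup.inclusion le_sup_right) := ⟨_, rfl⟩
  have hβ₀v : ∀ x : X, β₀ x = φ' ⟨x, le_sup_right (a := A) x.2⟩ := fun x => by rw [hβ₀]; rfl
  have hβ₀F : β₀ ∈ F.Hom X := hβ₀ ▸ restrict_mem F le_sup_right hφ'
  have hβ₀r : β₀.range = X := range_eq_of_isNormal F hX hβ₀F
  have hXfn : F.IsFullyNormalized X := isFullyNormalized_of_normal F hXS hSX
  obtain ⟨-, -, hXrec⟩ := of_fullyNormalized p hS F hF hXfn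
  obtain ⟨βt, hβt, hβtext⟩ := hXrec.2 X β₀ hβ₀F hβ₀r
  have hAXN : A ⊔ X ≤ extender S X β₀ := by
    intro g hg
    rw [mem_extender_iff]
    have hgS : g ∈ S := (sup_le hAS hXS) hg
    refine ⟨hgS, hSX hgS, φ' ⟨g, hg⟩, hφ'S _, fun x hx => ?_⟩
    rw [hβ₀v, hβ₀v, ← map_inv, ← map_mul, ← map_mul]
    congr 1
  have hCN : centralizerIn S X ≤ extender S X β₀ := centralizerIn_le_extender β₀
  have hRN : R ≤ extender S X β₀ := by
    rw [hR]
    exact sup_le (le_sup_right.trans hAXN) hCN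
  have hNS : extender S X β₀ ≤ S := extender_le S β₀
  have hβtS := (F.le_of_mem hβt).2
  have hβtn : βt ∈ F.normalizerHom R (extender S X β₀) := by
    have hle : extender S X β₀ ⊔ R ≤ extender S X β₀ := sup_le le_rfl hRN
    refine ⟨hβt, fun g hg => ⟨hNS hg, hSR (hNS hg)⟩, fun x => ⟨hβtS x, hSR (hβtS x)⟩,
      βt.comp (Subgroup.inclusion hle), restrict_mem F hle hβt,
      fun x => congrArg βt (Subtype.ext rfl), ?_⟩
    have hρ := hRwc (βt.comp (Subgroup.inclusion hRN)) (restrict_mem F hRN hβt)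
    ext y
    rw [mem_map_subgroupOf]
    constructor
    · rintro ⟨r, hrK, hrR, rfl⟩
      exact hρ.le ⟨⟨r, hrR⟩, congrArg βt (Subtype.ext rfl)⟩
    · intro hy
      obtain ⟨r, rfl⟩ := hρ.ge hy
      exact ⟨r, le_sup_right (a := extender S X β₀) r.2, r.2, congrArg βt (Subtype.ext rfl)⟩
  have hβtE : βt ∈ E.Hom (extender S X β₀) := hF''E _ (by rw [hF'' _]; exact hβtn)
  obtain ⟨β₁, hβ₁⟩ : ∃ β₁ : ↥(A ⊔ X) →* Ω, β₁ = βt.comp (Subgroup.inclusion hAXN) := ⟨_, rfl⟩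
  have hβ₁v : ∀ x : ↥(A ⊔ X), β₁ x = βt ⟨x, hAXN x.2⟩ := fun x => by rw [hβ₁]; rfl
  have hβ₁F : β₁ ∈ F.Hom (A ⊔ X) := hβ₁ ▸ restrict_mem F hAXN hβt
  have hβ₁E : β₁ ∈ E.Hom (A ⊔ X) := hβ₁ ▸ restrict_mem E hAXN hβtE
  have hβ₁r : ∀ x : ↥(A ⊔ X), β₁ x ∈ β₁.range := fun x => ⟨x, rfl⟩
  have hβ₁X : ∀ (x : Ω) (hx : x ∈ X), β₁ ⟨x, le_sup_right (a := A) hx⟩ =
      φ' ⟨x, le_sup_right (a := A) hx⟩ := by
    intro x hx
    rw [hβ₁v, hβtext x hx, hβ₀v]
  obtain ⟨γ, hγ, hγinv, hγr⟩ := exists_inv F hβ₁F rfl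
  have hγK : ∀ y : β₁.range, γ y ∈ A ⊔ X := fun y => by
    have : γ y ∈ γ.range := ⟨y, rfl⟩
    rwa [hγr] at this
  obtain ⟨θ, hθ⟩ : ∃ θ : β₁.range →* Ω, θ = φ'.comp (γ.codRestrict (A ⊔ X) hγK) := ⟨_, rfl⟩
  have hθF : θ ∈ F.Hom β₁.range := hθ ▸ F.comp_mem hγ hφ' hγK
  have hθv : ∀ (x : ↥(A ⊔ X)) (h : β₁ x ∈ β₁.range), θ ⟨β₁ x, h⟩ = φ' x := by
    intro x h
    have e : (γ.codRestrict (A ⊔ X) hγK) ⟨β₁ x, h⟩ = x := Subtype.ext (hγinv x h)
    rw [hθ]
    show φ' ((γ.codRestrict (A ⊔ X) hγK) ⟨β₁ x, h⟩) = φ' x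
    rw [e]
  -- `θ` fixes `X` pointwise
  have hXrange : ∀ v ∈ X, ∃ (x₀ : Ω) (hx₀ : x₀ ∈ X), β₁ ⟨x₀, le_sup_right (a := A) hx₀⟩ = v ∧
      φ' ⟨x₀, le_sup_right (a := A) hx₀⟩ = v := by
    intro v hv
    rw [← hβ₀r] at hv
    obtain ⟨x₀, rfl⟩ := hv
    exact ⟨x₀, x₀.2, (hβ₁X x₀ x₀.2).trans (hβ₀v x₀).symm, (hβ₀v x₀).symm⟩
  obtain ⟨V₀, hV₀⟩ : ∃ V₀ : Subgroup Ω,
      V₀ = powerClosure p 1 (S ⊓ Subgroup.centralizer (S : Set Ω)) := ⟨_, rfl⟩
  rw [← hV₀] at hVX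
  have hV₀r : V₀ ≤ β₁.range := by
    intro v hv
    obtain ⟨x₀, hx₀, h1, -⟩ := hXrange v (hVX hv)
    rw [← h1]
    exact hβ₁r _
  have hθfix : ∀ (v : Ω) (hv : v ∈ V₀), θ ⟨v, hV₀r hv⟩ = v := by
    intro v hv
    obtain ⟨x₀, hx₀, h1, h2⟩ := hXrange v (hVX hv)
    have e : (⟨v, hV₀r hv⟩ : β₁.range) = ⟨β₁ ⟨x₀, le_sup_right (a := A) hx₀⟩, hβ₁r _⟩ :=
      Subtype.ext h1.symm
    rw [e, hθv, h2]
  have hSV₀ : S ≤ Subgroup.centralizer (V₀ : Set Ω) := by
    intro s hs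
    rw [Subgroup.mem_centralizer_iff]
    intro v hv
    have hvZ : v ∈ S ⊓ Subgroup.centralizer (S : Set Ω) := by
      rw [hV₀] at hv
      exact powerClosure_le p 1 _ hv
    exact (Subgroup.mem_centralizer_iff.mp hvZ.2 s hs).symm
  have hθS := (F.le_of_mem hθF).2
  have hrS : β₁.range ≤ S := (F.le_of_mem hθF).1
  have hθc : θ ∈ F.centralizerHom V₀ β₁.range := by
    have hle : β₁.range ⊔ V₀ ≤ β₁.range := sup_le le_rfl hV₀r
    refine ⟨hθF, fun g hg => ⟨hrS hg, hSV₀ (hrS hg)⟩, fun x => ⟨hθS x, hSV₀ (hθS x)⟩,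
      θ.comp (Subgroup.inclusion hle), restrict_mem F hle hθF,
      fun x => congrArg θ (Subtype.ext rfl), fun v => ?_⟩
    have := hθfix v v.2
    rw [← this]
    exact congrArg θ (Subtype.ext rfl)
  have hθE : θ ∈ E.Hom β₁.range := by
    apply hyp.1
    rw [← hV₀]
    exact hθc
  have hcomp := E.comp_mem hβ₁E hθE hβ₁r
  have heq : θ.comp (β₁.codRestrict β₁.range hβ₁r) = φ' := by
    ext x
    show θ ⟨β₁ x, hβ₁r x⟩ = φ' x
    rw [hθv]
  rw [heq] at hcomp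
  have hfin := restrict_mem E (le_sup_left : A ≤ A ⊔ X) hcomp
  have : φ'.comp (Subgroup.inclusion (le_sup_left : A ≤ A ⊔ X)) = φ := by
    ext x
    exact hagree x
  rwa [this] at hfin

end Cfsg.Agent.Helper3.TF
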