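import Mathlib
import Cfsg.Agent.Lib.Helper3.ThFac6
import Cfsg.Agent.Lib.Helper3.KLLocal2
import Cfsg.Agent.Lib.Helper25.FusionAlperin2
import Cfsg.Agent.Lib.Helper25.FusionSat4

/-!
# `F = ⟨C_F(Z(S)^p), N_F(J(S))⟩`: the induction
-/

set_option autoImplicit false
set_option linter.style.haveILetI false
set_option linter.unusedSectionVars false

namespace Cfsg.Agent.Helper3.TF

open Cfsg Cfsg.FusionSystem Cfsg.Agent.Helper25 Cfsg.Agent.Helper3.KL

universe u

section aux

variable {Ω : Type*} [Group Ω] {S : Subgroup Ω}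

/-- conjugations by elements of `S` are maps of `C_F(V)` for `V ≤ Z(S)` -/
theorem conjHom_mem_centralizerHom (F : FusionSystem S) {V P : Subgroup Ω} (hVS : V ≤ S)
    (hSV : S ≤ Subgroup.centralizer (V : Set Ω)) (hP : P ≤ S) {g : Ω} (hg : g ∈ S) :
    conjHom P g ∈ F.centralizerHom V P := by
  have hSC : S ≤ centralizerIn S V := fun s hs => ⟨hs, hSV hs⟩
  have hle : P ⊔ V ≤ S := sup_le hP hVS
  refine ⟨F.conj_mem hP hg, hP.trans hSC, fun x => hSC ?_, conjHom (P ⊔ V) g,
    F.conj_mem hle hg, fun x => rfl, fun v => ?_⟩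
  · rw [conjHom_apply]
    exact S.mul_mem (S.mul_mem hg (hP x.2)) (S.inv_mem hg)
  · rw [conjHom_apply]
    show g * (v : Ω) * g⁻¹ = v
    have := Subgroup.mem_centralizer_iff.mp (hSV hg) v v.2
    rw [← this, mul_inv_cancel_right]

/-- automorphisms of `S` are maps of `N_F(J(S))` -/
theorem aut_top_mem_normalizerHom (F : FusionSystem S) {α : MulAut S} (hα : α ∈ F.autGroup S) :
    S.subtype.comp α.toMonoidHom ∈ F.normalizerHom (thompsonSubgroupAOf S) S := by
  have hαF := (mem_autGroup_iff F le_rfl α).mp hα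
  have hJS : thompsonSubgroupAOf S ≤ S := jOf_le S
  have hSJ : S ≤ Subgroup.normalizer ((thompsonSubgroupAOf S : Subgroup Ω) : Set Ω) :=
    le_normalizer_of_char (jOf_le S) (jOf_char S)
  have hSN : S ≤ normalizerIn S (thompsonSubgroupAOf S) := fun s hs => ⟨hs, hSJ hs⟩
  have hle : S ⊔ thompsonSubgroupAOf S ≤ S := sup_le le_rfl hJS
  have hchar := Subgroup.characteristic_iff_map_eq.mp (jOf_char S) α
  refine ⟨hαF, hSN, fun x => hSN (α x).2, (S.subtype.comp α.toMonoidHom).comp (Subgroup.inclusion hle),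
    restrict_mem F hle hαF, fun x => ?_, ?_⟩
  · show ((α _ : S) : Ω) = ((α x : S) : Ω)
    congr 2
  · ext y
    rw [mem_map_subgroupOf]
    constructor
    · rintro ⟨x, hxK, hxJ, rfl⟩
      have h1 : α ⟨x, hle hxK⟩ ∈ ((thompsonSubgroupAOf S).subgroupOf S).map α.toMonoidHom :=
        ⟨⟨x, hle hxK⟩, Subgroup.mem_subgroupOf.mpr hxJ, rfl⟩
      rw [hchar] at h1
      exact Subgroup.mem_subgroupOf.mp h1
    · intro hy
      have h1 : (⟨y, hJS hy⟩ : S) ∈ (thompsonSubgroupAOf S).subgroupOf S :=
        Subgroup.mem_subgroupOf.mpr hy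
      rw [← hchar] at h1
      obtain ⟨x, hx, hxy⟩ := h1
      refine ⟨(x : Ω), le_sup_left (b := thompsonSubgroupAOf S) x.2, Subgroup.mem_subgroupOf.mp hx, ?_⟩
      show ((α (Subgroup.inclusion hle ⟨(x : Ω), _⟩) : S) : Ω) = y
      have e : Subgroup.inclusion hle ⟨(x : Ω), le_sup_left (b := thompsonSubgroupAOf S) x.2⟩ = x :=
        Subtype.ext rfl
      rw [e]
      exact congrArg Subtype.val hxy

end aux

section main

variable {p : ℕ} [Fact p.Prime] {Ω : Type u} [Group Ω]

/-- the inductive statement -/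
def Main (p : ℕ) {S₀ : Subgroup Ω} (E : FusionSystem S₀) (k : ℕ) : Prop :=
  ∀ (T : Subgroup Ω) (F' : FusionSystem T), Finite T → IsPGroup p T → F'.IsSaturated p →
    (graphSet F').ncard ≤ k → Hyp p F' E → ∀ P : Subgroup Ω, F'.Hom P ⊆ E.Hom P

variable {S S₀ : Subgroup Ω}

/-- the maps of `N_F(J(T))` lie in `E`, by descending induction on `T` -/
theorem claimZ [Finite S] (hS : IsPGroup p S) (F : FusionSystem S) (hF : F.IsSaturated p)
    (E : FusionSystem S₀) (hyp : Hyp p F E) (k : ℕ) (IH : Main p E k)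
    (hk : (graphSet F).ncard ≤ k + 1) (m : ℕ)
    (hPm : ∀ (A : Subgroup Ω) (φ : A →* Ω), φ ∈ F.Hom A → m + 1 ≤ Nat.card A → φ ∈ E.Hom A) :
    ∀ (d : ℕ) (T : Subgroup Ω), T ≤ S → S ⊓ Subgroup.centralizer (S : Set Ω) ≤ T →
      m + 1 ≤ Nat.card T → Nat.card S - Nat.card T ≤ d →
      ∀ (A : Subgroup Ω) (φ : A →* Ω), φ ∈ F.normalizerHom (thompsonSubgroupAOf T) A →
        φ ∈ E.Hom A := by
  intro d
  induction d with
  | zero =>
    intro T hTS hZT hmT hd A φ hφ
    have hcard : Nat.card S ≤ Nat.card T := by omega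
    have hTeq : T = S := Subgroup.eq_of_le_of_card_ge hTS hcard
    subst hTeq
    exact hyp.2 A φ hφ
  | succ d ih =>
    intro T hTS hZT hmT hd A φ hφ
    by_cases hTeq : T = S
    · subst hTeq
      exact hyp.2 A φ hφ
    haveI : Finite T := finite_of_le_finite hTS
    have hTp : IsPGroup p T := hS.to_le hTS
    obtain ⟨X, hX⟩ : ∃ X, X = thompsonSubgroupAOf T := ⟨_, rfl⟩
    rw [← hX] at hφ
    have hXT : X ≤ T := hX ▸ jOf_le T
    have hXS : X ≤ S := hXT.trans hTS
    have hnotle : ¬ S ≤ T := fun h => hTeq (le_antisymm hTS h)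
    obtain ⟨s, hsS, hsN, hsT⟩ := exists_mem_normalizer_not_mem_of_not_le hS hTS le_rfl
      (fun g hg v hv => S.mul_mem (S.mul_mem (S.inv_mem hg) hv) hg) hnotle
    have hNN : Subgroup.normalizer (T : Set Ω) ≤ Subgroup.normalizer (X : Set Ω) :=
      normalizer_le_of_char hXT (hX ▸ jOf_char T)
    have hTN : T ≤ normalizerIn S X := fun t ht => ⟨hTS ht, hNN (Subgroup.le_normalizer ht)⟩
    have hsNX : s ∈ normalizerIn S X := ⟨hsS, hNN hsN⟩
    have hlt : Nat.card T < Nat.card (normalizerIn S X) :=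
      card_lt_of_le_of_mem normalizerIn_le hTN hsNX hsT
    obtain ⟨X', hconj, hX'fn⟩ := exists_isConj_fullyNormalized F hXS
    have hX'S : X' ≤ S := hX'fn.1
    obtain ⟨-, hfa, hrec⟩ := of_fullyNormalized p hS F hF hX'fn
    obtain ⟨β, hβF, hβN, -, hβX⟩ := exists_normalizer_map p hS F X' X hfa hrec hconj
    have hβE : β ∈ E.Hom (normalizerIn S X) := hPm _ β hβF (by omega)
    haveI : Finite ↥(normalizerIn S X') := finite_of_le_finite normalizerIn_le
    have hcard' : Nat.card (normalizerIn S X) ≤ Nat.card (normalizerIn S X') := by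
      apply Nat.card_le_card_of_injective (fun x => (⟨β x, hβN x⟩ : ↥(normalizerIn S X')))
      intro x y hxy
      exact F.injective_of_mem hβF (congrArg Subtype.val hxy)
    have hZT' : S ⊓ Subgroup.centralizer (S : Set Ω) ≤ normalizerIn S X' := by
      intro z hz
      refine ⟨hz.1, Subgroup.centralizer_le_normalizer _ ?_⟩
      exact Subgroup.centralizer_le (by exact_mod_cast hX'S) hz.2
    have hT'le : Nat.card (normalizerIn S X') ≤ Nat.card S := Subgroup.card_le_of_le normalizerIn_le
    have hCZ' := ih (normalizerIn S X') normalizerIn_le hZT' (by omega) (by omega)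
    obtain ⟨F', hF'⟩ := Cfsg.Agent.S5096.result F X' hX'S
    have hsat' := normalizerSystem_isSaturated p hS F hF hX'fn F' hF'
    have hsub' : ∀ P : Subgroup Ω, F'.Hom P ⊆ F.Hom P := fun P φ hφ => by
      rw [hF' P] at hφ; exact hφ.1
    have hyp' : Hyp p F' E := hyp_of_sub p F F' E hsub' normalizerIn_le hZT' hyp.1 hCZ'
    have hT'p : IsPGroup p ↥(normalizerIn S X') := hS.to_le normalizerIn_le
    by_cases hc : (graphSet F').ncard ≤ k
    · have hF'E := IH (normalizerIn S X') F' inferInstance hT'p hsat' hc hyp'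
      exact normalizerHom_subset_of_conj F E hXS hβF hβE hβN hβX
        (fun A φ hφ => hF'E A (by rw [hF' A]; exact hφ)) A φ hφ
    · have hall := hom_subset_of_ncard_le F F' hsub' (by omega)
      have hX'n : F.IsNormal X' := by
        refine ⟨hX'S, fun P φ hφ => ?_⟩
        have := hall P hφ
        rw [hF' P] at this
        obtain ⟨-, -, -, ψ, hψ, h1, h2⟩ := this
        exact ⟨ψ, hψ, h1, h2⟩
      obtain ⟨χ, hχ, hχr⟩ := isConj_symm F hconj
      have hXX' : X' = X := by
        rw [← hχr]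
        exact (range_eq_of_isNormal F hX'n hχ).symm
      rw [hXX'] at hX'n
      have hVX : powerClosure p 1 (S ⊓ Subgroup.centralizer (S : Set Ω)) ≤ X := by
        rw [hX]
        exact (powerClosure_le p 1 _).trans ((center_le_center_of_le hTS hZT).trans
          (center_le_thompsonSubgroupAOf T))
      exact subset_of_normal hS F hF E hyp hX'n hVX A hφ.1

/-- the inductive step -/
theorem main_step [Finite S] (hS : IsPGroup p S) (F : FusionSystem S) (hF : F.IsSaturated p)
    (E : FusionSystem S₀) (hyp : Hyp p F E) (k : ℕ) (IH : Main p E k)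
    (hk : (graphSet F).ncard ≤ k + 1) (P : Subgroup Ω) : F.Hom P ⊆ E.Hom P := by
  obtain ⟨V₀, hV₀⟩ : ∃ V₀ : Subgroup Ω,
      V₀ = powerClosure p 1 (S ⊓ Subgroup.centralizer (S : Set Ω)) := ⟨_, rfl⟩
  have hV₀Z : V₀ ≤ S ⊓ Subgroup.centralizer (S : Set Ω) := hV₀ ▸ powerClosure_le p 1 _
  have hV₀S : V₀ ≤ S := hV₀Z.trans inf_le_left
  have hSV₀ : S ≤ Subgroup.centralizer (V₀ : Set Ω) := by
    intro s hs
    rw [Subgroup.mem_centralizer_iff]
    intro v hv
    exact (Subgroup.mem_centralizer_iff.mp (hV₀Z hv).2 s hs).symm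
  have hPm : ∀ j m : ℕ, m + j = Nat.card S + 1 →
      ∀ (A : Subgroup Ω) (φ : A →* Ω), φ ∈ F.Hom A → m ≤ Nat.card A → φ ∈ E.Hom A := by
    intro j
    induction j with
    | zero =>
      intro m hm A φ hφ hmA
      have hAS := (F.le_of_mem hφ).1
      have := Subgroup.card_le_of_le hAS
      omega
    | succ j ihj =>
      intro m hm A φ hφ
      have hPm1 := ihj (m + 1) (by omega)
      refine alperin_induction p hS F hF (fun A φ => m ≤ Nat.card A → φ ∈ E.Hom A) ?_ ?_ ?_ ?_ hφ
      · intro P g hP hg _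
        apply hyp.1
        rw [← hV₀]
        exact conjHom_mem_centralizerHom F hV₀S hSV₀ hP hg
      · intro P Q φ ψ hφ hψ hPφ hPψ h hmP
        have hQS := (F.le_of_mem hψ).1
        haveI : Finite Q := finite_of_le_finite hQS
        have hcard : Nat.card P ≤ Nat.card Q := by
          apply Nat.card_le_card_of_injective (φ.codRestrict Q h)
          intro x y hxy
          exact F.injective_of_mem hφ (congrArg Subtype.val hxy)
        exact E.comp_mem (hPφ hmP) (hPψ (by omega)) h
      · intro P φ hφ hPφ ψ hψ hinv hmr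
        have hinj := F.injective_of_mem hφ
        have hcard : Nat.card P = Nat.card φ.range :=
          Nat.card_congr (MonoidHom.ofInjective hinj).toEquiv
        have hφE := hPφ (by omega)
        obtain ⟨ψ', hψ', hinv'⟩ := E.inv_mem hφE
        have : ψ = ψ' := by
          ext ⟨_, x, rfl⟩
          rw [hinv x, hinv' x]
        rw [this]
        exact hψ'
      · intro Q hQ α hα hmQ
        by_cases hQS' : Q = S
        · subst hQS'
          exact hyp.2 _ _ (aut_top_mem_normalizerHom F hα)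
        have hQess : F.IsEssential p Q := by
          rcases hQ with h | h
          · exact absurd h hQS'
          · exact h
        have hQc := hQess.1
        have hQfn := hQess.2.1
        have hQS : Q ≤ S := hQc.1
        by_cases hbig : m + 1 ≤ Nat.card Q
        · exact hPm1 Q _ ((mem_autGroup_iff F hQS α).mp hα) hbig
        have hnotle : ¬ S ≤ Q := fun h => hQS' (le_antisymm hQS h)
        obtain ⟨s, hsS, hsN, hsQ⟩ := exists_mem_normalizer_not_mem_of_not_le hS hQS le_rfl
          (fun g hg v hv => S.mul_mem (S.mul_mem (S.inv_mem hg) hv) hg) hnotle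
        have hlt : Nat.card Q < Nat.card (normalizerIn S Q) :=
          card_lt_of_le_of_mem normalizerIn_le (le_normalizerIn hQS) ⟨hsS, hsN⟩ hsQ
        have hZT : S ⊓ Subgroup.centralizer (S : Set Ω) ≤ normalizerIn S Q := by
          intro z hz
          refine ⟨hz.1, Subgroup.centralizer_le_normalizer _ ?_⟩
          exact Subgroup.centralizer_le (by exact_mod_cast hQS) hz.2
        have hCZ := claimZ hS F hF E hyp k IH hk m hPm1
          (Nat.card S - Nat.card (normalizerIn S Q)) (normalizerIn S Q) normalizerIn_le hZT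
          (by omega) le_rfl
        obtain ⟨FQ, hFQ⟩ := Cfsg.Agent.S5096.result F Q hQS
        have hsatQ := normalizerSystem_isSaturated p hS F hF hQfn FQ hFQ
        have hcons : FQ.IsConstrained p := ⟨hsatQ, Q, normalizerSystem_isNormal F hQS FQ hFQ,
          normalizerSystem_isCentric F hQc FQ hFQ⟩
        have hsubQ : ∀ P : Subgroup Ω, FQ.Hom P ⊆ F.Hom P := fun P φ hφ => by
          rw [hFQ P] at hφ; exact hφ.1
        have hypQ : Hyp p FQ E := hyp_of_sub p F FQ E hsubQ normalizerIn_le hZT hyp.1 hCZ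
        haveI : Finite ↥(normalizerIn S Q) := finite_of_le_finite normalizerIn_le
        have hTp : IsPGroup p ↥(normalizerIn S Q) := hS.to_le normalizerIn_le
        exact subset_of_constrained hTp FQ hcons E hypQ Q
          (normalizerSystem_aut_mem F hQS FQ hFQ hα)
  intro φ hφ
  exact hPm (Nat.card S + 1) 0 (by omega) P φ hφ (Nat.zero_le _)

/-- **The theorem**, for all sizes. -/
theorem main_all (E : FusionSystem S₀) : ∀ k : ℕ, Main p E k := by
  intro k
  induction k with
  | zero =>
    intro T F' hfin hT hsat hcard hyp P φ hφ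
    exfalso
    haveI := hfin
    have h0 : (graphSet F').ncard = 0 := by omega
    have h1 := (Set.ncard_eq_zero (graphSet_finite F')).mp h0
    have h2 : graphOf φ ∈ graphSet F' := ⟨P, φ, hφ, rfl⟩
    rw [h1] at h2
    exact h2
  | succ k ih =>
    intro T F' hfin hT hsat hcard hyp
    haveI := hfin
    exact main_step hT F' hsat E hyp k ih hcard

/-- **`F = ⟨C_F(Z(S)^p), N_F(J(S))⟩`.** -/
theorem subset_of_hyp [Finite S] (hS : IsPGroup p S) (F : FusionSystem S) (hF : F.IsSaturated p)
    (E : FusionSystem S₀) (hyp : Hyp p F E) (P : Subgroup Ω) : F.Hom P ⊆ E.Hom P :=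
  main_all E _ S F inferInstance hS hF le_rfl hyp P

end main

end Cfsg.Agent.Helper3.TF
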