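import Mathlib
import Cfsg.Agent.Lib.Helper3.CtlTr2
import Cfsg.Agent.Lib.Helper3.ThFac7

/-!
# Control of transfer: the Alperin induction
-/

set_option autoImplicit false
set_option linter.style.haveILetI false
set_option linter.unusedSectionVars false

namespace Cfsg.Agent.Helper3.CT

open Cfsg Cfsg.FusionSystem Cfsg.Agent.Helper25 Cfsg.Agent.Helper3.KL Cfsg.Agent.Helper3.Model
  Cfsg.Agent.Helper3.TF

universe u

variable {W : ∀ (Q : Type u) [Group Q], Subgroup Q} {p : ℕ} [Fact p.Prime]

/-- the conclusion for a system: every map is trivial modulo every `D` controlling `N_F(W(S))` -/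
def Good (W : ∀ (Q : Type u) [Group Q], Subgroup Q) {Ω : Type u} [Group Ω] {S : Subgroup Ω}
    (F : FusionSystem S) : Prop :=
  ∀ D : Subgroup Ω, Ctl W F D → ∀ (P : Subgroup Ω) (φ : P →* Ω), φ ∈ F.Hom P → TrivMod D φ

/-- the induction hypothesis for proper subsystems -/
def IHSub (W : ∀ (Q : Type u) [Group Q], Subgroup Q) (p : ℕ) {Ω : Type u} [Group Ω]
    {S : Subgroup Ω} (F : FusionSystem S) : Prop :=
  ∀ (T : Subgroup Ω) (F' : FusionSystem T), T ≤ S → (∀ P : Subgroup Ω, F'.Hom P ⊆ F.Hom P) →
    F'.IsSaturated p → ¬ (∀ P : Subgroup Ω, F.Hom P ⊆ F'.Hom P) → Good W F'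

variable {Ω : Type u} [Group Ω] {S : Subgroup Ω}

/-- the maps of `N_F(W(T))` are trivial modulo `D`, by descending induction on `T` -/
theorem claimZ
    (hW1 : ∀ (Q : Type u) [Group Q] [Finite Q], IsPGroup p Q → Nontrivial Q → W Q ≠ ⊥)
    (hW2 : ∀ (Q R : Type u) [Group Q] [Group R] [Finite Q], IsPGroup p Q → ∀ φ : Q ≃* R,
      (W Q).map φ.toMonoidHom = W R)
    [Finite S] (hS : IsPGroup p S) (F : FusionSystem S) (hF : F.IsSaturated p)
    (IH : IHSub W p F)
    (hnormal : ∀ X : Subgroup Ω, F.IsNormal X → X ≠ ⊥ → Good W F)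
    {D : Subgroup Ω} (hctl : Ctl W F D) (m : ℕ)
    (hPm : ∀ (A : Subgroup Ω) (φ : A →* Ω), φ ∈ F.Hom A → m + 1 ≤ Nat.card A → TrivMod D φ) :
    ∀ (d : ℕ) (T : Subgroup Ω), T ≤ S → 1 < Nat.card T → m + 1 ≤ Nat.card T →
      Nat.card S - Nat.card T ≤ d →
      ∀ (A : Subgroup Ω) (φ : A →* Ω), φ ∈ F.normalizerHom (wOf W T) A → TrivMod D φ := by
  intro d
  induction d with
  | zero =>
    intro T hTS _ hmT hd A φ hφ
    have hcard : Nat.card S ≤ Nat.card T := by omega
    have hTeq : T = S := Subgroup.eq_of_le_of_card_ge hTS hcard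
    subst hTeq
    exact hctl A φ hφ
  | succ d ih =>
    intro T hTS h1T hmT hd A φ hφ
    by_cases hTeq : T = S
    · subst hTeq
      exact hctl A φ hφ
    haveI : Finite T := finite_of_le_finite hTS
    have hTp : IsPGroup p T := hS.to_le hTS
    have hT1 : T ≠ ⊥ := by
      intro h
      rw [h, Subgroup.card_bot] at h1T
      omega
    obtain ⟨X, hX⟩ : ∃ X, X = wOf W T := ⟨_, rfl⟩
    rw [← hX] at hφ
    have hXT : X ≤ T := hX ▸ wOf_le T
    have hXS : X ≤ S := hXT.trans hTS
    have hX1 : X ≠ ⊥ := hX ▸ wOf_ne_bot hW1 hTp hT1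
    have hnotle : ¬ S ≤ T := fun h => hTeq (le_antisymm hTS h)
    obtain ⟨s, hsS, hsN, hsT⟩ := exists_mem_normalizer_not_mem_of_not_le hS hTS le_rfl
      (fun g hg v hv => S.mul_mem (S.mul_mem (S.inv_mem hg) hv) hg) hnotle
    have hNN : Subgroup.normalizer (T : Set Ω) ≤ Subgroup.normalizer (X : Set Ω) :=
      hX ▸ normalizer_le_normalizer_wOf hW2 hTp
    have hTN : T ≤ normalizerIn S X := fun t ht => ⟨hTS ht, hNN (Subgroup.le_normalizer ht)⟩
    have hsNX : s ∈ normalizerIn S X := ⟨hsS, hNN hsN⟩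
    have hlt : Nat.card T < Nat.card (normalizerIn S X) :=
      card_lt_of_le_of_mem normalizerIn_le hTN hsNX hsT
    obtain ⟨X', hconj, hX'fn⟩ := exists_isConj_fullyNormalized F hXS
    have hX'S : X' ≤ S := hX'fn.1
    obtain ⟨-, hfa, hrec⟩ := of_fullyNormalized p hS F hF hX'fn
    obtain ⟨β, hβF, hβN, -, hβX⟩ := exists_normalizer_map p hS F X' X hfa hrec hconj
    have hβD : TrivMod D β := hPm _ β hβF (by omega)
    haveI : Finite ↥(normalizerIn S X') := finite_of_le_finite normalizerIn_le
    have hcard' : Nat.card (normalizerIn S X) ≤ Nat.card (normalizerIn S X') := by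
      apply Nat.card_le_card_of_injective (fun x => (⟨β x, hβN x⟩ : ↥(normalizerIn S X')))
      intro x y hxy
      exact F.injective_of_mem hβF (congrArg Subtype.val hxy)
    have hT'le : Nat.card (normalizerIn S X') ≤ Nat.card S := Subgroup.card_le_of_le normalizerIn_le
    have hCZ' := ih (normalizerIn S X') normalizerIn_le (by omega) (by omega) (by omega)
    obtain ⟨F', hF'⟩ := Cfsg.Agent.S5096.result F X' hX'S
    have hsat' := normalizerSystem_isSaturated p hS F hF hX'fn F' hF'
    have hsub' : ∀ P : Subgroup Ω, F'.Hom P ⊆ F.Hom P := fun P φ hφ => by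
      rw [hF' P] at hφ; exact hφ.1
    have hctl' : Ctl W F' D := ctl_of_sub F F' hsub' normalizerIn_le hCZ'
    by_cases hc : ∀ P : Subgroup Ω, F.Hom P ⊆ F'.Hom P
    · have hX'n : F.IsNormal X' := by
        refine ⟨hX'S, fun P φ hφ => ?_⟩
        have := hc P hφ
        rw [hF' P] at this
        obtain ⟨-, -, -, ψ, hψ, h1, h2⟩ := this
        exact ⟨ψ, hψ, h1, h2⟩
      obtain ⟨χ, hχ, hχr⟩ := isConj_symm F hconj
      have hXX' : X' = X := by
        rw [← hχr]
        exact (range_eq_of_isNormal F hX'n hχ).symm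
      rw [hXX'] at hX'n
      exact hnormal X hX'n hX1 D hctl A φ hφ.1
    · have hF'G := IH (normalizerIn S X') F' normalizerIn_le hsub' hsat' hc D hctl'
      have hconjD : ∀ {P : Subgroup Ω} {g : Ω}, P ≤ S → g ∈ S → TrivMod D (conjHom P g) :=
        fun hP hg => ctl_conj hW2 hS F hctl hP hg
      have hmem := normalizerHom_subset_of_conj F (trivSub F D hconjD) hXS hβF
        (mem_trivSub.mpr ⟨hβF, hβD⟩) hβN hβX
        (fun A φ hφ => mem_trivSub.mpr ⟨hφ.1, hF'G A φ (by rw [hF' A]; exact hφ)⟩) A φ hφ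
      exact (mem_trivSub.mp hmem).2

/-- **The inductive step**: if the claim holds for the proper saturated subsystems, and in the case
of a nontrivial normal subgroup, then it holds for `F`. -/
theorem main_step
    (hW1 : ∀ (Q : Type u) [Group Q] [Finite Q], IsPGroup p Q → Nontrivial Q → W Q ≠ ⊥)
    (hW2 : ∀ (Q R : Type u) [Group Q] [Group R] [Finite Q], IsPGroup p Q → ∀ φ : Q ≃* R,
      (W Q).map φ.toMonoidHom = W R)
    (hT : ∀ (G : Type u) [Group G] [Finite G] (P : Sylow p G), Subgroup.centralizer ((Cfsg.pCore p G : Subgroup G) : Set G) ≤ Cfsg.pCore p G → Cfsg.pCore p G ⊓ commutator G = Cfsg.pCore p G ⊓ (commutator ↥(Subgroup.normalizer (((W ↥(P : Subgroup G)).map (P : Subgroup G).subtype : Subgroup G) : Set G))).map (Subgroup.normalizer (((W ↥(P : Subgroup G)).map (P : Subgroup G).subtype : Subgroup G) : Set G)).subtype)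
    [Finite S] (hS : IsPGroup p S) (F : FusionSystem S) (hF : F.IsSaturated p)
    (IH : IHSub W p F)
    (hnormal : ∀ X : Subgroup Ω, F.IsNormal X → X ≠ ⊥ → Good W F) : Good W F := by
  intro D hctl
  have hPm : ∀ j m : ℕ, m + j = Nat.card S + 1 →
      ∀ (A : Subgroup Ω) (φ : A →* Ω), φ ∈ F.Hom A → m ≤ Nat.card A → TrivMod D φ := by
    intro j
    induction j with
    | zero =>
      intro m hm A φ hφ hmA
      have hAS := (F.le_of_mem hφ).1
      have := Subgroup.card_le_of_le hAS
      omega
    | succ j ihj =>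
      intro m hm A φ hφ
      have hPm1 := ihj (m + 1) (by omega)
      refine alperin_induction p hS F hF (fun A φ => m ≤ Nat.card A → TrivMod D φ) ?_ ?_ ?_ ?_ hφ
      · intro P g hP hg _
        exact ctl_conj hW2 hS F hctl hP hg
      · intro P Q φ ψ hφ hψ hPφ hPψ h hmP
        have hQS := (F.le_of_mem hψ).1
        haveI : Finite Q := finite_of_le_finite hQS
        have hcard : Nat.card P ≤ Nat.card Q := by
          apply Nat.card_le_card_of_injective (φ.codRestrict Q h)
          intro x y hxy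
          exact F.injective_of_mem hφ (congrArg Subtype.val hxy)
        exact trivMod_comp (hPφ hmP) (hPψ (by omega)) h
      · intro P φ hφ hPφ ψ hψ hinv hmr
        have hinj := F.injective_of_mem hφ
        have hcard : Nat.card P = Nat.card φ.range :=
          Nat.card_congr (MonoidHom.ofInjective hinj).toEquiv
        exact trivMod_inv (hPφ (by omega)) ψ hinv
      · intro Q hQ α hα hmQ
        by_cases hQS' : Q = S
        · subst hQS'
          exact ctl_of_top hW2 hS F hctl ((mem_autGroup_iff F le_rfl α).mp hα)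
        have hQess : F.IsEssential p Q := by
          rcases hQ with h | h
          · exact absurd h hQS'
          · exact h
        have hQc := hQess.1
        have hQfn := hQess.2.1
        have hQS : Q ≤ S := hQc.1
        by_cases hbig : m + 1 ≤ Nat.card Q
        · exact hPm1 Q _ ((mem_autGroup_iff F hQS α).mp hα) hbig
        have hnotle : ¬ S ≤ Q := fun h => hQS' (le_antisymm hQS h)
        obtain ⟨s, hsS, hsN, hsQ⟩ := exists_mem_normalizer_not_mem_of_not_le hS hQS le_rfl
          (fun g hg v hv => S.mul_mem (S.mul_mem (S.inv_mem hg) hv) hg) hnotle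
        have hlt : Nat.card Q < Nat.card (normalizerIn S Q) :=
          card_lt_of_le_of_mem normalizerIn_le (le_normalizerIn hQS) ⟨hsS, hsN⟩ hsQ
        haveI : Finite Q := finite_of_le_finite hQS
        have hQpos : 0 < Nat.card Q := Nat.card_pos
        have hCZ := claimZ hW1 hW2 hS F hF IH hnormal hctl m hPm1
          (Nat.card S - Nat.card (normalizerIn S Q)) (normalizerIn S Q) normalizerIn_le
          (by omega) (by omega) le_rfl
        obtain ⟨FQ, hFQ⟩ := Cfsg.Agent.S5096.result F Q hQS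
        have hsatQ := normalizerSystem_isSaturated p hS F hF hQfn FQ hFQ
        have hQn := normalizerSystem_isNormal F hQS FQ hFQ
        have hcons : FQ.IsConstrained p := ⟨hsatQ, Q, hQn, normalizerSystem_isCentric F hQc FQ hFQ⟩
        have hsubQ : ∀ P : Subgroup Ω, FQ.Hom P ⊆ F.Hom P := fun P φ hφ => by
          rw [hFQ P] at hφ; exact hφ.1
        have hctlQ : Ctl W FQ D := ctl_of_sub F FQ hsubQ normalizerIn_le hCZ
        haveI : Finite ↥(normalizerIn S Q) := finite_of_le_finite normalizerIn_le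
        have hTp : IsPGroup p ↥(normalizerIn S Q) := hS.to_le normalizerIn_le
        exact trivMod_of_constrained hW2 hT hTp FQ hcons hctlQ hQn
          (normalizerSystem_aut_mem F hQS FQ hFQ hα)
  intro P φ hφ
  exact hPm (Nat.card S + 1) 0 (by omega) P φ hφ (Nat.zero_le _)

end Cfsg.Agent.Helper3.CT
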