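import Mathlib
import Cfsg.Agent.Lib.Helper3.CtlTr3
import Cfsg.Agent.Lib.Helper3.KLFreeNorm

/-!
# Control of transfer: automorphisms of a normal subgroup

For `Q` normal in `F`, the maps of `F` defined on `Q` are trivial modulo `D`: they extend to
`R = Q C_S(Q)`, and `N_F(R)` is constrained.
-/

set_option autoImplicit false
set_option linter.style.haveILetI false
set_option linter.unusedSectionVars false

namespace Cfsg.Agent.Helper3.CT

open Cfsg Cfsg.FusionSystem Cfsg.Agent.Helper25 Cfsg.Agent.Helper3.KL Cfsg.Agent.Helper3.Model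
  Cfsg.Agent.Helper3.TF

universe u

section aux

variable {Ω : Type*} [Group Ω] {S : Subgroup Ω}

/-- a map defined on a subgroup containing `Q C_S(Q)`, `Q` normal in `F`, maps `Q C_S(Q)` into
itself -/
theorem map_mem_QC [Finite S] (F : FusionSystem S) {Q : Subgroup Ω} (hQ : F.IsNormal Q)
    {K : Subgroup Ω} (hRK : Q ⊔ centralizerIn S Q ≤ K) {χ : K →* Ω} (hχ : χ ∈ F.Hom K) :
    ∀ (x : Ω) (hx : x ∈ Q ⊔ centralizerIn S Q), χ ⟨x, hRK hx⟩ ∈ Q ⊔ centralizerIn S Q := by
  have hQS := hQ.1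
  have hsc := stronglyClosed_of_isNormal F hQ
  have hQK : Q ≤ K := le_sup_left.trans hRK
  have hCK : centralizerIn S Q ≤ K := le_sup_right.trans hRK
  have hχQ := restrict_mem F hQK hχ
  have hQval : ∀ q : Q, χ ⟨q, hQK q.2⟩ ∈ Q := fun q => hsc.2 Q le_rfl _ hχQ q
  have hrange := range_eq_of_isNormal F hQ hχQ
  have hsurj : ∀ y ∈ Q, ∃ q : Q, χ ⟨q, hQK q.2⟩ = y := by
    intro y hy
    rw [← hrange] at hy
    obtain ⟨q, hq⟩ := hy
    exact ⟨q, hq⟩
  have hCval : ∀ (c : Ω) (hc : c ∈ centralizerIn S Q), χ ⟨c, hCK hc⟩ ∈ centralizerIn S Q := by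
    intro c hc
    rw [mem_centralizerIn]
    refine ⟨(F.le_of_mem hχ).2 _, fun y hy => ?_⟩
    obtain ⟨q, rfl⟩ := hsurj y hy
    rw [← map_mul, ← map_mul]
    congr 1
    apply Subtype.ext
    exact (mem_centralizerIn.mp hc).2 q q.2
  intro x hx
  refine sup_induction (C := fun x => ∀ hx : x ∈ Q ⊔ centralizerIn S Q,
    χ ⟨x, hRK hx⟩ ∈ Q ⊔ centralizerIn S Q) ?_ ?_ ?_ hx hx
  · intro q hq _
    exact le_sup_left (b := centralizerIn S Q) (hQval ⟨q, hq⟩)
  · intro c hc _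
    exact le_sup_right (a := Q) (hCval c hc)
  · intro a b ha hb hCa hCb hab
    have e : (⟨a * b, hRK hab⟩ : K) = ⟨a, hRK ha⟩ * ⟨b, hRK hb⟩ := Subtype.ext rfl
    rw [e, map_mul]
    exact Subgroup.mul_mem _ (hCa ha) (hCb hb)

/-- `S` normalizes `Q C_S(Q)` -/
theorem le_normalizer_QC {Q : Subgroup Ω} (hSQ : S ≤ Subgroup.normalizer (Q : Set Ω)) :
    S ≤ Subgroup.normalizer ((Q ⊔ centralizerIn S Q : Subgroup Ω) : Set Ω) := by
  have key : ∀ s ∈ S, ∀ y ∈ Q ⊔ centralizerIn S Q, s * y * s⁻¹ ∈ Q ⊔ centralizerIn S Q := by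
    intro s hs y hy
    apply conj_mem_sup_of_normalizes (A := Q) (B := centralizerIn S Q) _ _ y hy
    · intro y hy
      exact (Subgroup.mem_normalizer_iff.mp (hSQ hs) y).mp hy
    · intro c hc
      rw [mem_centralizerIn] at hc ⊢
      refine ⟨S.mul_mem (S.mul_mem hs hc.1) (S.inv_mem hs), fun q hq => ?_⟩
      have hq' : s⁻¹ * q * s ∈ Q := by
        have := (Subgroup.mem_normalizer_iff.mp (Subgroup.inv_mem _ (hSQ hs)) q).mp hq
        rwa [inv_inv] at this
      have h1 := hc.2 _ hq'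
      have e1 : q * (s * c * s⁻¹) = s * ((s⁻¹ * q * s) * c) * s⁻¹ := by group
      have e2 : s * c * s⁻¹ * q = s * (c * (s⁻¹ * q * s)) * s⁻¹ := by group
      rw [e1, e2, h1]
  intro s hs
  apply mem_normalizer_of_forall (key s hs)
  intro y hy
  have := key s⁻¹ (S.inv_mem hs) y hy
  rwa [inv_inv] at this

end aux

variable {W : ∀ (Q : Type u) [Group Q], Subgroup Q} {p : ℕ} [Fact p.Prime]
  {Ω : Type u} [Group Ω] {S : Subgroup Ω}

/-- the maps of `F` defined on a subgroup `Q` normal in `F` are trivial modulo `D` -/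
theorem trivMod_of_isNormal_hom
    (hW2 : ∀ (Q R : Type u) [Group Q] [Group R] [Finite Q], IsPGroup p Q → ∀ φ : Q ≃* R,
      (W Q).map φ.toMonoidHom = W R)
    (hT : ∀ (G : Type u) [Group G] [Finite G] (P : Sylow p G), Subgroup.centralizer ((Cfsg.pCore p G : Subgroup G) : Set G) ≤ Cfsg.pCore p G → Cfsg.pCore p G ⊓ commutator G = Cfsg.pCore p G ⊓ (commutator ↥(Subgroup.normalizer (((W ↥(P : Subgroup G)).map (P : Subgroup G).subtype : Subgroup G) : Set G))).map (Subgroup.normalizer (((W ↥(P : Subgroup G)).map (P : Subgroup G).subtype : Subgroup G) : Set G)).subtype)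
    [Finite S] (hS : IsPGroup p S) (F : FusionSystem S) (hF : F.IsSaturated p)
    {D : Subgroup Ω} (hctl : Ctl W F D) {Q : Subgroup Ω} (hQ : F.IsNormal Q)
    {φ : Q →* Ω} (hφ : φ ∈ F.Hom Q) : TrivMod D φ := by
  have hQS := hQ.1
  have hSQ := le_normalizer_of_isNormal F hQ
  have hQfn : F.IsFullyNormalized Q := isFullyNormalized_of_normal F hQS hSQ
  obtain ⟨-, -, hrec⟩ := of_fullyNormalized p hS F hF hQfn
  obtain ⟨ψ, hψ, hψφ⟩ := hrec.2 Q φ hφ (range_eq_of_isNormal F hQ hφ)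
  obtain ⟨R, hR⟩ : ∃ R : Subgroup Ω, R = Q ⊔ centralizerIn S Q := ⟨_, rfl⟩
  have hQR : Q ≤ R := hR ▸ le_sup_left
  have hCR : centralizerIn S Q ≤ R := hR ▸ le_sup_right
  have hRS : R ≤ S := hR ▸ sup_le hQS inf_le_left
  have hsupR : Q ⊔ centralizerIn S Q ≤ R := sup_le hQR hCR
  have hRsup : R ≤ Q ⊔ centralizerIn S Q := hR.le
  have hRext : R ≤ extender S Q φ := hR ▸ sup_le (le_extender F hφ) (centralizerIn_le_extender φ)
  have hSR : S ≤ Subgroup.normalizer (R : Set Ω) := hR ▸ le_normalizer_QC hSQ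
  have hRfn : F.IsFullyNormalized R := isFullyNormalized_of_normal F hRS hSR
  have hRN : R ≤ normalizerIn S R := le_normalizerIn hRS
  -- `R` is weakly closed, hence centric
  have hRc : F.IsCentric R := by
    refine ⟨hRS, ?_⟩
    rintro R' ⟨χ, hχ, rfl⟩
    have hle : χ.range ≤ R := by
      rintro _ ⟨x, rfl⟩
      exact hsupR (map_mem_QC F hQ (K := R) hsupR hχ x (hRsup x.2))
    haveI : Finite R := finite_of_le_finite hRS
    have hcard : Nat.card R = Nat.card χ.range :=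
      Nat.card_congr (MonoidHom.ofInjective (F.injective_of_mem hχ)).toEquiv
    have heq : χ.range = R := Subgroup.eq_of_le_of_card_ge hle hcard.le
    rw [heq]
    intro c hc
    apply hCR
    rw [mem_centralizerIn] at hc ⊢
    exact ⟨hc.1, fun q hq => hc.2 q (hQR hq)⟩
  -- the restriction of `ψ` to `R`
  obtain ⟨β, hβ⟩ : ∃ β : R →* Ω, β = ψ.comp (Subgroup.inclusion hRext) := ⟨_, rfl⟩
  have hβF : β ∈ F.Hom R := hβ ▸ restrict_mem F hRext hψ
  have hβR : ∀ (x : Ω) (hx : x ∈ R), β ⟨x, le_rfl (a := R) hx⟩ ∈ R := by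
    intro x hx
    exact hsupR (map_mem_QC F hQ (K := R) hsupR hβF x (hRsup hx))
  have hβn : β ∈ F.normalizerHom R R := mem_normalizerHom_of_le F le_rfl hRN hβF hβR
  -- the normalizer system of `R`
  obtain ⟨N, hN⟩ := Cfsg.Agent.S5096.result F R hRS
  have hNsat := normalizerSystem_isSaturated p hS F hF hRfn N hN
  have hRn := normalizerSystem_isNormal F hRS N hN
  have hcons : N.IsConstrained p := ⟨hNsat, R, hRn, normalizerSystem_isCentric F hRc N hN⟩
  have hsubN : ∀ P : Subgroup Ω, N.Hom P ⊆ F.Hom P := fun P φ hφ => by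
    rw [hN P] at hφ; exact hφ.1
  have hctlN : Ctl W N D := ctl_of_sub_eq F N hsubN (normalizerIn_eq_of_le hSR) hctl
  haveI : Finite ↥(normalizerIn S R) := finite_of_le_finite normalizerIn_le
  have hTp : IsPGroup p ↥(normalizerIn S R) := hS.to_le normalizerIn_le
  have hβN : β ∈ N.Hom R := by rw [hN R]; exact hβn
  have hβD : TrivMod D β := trivMod_of_constrained hW2 hT hTp N hcons hctlN hRn hβN
  apply trivMod_of_agree hQR hβD
  intro x
  rw [hβ]
  exact hψφ x x.2 (hRext (hQR x.2))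

end Cfsg.Agent.Helper3.CT
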