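import Mathlib
import Cfsg.Agent.Lib.Helper3.CtlTr1
import Cfsg.Agent.Lib.Helper3.BisetChar
import Cfsg.Agent.Lib.Helper3.KLSparse
import Cfsg.Agent.Lib.Helper25.FusionFactor
import Cfsg.Agent.S5132
import Cfsg.Agent.S5133
import Cfsg.Agent.S5134

/-!
# Control of transfer: the focal subgroup inside a normal subgroup

If `Q` is normal in `F` and the maps of `F` defined on `Q` are trivial modulo `D ≥ [S, S]`,
then `foc(F) ∩ Q ≤ D`.  Proof: modulo `Q₁ = [Q, Aut_F(Q)]` the subgroup `Q` becomes central,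
and a central element of the focal subgroup lies in the derived subgroup (transfer).
-/

set_option autoImplicit false
set_option linter.style.haveILetI false
set_option linter.unusedSectionVars false

namespace Cfsg.Agent.Helper3.CT

open Cfsg Cfsg.FusionSystem Cfsg.Agent.Helper25 Cfsg.Agent.Helper3.KL Cfsg.Agent.Helper3.Biset
  Cfsg.Agent.Helper3.TF

universe u

section aux

variable {Ω : Type*} [Group Ω] {S : Subgroup Ω} {Ω' : Type*} [Group Ω']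

/-- evaluation of an induced map -/
theorem induced_apply {θ : S →* Ω'} {P : Subgroup Ω} {φ : P →* Ω} {P' : Subgroup Ω'}
    {φ' : P' →* Ω'} (h : InducedAlong θ φ φ') (x : Ω) (hx : x ∈ P) (hxS : x ∈ S)
    (h' : θ ⟨x, hxS⟩ ∈ P') (hφS : φ ⟨x, hx⟩ ∈ S) :
    φ' ⟨θ ⟨x, hxS⟩, h'⟩ = θ ⟨φ ⟨x, hx⟩, hφS⟩ := by
  obtain ⟨hP, hφ, hP', h⟩ := h
  exact h ⟨x, hx⟩

end aux

variable {p : ℕ} [Fact p.Prime] {Ω : Type u} [Group Ω] {S : Subgroup Ω}

/-- **The focal subgroup inside a normal subgroup.** -/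
theorem focal_inf_le [Finite S] (hS : IsPGroup p S) (F : FusionSystem S) (hF : F.IsSaturated p)
    {Q : Subgroup Ω} (hQ : F.IsNormal Q) {D : Subgroup Ω}
    (hcomm : ∀ a ∈ S, ∀ b ∈ S, a * b * a⁻¹ * b⁻¹ ∈ D)
    (haut : ∀ φ : Q →* Ω, φ ∈ F.Hom Q → TrivMod D φ) :
    ∀ y ∈ F.focalSubgroup, y ∈ Q → y ∈ D := by
  have hQS := hQ.1
  have hsc := stronglyClosed_of_isNormal F hQ
  -- the subgroup `Q₁ = [Q, Aut_F(Q)]`
  obtain ⟨G₀, hG₀⟩ : ∃ G₀ : Set Ω, G₀ = {y | ∃ (φ : Q →* Ω) (q : Q), φ ∈ F.Hom Q ∧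
      y = (q : Ω)⁻¹ * φ q} := ⟨_, rfl⟩
  obtain ⟨Q₁, hQ₁⟩ : ∃ Q₁ : Subgroup Ω, Q₁ = Subgroup.closure G₀ := ⟨_, rfl⟩
  have hgen : ∀ (φ : Q →* Ω) (q : Q), φ ∈ F.Hom Q → (q : Ω)⁻¹ * φ q ∈ Q₁ := fun φ q hφ => by
    rw [hQ₁]
    apply Subgroup.subset_closure
    rw [hG₀]
    exact ⟨φ, q, hφ, rfl⟩
  have hclQ : Subgroup.closure G₀ ≤ Q := by
    rw [Subgroup.closure_le, hG₀]
    rintro _ ⟨φ, q, hφ, rfl⟩
    exact Q.mul_mem (Q.inv_mem q.2) (hsc.2 Q le_rfl φ hφ q)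
  have hQ₁Q : Q₁ ≤ Q := hQ₁ ▸ hclQ
  have hQ₁D : Q₁ ≤ D := by
    rw [hQ₁, Subgroup.closure_le, hG₀]
    rintro _ ⟨φ, q, hφ, rfl⟩
    exact haut φ hφ q
  have hQ₁S : Q₁ ≤ S := hQ₁Q.trans hQS
  -- invariance of `Q₁`
  have hinv : ∀ (α : Q →* Ω), α ∈ F.Hom Q → ∀ (y : Ω) (hy : y ∈ Q₁), α ⟨y, hQ₁Q hy⟩ ∈ Q₁ := by
    intro α hα y hy
    have key : ∀ y ∈ Subgroup.closure G₀, ∀ hyQ : y ∈ Q, α ⟨y, hyQ⟩ ∈ Q₁ := by
      intro y hy
      induction hy using Subgroup.closure_induction with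
      | mem y hy =>
        rw [hG₀] at hy
        obtain ⟨φ, q, hφ, rfl⟩ := hy
        intro hyQ
        have hval : ∀ x : Q, φ x ∈ Q := fun x => hsc.2 Q le_rfl φ hφ x
        have hcomp := F.comp_mem hφ hα hval
        have h1 := hgen _ q hcomp
        have h2 := hgen α q hα
        have e : α ⟨(q : Ω)⁻¹ * φ q, hyQ⟩ = ((q : Ω)⁻¹ * α q)⁻¹ *
            ((q : Ω)⁻¹ * (α.comp (φ.codRestrict Q hval)) q) := by
          have e1 : (⟨(q : Ω)⁻¹ * φ q, hyQ⟩ : Q) = q⁻¹ * ⟨φ q, hval q⟩ := Subtype.ext rfl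
          rw [e1, map_mul, map_inv]
          show _ = _ * (_ * α ⟨φ q, hval q⟩)
          group
        rw [e]
        exact Q₁.mul_mem (Q₁.inv_mem h2) h1
      | one =>
        intro h
        have e : (⟨1, h⟩ : Q) = 1 := rfl
        rw [e, map_one]
        exact Q₁.one_mem
      | mul a b ha hb iha ihb =>
        intro h
        have haQ : a ∈ Q := hclQ ha
        have hbQ : b ∈ Q := hclQ hb
        have e : (⟨a * b, h⟩ : Q) = ⟨a, haQ⟩ * ⟨b, hbQ⟩ := rfl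
        rw [e, map_mul]
        exact Q₁.mul_mem (iha haQ) (ihb hbQ)
      | inv a ha iha =>
        intro h
        have haQ : a ∈ Q := hclQ ha
        have e : (⟨a⁻¹, h⟩ : Q) = ⟨a, haQ⟩⁻¹ := rfl
        rw [e, map_inv]
        exact Q₁.inv_mem (iha haQ)
    exact key y (hQ₁ ▸ hy) (hQ₁Q hy)
  -- `Q₁` is strongly closed
  have hsc₁ : F.StronglyClosed Q₁ := by
    refine ⟨hQ₁S, fun R₀ hR₀ χ hχ x => ?_⟩
    obtain ⟨ψ, hψ, hext, -⟩ := hQ.2 R₀ χ hχ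
    have hα := restrict_mem F (le_sup_right : Q ≤ R₀ ⊔ Q) hψ
    have hxQ₁ : (x : Ω) ∈ Q₁ := hR₀ x.2
    have h1 := hinv _ hα x hxQ₁
    rw [← hext x]
    exact h1
  haveI : (Q₁.subgroupOf S).Normal :=
    (Subgroup.normal_subgroupOf_iff_le_normalizer hQ₁S).mpr (le_normalizer_of_stronglyClosed F hsc₁)
  obtain ⟨E, hE⟩ := Cfsg.Agent.S5132.result p hS F Q₁ hsc₁
  obtain ⟨θ, hθ⟩ : ∃ θ : S →* S ⧸ Q₁.subgroupOf S, θ = QuotientGroup.mk' (Q₁.subgroupOf S) :=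
    ⟨_, rfl⟩
  rw [← hθ] at hE
  have hmor := Cfsg.Agent.S5134.result p hS F hF Q₁ hsc₁ θ E hE
  have hEsat := Cfsg.Agent.S5133.result p hS F hF E θ hmor
  have hker : ∀ s : S, θ s = 1 ↔ (s : Ω) ∈ Q₁ := hE.2.1
  have hTp : IsPGroup p (S ⧸ Q₁.subgroupOf S) := hS.to_quotient _
  have hsurj : Function.Surjective θ := hθ ▸ QuotientGroup.mk'_surjective _
  have hθeq : ∀ (a b : S), (a : Ω)⁻¹ * (b : Ω) ∈ Q₁ → θ a = θ b := by
    intro a b hab
    have h1 : θ (a⁻¹ * b) = 1 := (hker _).mpr hab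
    rw [map_mul, map_inv] at h1
    exact (inv_mul_eq_one.mp h1)
  -- the image of `Q` is central
  have hcentral : ∀ (q : Ω) (hq : q ∈ Q), E.IsCentral (Subgroup.zpowers (θ ⟨q, hQS hq⟩)) := by
    intro q hq
    refine ⟨le_top, fun P' φ' hφ' => ?_⟩
    obtain ⟨-, φ, hφ, hind⟩ := (hE.2.2.2 P' φ').mp hφ'
    obtain ⟨ψ, hψ, hext, -⟩ := hQ.2 _ φ hφ
    obtain ⟨ψ', hψ', hind'⟩ := hmor.1.2 _ ψ hψ
    have hKS : preimageAlong θ P' ⊔ Q ≤ S := (F.le_of_mem hψ).1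
    have hψS := (F.le_of_mem hψ).2
    have hφS := (F.le_of_mem hφ).2
    have hα := restrict_mem F (le_sup_right : Q ≤ preimageAlong θ P' ⊔ Q) hψ
    have hle : P' ⊔ Subgroup.zpowers (θ ⟨q, hQS hq⟩) ≤
        imageAlong θ (preimageAlong θ P' ⊔ Q) := by
      apply sup_le
      · intro x' hx'
        obtain ⟨s, rfl⟩ := hsurj x'
        have hsP : (s : Ω) ∈ preimageAlong θ P' := mem_preimageAlong.mpr ⟨s.2, hx'⟩
        exact ⟨s, Subgroup.mem_subgroupOf.mpr (le_sup_left (b := Q) hsP), rfl⟩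
      · rw [Subgroup.zpowers_le]
        exact ⟨⟨q, hQS hq⟩, Subgroup.mem_subgroupOf.mpr
          (le_sup_right (a := preimageAlong θ P') hq), rfl⟩
    refine ⟨ψ'.comp (Subgroup.inclusion hle), restrict_mem E hle hψ', fun x' => ?_, fun z => ?_⟩
    · obtain ⟨s, hs⟩ := hsurj (x' : S ⧸ Q₁.subgroupOf S)
      have hsP' : θ s ∈ P' := hs ▸ x'.2
      have hsP : (s : Ω) ∈ preimageAlong θ P' := mem_preimageAlong.mpr ⟨s.2, hsP'⟩
      have hsK : (s : Ω) ∈ preimageAlong θ P' ⊔ Q := le_sup_left (b := Q) hsP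
      have hsK' : θ ⟨(s : Ω), s.2⟩ ∈ imageAlong θ (preimageAlong θ P' ⊔ Q) :=
        ⟨s, Subgroup.mem_subgroupOf.mpr hsK, rfl⟩
      have h1 := induced_apply hind (s : Ω) hsP s.2 hsP' (hφS _)
      have h2 := induced_apply hind' (s : Ω) hsK s.2 hsK' (hψS _)
      have h3 := hext ⟨(s : Ω), hsP⟩
      have e1 : x' = ⟨θ ⟨(s : Ω), s.2⟩, hsP'⟩ := Subtype.ext hs.symm
      rw [e1, h1]
      show ψ' ⟨θ ⟨(s : Ω), s.2⟩, _⟩ = _
      rw [h2]
      congr 2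
    · obtain ⟨k, hk⟩ := Subgroup.mem_zpowers_iff.mp z.2
      have hqk : q ^ k ∈ Q := Q.zpow_mem hq k
      have hqkK : q ^ k ∈ preimageAlong θ P' ⊔ Q := le_sup_right (a := preimageAlong θ P') hqk
      have hqkK' : θ ⟨q ^ k, hQS hqk⟩ ∈ imageAlong θ (preimageAlong θ P' ⊔ Q) :=
        ⟨⟨q ^ k, hQS hqk⟩, Subgroup.mem_subgroupOf.mpr hqkK, rfl⟩
      have h2 := induced_apply hind' (q ^ k) hqkK (hQS hqk) hqkK' (hψS _)
      have h3 := hgen _ ⟨q ^ k, hqk⟩ hα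
      have e0 : (⟨q ^ k, hQS hqk⟩ : S) = ⟨q, hQS hq⟩ ^ k := Subtype.ext (by simp)
      have e1 : (z : S ⧸ Q₁.subgroupOf S) = θ ⟨q ^ k, hQS hqk⟩ := by
        rw [e0, map_zpow]
        exact hk.symm
      show ψ' ⟨(z : S ⧸ Q₁.subgroupOf S), _⟩ = (z : S ⧸ Q₁.subgroupOf S)
      have e2 : (⟨(z : S ⧸ Q₁.subgroupOf S), hle (le_sup_right
          (a := P') z.2)⟩ : ↥(imageAlong θ (preimageAlong θ P' ⊔ Q))) =
          ⟨θ ⟨q ^ k, hQS hqk⟩, hqkK'⟩ := Subtype.ext e1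
      have e3 : (Subgroup.inclusion hle (Subgroup.inclusion le_sup_right z) :
          ↥(imageAlong θ (preimageAlong θ P' ⊔ Q))) = ⟨θ ⟨q ^ k, hQS hqk⟩, hqkK'⟩ := e2
      show ψ' (Subgroup.inclusion hle (Subgroup.inclusion le_sup_right z)) = _
      rw [e3, h2, e1]
      exact (hθeq _ _ h3).symm
  -- the image of the focal subgroup
  have hfocal : ∀ y ∈ F.focalSubgroup, ∃ hyS : y ∈ S, θ ⟨y, hyS⟩ ∈ E.focalSubgroup := by
    intro y hy
    unfold FusionSystem.focalSubgroup at hy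
    induction hy using Subgroup.closure_induction with
    | mem y hy =>
      obtain ⟨P, φ, x, hφ, rfl⟩ := hy
      have hPS := (F.le_of_mem hφ).1
      have hφS := (F.le_of_mem hφ).2
      obtain ⟨φ', hφ', hind⟩ := hmor.1.2 P φ hφ
      refine ⟨S.mul_mem (S.inv_mem (hPS x.2)) (hφS x), ?_⟩
      have hx' : θ ⟨x, hPS x.2⟩ ∈ imageAlong θ P :=
        ⟨⟨x, hPS x.2⟩, Subgroup.mem_subgroupOf.mpr x.2, rfl⟩
      have h1 := induced_apply hind x x.2 (hPS x.2) hx' (hφS x)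
      apply Subgroup.subset_closure
      refine ⟨imageAlong θ P, φ', ⟨θ ⟨x, hPS x.2⟩, hx'⟩, hφ', ?_⟩
      rw [h1]
      show θ ⟨(x : Ω)⁻¹ * φ x, _⟩ = (θ ⟨x, hPS x.2⟩)⁻¹ * θ ⟨φ x, hφS x⟩
      rw [← map_inv, ← map_mul]
      rfl
    | one =>
      refine ⟨S.one_mem, ?_⟩
      have e : (⟨1, S.one_mem⟩ : S) = 1 := rfl
      rw [e, map_one]
      exact Subgroup.one_mem _
    | mul a b _ _ iha ihb =>
      obtain ⟨ha, ha'⟩ := iha
      obtain ⟨hb, hb'⟩ := ihb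
      refine ⟨S.mul_mem ha hb, ?_⟩
      have e : (⟨a * b, S.mul_mem ha hb⟩ : S) = ⟨a, ha⟩ * ⟨b, hb⟩ := rfl
      rw [e, map_mul]
      exact Subgroup.mul_mem _ ha' hb'
    | inv a _ iha =>
      obtain ⟨ha, ha'⟩ := iha
      refine ⟨S.inv_mem ha, ?_⟩
      have e : (⟨a⁻¹, S.inv_mem ha⟩ : S) = ⟨a, ha⟩⁻¹ := rfl
      rw [e, map_inv]
      exact Subgroup.inv_mem _ ha'
  -- the derived subgroup of `S` lies in `D`
  have hSD : commutator S ≤ D.subgroupOf S := by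
    rw [commutator_def, Subgroup.commutator_le]
    intro a _ b _
    rw [Subgroup.mem_subgroupOf, commutatorElement_def]
    exact hcomm a a.2 b b.2
  -- conclusion
  intro y hyf hyQ
  obtain ⟨hyS, hyE⟩ := hfocal y hyf
  have hz := hcentral y hyQ
  have hcm := mem_commutator_of_isCentral_of_mem_focal hTp hEsat hz hyE
  have hcomm_map : commutator (S ⧸ Q₁.subgroupOf S) = (commutator S).map θ := by
    rw [commutator_def, commutator_def, Subgroup.map_commutator,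
      Subgroup.map_top_of_surjective θ hsurj]
  rw [hcomm_map] at hcm
  obtain ⟨c, hc, hcy⟩ := hcm
  have hcD : (c : Ω) ∈ D := Subgroup.mem_subgroupOf.mp (hSD hc)
  have h1 : θ (c⁻¹ * ⟨y, hyS⟩) = 1 := by
    rw [map_mul, map_inv, hcy, inv_mul_cancel]
  have h2 : (c : Ω)⁻¹ * y ∈ Q₁ := (hker _).mp h1
  have e : y = (c : Ω) * ((c : Ω)⁻¹ * y) := by group
  rw [e]
  exact D.mul_mem hcD (hQ₁D h2)

end Cfsg.Agent.Helper3.CT
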