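import Mathlib
import Cfsg.Agent.Lib.Helper3.CtlTr3
import Cfsg.Agent.Lib.Helper3.CtlTr5
import Cfsg.Agent.Lib.Helper3.KLQuotSys1

/-!
# Control of transfer: the factor system modulo a maximal normal subgroup
-/

set_option autoImplicit false
set_option linter.style.haveILetI false
set_option linter.unusedSectionVars false

namespace Cfsg.Agent.Helper3.CT

open Cfsg Cfsg.FusionSystem Cfsg.Agent.Helper25 Cfsg.Agent.Helper3.KL Cfsg.Agent.Helper3.TF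

universe u

variable {W : ∀ (Q : Type u) [Group Q], Subgroup Q} {p : ℕ} [Fact p.Prime]

/-- the induction hypothesis for systems on smaller groups -/
def IHQuot (W : ∀ (Q : Type u) [Group Q], Subgroup Q) (p : ℕ) (n : ℕ) : Prop :=
  ∀ (Ω' : Type u) [Group Ω'] (S' : Subgroup Ω') (E : FusionSystem S'), Finite S' →
    IsPGroup p S' → E.IsSaturated p → Nat.card S' < n → Good W E

variable {Ω : Type u} [Group Ω] {S : Subgroup Ω}

/-- **The quotient step.** Modulo a normal subgroup `Q` of maximal order, every map of `F` is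
trivial modulo `D Q`. -/
theorem exists_mul_of_quot
    (hW1 : ∀ (Q : Type u) [Group Q] [Finite Q], IsPGroup p Q → Nontrivial Q → W Q ≠ ⊥)
    (hW2 : ∀ (Q R : Type u) [Group Q] [Group R] [Finite Q], IsPGroup p Q → ∀ φ : Q ≃* R,
      (W Q).map φ.toMonoidHom = W R)
    [Finite S] (hS : IsPGroup p S) (F : FusionSystem S) (hF : F.IsSaturated p)
    (IH : IHSub W p F) (IHq : IHQuot W p (Nat.card S))
    {Q : Subgroup Ω} (hQ : F.IsNormal Q) (hQ1 : Q ≠ ⊥) (hQne : Q ≠ S)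
    (hmax : ∀ Q' : Subgroup Ω, F.IsNormal Q' → Nat.card Q' ≤ Nat.card Q)
    {D : Subgroup Ω} (hctl : Ctl W F D) (P : Subgroup Ω) (φ : P →* Ω) (hφ : φ ∈ F.Hom P)
    (x : P) : ∃ d ∈ D, ∃ q ∈ Q, (x : Ω)⁻¹ * φ x = d * q := by
  have hQS := hQ.1
  have hsc := stronglyClosed_of_isNormal F hQ
  haveI : (Q.subgroupOf S).Normal :=
    (Subgroup.normal_subgroupOf_iff_le_normalizer hQS).mpr (le_normalizer_of_stronglyClosed F hsc)
  obtain ⟨E, hE⟩ := Cfsg.Agent.S5132.result p hS F Q hsc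
  obtain ⟨θ, hθ⟩ : ∃ θ : S →* S ⧸ Q.subgroupOf S, θ = QuotientGroup.mk' (Q.subgroupOf S) :=
    ⟨_, rfl⟩
  rw [← hθ] at hE
  have hmor := Cfsg.Agent.S5134.result p hS F hF Q hsc θ E hE
  have hEsat := Cfsg.Agent.S5133.result p hS F hF E θ hmor
  have hker : ∀ s : S, θ s = 1 ↔ (s : Ω) ∈ Q := hE.2.1
  have hsurj : Function.Surjective θ := hθ ▸ QuotientGroup.mk'_surjective _
  have hTp : IsPGroup p ↥(⊤ : Subgroup (S ⧸ Q.subgroupOf S)) :=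
    (hS.to_quotient _).to_subgroup _
  haveI : Finite Q := finite_of_le_finite hQS
  have hcardQ : 1 < Nat.card Q := by
    rw [Finite.one_lt_card_iff_nontrivial]
    exact (Subgroup.nontrivial_iff_ne_bot Q).mpr hQ1
  have hcard : Nat.card ↥(⊤ : Subgroup (S ⧸ Q.subgroupOf S)) < Nat.card S := by
    rw [Subgroup.card_top, Subgroup.card_eq_card_quotient_mul_card_subgroup (Q.subgroupOf S)]
    have h1 : Nat.card (Q.subgroupOf S) = Nat.card Q :=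
      Nat.card_congr (Subgroup.subgroupOfEquivOfLe hQS).toEquiv
    rw [h1]
    have h2 : 0 < Nat.card (S ⧸ Q.subgroupOf S) := Nat.card_pos
    nlinarith
  have hgood := IHq (S ⧸ Q.subgroupOf S) ⊤ E inferInstance hTp hEsat hcard
  -- the top group is nontrivial
  have htop : (⊤ : Subgroup (S ⧸ Q.subgroupOf S)) ≠ ⊥ := by
    intro h
    apply hQne
    apply le_antisymm hQS
    intro s hs
    have h1 : θ ⟨s, hs⟩ ∈ (⊤ : Subgroup (S ⧸ Q.subgroupOf S)) := Subgroup.mem_top _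
    rw [h, Subgroup.mem_bot] at h1
    exact (hker _).mp h1
  obtain ⟨Wb, hWb⟩ : ∃ Wb : Subgroup (S ⧸ Q.subgroupOf S),
      Wb = wOf W (⊤ : Subgroup (S ⧸ Q.subgroupOf S)) := ⟨_, rfl⟩
  have hWb1 : Wb ≠ ⊥ := hWb ▸ wOf_ne_bot hW1 hTp htop
  have hWbn : ∀ (g y : S ⧸ Q.subgroupOf S), y ∈ Wb → g * y * g⁻¹ ∈ Wb := by
    intro g y hy
    have h1 := normalizer_le_normalizer_wOf (W := W) hW2 hTp
    have h2 : g ∈ Subgroup.normalizer ((⊤ : Subgroup (S ⧸ Q.subgroupOf S)) : Set _) := by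
      rw [Subgroup.mem_normalizer_iff]; intro h; simp
    rw [hWb]
    exact (Subgroup.mem_normalizer_iff.mp (h1 h2) y).mp (hWb ▸ hy)
  -- the full preimage of `W(S/Q)`
  obtain ⟨Wt, hWt⟩ : ∃ Wt : Subgroup Ω, Wt = preimageAlong θ Wb := ⟨_, rfl⟩
  have hmemWt : ∀ {y : Ω}, y ∈ Wt ↔ ∃ h : y ∈ S, θ ⟨y, h⟩ ∈ Wb := fun {y} => by
    rw [hWt]; exact mem_preimageAlong
  have hWtS : Wt ≤ S := fun y hy => (hmemWt.mp hy).1
  have hQWt : Q ≤ Wt := by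
    intro y hy
    refine hmemWt.mpr ⟨hQS hy, ?_⟩
    rw [(hker ⟨y, hQS hy⟩).mpr hy]
    exact Wb.one_mem
  have hSWt : S ≤ Subgroup.normalizer (Wt : Set Ω) := by
    have key : ∀ s ∈ S, ∀ y ∈ Wt, s * y * s⁻¹ ∈ Wt := by
      intro s hs y hy
      obtain ⟨hyS, hy'⟩ := hmemWt.mp hy
      refine hmemWt.mpr ⟨S.mul_mem (S.mul_mem hs hyS) (S.inv_mem hs), ?_⟩
      have e : (⟨s * y * s⁻¹, S.mul_mem (S.mul_mem hs hyS) (S.inv_mem hs)⟩ : S) =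
          ⟨s, hs⟩ * ⟨y, hyS⟩ * ⟨s, hs⟩⁻¹ := Subtype.ext rfl
      rw [e, map_mul, map_mul, map_inv]
      exact hWbn _ _ hy'
    intro s hs
    apply mem_normalizer_of_forall (key s hs)
    intro y hy
    have := key s⁻¹ (S.inv_mem hs) y hy
    rwa [inv_inv] at this
  have hNWt : normalizerIn S Wt = S := normalizerIn_eq_of_le hSWt
  have hWtfn : F.IsFullyNormalized Wt := isFullyNormalized_of_normal F hWtS hSWt
  have hltQWt : Nat.card Q < Nat.card Wt := by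
    obtain ⟨⟨w, hw⟩, hw0⟩ := (Subgroup.ne_bot_iff_exists_ne_one (H := Wb)).mp hWb1
    have hw1 : w ≠ 1 := fun h => hw0 (Subtype.ext h)
    obtain ⟨s, rfl⟩ := hsurj w
    have hsWt : (s : Ω) ∈ Wt := hmemWt.mpr ⟨s.2, hw⟩
    have hsQ : (s : Ω) ∉ Q := fun h => hw1 ((hker s).mpr h)
    exact card_lt_of_le_of_mem hWtS hQWt hsWt hsQ
  -- the normalizer system of `Wt`
  obtain ⟨F₁, hF₁⟩ := Cfsg.Agent.S5096.result F Wt hWtS
  have hsat₁ := normalizerSystem_isSaturated p hS F hF hWtfn F₁ hF₁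
  have hsub₁ : ∀ P : Subgroup Ω, F₁.Hom P ⊆ F.Hom P := fun P φ hφ => by
    rw [hF₁ P] at hφ; exact hφ.1
  have hnot₁ : ¬ (∀ P : Subgroup Ω, F.Hom P ⊆ F₁.Hom P) := by
    intro hc
    have hWtn : F.IsNormal Wt := by
      refine ⟨hWtS, fun P φ hφ => ?_⟩
      have := hc P hφ
      rw [hF₁ P] at this
      obtain ⟨-, -, -, ψ, hψ, h1, h2⟩ := this
      exact ⟨ψ, hψ, h1, h2⟩
    have := hmax Wt hWtn
    omega
  have hctl₁ : Ctl W F₁ D := ctl_of_sub_eq F F₁ hsub₁ hNWt hctl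
  have hgood₁ := IH (normalizerIn S Wt) F₁ normalizerIn_le hsub₁ hsat₁ hnot₁ D hctl₁
  -- the image of `D`
  obtain ⟨Db, hDb⟩ : ∃ Db : Subgroup (S ⧸ Q.subgroupOf S), Db = (D.subgroupOf S).map θ :=
    ⟨_, rfl⟩
  have hctlE : Ctl W E Db := by
    intro Pb φb hφb
    rw [← hWb] at hφb
    obtain ⟨hφbE, hPbN, hval, ψb, hψb, hagree, hmap⟩ := hφb
    obtain ⟨K, hK⟩ : ∃ K : Subgroup Ω, K = preimageAlong θ (Pb ⊔ Wb) := ⟨_, rfl⟩
    have h0 := (hE.2.2.2 _ ψb).mp hψb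
    rw [← hK] at h0
    obtain ⟨-, ψ, hψ, hind⟩ := h0
    have hmemK : ∀ {y : Ω}, y ∈ K ↔ ∃ h : y ∈ S, θ ⟨y, h⟩ ∈ Pb ⊔ Wb := fun {y} => by
      rw [hK]; exact mem_preimageAlong
    have hKS : K ≤ S := fun y hy => (hmemK.mp hy).1
    have hψS := (F.le_of_mem hψ).2
    have hWtK : Wt ≤ K := by
      intro y hy
      obtain ⟨h1, h2⟩ := hmemWt.mp hy
      exact hmemK.mpr ⟨h1, le_sup_right (a := Pb) h2⟩
    have hψWt : ∀ (w : Ω) (hw : w ∈ Wt), ψ ⟨w, hWtK hw⟩ ∈ Wt := by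
      intro w hw
      obtain ⟨hwS, hwb⟩ := hmemWt.mp hw
      refine hmemWt.mpr ⟨hψS _, ?_⟩
      have hwK' : θ ⟨w, hwS⟩ ∈ Pb ⊔ Wb := le_sup_right (a := Pb) hwb
      have h1 := induced_apply hind w (hWtK hw) hwS hwK' (hψS _)
      rw [← h1]
      have h2 : ψb ⟨θ ⟨w, hwS⟩, hwK'⟩ ∈ (Wb.subgroupOf (Pb ⊔ Wb)).map ψb :=
        ⟨⟨θ ⟨w, hwS⟩, hwK'⟩, Subgroup.mem_subgroupOf.mpr hwb, rfl⟩
      exact hmap.le h2
    have hKN : K ≤ normalizerIn S Wt := fun y hy => ⟨hKS hy, hSWt (hKS hy)⟩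
    have hψn : ψ ∈ F.normalizerHom Wt K := mem_normalizerHom_of_le F hWtK hKN hψ hψWt
    have hψ₁ : ψ ∈ F₁.Hom K := by rw [hF₁ K]; exact hψn
    have hψD : TrivMod D ψ := hgood₁ K ψ hψ₁
    intro xb
    obtain ⟨s, hs⟩ := hsurj (xb : S ⧸ Q.subgroupOf S)
    have hsPb : θ s ∈ Pb := hs ▸ xb.2
    have hsK' : θ ⟨(s : Ω), s.2⟩ ∈ Pb ⊔ Wb := le_sup_left (b := Wb) hsPb
    have hsK : (s : Ω) ∈ K := hmemK.mpr ⟨s.2, hsK'⟩
    have h1 := induced_apply hind (s : Ω) hsK s.2 hsK' (hψS _)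
    have h2 := hagree xb
    have h3 := hψD ⟨(s : Ω), hsK⟩
    have e1 : (Subgroup.inclusion (le_sup_left : Pb ≤ Pb ⊔ Wb) xb : ↥(Pb ⊔ Wb)) =
        ⟨θ ⟨(s : Ω), s.2⟩, hsK'⟩ := Subtype.ext hs.symm
    rw [← h2, e1, h1, hDb]
    have hmemS : ((⟨(s : Ω), hsK⟩ : K) : Ω)⁻¹ * ψ ⟨(s : Ω), hsK⟩ ∈ S :=
      S.mul_mem (S.inv_mem s.2) (hψS _)
    refine ⟨⟨_, hmemS⟩, Subgroup.mem_subgroupOf.mpr h3, ?_⟩
    have e2 : (⟨((⟨(s : Ω), hsK⟩ : K) : Ω)⁻¹ * ψ ⟨(s : Ω), hsK⟩, hmemS⟩ : S) =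
        s⁻¹ * ⟨ψ ⟨(s : Ω), hsK⟩, hψS _⟩ := Subtype.ext rfl
    rw [e2, map_mul, map_inv, ← hs]
  have hall := hgood Db hctlE
  -- conclusion
  have hPS := (F.le_of_mem hφ).1
  have hφS := (F.le_of_mem hφ).2
  obtain ⟨φ', hφ', hind⟩ := hmor.1.2 P φ hφ
  have hx' : θ ⟨x, hPS x.2⟩ ∈ imageAlong θ P :=
    ⟨⟨x, hPS x.2⟩, Subgroup.mem_subgroupOf.mpr x.2, rfl⟩
  have h1 := induced_apply hind x x.2 (hPS x.2) hx' (hφS x)
  have h2 := hall _ φ' hφ' ⟨θ ⟨x, hPS x.2⟩, hx'⟩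
  rw [h1, hDb] at h2
  obtain ⟨d, hd, hdeq⟩ := h2
  have hdD : (d : Ω) ∈ D := Subgroup.mem_subgroupOf.mp hd
  have h3 : θ (d⁻¹ * (⟨x, hPS x.2⟩⁻¹ * ⟨φ x, hφS x⟩)) = 1 := by
    rw [map_mul, map_inv, hdeq, map_mul, map_inv]
    exact inv_mul_cancel _
  have h4 := (hker _).mp h3
  refine ⟨d, hdD, _, h4, ?_⟩
  show (x : Ω)⁻¹ * φ x = (d : Ω) * ((d : Ω)⁻¹ * ((x : Ω)⁻¹ * φ x))
  group

end Cfsg.Agent.Helper3.CT
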