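import Mathlib
import Cfsg.Agent.Lib.Helper3.CtlTr4
import Cfsg.Agent.Lib.Helper3.CtlTr6

/-!
# Control of transfer: the case of a nontrivial normal subgroup, and the induction
-/

set_option autoImplicit false
set_option linter.style.haveILetI false
set_option linter.unusedSectionVars false

namespace Cfsg.Agent.Helper3.CT

open Cfsg Cfsg.FusionSystem Cfsg.Agent.Helper25 Cfsg.Agent.Helper3.KL Cfsg.Agent.Helper3.TF

universe u

variable {W : ∀ (Q : Type u) [Group Q], Subgroup Q} {p : ℕ} [Fact p.Prime]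

section normal

variable {Ω : Type u} [Group Ω] {S : Subgroup Ω}

/-- **The case of a nontrivial normal subgroup.** -/
theorem good_of_normal
    (hW1 : ∀ (Q : Type u) [Group Q] [Finite Q], IsPGroup p Q → Nontrivial Q → W Q ≠ ⊥)
    (hW2 : ∀ (Q R : Type u) [Group Q] [Group R] [Finite Q], IsPGroup p Q → ∀ φ : Q ≃* R,
      (W Q).map φ.toMonoidHom = W R)
    (hT : ∀ (G : Type u) [Group G] [Finite G] (P : Sylow p G), Subgroup.centralizer ((Cfsg.pCore p G : Subgroup G) : Set G) ≤ Cfsg.pCore p G → Cfsg.pCore p G ⊓ commutator G = Cfsg.pCore p G ⊓ (commutator ↥(Subgroup.normalizer (((W ↥(P : Subgroup G)).map (P : Subgroup G).subtype : Subgroup G) : Set G))).map (Subgroup.normalizer (((W ↥(P : Subgroup G)).map (P : Subgroup G).subtype : Subgroup G) : Set G)).subtype)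
    [Finite S] (hS : IsPGroup p S) (F : FusionSystem S) (hF : F.IsSaturated p)
    (IH : IHSub W p F) (IHq : IHQuot W p (Nat.card S))
    (X : Subgroup Ω) (hX : F.IsNormal X) (hX1 : X ≠ ⊥) : Good W F := by
  intro D hctl
  -- a normal subgroup of largest order
  have hfin : {Q : Subgroup Ω | F.IsNormal Q}.Finite :=
    (finite_subgroups_le S).subset fun Q hQ => hQ.1
  obtain ⟨Q, hQ, hmaxQ⟩ := Set.exists_max_image {Q : Subgroup Ω | F.IsNormal Q}
    (fun Q => Nat.card Q) hfin ⟨X, hX⟩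
  have hQ1 : Q ≠ ⊥ := by
    intro h
    haveI : Finite X := finite_of_le_finite hX.1
    have h1 : 1 < Nat.card X := by
      rw [Finite.one_lt_card_iff_nontrivial]
      exact (Subgroup.nontrivial_iff_ne_bot X).mpr hX1
    have h2 := hmaxQ X hX
    rw [h, Subgroup.card_bot] at h2
    omega
  -- the focal subgroup of `N_F(W(S))`
  obtain ⟨D₀, hD₀⟩ : ∃ D₀ : Subgroup Ω, D₀ = Subgroup.closure
      {y | ∃ (P : Subgroup Ω) (φ : P →* Ω) (x : P), φ ∈ F.normalizerHom (wOf W S) P ∧
        y = (x : Ω)⁻¹ * φ x} := ⟨_, rfl⟩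
  have hctl₀ : Ctl W F D₀ := fun P φ hφ x => by
    rw [hD₀]
    exact Subgroup.subset_closure ⟨P, φ, x, hφ, rfl⟩
  have hD₀D : D₀ ≤ D := by
    rw [hD₀, Subgroup.closure_le]
    rintro _ ⟨P, φ, x, hφ, rfl⟩
    exact hctl P φ hφ x
  have hD₀f : D₀ ≤ F.focalSubgroup := by
    rw [hD₀]
    apply Subgroup.closure_mono
    rintro _ ⟨P, φ, x, hφ, rfl⟩
    exact ⟨P, φ, x, hφ.1, rfl⟩
  suffices h : ∀ (P : Subgroup Ω) (φ : P →* Ω), φ ∈ F.Hom P → TrivMod D₀ φ from
    fun P φ hφ => trivMod_mono hD₀D (h P φ hφ)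
  intro P φ hφ
  by_cases hQS' : Q = S
  · have hSn : F.IsNormal S := hQS' ▸ hQ
    obtain ⟨ψ, hψ, hext, -⟩ := hSn.2 P φ hφ
    have hPS := (F.le_of_mem hφ).1
    have hle : S ≤ P ⊔ S := le_sup_right
    have hψ' := restrict_mem F hle hψ
    have hD := ctl_of_top hW2 hS F hctl₀ hψ'
    apply trivMod_of_agree hPS hD
    intro x
    rw [← hext x]
    rfl
  · have hcommS : ∀ a ∈ S, ∀ b ∈ S, a * b * a⁻¹ * b⁻¹ ∈ D₀ := by
      intro a ha b hb
      have := ctl_conj hW2 hS F hctl₀ (P := S) le_rfl hb ⟨a⁻¹, S.inv_mem ha⟩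
      rw [conjHom_apply] at this
      have e : a * b * a⁻¹ * b⁻¹ = ((⟨a⁻¹, S.inv_mem ha⟩ : S) : Ω)⁻¹ *
          (b * ((⟨a⁻¹, S.inv_mem ha⟩ : S) : Ω) * b⁻¹) := by
        show _ = (a⁻¹)⁻¹ * (b * a⁻¹ * b⁻¹)
        group
      rw [e]
      exact this
    have haut : ∀ φ : Q →* Ω, φ ∈ F.Hom Q → TrivMod D₀ φ := fun φ hφ =>
      trivMod_of_isNormal_hom hW2 hT hS F hF hctl₀ hQ hφ
    have hfocQ := focal_inf_le hS F hF hQ hcommS haut
    intro x
    obtain ⟨d, hd, q, hq, heq⟩ := exists_mul_of_quot hW1 hW2 hS F hF IH IHq hQ hQ1 hQS'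
      (fun Q' hQ' => hmaxQ Q' hQ') hctl₀ P φ hφ x
    have hfoc : (x : Ω)⁻¹ * φ x ∈ F.focalSubgroup :=
      Subgroup.subset_closure ⟨P, φ, x, hφ, rfl⟩
    have hqf : q ∈ F.focalSubgroup := by
      have e : q = d⁻¹ * ((x : Ω)⁻¹ * φ x) := by rw [heq]; group
      rw [e]
      exact Subgroup.mul_mem _ (Subgroup.inv_mem _ (hD₀f hd)) hfoc
    rw [heq]
    exact D₀.mul_mem hd (hfocQ q hqf hq)

end normal

section induction

/-- the inner induction on the number of maps -/
theorem good_of_card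
    (hW1 : ∀ (Q : Type u) [Group Q] [Finite Q], IsPGroup p Q → Nontrivial Q → W Q ≠ ⊥)
    (hW2 : ∀ (Q R : Type u) [Group Q] [Group R] [Finite Q], IsPGroup p Q → ∀ φ : Q ≃* R,
      (W Q).map φ.toMonoidHom = W R)
    (hT : ∀ (G : Type u) [Group G] [Finite G] (P : Sylow p G), Subgroup.centralizer ((Cfsg.pCore p G : Subgroup G) : Set G) ≤ Cfsg.pCore p G → Cfsg.pCore p G ⊓ commutator G = Cfsg.pCore p G ⊓ (commutator ↥(Subgroup.normalizer (((W ↥(P : Subgroup G)).map (P : Subgroup G).subtype : Subgroup G) : Set G))).map (Subgroup.normalizer (((W ↥(P : Subgroup G)).map (P : Subgroup G).subtype : Subgroup G) : Set G)).subtype)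
    (n : ℕ) (IHq : IHQuot W p n) :
    ∀ (k : ℕ) (Ω : Type u) [Group Ω] (S : Subgroup Ω) (F : FusionSystem S), Finite S →
      IsPGroup p S → F.IsSaturated p → Nat.card S ≤ n → (graphSet F).ncard ≤ k → Good W F := by
  intro k
  induction k with
  | zero =>
    intro Ω _ S F hfin hS hF hn hk
    exfalso
    haveI := hfin
    have h0 : (graphSet F).ncard = 0 := by omega
    have h1 := (Set.ncard_eq_zero (graphSet_finite F)).mp h0
    have h2 : graphOf (S.subtype) ∈ graphSet F := ⟨S, S.subtype, subtype_mem F le_rfl, rfl⟩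
    rw [h1] at h2
    exact h2
  | succ k ih =>
    intro Ω _ S F hfin hS hF hn hk
    haveI := hfin
    by_cases hlt : Nat.card S < n
    · exact IHq Ω S F hfin hS hF hlt
    have hcard : Nat.card S = n := by omega
    have IH : IHSub W p F := by
      intro T F' hTS hsub hsat hnot
      have hTfin : Finite T := finite_of_le_finite hTS
      have hTp : IsPGroup p T := hS.to_le hTS
      have hTn : Nat.card T ≤ n := (Subgroup.card_le_of_le hTS).trans hn
      apply ih Ω T F' hTfin hTp hsat hTn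
      by_contra hc
      apply hnot
      exact hom_subset_of_ncard_le F F' hsub (by omega)
    have IHq' : IHQuot W p (Nat.card S) := hcard ▸ IHq
    exact main_step hW1 hW2 hT hS F hF IH
      (fun X hX hX1 => good_of_normal hW1 hW2 hT hS F hF IH IHq' X hX hX1)

/-- **Control of transfer**: every saturated fusion system is good. -/
theorem good_all
    (hW1 : ∀ (Q : Type u) [Group Q] [Finite Q], IsPGroup p Q → Nontrivial Q → W Q ≠ ⊥)
    (hW2 : ∀ (Q R : Type u) [Group Q] [Group R] [Finite Q], IsPGroup p Q → ∀ φ : Q ≃* R,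
      (W Q).map φ.toMonoidHom = W R)
    (hT : ∀ (G : Type u) [Group G] [Finite G] (P : Sylow p G), Subgroup.centralizer ((Cfsg.pCore p G : Subgroup G) : Set G) ≤ Cfsg.pCore p G → Cfsg.pCore p G ⊓ commutator G = Cfsg.pCore p G ⊓ (commutator ↥(Subgroup.normalizer (((W ↥(P : Subgroup G)).map (P : Subgroup G).subtype : Subgroup G) : Set G))).map (Subgroup.normalizer (((W ↥(P : Subgroup G)).map (P : Subgroup G).subtype : Subgroup G) : Set G)).subtype) :
    ∀ n : ℕ, IHQuot W p n := by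
  intro n
  induction n with
  | zero =>
    intro Ω' _ S' E _ _ _ h
    omega
  | succ n ih =>
    intro Ω' _ S' E hfin hS' hE hlt
    exact good_of_card hW1 hW2 hT n ih _ Ω' S' E hfin hS' hE (by omega) le_rfl

/-- **Control of transfer**, final form: the focal subgroup of `F` is the focal subgroup of
`N_F(W(S))`. -/
theorem focal_eq
    (hW1 : ∀ (Q : Type u) [Group Q] [Finite Q], IsPGroup p Q → Nontrivial Q → W Q ≠ ⊥)
    (hW2 : ∀ (Q R : Type u) [Group Q] [Group R] [Finite Q], IsPGroup p Q → ∀ φ : Q ≃* R,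
      (W Q).map φ.toMonoidHom = W R)
    (hT : ∀ (G : Type u) [Group G] [Finite G] (P : Sylow p G), Subgroup.centralizer ((Cfsg.pCore p G : Subgroup G) : Set G) ≤ Cfsg.pCore p G → Cfsg.pCore p G ⊓ commutator G = Cfsg.pCore p G ⊓ (commutator ↥(Subgroup.normalizer (((W ↥(P : Subgroup G)).map (P : Subgroup G).subtype : Subgroup G) : Set G))).map (Subgroup.normalizer (((W ↥(P : Subgroup G)).map (P : Subgroup G).subtype : Subgroup G) : Set G)).subtype)
    {Ω : Type u} [Group Ω] {S : Subgroup Ω} [Finite S] (hS : IsPGroup p S) (F : FusionSystem S)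
    (hF : F.IsSaturated p) (N : FusionSystem (normalizerIn S (wOf W S)))
    (hN : F.IsNormalizerSystem (wOf W S) N) : N.focalSubgroup = F.focalSubgroup := by
  apply le_antisymm
  · unfold FusionSystem.focalSubgroup
    apply Subgroup.closure_mono
    rintro _ ⟨P, φ, x, hφ, rfl⟩
    rw [hN P] at hφ
    exact ⟨P, φ, x, hφ.1, rfl⟩
  · have hgood := good_all hW1 hW2 hT (Nat.card S + 1) Ω S F inferInstance hS hF (by omega)
    have hctl : Ctl W F N.focalSubgroup := by
      intro P φ hφ x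
      apply Subgroup.subset_closure
      exact ⟨P, φ, x, by rw [hN P]; exact hφ, rfl⟩
    have h := hgood _ hctl
    conv_lhs => unfold FusionSystem.focalSubgroup
    rw [Subgroup.closure_le]
    rintro _ ⟨P, φ, x, hφ, rfl⟩
    exact h P φ hφ x

end induction

end Cfsg.Agent.Helper3.CT
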