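import Mathlib
import Cfsg.Agent.Lib.Helper3.CtlTr7
import Cfsg.Agent.Lib.Helper10.KInfTransfer
import Cfsg.Agent.S1991
import Cfsg.Agent.S1978

/-!
# Control of transfer by the lower `K_∞` functor in saturated fusion systems, `p ≥ 5`
-/

set_option autoImplicit false
set_option linter.style.haveILetI false
set_option linter.unusedSectionVars false

namespace Cfsg.Agent.Helper3.CT

open Cfsg Cfsg.FusionSystem Cfsg.Agent.Helper25 Cfsg.Agent.Helper3.KL Cfsg.Agent.Helper3.Model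
  Cfsg.Agent.Helper3.TF

open scoped commutatorElement

universe u

variable {p : ℕ} [Fact p.Prime]

/-- the lower `K_∞` functor -/
abbrev KLow : ∀ (Q : Type u) [Group Q], Subgroup Q := fun Q _ => Cfsg.kInfLower Q

theorem kLow_hW1 : ∀ (Q : Type u) [Group Q] [Finite Q], IsPGroup p Q → Nontrivial Q →
    KLow Q ≠ ⊥ := (Cfsg.Agent.Helper10.isCharPFunctor_kInfLower.{u} p).1

theorem kLow_hW2 : ∀ (Q R : Type u) [Group Q] [Group R] [Finite Q], IsPGroup p Q → ∀ φ : Q ≃* R,
    (KLow Q).map φ.toMonoidHom = KLow R := (Cfsg.Agent.Helper10.isCharPFunctor_kInfLower.{u} p).2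

/-- the local condition for the lower `K_∞` functor, `p ≥ 5` -/
theorem kLow_hT (hp5 : 5 ≤ p) : ∀ (G : Type u) [Group G] [Finite G] (P : Sylow p G), Subgroup.centralizer ((Cfsg.pCore p G : Subgroup G) : Set G) ≤ Cfsg.pCore p G → Cfsg.pCore p G ⊓ commutator G = Cfsg.pCore p G ⊓ (commutator ↥(Subgroup.normalizer (((KLow ↥(P : Subgroup G)).map (P : Subgroup G).subtype : Subgroup G) : Set G))).map (Subgroup.normalizer (((KLow ↥(P : Subgroup G)).map (P : Subgroup G).subtype : Subgroup G) : Set G)).subtype := by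
  intro G _ _ P _
  have h := Cfsg.Agent.Helper10.fct_singleton_sylow
    (Cfsg.Agent.Helper10.isCharPFunctor_kInfLower.{u} p)
    (Cfsg.Agent.Helper10.kinfLower_fct hp5 G) (P : Subgroup G) P.2 P.not_dvd_index
  have hcoreP : Cfsg.pCore p G ≤ (P : Subgroup G) :=
    Cfsg.Agent.Helper10.pCore_le_sylow (P : Subgroup G) P.2 P.not_dvd_index
  rw [Subgroup.map_subtype_commutator]
  have hK : inducedFunctor (G := G) kInfLower (P : Subgroup G) =
      (KLow ↥(P : Subgroup G)).map (P : Subgroup G).subtype := rfl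
  rw [hK] at h
  have e1 : ∀ A : Subgroup G, Cfsg.pCore p G ⊓ ((P : Subgroup G) ⊓ A) = Cfsg.pCore p G ⊓ A :=
    fun A => by rw [← inf_assoc, inf_eq_left.mpr hcoreP]
  rw [← e1 (commutator G), h, e1]

/-- **`p ≥ 5`, `Aut_F(S)` a `p`-group**: the focal subgroup is proper. -/
theorem focal_lt_of_aut_pgroup {Ω : Type u} [Group Ω] {S : Subgroup Ω} [Finite S]
    (hS : IsPGroup p S) (F : FusionSystem S) (hF : F.IsSaturated p) (hp : 5 ≤ p) (hS1 : S ≠ ⊥)
    (haut : IsPGroup p ↥(F.autGroup S)) : F.focalSubgroup < S := by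
  obtain ⟨X, hX⟩ : ∃ X : Subgroup Ω, X = wOf KLow S := ⟨_, rfl⟩
  have hXS : X ≤ S := hX ▸ wOf_le S
  have hSX : S ≤ Subgroup.normalizer (X : Set Ω) :=
    hX ▸ Subgroup.le_normalizer.trans (normalizer_le_normalizer_wOf kLow_hW2 hS)
  obtain ⟨N, hN⟩ := Cfsg.Agent.S5096.result F X hXS
  have hfoc : N.focalSubgroup = F.focalSubgroup := by
    subst hX
    exact focal_eq kLow_hW1 kLow_hW2 (kLow_hT hp) hS F hF N hN
  have hfocS : F.focalSubgroup ≤ S := by
    unfold FusionSystem.focalSubgroup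
    rw [Subgroup.closure_le]
    rintro _ ⟨P, φ, x, hφ, rfl⟩
    exact S.mul_mem (S.inv_mem ((F.le_of_mem hφ).1 x.2)) ((F.le_of_mem hφ).2 x)
  -- the normalizer system is constrained
  have hST : S ≤ normalizerIn S X := fun s hs => ⟨hs, hSX hs⟩
  have hTS : normalizerIn S X ≤ S := normalizerIn_le
  have hXfn : F.IsFullyNormalized X := isFullyNormalized_of_normal F hXS hSX
  have hNsat := normalizerSystem_isSaturated p hS F hF hXfn N hN
  have hXn := normalizerSystem_isNormal F hXS N hN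
  have hXc : N.IsCentric X := by
    refine ⟨le_normalizerIn hXS, ?_⟩
    rintro X' ⟨φ, hφ, rfl⟩
    rw [normalizerSystem_range_eq F N hN hφ]
    intro c hc
    rw [mem_centralizerIn] at hc
    have hcS : c ∈ S := hTS hc.1
    have h1 := (Cfsg.Agent.S1978.result (P := ↥S) hS).1
    have h2 : (⟨c, hcS⟩ : S) ∈ Subgroup.centralizer (Cfsg.kInfLower ↥S : Set ↥S) := by
      rw [Subgroup.mem_centralizer_iff]
      intro y hy
      apply Subtype.ext
      have hyX : (y : Ω) ∈ X := by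
        rw [hX]
        exact mem_wOf.mpr ⟨y.2, hy⟩
      exact hc.2 y hyX
    have h3 := h1 h2
    rw [hX]
    exact mem_wOf.mpr ⟨hcS, h3⟩
  have hcons : N.IsConstrained p := ⟨hNsat, X, hXn, hXc⟩
  haveI : Finite ↥(normalizerIn S X) := finite_of_le_finite hTS
  have hTp : IsPGroup p ↥(normalizerIn S X) := hS.to_le hTS
  obtain ⟨G, _, ι, hfin, hreal, ⟨P₀, hP₀⟩, hcen⟩ := exists_model p hTp N hcons
  haveI := hfin
  have hι := hreal.1
  have hsubN : ∀ P : Subgroup Ω, N.Hom P ⊆ F.Hom P := fun P φ hφ => by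
    rw [hN P] at hφ; exact hφ.1
  -- the Sylow subgroup is nontrivial
  have hP₀ne : (P₀ : Subgroup G) ≠ ⊥ := by
    intro h
    apply hS1
    rw [eq_bot_iff]
    intro s hs
    have h1 : ι ⟨s, hST hs⟩ ∈ (P₀ : Subgroup G) := by rw [hP₀]; exact ⟨_, rfl⟩
    rw [h, Subgroup.mem_bot] at h1
    have h2 : (⟨s, hST hs⟩ : ↥(normalizerIn S X)) = 1 := hι (by rw [h1, map_one])
    exact congrArg Subtype.val h2
  -- elements of order prime to `p` normalizing the Sylow subgroup centralize it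
  have hNC : ∀ g ∈ Subgroup.normalizer (((P₀ : Subgroup G) : Subgroup G) : Set G),
      (orderOf g).Coprime p →
      g ∈ Subgroup.centralizer (((P₀ : Subgroup G) : Subgroup G) : Set G) := by
    intro g hg hcop
    have hgr : ∀ y : ↥(normalizerIn S X), g * ι ⟨y, le_rfl (a := normalizerIn S X) y.2⟩ * g⁻¹ ∈
        ι.range := by
      intro y
      rw [← hP₀]
      apply (Subgroup.mem_normalizer_iff.mp hg _).mp
      rw [hP₀]
      exact ⟨_, rfl⟩
    obtain ⟨ψ, hψ, hψT, hιψ⟩ := exists_hom_of_conj N hreal le_rfl g hgr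
    have hψF : ψ.comp (Subgroup.inclusion hST) ∈ F.Hom S :=
      restrict_mem F hST (hsubN _ hψ)
    have hψS : ∀ s : S, (ψ.comp (Subgroup.inclusion hST)) s ∈ S := (F.le_of_mem hψF).2
    have hinj : Function.Injective ((ψ.comp (Subgroup.inclusion hST)).codRestrict S hψS) :=
      fun a b hab => F.injective_of_mem hψF (congrArg Subtype.val hab)
    obtain ⟨α, hα⟩ : ∃ α : MulAut S, α = MulEquiv.ofBijective _
      ⟨hinj, Finite.surjective_of_injective hinj⟩ := ⟨_, rfl⟩
    have hαv : ∀ s : S, ((α s : S) : Ω) = ψ ⟨s, hST s.2⟩ := fun s => by rw [hα]; rfl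
    have hαF : α ∈ F.autGroup S := by
      rw [mem_autGroup_iff F le_rfl]
      have e : S.subtype.comp α.toMonoidHom = ψ.comp (Subgroup.inclusion hST) := by
        ext s
        exact hαv s
      rw [e]
      exact hψF
    have hια : ∀ s : S, ι ⟨((α s : S) : Ω), hST (α s).2⟩ = g * ι ⟨s, hST s.2⟩ * g⁻¹ := by
      intro s
      have h1 := hιψ ⟨s, hST s.2⟩
      rw [← h1]
      congr 1
      apply Subtype.ext
      exact hαv s
    have hpow : ∀ (n : ℕ) (s : S), ι ⟨(((α ^ n) s : S) : Ω), hST ((α ^ n) s).2⟩ =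
        g ^ n * ι ⟨s, hST s.2⟩ * (g ^ n)⁻¹ := by
      intro n
      induction n with
      | zero =>
        intro s
        simp
      | succ n ih =>
        intro s
        have e : (α ^ (n + 1)) s = α ((α ^ n) s) := by
          rw [pow_succ', MulAut.mul_apply]
        rw [e, hια, ih, pow_succ']
        group
    obtain ⟨k, hk⟩ := haut ⟨α, hαF⟩
    have hk' : α ^ (p ^ k) = 1 := by
      have := congrArg Subtype.val hk
      simpa using this
    have hgk : g ^ (p ^ k) ∈ Subgroup.centralizer (((P₀ : Subgroup G) : Subgroup G) : Set G) := by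
      rw [Subgroup.mem_centralizer_iff]
      intro y hy
      rw [SetLike.mem_coe, hP₀] at hy
      obtain ⟨t, rfl⟩ := hy
      have h1 := hpow (p ^ k) ⟨t, hTS t.2⟩
      rw [hk'] at h1
      have e : (⟨(((1 : MulAut S) ⟨(t : Ω), hTS t.2⟩ : S) : Ω),
          hST ((1 : MulAut S) ⟨(t : Ω), hTS t.2⟩).2⟩ : ↥(normalizerIn S X)) = t := Subtype.ext rfl
      have e' : (⟨((⟨(t : Ω), hTS t.2⟩ : S) : Ω), hST (⟨(t : Ω), hTS t.2⟩ : S).2⟩ :
          ↥(normalizerIn S X)) = t := Subtype.ext rfl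
      rw [e, e'] at h1
      calc ι t * g ^ (p ^ k) = (g ^ (p ^ k) * ι t * (g ^ (p ^ k))⁻¹) * g ^ (p ^ k) := by rw [← h1]
        _ = g ^ (p ^ k) * ι t := by group
    have hcop' : (p ^ k).Coprime (orderOf g) := (Nat.Coprime.pow_right k hcop).symm
    obtain ⟨m, hm⟩ := exists_pow_eq_self_of_coprime hcop'
    rw [← hm]
    exact Subgroup.pow_mem _ hgk m
  obtain ⟨M, hMn, hMidx⟩ := Cfsg.Agent.S1991.result hp P₀ hP₀ne hNC
  haveI := hMn
  -- the derived subgroup lies in `M`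
  have hcard : Nat.card (G ⧸ M) = p := by rw [← Subgroup.index_eq_card]; exact hMidx
  haveI : IsCyclic (G ⧸ M) := isCyclic_of_prime_card hcard
  have hGM : commutator G ≤ M :=
    Subgroup.Normal.quotient_commutative_iff_commutator_le.mp inferInstance
  -- the Sylow subgroup does not lie in `M`
  have hnot : ¬ (P₀ : Subgroup G) ≤ M := by
    intro hle
    have h1 := Subgroup.relIndex_mul_index hle
    rw [hMidx] at h1
    exact P₀.not_dvd_index ⟨(P₀ : Subgroup G).relIndex M, by rw [← h1, mul_comm]⟩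
  obtain ⟨s₀, hs₀P, hs₀M⟩ := SetLike.not_le_iff_exists.mp hnot
  rw [hP₀] at hs₀P
  obtain ⟨t₀, rfl⟩ := hs₀P
  -- the focal subgroup of `N` maps into `M`
  have hfocM : ∀ y ∈ N.focalSubgroup, ∃ hy : y ∈ normalizerIn S X, ι ⟨y, hy⟩ ∈ M := by
    intro y hy
    unfold FusionSystem.focalSubgroup at hy
    induction hy using Subgroup.closure_induction with
    | mem y hy =>
      obtain ⟨P, φ, x, hφ, rfl⟩ := hy
      have hPT := (N.le_of_mem hφ).1
      have hφT := (N.le_of_mem hφ).2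
      obtain ⟨g, hg⟩ := (hreal.2 P hPT φ hφT).mp hφ
      refine ⟨Subgroup.mul_mem _ (Subgroup.inv_mem _ (hPT x.2)) (hφT x), ?_⟩
      apply hGM
      have e : (⟨(x : Ω)⁻¹ * φ x, Subgroup.mul_mem _ (Subgroup.inv_mem _ (hPT x.2)) (hφT x)⟩ :
          ↥(normalizerIn S X)) = ⟨x, hPT x.2⟩⁻¹ * ⟨φ x, hφT x⟩ := Subtype.ext rfl
      rw [e, map_mul, map_inv, hg x]
      have e2 : (ι ⟨x, hPT x.2⟩)⁻¹ * (g * ι ⟨x, hPT x.2⟩ * g⁻¹) = ⁅(ι ⟨x, hPT x.2⟩)⁻¹, g⁆ := by
        rw [commutatorElement_def]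
        group
      rw [e2, commutator_def]
      exact Subgroup.commutator_mem_commutator (Subgroup.mem_top _) (Subgroup.mem_top _)
    | one =>
      refine ⟨Subgroup.one_mem _, ?_⟩
      have e : (⟨1, Subgroup.one_mem _⟩ : ↥(normalizerIn S X)) = 1 := rfl
      rw [e, map_one]
      exact M.one_mem
    | mul a b _ _ iha ihb =>
      obtain ⟨ha, ha'⟩ := iha
      obtain ⟨hb, hb'⟩ := ihb
      refine ⟨Subgroup.mul_mem _ ha hb, ?_⟩
      have e : (⟨a * b, Subgroup.mul_mem _ ha hb⟩ : ↥(normalizerIn S X)) = ⟨a, ha⟩ * ⟨b, hb⟩ := rfl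
      rw [e, map_mul]
      exact M.mul_mem ha' hb'
    | inv a _ iha =>
      obtain ⟨ha, ha'⟩ := iha
      refine ⟨Subgroup.inv_mem _ ha, ?_⟩
      have e : (⟨a⁻¹, Subgroup.inv_mem _ ha⟩ : ↥(normalizerIn S X)) = ⟨a, ha⟩⁻¹ := rfl
      rw [e, map_inv]
      exact M.inv_mem ha'
  refine lt_of_le_of_ne hfocS ?_
  intro heq
  have ht₀ : (t₀ : Ω) ∈ N.focalSubgroup := by
    rw [hfoc, heq]
    exact hTS t₀.2
  obtain ⟨h1, h2⟩ := hfocM _ ht₀
  exact hs₀M h2

end Cfsg.Agent.Helper3.CT
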