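import Mathlib
import Cfsg.Agent.Lib.Helper3.DPDefs
import Cfsg.Agent.Lib.Helper3.DPBasB

set_option autoImplicit false
set_option linter.unusedSectionVars false
open scoped Pointwise
open MulAction

/-!
# S2205, PIECE CRITA: the grid argument.
-/

namespace Cfsg.Agent.Helper3.DP

/-- a subrectangle of a grid with a prime number of points is a row or a column -/
theorem rect_lemma {α X Y : Type*} [DecidableEq X] [DecidableEq Y] (F : Finset α) (β : α → X)
    (τ : α → Y) {q : ℕ} (hq : q.Prime) (hF : F.card = q)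
    (hinj : ∀ y ∈ F, ∀ y' ∈ F, β y = β y' → τ y = τ y' → y = y')
    (hrect : ∀ y ∈ F, ∀ y' ∈ F, ∃ w ∈ F, β w = β y ∧ τ w = τ y') (x : α) (hx : x ∈ F) :
    (∀ y ∈ F, β y = β x) ∨ (∀ y ∈ F, τ y = τ x) := by
  classical
  have himg : F.image (fun y => (β y, τ y)) = (F.image β) ×ˢ (F.image τ) := by
    ext ⟨u, v⟩
    simp only [Finset.mem_image, Finset.mem_product, Prod.mk.injEq]
    constructor
    · rintro ⟨y, hy, rfl, rfl⟩
      exact ⟨⟨y, hy, rfl⟩, ⟨y, hy, rfl⟩⟩
    · rintro ⟨⟨y, hy, rfl⟩, ⟨y', hy', rfl⟩⟩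
      obtain ⟨w, hw, h1, h2⟩ := hrect y hy y' hy'
      exact ⟨w, hw, h1, h2⟩
  have hcard : (F.image (fun y => (β y, τ y))).card = F.card := by
    apply Finset.card_image_of_injOn
    intro y hy y' hy' h
    simp only [Prod.mk.injEq] at h
    exact hinj y hy y' hy' h.1 h.2
  rw [himg, Finset.card_product, hF] at hcard
  have h1 : (F.image β).card ∣ q := ⟨_, hcard.symm⟩
  rcases (Nat.dvd_prime hq).mp h1 with h1 | h1
  · left
    intro y hy
    exact Finset.card_le_one.mp h1.le _ (Finset.mem_image_of_mem β hy) _ (Finset.mem_image_of_mem β hx)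
  · right
    rw [h1] at hcard
    have h2 : (F.image τ).card = 1 := by
      have := hq.pos
      nlinarith
    intro y hy
    exact Finset.card_le_one.mp h2.le _ (Finset.mem_image_of_mem τ hy) _ (Finset.mem_image_of_mem τ hx)

variable {G Ω : Type*} [Group G] [Finite G] [Fintype Ω] [MulAction G Ω] [FaithfulSMul G Ω] {p : ℕ}

/-- the translate of `B` through a point, as a label -/
def lab (G : Type*) {Ω : Type*} [Group G] [MulAction G Ω] (a : Ω) (B : Set Ω) (y : Ω) : Set Ω :=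
  {w | ∃ h ∈ stabilizer G a, y ∈ h • B ∧ w ∈ h • B}

theorem lab_eq (S : Setup G Ω p) {B : Set Ω} (hB : IsBlk G p S.a B) {h : G}
    (hh : h ∈ stabilizer G S.a) {y : Ω} (hy : y ∈ h • B) : lab G S.a B y = h • B := by
  ext w
  constructor
  · rintro ⟨h', hh', hy', hw⟩
    rw [S.blk_eq_of_mem hB hh hh' hy hy']
    exact hw
  · intro hw
    exact ⟨h, hh, hy, hw⟩

theorem grid_unique (S : Setup G Ω p) {B T : Set Ω}
    (hBT : ∀ h ∈ stabilizer G S.a, ∃! y, y ∈ h • B ∧ y ∈ T) {h h' : G}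
    (hh : h ∈ stabilizer G S.a) (hh' : h' ∈ stabilizer G S.a) {y y' : Ω}
    (hy : y ∈ h • B) (hy2 : y ∈ h' • T) (hy' : y' ∈ h • B) (hy2' : y' ∈ h' • T) : y = y' := by
  have hm : h'⁻¹ * h ∈ stabilizer G S.a :=
    (stabilizer G S.a).mul_mem ((stabilizer G S.a).inv_mem hh') hh
  have key : ∀ w : Ω, w ∈ h • B → w ∈ h' • T → h'⁻¹ • w ∈ (h'⁻¹ * h) • B ∧ h'⁻¹ • w ∈ T := by
    intro w hw hw2
    refine ⟨?_, Set.mem_smul_set_iff_inv_smul_mem.mp hw2⟩
    rw [mul_smul]
    exact Set.smul_mem_smul_set hw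
  have := (hBT _ hm).unique (key y hy hy2) (key y' hy' hy2')
  exact smul_left_cancel _ this

theorem grid_exists (S : Setup G Ω p) {B T : Set Ω}
    (hBT : ∀ h ∈ stabilizer G S.a, ∃! y, y ∈ h • B ∧ y ∈ T) {h h' : G}
    (hh : h ∈ stabilizer G S.a) (hh' : h' ∈ stabilizer G S.a) :
    ∃ w, w ∈ h • B ∧ w ∈ h' • T := by
  have hm : h'⁻¹ * h ∈ stabilizer G S.a :=
    (stabilizer G S.a).mul_mem ((stabilizer G S.a).inv_mem hh') hh
  obtain ⟨w, ⟨hw1, hw2⟩, -⟩ := hBT _ hm
  refine ⟨h' • w, ?_, Set.smul_mem_smul_set hw2⟩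
  have : h' • (h'⁻¹ * h) • B = h • B := by rw [smul_smul, mul_inv_cancel_left]
  rw [← this]
  exact Set.smul_mem_smul_set hw1

/-- PIECE CRITA. -/
theorem crit_A (S : Setup G Ω p) {B T : Set Ω} (hB : IsBlk G p S.a B) (hT : IsBlk G p S.a T)
    {x : Ω} (hxB : x ∈ B) (hxT : x ∈ T)
    (hBT : ∀ h ∈ stabilizer G S.a, ∃! y, y ∈ h • B ∧ y ∈ T)
    (N : Subgroup G) (hN : N ≤ stabilizer G S.a ⊓ stabilizer G x)
    (hfix : ∀ y : Ω, y ≠ S.a → ((∀ n ∈ N, n • y = y) ↔ y ∈ T)) : False := by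
  classical
  have hxa : x ≠ S.a := S.blk_ne hB hxB
  obtain ⟨t, hta, htx⟩ := S.exists_swap hxa
  have htia : t⁻¹ • S.a = x := by rw [inv_smul_eq_iff, htx]
  have htix : t⁻¹ • x = S.a := by rw [inv_smul_eq_iff, hta]
  have hNa : ∀ n ∈ N, n • S.a = S.a := fun n hn => (Subgroup.mem_inf.mp (hN hn)).1
  have hNx : ∀ n ∈ N, n • x = x := fun n hn => (Subgroup.mem_inf.mp (hN hn)).2
  set L : Set Ω := insert S.a T with hL
  -- fixed points of `R = t N t⁻¹`
  have hR : ∀ y : Ω, (∀ n ∈ N, (t * n * t⁻¹) • y = y) ↔ y ∈ t • L := by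
    intro y
    rw [Set.mem_smul_set_iff_inv_smul_mem]
    have e : ∀ n : G, (t * n * t⁻¹) • y = y ↔ n • (t⁻¹ • y) = t⁻¹ • y := by
      intro n
      rw [mul_smul, mul_smul, smul_eq_iff_eq_inv_smul]
    simp only [e]
    by_cases hy : t⁻¹ • y = S.a
    · rw [hy]
      exact ⟨fun _ => Set.mem_insert _ _, fun _ => hNa⟩
    · rw [hfix _ hy, hL, Set.mem_insert_iff]
      exact ⟨Or.inr, fun h => h.resolve_left hy⟩
  have hRH : ∀ n ∈ N, t * n * t⁻¹ ∈ stabilizer G S.a := by
    intro n hn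
    rw [mem_stabilizer_iff, mul_smul, mul_smul, htia, hNx n hn, htx]
  have haL : S.a ∈ t • L := ⟨x, Set.mem_insert_of_mem _ hxT, htx⟩
  have hxL : x ∈ t • L := ⟨S.a, Set.mem_insert _ _, hta⟩
  have hLcard : (t • L).ncard = p + 1 := by
    have : t • L = (fun y => t • y) '' L := rfl
    rw [this, Set.ncard_image_of_injective _ (MulAction.injective t), hL,
      Set.ncard_insert_of_notMem hT.1 (Set.toFinite T), hT.2.1]
  set Fs : Set Ω := (t • L) \ {S.a} with hFs
  have hFscard : Fs.ncard = p := by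
    rw [hFs, Set.ncard_diff_singleton_of_mem haL, hLcard]
    simp
  have hFfin : Fs.Finite := Set.toFinite Fs
  set F : Finset Ω := hFfin.toFinset with hF
  have hFmem : ∀ y, y ∈ F ↔ y ∈ t • L ∧ y ≠ S.a := by
    intro y
    rw [hF, Set.Finite.mem_toFinset, hFs, Set.mem_diff, Set.mem_singleton_iff]
  have hFcard : F.card = p := by
    rw [← Set.ncard_eq_toFinset_card Fs hFfin, hFscard]
  have hxF : x ∈ F := (hFmem x).mpr ⟨hxL, hxa⟩
  -- elements of `R` fix translates through points of `F`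
  have hfixB : ∀ (C : Set Ω), IsBlk G p S.a C → ∀ y ∈ F, ∀ h ∈ stabilizer G S.a, y ∈ h • C →
      ∀ n ∈ N, (t * n * t⁻¹) • (h • C) = h • C := by
    intro C hC y hy h hh hyh n hn
    have hry : (t * n * t⁻¹) • y = y := (hR y).mpr ((hFmem y).mp hy).1 n hn
    have h1 : y ∈ (t * n * t⁻¹) • (h • C) := by
      rw [← hry]
      exact Set.smul_mem_smul_set hyh
    rw [smul_smul] at h1 ⊢
    exact S.blk_eq_of_mem hC ((stabilizer G S.a).mul_mem (hRH n hn) hh) hh h1 hyh
  have hinj : ∀ y ∈ F, ∀ y' ∈ F, lab G S.a B y = lab G S.a B y' →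
      lab G S.a T y = lab G S.a T y' → y = y' := by
    intro y hy y' hy' h1 h2
    obtain ⟨h, hh, hyh⟩ := S.blk_cover hB ((hFmem y).mp hy).2
    obtain ⟨h', hh', hyh'⟩ := S.blk_cover hT ((hFmem y).mp hy).2
    obtain ⟨k, hk, hyk⟩ := S.blk_cover hB ((hFmem y').mp hy').2
    obtain ⟨k', hk', hyk'⟩ := S.blk_cover hT ((hFmem y').mp hy').2
    rw [lab_eq S hB hh hyh, lab_eq S hB hk hyk] at h1
    rw [lab_eq S hT hh' hyh', lab_eq S hT hk' hyk'] at h2
    exact grid_unique S hBT hh hh' hyh hyh' (h1 ▸ hyk) (h2 ▸ hyk')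
  have hrect : ∀ y ∈ F, ∀ y' ∈ F, ∃ w ∈ F, lab G S.a B w = lab G S.a B y ∧
      lab G S.a T w = lab G S.a T y' := by
    intro y hy y' hy'
    obtain ⟨h, hh, hyh⟩ := S.blk_cover hB ((hFmem y).mp hy).2
    obtain ⟨h', hh', hyh'⟩ := S.blk_cover hT ((hFmem y').mp hy').2
    obtain ⟨w, hw1, hw2⟩ := grid_exists S hBT hh hh'
    refine ⟨w, ?_, ?_, ?_⟩
    · rw [hFmem]
      refine ⟨(hR w).mp ?_, S.blk_ne (S.blk_smul hB hh) hw1⟩
      intro n hn
      have h1 : (t * n * t⁻¹) • w ∈ h • B := by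
        rw [← hfixB B hB y hy h hh hyh n hn]
        exact Set.smul_mem_smul_set hw1
      have h2 : (t * n * t⁻¹) • w ∈ h' • T := by
        rw [← hfixB T hT y' hy' h' hh' hyh' n hn]
        exact Set.smul_mem_smul_set hw2
      exact grid_unique S hBT hh hh' h1 h2 hw1 hw2
    · rw [lab_eq S hB hh hw1, lab_eq S hB hh hyh]
    · rw [lab_eq S hT hh' hw2, lab_eq S hT hh' hyh']
  have h1B : (1 : G) • B = B := one_smul _ _
  have h1T : (1 : G) • T = T := one_smul _ _
  have hlabxB : lab G S.a B x = B := by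
    rw [lab_eq S hB (one_mem _) (by rw [h1B]; exact hxB), h1B]
  have hlabxT : lab G S.a T x = T := by
    rw [lab_eq S hT (one_mem _) (by rw [h1T]; exact hxT), h1T]
  have hself : ∀ (C : Set Ω), IsBlk G p S.a C → ∀ y ∈ F, y ∈ lab G S.a C y := by
    intro C hC y hy
    obtain ⟨h, hh, hyh⟩ := S.blk_cover hC ((hFmem y).mp hy).2
    rw [lab_eq S hC hh hyh]
    exact hyh
  rcases rect_lemma F (lab G S.a B) (lab G S.a T) S.prime hFcard hinj hrect x hxF with h | h
  · -- `F = B`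
    have hsub : Fs ⊆ B := by
      intro y hy
      have hyF : y ∈ F := by rw [hF]; exact (Set.Finite.mem_toFinset hFfin).mpr hy
      have := hself B hB y hyF
      rw [h y hyF, hlabxB] at this
      exact this
    have hFB : Fs = B := Set.eq_of_subset_of_ncard_le hsub (by rw [hFscard, hB.2.1]) (Set.toFinite B)
    have htL : t • L = insert S.a B := by
      rw [← hFB, hFs, Set.insert_diff_singleton, Set.insert_eq_of_mem haL]
    -- another point of `B`
    obtain ⟨y, hyB, hyx⟩ : ∃ y ∈ B, y ≠ x := by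
      by_contra hcon
      have hall : B ⊆ {x} := fun y hy => by
        by_contra hne
        exact hcon ⟨y, hy, hne⟩
      have := Set.ncard_le_ncard hall (Set.toFinite _)
      rw [hB.2.1, Set.ncard_singleton] at this
      have := S.two_le
      omega
    obtain ⟨m, hm, hmx⟩ := S.exists_stab_smul hxa (S.blk_ne hB hyB)
    have hmB : m • B = B := by
      rcases hB.2.2 m hm with h1 | h1
      · exact h1
      · exact (Set.disjoint_left.mp h1 ⟨x, hxB, hmx⟩ hyB).elim
    have hmL : m • (insert S.a B : Set Ω) = insert S.a B := by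
      rw [Set.smul_set_insert, hmB]
      congr 1
    have hs : (t⁻¹ * m * t) • L = L := by
      rw [mul_smul, mul_smul, htL, hmL, ← htL, inv_smul_smul]
    have := S.centre T hT (t⁻¹ * m * t) hs
    rw [mul_smul, mul_smul, hta, hmx, inv_smul_eq_iff, hta] at this
    exact hyx this
  · -- `F = T`
    have hsub : Fs ⊆ T := by
      intro y hy
      have hyF : y ∈ F := by rw [hF]; exact (Set.Finite.mem_toFinset hFfin).mpr hy
      have := hself T hT y hyF
      rw [h y hyF, hlabxT] at this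
      exact this
    have hFT : Fs = T := Set.eq_of_subset_of_ncard_le hsub (by rw [hFscard, hT.2.1]) (Set.toFinite T)
    have htL : t • L = L := by
      have h1 : t • L = insert S.a Fs := by
        rw [hFs, Set.insert_diff_singleton, Set.insert_eq_of_mem haL]
      rw [h1, hFT]
    have := S.centre T hT t htL
    rw [hta] at this
    exact hxa this

end Cfsg.Agent.Helper3.DP
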