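import Mathlib
import Cfsg.Agent.Lib.Helper3.DPDefs
import Cfsg.Agent.Lib.Helper3.DPBasB
import Cfsg.Agent.Lib.Helper3.DPCritA

set_option autoImplicit false
set_option linter.unusedSectionVars false
open scoped Pointwise
open MulAction

/-!
# S2205, PIECE GLUE1: `FixOne` is impossible.
-/

namespace Cfsg.Agent.Helper3.DP

variable {G Ω : Type*} [Group G] [Finite G] [Fintype Ω] [MulAction G Ω] [FaithfulSMul G Ω] {p : ℕ}

/-- PIECE GLUE1. -/
theorem caseI_of_fixOne (S : Setup G Ω p) {B : Set Ω} (hK : KData S B) {x : Ω} (hx : x ∈ B)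
    (hne : ∃ k ∈ kern G S.a B, k • x = x ∧ k ≠ 1) (hfix : FixOne S B x) : False := by
  classical
  have hB := hK.blk
  have hxa : x ≠ S.a := S.blk_ne hB hx
  set N : Subgroup G := kern G S.a B ⊓ stabilizer G x with hNdef
  have hNle : N ≤ stabilizer G S.a ⊓ stabilizer G x :=
    inf_le_inf_right _ (kern_le_stabilizer S.a B)
  set T : Set Ω := {y | y ≠ S.a ∧ ∀ n ∈ N, n • y = y} with hTdef
  have hNK : ∀ y : Ω, (∀ n ∈ N, n • y = y) ↔ ∀ k ∈ kern G S.a B, k • x = x → k • y = y := by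
    intro y
    constructor
    · intro h k hk hkx
      exact h k (Subgroup.mem_inf.mpr ⟨hk, hkx⟩)
    · intro h n hn
      exact h n (Subgroup.mem_inf.mp hn).1 (Subgroup.mem_inf.mp hn).2
  have hxT : x ∈ T := ⟨hxa, fun n hn => (Subgroup.mem_inf.mp hn).2⟩
  have hBT : ∀ h ∈ stabilizer G S.a, ∃! y, y ∈ h • B ∧ y ∈ T := by
    intro h hh
    obtain ⟨y, ⟨hy1, hy2⟩, hyu⟩ := hfix h hh
    refine ⟨y, ⟨hy1, S.blk_ne (S.blk_smul hB hh) hy1, (hNK y).mpr hy2⟩, ?_⟩
    rintro y' ⟨hy1', -, hy2'⟩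
    exact hyu y' ⟨hy1', (hNK y').mp hy2'⟩
  have hfixT : ∀ y : Ω, y ≠ S.a → ((∀ n ∈ N, n • y = y) ↔ y ∈ T) := by
    intro y hy
    exact ⟨fun h => ⟨hy, h⟩, fun h => h.2⟩
  -- `|T| = p`
  have hTcard : T.ncard = p := by
    have himg : lab G S.a B '' T = {B' : Set Ω | ∃ h ∈ stabilizer G S.a, B' = h • B} := by
      ext B'
      constructor
      · rintro ⟨y, hy, rfl⟩
        obtain ⟨h, hh, hyh⟩ := S.blk_cover hB hy.1
        exact ⟨h, hh, lab_eq S hB hh hyh⟩
      · rintro ⟨h, hh, rfl⟩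
        obtain ⟨y, ⟨hy1, hy2⟩, -⟩ := hBT h hh
        exact ⟨y, hy2, lab_eq S hB hh hy1⟩
    have hinj : Set.InjOn (lab G S.a B) T := by
      intro y hy y' hy' hl
      obtain ⟨h, hh, hyh⟩ := S.blk_cover hB hy.1
      obtain ⟨h', hh', hyh'⟩ := S.blk_cover hB hy'.1
      rw [lab_eq S hB hh hyh, lab_eq S hB hh' hyh'] at hl
      exact (hBT h hh).unique ⟨hyh, hy⟩ ⟨hl ▸ hyh', hy'⟩
    rw [← hinj.ncard_image, himg, S.blk_ncard_translates hB]
  -- stabilizers in `K` of points of `T` coincide with `N`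
  have hcardN : ∀ y : Ω, y ≠ S.a →
      Nat.card ↥(kern G S.a B ⊓ stabilizer G y) = Nat.card ↥N := by
    intro y hy
    have h1 := S.card_kern hK hy
    have h2 := S.card_kern hK hxa
    rw [h1] at h2
    exact Nat.eq_of_mul_eq_mul_left S.prime.pos h2
  have hKy : ∀ y ∈ T, kern G S.a B ⊓ stabilizer G y = N := by
    intro y hy
    symm
    apply Subgroup.eq_of_le_of_card_ge
    · intro n hn
      exact Subgroup.mem_inf.mpr ⟨(Subgroup.mem_inf.mp hn).1, hy.2 n hn⟩
    · rw [hcardN y hy.1]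
  have hT : IsBlk G p S.a T := by
    refine ⟨fun h => h.1 rfl, hTcard, ?_⟩
    intro h hh
    by_cases hd : Disjoint (h • T) T
    · exact Or.inr hd
    · left
      rw [Set.not_disjoint_iff] at hd
      obtain ⟨y, ⟨y₀, hy₀, hy₀y⟩, hyT⟩ := hd
      have hy₀y' : h • y₀ = y := hy₀y
      -- `h N h⁻¹ = N`
      have hconj : ∀ n ∈ N, h * n * h⁻¹ ∈ N := by
        intro n hn
        rw [← hKy y hyT]
        refine Subgroup.mem_inf.mpr ⟨hK.normal h hh n (Subgroup.mem_inf.mp hn).1, ?_⟩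
        rw [mem_stabilizer_iff, mul_smul, mul_smul, ← hy₀y', inv_smul_smul, hy₀.2 n hn]
      have hconj' : ∀ n ∈ N, h⁻¹ * n * h ∈ N := by
        intro n hn
        -- conjugation by `h` is an injective self-map of the finite set `N`
        let f : ↥N → ↥N := fun n => ⟨h * n * h⁻¹, hconj n n.2⟩
        have hf : Function.Injective f := by
          intro n₁ n₂ h12
          have : h * (n₁ : G) * h⁻¹ = h * (n₂ : G) * h⁻¹ := congrArg Subtype.val h12
          exact Subtype.ext (mul_left_cancel (mul_right_cancel this))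
        obtain ⟨m, hm⟩ := (Finite.injective_iff_surjective.mp hf) ⟨n, hn⟩
        have hm' : h * (m : G) * h⁻¹ = n := congrArg Subtype.val hm
        have : h⁻¹ * n * h = m := by rw [← hm']; group
        rw [this]
        exact m.2
      have hsub : ∀ g : G, g ∈ stabilizer G S.a → (∀ n ∈ N, g⁻¹ * n * g ∈ N) → g • T ⊆ T := by
        intro g hg hgN w hw
        obtain ⟨w₀, hw₀, rfl⟩ := hw
        refine ⟨S.stab_smul_ne hw₀.1 hg, ?_⟩
        intro n hn
        have := hw₀.2 _ (hgN n hn)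
        rw [mul_smul, mul_smul, inv_smul_eq_iff] at this
        exact this
      apply Set.eq_of_subset_of_ncard_le (hsub h hh hconj')
      · have : h • T = (fun y => h • y) '' T := rfl
        rw [this, Set.ncard_image_of_injective _ (MulAction.injective h)]
  exact crit_A S hB hT hx hxT hBT N hNle hfixT

end Cfsg.Agent.Helper3.DP
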