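import Mathlib
import Cfsg.Agent.Lib.Helper3.DPDefs
import Cfsg.Agent.Lib.Helper3.DPBasB
import Cfsg.Agent.Lib.Helper25.DPBLK
import Cfsg.Agent.Lib.Helper20.DPCEN
import Cfsg.Agent.Lib.Helper20.DPSYL
import Cfsg.Agent.Lib.Helper19.DPKER
import Cfsg.Agent.Lib.Helper24.DPDICHK
import Cfsg.Agent.Lib.Helper24.DPDICHB
import Cfsg.Agent.Lib.Helper15.DPFIXN
import Cfsg.Agent.Lib.Helper15.DPEXP
import Cfsg.Agent.Lib.Helper18.DPFIX2
import Cfsg.Agent.Lib.Helper3.DPGlue1
import Cfsg.Agent.Lib.Helper27.DPSEMI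
import Cfsg.Agent.Lib.Helper23.DPSHARP
import Cfsg.Agent.Lib.Helper23.DPZASS
import Cfsg.Agent.Lib.Helper27.DPBLK2
import Cfsg.Agent.Lib.Helper27.DPTWO

set_option autoImplicit false
set_option linter.unusedSectionVars false
open scoped Pointwise
open MulAction

/-!
# S2205: assembly.  A 2-transitive group of degree `p² + 1` is doubly primitive or `p = 2`, `|G| = 20`.
-/

namespace Cfsg.Agent.Helper3.DP

variable {G Ω : Type*} [Group G] [Finite G] [Fintype Ω] [MulAction G Ω] [FaithfulSMul G Ω] {p : ℕ}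

theorem caseI (S : Setup G Ω p) {B : Set Ω} (hK : KData S B) {x : Ω} (hx : x ∈ B)
    (hne : ∃ k ∈ kern G S.a B, k • x = x ∧ k ≠ 1) : False := by
  rcases dich_kern S hK with hn | h2t
  · exact caseI_of_fixOne S hK hx hne (fixOne_of_normal S hK hx hne hn)
  · exact caseI_of_fixOne S hK hx hne
      (fixOne_of_two_trans S hK hx hne h2t (P_exp S hK hx hne))

theorem caseII (S : Setup G Ω p) {B : Set Ω} (hK : KData S B) {x : Ω} (hx : x ∈ B)
    (hK1 : ∀ k ∈ kern G S.a B, k • x = x → k = 1) : p = 2 ∧ Nat.card G = 20 := by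
  have hxa : x ≠ S.a := fun h => hK.blk.1 (h ▸ hx)
  by_cases hPn : ∀ h ∈ stabilizer G S.a, ∀ v ∈ S.P, h * v * h⁻¹ ∈ S.P
  · by_cases hJ : ∀ δ ∈ stabilizer G S.a ⊓ stabilizer G x,
        (∀ z ∈ S.P ⊓ kern G S.a B, δ * z = z * δ) → δ = 1
    · obtain ⟨hsr, hdvd⟩ := caseII_semireg S hK hx hK1 hPn hJ
      by_cases hD : stabilizer G S.a ⊓ stabilizer G x = ⊥
      · exact endgame_sharp S hxa hD
      · exact (endgame_zass S hxa hD hsr hdvd).elim
    · exfalso
      obtain ⟨j, hj'⟩ := not_forall.mp hJ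
      obtain ⟨hj, hj2⟩ := Classical.not_imp.mp hj'
      obtain ⟨hjc, hj1⟩ := Classical.not_imp.mp hj2
      obtain ⟨B', hB', hxB', hjk⟩ := caseII_second_block S hK hx hK1 hPn j hj hj1 hjc
      exact caseI S (kdata S hB') hxB' ⟨j, hjk, (Subgroup.mem_inf.mp hj).2, hj1⟩
  · exfalso
    rcases dich_blocks S hK with h1 | h2t
    · apply hPn
      have hle : S.P ⊔ kern G S.a B = S.P := sup_eq_left.mpr (kern_le_P S hK hx hK1)
      intro h hh v hv
      have hv' : v ∈ S.P ⊔ kern G S.a B := by rw [hle]; exact hv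
      have := h1 h hh v hv'
      rwa [hle] at this
    · exact caseII_two_trans S hK hx hK1 h2t hPn

/-! ## Assembly -/

theorem core (hp : p.Prime) (hΩ : Fintype.card Ω = p ^ 2 + 1)
    (h2 : IsMultiplyPretransitive G Ω 2) (a : Ω) (B : Set Ω) (hB : IsBlk G p a B) :
    p = 2 ∧ Nat.card G = 20 := by
  have hc := fun B' (hB' : IsBlk G p a B') g => centre_unique hp hΩ h2 a B' hB' g
  obtain ⟨P, hPle, hPcard, hPreg, hPnd⟩ := exists_sylow hp hΩ h2 a B hB (hc B hB)
  let S : Setup G Ω p :=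
    { a := a, P := P, prime := hp, card := hΩ
      two := fun a x b y hax hby => is_two_pretransitive_iff.mp h2 hax hby
      P_le := hPle, P_card := hPcard, P_reg := hPreg, not_dvd := hPnd, centre := hc }
  have hK : KData S B := kdata S hB
  obtain ⟨x, hx⟩ : B.Nonempty := by
    rw [← Set.ncard_pos (Set.toFinite B), hB.2.1]; exact hp.pos
  by_cases hne : ∃ k ∈ kern G S.a B, k • x = x ∧ k ≠ 1
  · exact (caseI S hK hx hne).elim
  · exact caseII S hK hx (fun k hk hkx => by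
      by_contra h1
      exact hne ⟨k, hk, hkx, h1⟩)

theorem main {G Ω : Type*} [Group G] [Finite G] [Fintype Ω] [MulAction G Ω] [FaithfulSMul G Ω]
    (p : ℕ) (hp : p.Prime) (hΩ : Fintype.card Ω = p ^ 2 + 1)
    (h2 : IsMultiplyPretransitive G Ω 2) (a : Ω) :
    IsPreprimitive ↥(stabilizer G a) ↥(SubMulAction.ofStabilizer G a) ∨
      (p = 2 ∧ Nat.card G = 20) := by
  by_cases hnp : IsPreprimitive ↥(stabilizer G a) ↥(SubMulAction.ofStabilizer G a)
  · exact Or.inl hnp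
  · obtain ⟨B, hB⟩ := exists_blk hp hΩ h2 a hnp
    exact Or.inr (core hp hΩ h2 a B hB)

end Cfsg.Agent.Helper3.DP
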