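import Mathlib
import Cfsg.Agent.Lib.Lead.ChevHConjN
import Cfsg.Agent.Lib.Lead.ChevCells
import Cfsg.Agent.Lib.Lead.ChevFactsAll
import Cfsg.Agent.Lib.Lead.ChevHCard
import Cfsg.Agent.Lib.Lead.TwBase
import Cfsg.Agent.S1080

/-!
# S2372: definitions on top of the Lead Chevalley chain (the `E₈` clone of `Lib/Helper11/G2TDefs.lean`)
-/

set_option autoImplicit false

namespace Cfsg.Agent.Helper3.E8T

open Cfsg Cfsg.Lie Cfsg.Agent.Lead.Chev Cfsg.Agent.Lead.Tw

/-- the facts for `E₈` -/
theorem e8F (K : Type*) [Field K] : ChevFacts chevE8 K := chevFacts_of_mem chevE8 (by simp)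

theorem e8S : CorSize chevE8 := corSize_of_mem chevE8 (by simp)

/-- the diagonal entry of `g` at the root vector `e_v` -/
def ev {K : Type*} [Field K] (g : GL chevE8.Idx K) (v : ℕ) : K :=
  if h : v < chevE8.nroots then
    (g : Matrix chevE8.Idx chevE8.Idx K) (Sum.inr ⟨v, h⟩) (Sum.inr ⟨v, h⟩)
  else 1

/-- the word `w` acts on the `48` roots as the list `L` -/
def ActsAs (w L : List ℕ) : Prop := ∀ v < 240, reflWord chevE8 w v = L.getD v 0

/-- the entrywise map of `GL` induced by a ring homomorphism -/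
noncomputable abbrev mapGL {F : Type*} [Field F] {K : Type*} [Field K] (ι : F →+* K) :
    GL chevE8.Idx F →* GL chevE8.Idx K := Matrix.GeneralLinearGroup.map ι

/-- the entrywise action of a field automorphism -/
noncomputable abbrev sig {K : Type*} [Field K] (f : K ≃+* K) : GL chevE8.Idx K ≃* GL chevE8.Idx K :=
  Cfsg.Agent.S1080.Phi chevE8 f

end Cfsg.Agent.Helper3.E8T
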