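import Mathlib
import Cfsg.Agent.Lib.Helper3.E8TDefs
import Cfsg.Agent.Lib.Helper6.RootCent
import Cfsg.Agent.Lib.Helper3.E8TCHIA

/-!
# S2372, piece CHIC: conjugation of the torus by `n_w` (sed-clone of helper28's G2TCHIC)

`ev (n_w h n_w⁻¹) (w v) = ev h v`.
-/

set_option autoImplicit false

namespace Cfsg.Agent.Helper3.E8T

open Cfsg Cfsg.Lie Cfsg.Agent.Lead.Chev Cfsg.Agent.Lead.Tw

variable {K : Type*} [Field K]

/-- `s ↦ x_r(s)` is injective for every root `r` of `E₈` -/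
theorem e8tchic_xGL_inj (r : ℕ) (hr : r < chevE8.nroots) (a b : K)
    (e : xGL chevE8 (e8F K).xadd r a = xGL chevE8 (e8F K).xadd r b) : a = b := by
  rcases (e8F K).sign.pos_or_neg r hr with hp | hn
  · exact Cfsg.Agent.Helper6.RootCent.xGL_pos_inj (e8F K) r hp a b e
  · have hp := (e8F K).sign.pos_of_neg r hn
    have hnn := (e8F K).sign.neg_neg r hn.1
    have h1 : xGL chevE8 (e8F K).xadd (chevE8.neg (chevE8.neg r)) (a - b) ∈ chevE8.borelSubgroup K := by
      rw [hnn, sub_eq_add_neg, ← xGL_mul, ← xGL_inv, e, mul_inv_cancel]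
      exact one_mem _
    exact sub_eq_zero.1 ((e8F K).eq_zero_of_xGL_neg_mem_borel _ hp _ h1)

theorem ev_nconj (h : GL chevE8.Idx K) (hh : h ∈ chevE8.diagonalSubgroup K) (w : List ℕ)
    (hw : ∀ i ∈ w, i < 8) (v : ℕ) (hv : v < 240) :
    ev (nWordGL chevE8 (e8F K).xadd w * h * (nWordGL chevE8 (e8F K).xadd w)⁻¹) (reflWord chevE8 w v) =
      ev h v := by
  set n := nWordGL chevE8 (e8F K).xadd w with hn
  have hw' : ∀ i ∈ w, i < chevE8.rank := hw
  have hv' : v < chevE8.nroots := hv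
  have hmem : n * h * n⁻¹ ∈ chevE8.diagonalSubgroup K :=
    nWordGL_conj_mem_diagonal chevE8 (e8F K).xadd (etaOf chevE8) (e8F K).nsimple w hw' h hh
  have hlt : reflWord chevE8 w v < chevE8.nroots :=
    reflWord_lt chevE8 (etaOf chevE8) (fun i hi => ((e8F K).nsimple i hi).facts) w hw' v hv'
  set σ : K := ((signWord chevE8 (etaOf chevE8) w v : ℤ) : K) with hσ
  have hσ2 : σ * σ = 1 := by
    rcases signWord_sq chevE8 (etaOf chevE8) w
      (fun j hj s => ((e8F K).nsimple j (hw' j hj)).sign s) v with h1 | h1 <;>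
      rw [hσ, h1] <;> simp
  have hc : ∀ s : K, n * xGL chevE8 (e8F K).xadd v s * n⁻¹ =
      xGL chevE8 (e8F K).xadd (reflWord chevE8 w v) (σ * s) := fun s =>
    nWordGL_conj chevE8 (e8F K).xadd (etaOf chevE8) (e8F K).nsimple w hw' v hv' s
  -- compute `(n h n⁻¹) x_{wv}(σ) (n h n⁻¹)⁻¹` in two ways
  have e1 : (n * h * n⁻¹) * xGL chevE8 (e8F K).xadd (reflWord chevE8 w v) (σ * 1) * (n * h * n⁻¹)⁻¹ =
      xGL chevE8 (e8F K).xadd (reflWord chevE8 w v) (σ * (ev h v * 1)) := by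
    rw [← hc 1, ← hc (ev h v * 1), ← ev_conj h hh v hv 1]
    group
  have e2 := ev_conj (n * h * n⁻¹) hmem (reflWord chevE8 w v) hlt (σ * 1)
  rw [e1] at e2
  have e3 := e8tchic_xGL_inj _ hlt _ _ e2
  have e4 : σ * (σ * (ev h v * 1)) = σ * (ev (n * h * n⁻¹) (reflWord chevE8 w v) * (σ * 1)) := by
    rw [e3]
  have e5 : σ * (σ * (ev h v * 1)) = ev h v := by
    rw [← mul_assoc, hσ2, one_mul, mul_one]
  have e6 : σ * (ev (n * h * n⁻¹) (reflWord chevE8 w v) * (σ * 1)) =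
      ev (n * h * n⁻¹) (reflWord chevE8 w v) := by
    rw [mul_one, mul_comm (ev _ _) σ, ← mul_assoc, hσ2, one_mul]
  rw [e5, e6] at e4
  exact e4.symm

end Cfsg.Agent.Helper3.E8T
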