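import Mathlib
import Cfsg.Agent.Lib.Helper3.E8TDefs
import Cfsg.Agent.Lib.Lead.G2TTC

/-!
# S2372, piece TC: torus conjugation through the sharp Bruhat form, for `E₈(K)` (an instance of Lead's general form)
-/

set_option autoImplicit false

namespace Cfsg.Agent.Helper3.E8T

open Cfsg Cfsg.Lie Cfsg.Agent.Lead.Chev Cfsg.Agent.Lead.Tw

theorem torus_conj {K : Type*} [Field K] (y h h' : GL chevE8.Idx K) (hy : y ∈ chevE8.group K)
    (hh : h ∈ chevE8.diagonalSubgroup K) (hh' : h' ∈ chevE8.diagonalSubgroup K) (e : y * h' = h * y) :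
    ∃ u ∈ chevE8.posUnipotent K, ∃ t ∈ chevE8.diagonalSubgroup K, ∃ w : List ℕ, (∀ i ∈ w, i < 8) ∧
      ∃ u' ∈ chevE8.posUnipotent K,
        y = u * t * nWordGL chevE8 (e8F K).xadd w * u' ∧
        nWordGL chevE8 (e8F K).xadd w * h' * (nWordGL chevE8 (e8F K).xadd w)⁻¹ = h ∧
        h * u * h⁻¹ = u ∧ h' * u' * h'⁻¹ = u' :=
  Cfsg.Agent.Helper11.G2T.TC.torus_conj_gen (e8F K) e8S y h h' hy hh hh' e

end Cfsg.Agent.Helper3.E8T
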