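import Mathlib
import Cfsg.Agent.Lib.Helper13.F4TDefs

/-!
# S2372 piece WEYL4 (helper3): the `1152` actions of the Weyl group of `F₄` on the roots

The `F₄` analogue of `Lib/Helper19/G2TWEYL.lean`.  The closure of the table `wTab` under the four fundamental
reflections is checked through the index table (`decide +kernel`).
-/

set_option autoImplicit false
set_option linter.unusedSectionVars false
set_option linter.unusedVariables false
set_option linter.style.haveILetI false
set_option linter.unusedSimpArgs false

namespace Cfsg.Agent.Helper13.F4T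

open Cfsg Cfsg.Lie Cfsg.Agent.Lead.Chev Cfsg.Agent.Lead.Tw

/-- the fundamental reflections of `chevF4` agree with the table `reflTab` -/
theorem f4tweyl_refl : ∀ i < 4, ∀ v < 48, chevF4.reflectRoot i v = (reflTab.getD i []).getD v 0 := by
  decide

theorem f4tweyl_chunks_length : wChunks.length = 18 := by
  decide

theorem f4tweyl_chunk_length : ∀ c ∈ wChunks, c.length = 64 := by
  decide +kernel

/-- the row of index `k < 1152` is a row of the table -/
theorem f4tweyl_wRow_mem (k : ℕ) (hk : k < 1152) : wRow k ∈ wTab := by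
  have h1 : k / 64 < wChunks.length := by
    rw [f4tweyl_chunks_length]
    omega
  have hc : wChunks[k / 64] ∈ wChunks := List.getElem_mem h1
  have h2 : k % 64 < (wChunks[k / 64]).length := by
    rw [f4tweyl_chunk_length _ hc]
    omega
  have h3 : wRow k = (wChunks[k / 64])[k % 64] := by
    unfold wRow
    rw [List.getD_eq_getElem _ _ h1, List.getD_eq_getElem _ _ h2]
  rw [h3]
  unfold wTab
  exact List.mem_flatten.2 ⟨_, hc, List.getElem_mem h2⟩

theorem f4tweyl_length : ∀ p ∈ wTab, p.1.length = 48 := by
  decide +kernel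

theorem f4tweyl_lt : ∀ p ∈ wTab, ∀ v < 48, p.1.getD v 0 < 48 := by
  decide +kernel

theorem f4tweyl_nx_lt : ∀ p ∈ wTab, ∀ i < 4, p.2.1.getD i 0 < 1152 := by
  decide +kernel

set_option maxRecDepth 100000 in
/-- closure of the table under the fundamental reflections, through the index table -/
theorem f4tweyl_step : ∀ p ∈ wTab, ∀ i < 4,
    (p.1.map fun v => (reflTab.getD i []).getD v 0) = (wRow (p.2.1.getD i 0)).1 := by
  decide +kernel

theorem f4tweyl_row0 : ∀ v < 48, (wRow 0).1.getD v 0 = v := by
  decide +kernel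

theorem f4tweyl_range : ∀ v < 48, idL.getD v 0 = v := by
  decide

/-- the invariant: every word acts as a row of the table -/
theorem f4tweyl_acts_row (w : List ℕ) (hw : ∀ i ∈ w, i < 4) : ∃ k < 1152, ActsAs w (wRow k).1 := by
  induction w with
  | nil =>
    refine ⟨0, by norm_num, ?_⟩
    intro v hv
    rw [f4tweyl_row0 v hv]
    rfl
  | cons i w ih =>
    have hw' : ∀ j ∈ w, j < 4 := fun j hj => hw j (List.mem_cons_of_mem _ hj)
    have hi : i < 4 := hw i List.mem_cons_self
    obtain ⟨k, hk, hact⟩ := ih hw'
    have hmem := f4tweyl_wRow_mem k hk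
    refine ⟨(wRow k).2.1.getD i 0, f4tweyl_nx_lt _ hmem i hi, ?_⟩
    intro v hv
    show chevF4.reflectRoot i (reflWord chevF4 w v) = _
    rw [hact v hv, f4tweyl_refl i hi _ (f4tweyl_lt _ hmem v hv), ← f4tweyl_step _ hmem i hi]
    have hlen : v < (wRow k).1.length := by
      rw [f4tweyl_length _ hmem]
      exact hv
    have hlen' : v < ((wRow k).1.map fun v => (reflTab.getD i []).getD v 0).length := by
      rw [List.length_map]
      exact hlen
    rw [List.getD_eq_getElem _ _ hlen, List.getD_eq_getElem _ _ hlen', List.getElem_map]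

theorem acts_cases (w : List ℕ) (hw : ∀ i ∈ w, i < 4) : ∃ L ∈ wActsF4, ActsAs w L := by
  obtain ⟨k, hk, hact⟩ := f4tweyl_acts_row w hw
  exact ⟨(wRow k).1, List.mem_map_of_mem (f4tweyl_wRow_mem k hk), hact⟩

theorem acts_id_pos (w : List ℕ) (hw : ∀ i ∈ w, i < 4) (h : ActsAs w idL) :
    (∀ r, chevF4.IsPosRoot r → chevF4.IsPosRoot (reflWord chevF4 w r)) ∧
      (∀ r, chevF4.IsPosRoot r → chevF4.IsPosRoot (reflWord chevF4 w.reverse r)) := by
  have hfix : ∀ r < 48, reflWord chevF4 w r = r := by
    intro r hr
    rw [h r hr, f4tweyl_range r hr]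
  have hfa : ∀ i < chevF4.rank, NXFacts chevF4 (etaOf chevF4 i) i := fun i hi => (f4F ℚ).facts i hi
  have hfix' : ∀ r < 48, reflWord chevF4 w.reverse r = r := by
    intro r hr
    have h1 := reflWord_reverse_cancel' chevF4 (etaOf chevF4) hfa w hw r hr
    rwa [hfix r hr] at h1
  constructor
  · intro r hr
    have hr48 : r < 48 := hr.1
    rw [hfix r hr48]
    exact hr
  · intro r hr
    have hr48 : r < 48 := hr.1
    rw [hfix' r hr48]
    exact hr

end Cfsg.Agent.Helper13.F4T
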