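import Mathlib

set_option autoImplicit false
set_option linter.style.haveILetI false

namespace Cfsg.Agent.Helper3.FieldAut

open Module

/-- A finite field with an automorphism of prime order `ℓ` whose only fixed points are `0` and `1`
has exactly `2 ^ ℓ` elements. -/
theorem card_eq_two_pow_of_aut {F : Type*} [Field F] [Finite F] (σ : F ≃+* F) {ℓ : ℕ}
    (hℓ : ℓ.Prime) (hσℓ : σ ^ ℓ = 1) (hσ1 : σ ≠ 1)
    (hfix : ∀ x : F, σ x = x → x = 0 ∨ x = 1) : Nat.card F = 2 ^ ℓ := by
  classical
  letI : Fintype F := Fintype.ofFinite F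
  set G : Subgroup (F ≃+* F) := Subgroup.zpowers σ with hG
  have hGfin : Finite G := by
    apply Finite.of_injective (fun g : G => ((g.1 : F ≃+* F) : F → F))
    intro x y hxy
    apply Subtype.ext
    exact DFunLike.coe_injective hxy
  letI : Fintype G := Fintype.ofFinite G
  have hord : orderOf σ = ℓ := by
    have h1 : orderOf σ ∣ ℓ := orderOf_dvd_of_pow_eq_one hσℓ
    rcases (Nat.dvd_prime hℓ).mp h1 with h | h
    · exact absurd (orderOf_eq_one_iff.mp h) hσ1
    · exact h
  have hcardG : Fintype.card G = ℓ := by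
    rw [← Nat.card_eq_fintype_card, Nat.card_zpowers, hord]
  have hfin := FixedPoints.finrank_eq_card G F
  rw [hcardG] at hfin
  have hsub : ∀ x : F, x ∈ FixedPoints.subfield G F ↔ x = 0 ∨ x = 1 := by
    intro x
    constructor
    · intro hx
      exact hfix x (hx ⟨σ, Subgroup.mem_zpowers σ⟩)
    · rintro (rfl | rfl)
      · exact zero_mem _
      · exact one_mem _
  letI : Fintype (FixedPoints.subfield G F) := Fintype.ofFinite _
  have hcard2 : Fintype.card (FixedPoints.subfield G F) = 2 := by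
    rw [← Nat.card_eq_fintype_card, Nat.card_eq_two_iff]
    refine ⟨0, 1, zero_ne_one, ?_⟩
    ext x
    simp only [Set.mem_insert_iff, Set.mem_singleton_iff, Set.mem_univ, iff_true]
    rcases (hsub x.1).mp x.2 with h | h
    · left; exact Subtype.ext h
    · right; exact Subtype.ext h
  have := Module.card_eq_pow_finrank (K := FixedPoints.subfield G F) (V := F)
  rw [hfin, hcard2] at this
  rw [Nat.card_eq_fintype_card, this]

/-- A cyclic group `⟨k⟩` acting transitively on the non-zero elements of a finite abelian group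
`V`, normalised by an element `h` of prime order `ℓ` acting fixed-point-freely on `⟨k⟩`:
then `V` has `2 ^ ℓ` elements. -/
theorem card_eq_two_pow {V : Type*} [AddCommGroup V] [Finite V] {A : Type*} [Group A]
    (φ : A →* AddMonoid.End V) (k h : A) {ℓ : ℕ} (hℓ : ℓ.Prime)
    (htrans : ∀ v w : V, v ≠ 0 → w ≠ 0 → ∃ i : ℕ, φ (k ^ i) v = w)
    (hnorm : ∃ j : ℕ, h * k * h⁻¹ = k ^ j)
    (hfpf : ∀ i : ℕ, φ (h * k ^ i * h⁻¹) = φ (k ^ i) → φ (k ^ i) = 1)
    (hord : h ^ ℓ = 1) (hk1 : φ k ≠ 1) :
    Nat.card V = 2 ^ ℓ := by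
  classical
  obtain ⟨j, hj⟩ := hnorm
  -- a nonzero vector
  have hv₀ : ∃ v₀ : V, v₀ ≠ 0 := by
    by_contra hcon
    push Not at hcon
    apply hk1
    ext v
    rw [hcon v, map_zero, map_zero]
  obtain ⟨v₀, hv₀⟩ := hv₀
  have mul_app : ∀ (f g : AddMonoid.End V) (v : V), (f * g) v = f (g v) := fun _ _ _ => rfl
  have one_app : ∀ (v : V), (1 : AddMonoid.End V) v = v := fun _ => rfl
  set kE : AddMonoid.End V := φ k with hkE
  set C : Subring (AddMonoid.End V) := Subring.centralizer {kE} with hC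
  have hmemC : ∀ c : AddMonoid.End V, c ∈ C ↔ kE * c = c * kE := by
    intro c
    rw [hC, Subring.mem_centralizer_iff]
    simp
  have hpowC : ∀ i : ℕ, φ (k ^ i) ∈ C := by
    intro i
    rw [hmemC, hkE, ← map_mul, ← map_mul, ← pow_succ', ← pow_succ]
  -- invertibility of the powers
  have hinv : ∀ (a : A) (v : V), φ a v = 0 → v = 0 := by
    intro a v hv
    have : φ a⁻¹ (φ a v) = v := by
      rw [← mul_app, ← map_mul, inv_mul_cancel, map_one, one_app]
    rw [← this, hv, map_zero]
  -- commuting with all powers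
  have hcomm_pow : ∀ c ∈ C, ∀ (i : ℕ) (v : V), c (φ (k ^ i) v) = φ (k ^ i) (c v) := by
    intro c hc i v
    induction i generalizing v with
    | zero => simp
    | succ n ih =>
      have h1 : kE (c (φ (k ^ n) v)) = c (kE (φ (k ^ n) v)) := by
        have := (hmemC c).mp hc
        exact congrArg (fun f : AddMonoid.End V => f (φ (k ^ n) v)) this
      rw [pow_succ', map_mul, mul_app, mul_app, ← hkE, ← h1, ih]
  -- structure of C
  have hF1 : ∀ c ∈ C, c = 0 ∨ ∃ i : ℕ, c = φ (k ^ i) := by
    intro c hc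
    by_cases hw : c v₀ = 0
    · left
      ext v
      by_cases hv : v = 0
      · rw [hv, map_zero, map_zero]
      · obtain ⟨i, hi⟩ := htrans v₀ v hv₀ hv
        rw [← hi, hcomm_pow c hc, hw, map_zero]
        rfl
    · right
      obtain ⟨i, hi⟩ := htrans v₀ (c v₀) hv₀ hw
      refine ⟨i, ?_⟩
      ext v
      by_cases hv : v = 0
      · rw [hv, map_zero, map_zero]
      · obtain ⟨s, hs⟩ := htrans v₀ v hv₀ hv
        rw [← hs, hcomm_pow c hc, ← hi, ← mul_app, ← mul_app,
          ← map_mul, ← map_mul, ← pow_add, ← pow_add, add_comm]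
  -- evaluation at v₀ is a bijection
  have hev_inj : ∀ c ∈ C, c v₀ = 0 → c = 0 := by
    intro c hc hcv
    rcases hF1 c hc with h0 | ⟨i, hi⟩
    · exact h0
    · exfalso
      rw [hi] at hcv
      exact hv₀ (hinv _ _ hcv)
  have hcardCV : Nat.card ↥C = Nat.card V := by
    apply Nat.card_congr
    refine Equiv.ofBijective (fun c : ↥C => (c : AddMonoid.End V) v₀) ⟨?_, ?_⟩
    · intro c d hcd
      apply Subtype.ext
      have h1 : ((c : AddMonoid.End V) - d) v₀ = 0 := by
        show (c : AddMonoid.End V) v₀ - (d : AddMonoid.End V) v₀ = 0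
        rw [sub_eq_zero]
        exact hcd
      have h2 := hev_inj _ (C.sub_mem c.2 d.2) h1
      exact sub_eq_zero.mp h2
    · intro w
      by_cases hw : w = 0
      · exact ⟨0, by rw [hw]; rfl⟩
      · obtain ⟨i, hi⟩ := htrans v₀ w hv₀ hw
        exact ⟨⟨_, hpowC i⟩, hi⟩
  have hCfin : Finite ↥C := Nat.finite_of_card_ne_zero (by
    rw [hcardCV]
    exact Nat.card_pos.ne')
  -- C is a field
  have hfield : IsField ↥C :=
    { exists_pair_ne := ⟨0, 1, fun h01 => by
        have h1 : (0 : AddMonoid.End V) = 1 := congrArg Subtype.val h01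
        have h2 := congrArg (fun f : AddMonoid.End V => f v₀) h1
        exact hv₀ h2.symm⟩
      mul_comm := by
        intro c d
        apply Subtype.ext
        show (c : AddMonoid.End V) * d = d * c
        rcases hF1 c c.2 with h0 | ⟨i, hi⟩
        · rw [h0, zero_mul, mul_zero]
        · rcases hF1 d d.2 with h0' | ⟨i', hi'⟩
          · rw [h0', zero_mul, mul_zero]
          · rw [hi, hi', ← map_mul, ← map_mul, ← pow_add, ← pow_add, add_comm]
      mul_inv_cancel := by
        intro c hc0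
        rcases hF1 c c.2 with h0 | ⟨i, hi⟩
        · exact absurd (Subtype.ext h0) hc0
        · have hmem : φ (k ^ i)⁻¹ ∈ C := by
            rw [hmemC]
            have e1 : kE * φ (k ^ i)⁻¹ = φ (k * (k ^ i)⁻¹) := by rw [hkE, map_mul]
            have e2 : φ (k ^ i)⁻¹ * kE = φ ((k ^ i)⁻¹ * k) := by rw [hkE, map_mul]
            rw [e1, e2]
            congr 1
            have : Commute k (k ^ i)⁻¹ := ((Commute.refl k).pow_right i).inv_right
            exact this.eq
          refine ⟨⟨_, hmem⟩, ?_⟩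
          apply Subtype.ext
          show (c : AddMonoid.End V) * φ (k ^ i)⁻¹ = 1
          rw [hi, ← map_mul, mul_inv_cancel, map_one] }
  -- conjugation by h
  have hconj : ∀ i : ℕ, h * k ^ i * h⁻¹ = k ^ (j * i) := by
    intro i
    rw [← conj_pow, hj, pow_mul]
  have hhh : φ h⁻¹ * φ h = 1 := by rw [← map_mul, inv_mul_cancel, map_one]
  have hhh' : φ h * φ h⁻¹ = 1 := by rw [← map_mul, mul_inv_cancel, map_one]
  have hσmem : ∀ c ∈ C, φ h * c * φ h⁻¹ ∈ C := by
    intro c hc
    rcases hF1 c hc with h0 | ⟨i, hi⟩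
    · rw [h0, mul_zero, zero_mul]
      exact C.zero_mem
    · rw [hi, ← map_mul, ← map_mul, hconj]
      exact hpowC _
  let f : ↥C →+* ↥C :=
    { toFun := fun c => ⟨φ h * c * φ h⁻¹, hσmem c c.2⟩
      map_one' := by
        apply Subtype.ext
        show φ h * (1 : AddMonoid.End V) * φ h⁻¹ = 1
        rw [mul_one, hhh']
      map_mul' := by
        intro c d
        apply Subtype.ext
        show φ h * ((c : AddMonoid.End V) * d) * φ h⁻¹ = (φ h * c * φ h⁻¹) * (φ h * d * φ h⁻¹)
        calc φ h * ((c : AddMonoid.End V) * d) * φ h⁻¹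
            = φ h * c * 1 * d * φ h⁻¹ := by rw [mul_one]; simp only [mul_assoc]
          _ = φ h * c * (φ h⁻¹ * φ h) * d * φ h⁻¹ := by rw [hhh]
          _ = (φ h * c * φ h⁻¹) * (φ h * d * φ h⁻¹) := by simp only [mul_assoc]
      map_zero' := by
        apply Subtype.ext
        show φ h * (0 : AddMonoid.End V) * φ h⁻¹ = 0
        rw [mul_zero, zero_mul]
      map_add' := by
        intro c d
        apply Subtype.ext
        show φ h * ((c : AddMonoid.End V) + d) * φ h⁻¹ = (φ h * c * φ h⁻¹) + (φ h * d * φ h⁻¹)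
        rw [mul_add, add_mul] }
  have hf_app : ∀ c : ↥C, ((f c : ↥C) : AddMonoid.End V) = φ h * c * φ h⁻¹ := fun _ => rfl
  have hf_inj : Function.Injective f := by
    intro c d hcd
    apply Subtype.ext
    have h1 : φ h * (c : AddMonoid.End V) * φ h⁻¹ = φ h * d * φ h⁻¹ := congrArg Subtype.val hcd
    calc (c : AddMonoid.End V) = (φ h⁻¹ * φ h) * c * (φ h⁻¹ * φ h) := by rw [hhh, one_mul, mul_one]
      _ = φ h⁻¹ * (φ h * c * φ h⁻¹) * φ h := by simp only [mul_assoc]
      _ = φ h⁻¹ * (φ h * d * φ h⁻¹) * φ h := by rw [h1]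
      _ = (φ h⁻¹ * φ h) * d * (φ h⁻¹ * φ h) := by simp only [mul_assoc]
      _ = d := by rw [hhh, one_mul, mul_one]
  have hf_bij : Function.Bijective f := hf_inj.bijective_of_finite
  set σ : ↥C ≃+* ↥C := RingEquiv.ofBijective f hf_bij with hσ
  have hσ_app : ∀ c : ↥C, ((σ c : ↥C) : AddMonoid.End V) = φ h * c * φ h⁻¹ := fun _ => rfl
  have hσ_pow : ∀ (n : ℕ) (c : ↥C), (((σ ^ n) c : ↥C) : AddMonoid.End V) = φ (h ^ n) * c * φ (h ^ n)⁻¹ := by
    intro n
    induction n with
    | zero =>
      intro c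
      rw [pow_zero, pow_zero, inv_one, map_one, one_mul, mul_one]
      rfl
    | succ n ih =>
      intro c
      rw [pow_succ, RingAut.mul_apply, ih, hσ_app, pow_succ, mul_inv_rev, map_mul, map_mul]
      simp only [mul_assoc]
  have P1 : σ ^ ℓ = 1 := by
    ext c
    rw [hσ_pow, hord, inv_one, map_one, one_mul, mul_one]
    rfl
  have P3 : ∀ x : ↥C, σ x = x → x = 0 ∨ x = 1 := by
    intro x hx
    have hx' : φ h * (x : AddMonoid.End V) * φ h⁻¹ = x := by
      rw [← hσ_app, hx]
    rcases hF1 x x.2 with h0 | ⟨i, hi⟩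
    · left; exact Subtype.ext h0
    · right
      apply Subtype.ext
      rw [hi] at hx' ⊢
      rw [← map_mul, ← map_mul] at hx'
      exact hfpf i hx'
  have P2 : σ ≠ 1 := by
    intro h1
    apply hk1
    have h2 : σ ⟨φ (k ^ 1), hpowC 1⟩ = ⟨φ (k ^ 1), hpowC 1⟩ := by rw [h1]; rfl
    have h3 := hfpf 1 (by
      have := congrArg Subtype.val h2
      rw [hσ_app] at this
      rw [map_mul, map_mul]
      exact this)
    rwa [pow_one] at h3
  letI : Field ↥C := hfield.toField
  rw [← hcardCV]
  exact card_eq_two_pow_of_aut (F := ↥C) σ hℓ P1 P2 P3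

open scoped IsMulCommutative in
/-- Group-theoretic form of `card_eq_two_pow`: conjugation action on an abelian normal subgroup. -/
theorem card_of_cyclic_action {G : Type*} [Group G] (N : Subgroup G) [hN : N.Normal] [Finite N]
    [IsMulCommutative N] (k h : G) {ℓ : ℕ} (hℓ : ℓ.Prime)
    (htrans : ∀ n ∈ N, ∀ m ∈ N, n ≠ 1 → m ≠ 1 → ∃ i : ℕ, k ^ i * n * (k ^ i)⁻¹ = m)
    (hnorm : ∃ j : ℕ, h * k * h⁻¹ = k ^ j)
    (hfpf : ∀ i : ℕ, (∀ n ∈ N, (h * k ^ i * h⁻¹) * n * (h * k ^ i * h⁻¹)⁻¹ = k ^ i * n * (k ^ i)⁻¹) →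
      ∀ n ∈ N, k ^ i * n * (k ^ i)⁻¹ = n)
    (hord : h ^ ℓ = 1) (hk1 : ∃ n ∈ N, k * n * k⁻¹ ≠ n) : Nat.card N = 2 ^ ℓ := by
  classical
  let cj : G → N → N := fun g n => ⟨g * n * g⁻¹, hN.conj_mem n n.2 g⟩
  have cj_val : ∀ (g : G) (n : N), ((cj g n : N) : G) = g * n * g⁻¹ := fun _ _ => rfl
  have cj_mul : ∀ (g : G) (n m : N), cj g (n * m) = cj g n * cj g m := by
    intro g n m
    apply Subtype.ext
    show g * ((n : G) * (m : G)) * g⁻¹ = (g * n * g⁻¹) * (g * m * g⁻¹)
    group
  have cj_one : ∀ n : N, cj 1 n = n := by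
    intro n
    apply Subtype.ext
    show (1 : G) * n * (1 : G)⁻¹ = n
    group
  have cj_comp : ∀ (g g' : G) (n : N), cj (g * g') n = cj g (cj g' n) := by
    intro g g' n
    apply Subtype.ext
    show (g * g') * n * (g * g')⁻¹ = g * (g' * n * g'⁻¹) * g⁻¹
    group
  let φ : G →* AddMonoid.End (Additive N) :=
    { toFun := fun g => AddMonoidHom.mk' (fun v => Additive.ofMul (cj g v.toMul)) (by
        intro v w
        show Additive.ofMul (cj g (v.toMul * w.toMul)) =
          Additive.ofMul (cj g v.toMul * cj g w.toMul)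
        rw [cj_mul])
      map_one' := by
        refine AddMonoidHom.ext (fun v => ?_)
        show Additive.ofMul (cj 1 v.toMul) = v
        rw [cj_one]
        rfl
      map_mul' := by
        intro g g'
        refine AddMonoidHom.ext (fun v => ?_)
        show Additive.ofMul (cj (g * g') v.toMul) = Additive.ofMul (cj g (cj g' v.toMul))
        rw [cj_comp] }
  have φ_app : ∀ (g : G) (n : N), φ g (Additive.ofMul n) = Additive.ofMul (cj g n) := fun _ _ => rfl
  have φ_eq : ∀ g g' : G, φ g = φ g' ↔ ∀ n ∈ N, g * n * g⁻¹ = g' * n * g'⁻¹ := by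
    intro g g'
    constructor
    · intro hgg n hn
      have h1 := congrArg (fun f : AddMonoid.End (Additive N) => f (Additive.ofMul ⟨n, hn⟩)) hgg
      have h2 : cj g ⟨n, hn⟩ = cj g' ⟨n, hn⟩ := Additive.ofMul.injective h1
      exact congrArg Subtype.val h2
    · intro hgg
      refine AddMonoidHom.ext (fun v => ?_)
      show Additive.ofMul (cj g v.toMul) = Additive.ofMul (cj g' v.toMul)
      congr 1
      apply Subtype.ext
      exact hgg _ v.toMul.2
  have hcard : Nat.card (Additive N) = 2 ^ ℓ := by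
    apply card_eq_two_pow φ k h hℓ
    · intro v w hv hw
      have hv' : ((v.toMul : N) : G) ≠ 1 := by
        intro h1
        apply hv
        have : v.toMul = 1 := Subtype.ext h1
        exact Additive.toMul.injective this
      have hw' : ((w.toMul : N) : G) ≠ 1 := by
        intro h1
        apply hw
        have : w.toMul = 1 := Subtype.ext h1
        exact Additive.toMul.injective this
      obtain ⟨i, hi⟩ := htrans _ v.toMul.2 _ w.toMul.2 hv' hw'
      refine ⟨i, ?_⟩
      show Additive.ofMul (cj (k ^ i) v.toMul) = w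
      have : cj (k ^ i) v.toMul = w.toMul := Subtype.ext hi
      rw [this]
      rfl
    · exact hnorm
    · intro i hi
      have h1 := (φ_eq _ _).mp hi
      have h2 := hfpf i h1
      rw [← map_one φ, φ_eq]
      intro n hn
      rw [h2 n hn]
      group
    · exact hord
    · intro h1
      obtain ⟨n, hn, hne⟩ := hk1
      apply hne
      rw [← map_one φ, φ_eq] at h1
      rw [h1 n hn]
      group
  exact hcard

end Cfsg.Agent.Helper3.FieldAut
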