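import Mathlib
import Cfsg.Prelude.Def_Solvable
import Cfsg.Agent.Lib.Helper21.GAG39Defs

/-!
# S4839 piece G39-CARD (helper3): `|G| = |C_G(x)| (|N| - 1)` when `G` is transitive on `N ∖ {1}`.
-/

set_option autoImplicit false
set_option linter.unusedSectionVars false
set_option linter.unusedVariables false

namespace Cfsg.Agent.Helper21.GAG39

open Cfsg
open scoped Pointwise

variable {G : Type*} [Group G] [Finite G] {p : ℕ} [Fact p.Prime] (N : Subgroup G) [N.Normal]

/-- the conjugation map `g C_G(x) ↦ g x g⁻¹` on the cosets of the centralizer. -/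
def g39_card_conj (x : G) : G ⧸ Subgroup.centralizer ({x} : Set G) → G :=
  fun q => Quotient.liftOn' q (fun g => g * x * g⁻¹) (by
    intro a b hab
    have h : a⁻¹ * b ∈ Subgroup.centralizer ({x} : Set G) := QuotientGroup.leftRel_apply.1 hab
    have h2 : a⁻¹ * b * x = x * (a⁻¹ * b) := Subgroup.mem_centralizer_singleton_iff.1 h
    show a * x * a⁻¹ = b * x * b⁻¹
    calc a * x * a⁻¹ = a * (x * (a⁻¹ * b)) * b⁻¹ := by group
      _ = a * (a⁻¹ * b * x) * b⁻¹ := by rw [h2]
      _ = b * x * b⁻¹ := by group)

theorem g39_card_conj_mk (x g : G) :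
    g39_card_conj x (g : G ⧸ Subgroup.centralizer ({x} : Set G)) = g * x * g⁻¹ := rfl

theorem g39_card_conj_injective (x : G) : Function.Injective (g39_card_conj x) := by
  intro q1 q2
  induction q1 using QuotientGroup.induction_on with
  | H a =>
    induction q2 using QuotientGroup.induction_on with
    | H b =>
      intro h
      rw [g39_card_conj_mk, g39_card_conj_mk] at h
      apply QuotientGroup.eq.2
      apply Subgroup.mem_centralizer_singleton_iff.2
      calc a⁻¹ * b * x = a⁻¹ * (b * x * b⁻¹) * b := by group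
        _ = a⁻¹ * (a * x * a⁻¹) * b := by rw [h]
        _ = x * (a⁻¹ * b) := by group

/-- PIECE G39-CARD [L0]. -/
theorem card_eq (htrans : ∀ x ∈ N, ∀ y ∈ N, x ≠ 1 → y ≠ 1 → ∃ g : G, g * x * g⁻¹ = y)
    (x : G) (hx : x ∈ N) (hx1 : x ≠ 1) :
    Nat.card G = Nat.card (Subgroup.centralizer ({x} : Set G)) * (Nat.card N - 1) := by
  have hrange : Set.range (g39_card_conj x) = (N : Set G) \ {1} := by
    ext y
    constructor
    · rintro ⟨q, rfl⟩
      induction q using QuotientGroup.induction_on with
      | H g =>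
        rw [g39_card_conj_mk]
        refine ⟨Subgroup.Normal.conj_mem inferInstance x hx g, ?_⟩
        intro h
        rw [Set.mem_singleton_iff] at h
        apply hx1
        calc x = g⁻¹ * (g * x * g⁻¹) * g := by group
          _ = 1 := by rw [h]; group
    · rintro ⟨hyN, hy1⟩
      have hy1' : y ≠ 1 := fun h => hy1 (Set.mem_singleton_iff.2 h)
      obtain ⟨g, hg⟩ := htrans x hx y hyN hx1 hy1'
      exact ⟨(g : G ⧸ Subgroup.centralizer ({x} : Set G)), by rw [g39_card_conj_mk, hg]⟩
  have hcardq : Nat.card (G ⧸ Subgroup.centralizer ({x} : Set G)) = Nat.card N - 1 := by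
    rw [← Nat.card_range_of_injective (g39_card_conj_injective x), hrange,
      Nat.card_coe_set_eq, Set.ncard_sdiff_singleton_of_mem (Subgroup.one_mem N)]
    congr 1
  rw [← Subgroup.card_mul_index (Subgroup.centralizer ({x} : Set G)), Subgroup.index_eq_card,
    hcardq]

end Cfsg.Agent.Helper21.GAG39
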