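import Mathlib
import Cfsg.Prelude.Def_Solvable
import Cfsg.Agent.Lib.Helper21.GAG39Defs

/-!
# S4839 piece G39-CGN (helper3): `C_G(N) ≤ N` when `N = O_p(G)` and the centralizers of the
non-identity elements of `N` are `p`-groups.
-/

set_option autoImplicit false
set_option linter.unusedSectionVars false
set_option linter.unusedVariables false

namespace Cfsg.Agent.Helper21.GAG39

open Cfsg
open scoped Pointwise

variable {G : Type*} [Group G] [Finite G] {p : ℕ} [Fact p.Prime] (N : Subgroup G) [N.Normal]

/-- PIECE G39-CGN [L0]. -/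
theorem centralizer_le (hne : N ≠ ⊥)
    (hcent : ∀ x ∈ N, x ≠ 1 → IsPGroup p (Subgroup.centralizer ({x} : Set G)))
    (hcore : N = pCore p G) : Subgroup.centralizer (N : Set G) ≤ N := by
  obtain ⟨x, hx1⟩ := (Subgroup.ne_bot_iff_exists_ne_one.1 hne)
  have hx1' : (x : G) ≠ 1 := fun h => hx1 (Subtype.ext h)
  have hle : Subgroup.centralizer (N : Set G) ≤ Subgroup.centralizer ({(x : G)} : Set G) :=
    Subgroup.centralizer_le (Set.singleton_subset_iff.2 x.2)
  have hp : IsPGroup p (Subgroup.centralizer (N : Set G)) :=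
    (hcent x x.2 hx1').to_le hle
  have hn : (Subgroup.centralizer (N : Set G)).Normal := Subgroup.normal_centralizer
  have hle2 : Subgroup.centralizer (N : Set G) ≤ pCore p G := le_sSup ⟨hn, hp⟩
  rw [← hcore] at hle2
  exact hle2

end Cfsg.Agent.Helper21.GAG39
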