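import Mathlib
import Cfsg.Agent.Lib.Helper27.GWBDefs

/-!
# S0508 piece TI (helper3): `K_TI`.
-/

set_option autoImplicit false
set_option linter.unusedVariables false
set_option linter.unusedSectionVars false

namespace Cfsg.Agent.Helper27.GWB

universe u

variable {G : Type u} [Group G] [Finite G]

/-- aux: an element `≠ 1` of a finite group has a power of prime order. -/
theorem K_TI_prime_pow (k : G) (hk : k ≠ 1) :
    ∃ (r : ℕ) (m : ℕ), r.Prime ∧ orderOf (k ^ m) = r := by
  have hpos : 0 < orderOf k := orderOf_pos k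
  have hne1 : orderOf k ≠ 1 := by
    intro h
    exact hk (orderOf_eq_one_iff.mp h)
  obtain ⟨r, hr, hdvd⟩ := Nat.exists_prime_and_dvd hne1
  refine ⟨r, orderOf k / r, hr, ?_⟩
  exact orderOf_pow_orderOf_div hpos.ne' hdvd

/-- aux: conjugation preserves the order. -/
theorem K_TI_orderOf_conj (g x : G) : orderOf (g * x * g⁻¹) = orderOf x := by
  have := orderOf_injective (MulAut.conj g).toMonoidHom (MulAut.conj g).injective x
  simpa using this

/-- aux: membership in the centralizer of a singleton. -/
theorem K_TI_mem_cent (t g : G) :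
    g ∈ Subgroup.centralizer ({t} : Set G) ↔ g * t * g⁻¹ = t := by
  rw [Subgroup.mem_centralizer_iff]
  constructor
  · intro h
    have := h t (Set.mem_singleton t)
    rw [← this]; group
  · intro h x hx
    rw [Set.mem_singleton_iff] at hx
    subst hx
    calc x * g = (g * x * g⁻¹) * g := by rw [h]
      _ = g * x := by group

/-- PIECE TI. -/
theorem K_TI (t : G) (ht : orderOf t = 2) (K O : Subgroup G) (hOK : O ≤ K)
    (hKab : ∀ a ∈ K, ∀ b ∈ K, a * b = b * a) (htK : t ∈ K)
    (hprime : ∀ k ∈ K, ∀ r : ℕ, r.Prime → orderOf k = r → k = t ∨ k ∈ O)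
    (hOodd : Odd (Nat.card O))
    (hc : ∀ Y : Subgroup G, Y ≤ O → Y ≠ ⊥ →
      Subgroup.normalizer (Y : Set G) ≤ Subgroup.centralizer ({t} : Set G))
    (hinvol : ∀ u ∈ Subgroup.centralizer ({t} : Set G), orderOf u = 2 →
      (∃ y ∈ O, y ≠ 1 ∧ u * y = y * u) → u = t) :
    ∀ g : G, g ∉ Subgroup.centralizer ({t} : Set G) →
      K ⊓ K.map (MulAut.conj g).toMonoidHom = ⊥ := by
  intro g hg
  rw [Subgroup.eq_bot_iff_forall]
  intro k hk
  by_contra hk1
  obtain ⟨hkK, hkg⟩ := Subgroup.mem_inf.mp hk
  obtain ⟨r, m, hr, hord⟩ := K_TI_prime_pow k hk1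
  set k' := k ^ m with hk'
  have hk'K : k' ∈ K := K.pow_mem hkK m
  have hk'g : k' ∈ K.map (MulAut.conj g).toMonoidHom := Subgroup.pow_mem _ hkg m
  obtain ⟨k'', hk''K, hk''eq⟩ := Subgroup.mem_map.mp hk'g
  have hk''eq' : g * k'' * g⁻¹ = k' := by simpa using hk''eq
  have hord'' : orderOf k'' = r := by
    rw [← hord, ← hk''eq']
    exact (K_TI_orderOf_conj g k'').symm
  -- elements of O have odd order
  have hOord : ∀ y ∈ O, Odd (orderOf y) := by
    intro y hy
    have h1 : orderOf (⟨y, hy⟩ : O) ∣ Nat.card O := orderOf_dvd_natCard _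
    have h2 : orderOf (⟨y, hy⟩ : O) = orderOf y := by
      rw [← Subgroup.orderOf_coe]
    rw [h2] at h1
    exact Odd.of_dvd_nat hOodd h1
  apply hg
  rw [K_TI_mem_cent]
  by_cases hr2 : r = 2
  · -- both are t
    have h1 : k' = t := by
      rcases hprime k' hk'K r hr hord with h | h
      · exact h
      · exfalso
        have := hOord k' h
        rw [hord, hr2] at this
        exact (by decide : ¬ Odd 2) this
    have h2 : k'' = t := by
      rcases hprime k'' hk''K r hr hord'' with h | h
      · exact h
      · exfalso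
        have := hOord k'' h
        rw [hord'', hr2] at this
        exact (by decide : ¬ Odd 2) this
    rw [h2, h1] at hk''eq'
    exact hk''eq'
  · have h1 : k' ∈ O := by
      rcases hprime k' hk'K r hr hord with h | h
      · exfalso
        rw [h, ht] at hord
        exact hr2 hord.symm
      · exact h
    have hk'1 : k' ≠ 1 := by
      intro h
      rw [h, orderOf_one] at hord
      exact hr.one_lt.ne' hord.symm
    -- u = g t g⁻¹ commutes with k'
    set u := g * t * g⁻¹ with hu
    have hucomm : u * k' = k' * u := by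
      rw [← hk''eq', hu]
      have := hKab t htK k'' hk''K
      calc g * t * g⁻¹ * (g * k'' * g⁻¹) = g * (t * k'') * g⁻¹ := by group
        _ = g * (k'' * t) * g⁻¹ := by rw [this]
        _ = g * k'' * g⁻¹ * (g * t * g⁻¹) := by group
    have huord : orderOf u = 2 := by
      rw [hu, K_TI_orderOf_conj]; exact ht
    have huC : u ∈ Subgroup.centralizer ({t} : Set G) := by
      apply hc (Subgroup.zpowers k')
      · rw [Subgroup.zpowers_le]; exact h1
      · intro h
        apply hk'1
        have : k' ∈ Subgroup.zpowers k' := Subgroup.mem_zpowers k'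
        rw [h] at this
        exact Subgroup.mem_bot.mp this
      · rw [Subgroup.mem_normalizer_iff]
        intro h
        have hconj : ∀ h : G, u * h * u⁻¹ = h → True := fun _ _ => trivial
        constructor
        · intro hh
          obtain ⟨n, rfl⟩ := Subgroup.mem_zpowers_iff.mp hh
          have : u * k' ^ n * u⁻¹ = k' ^ n := by
            have h3 : u * k' * u⁻¹ = k' := by rw [hucomm]; group
            calc u * k' ^ n * u⁻¹ = (u * k' * u⁻¹) ^ n := by rw [conj_zpow]
              _ = k' ^ n := by rw [h3]
          rw [this]; exact hh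
        · intro hh
          obtain ⟨n, hn⟩ := Subgroup.mem_zpowers_iff.mp hh
          have h3 : u⁻¹ * k' * u = k' := by
            calc u⁻¹ * k' * u = u⁻¹ * (k' * u) := by group
              _ = u⁻¹ * (u * k') := by rw [hucomm]
              _ = k' := by group
          have h4 : h = u⁻¹ * (k' ^ n) * u := by rw [hn]; group
          have h5 : u⁻¹ * (k' ^ n) * u = (u⁻¹ * k' * u) ^ n := by
            have := conj_zpow (a := u⁻¹) (b := k') (i := n)
            simpa using this.symm
          rw [h4, h5, h3]
          exact Subgroup.zpow_mem_zpowers k' n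
    exact hinvol u huC huord ⟨k', h1, hk'1, hucomm⟩

end Cfsg.Agent.Helper27.GWB
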