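import Mathlib

/-!
# An endomorphism `t` of an abelian group with `t ^ p = 1` and `(t - 1) ^ (n (p - 1) + 1) = 0` fixes all `p ^ n`-th powers
-/

set_option autoImplicit false
set_option linter.style.haveILetI false
set_option linter.unusedSectionVars false

namespace Cfsg.Agent.Helper3.GS

/-- the ring identity: `(y + 1) ^ p = 1` and `y ^ (n (p - 1) + 1) = 0` imply `p ^ n * y = 0` -/
theorem key_ring {R : Type*} [Ring R] {p : ℕ} (hp : p.Prime) (n : ℕ) (y : R)
    (h1 : (y + 1) ^ p = 1) (h2 : y ^ (n * (p - 1) + 1) = 0) : (p : R) ^ n * y = 0 := by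
  obtain ⟨P1, rfl⟩ : ∃ P1, p = P1 + 1 := ⟨p - 1, by have := hp.pos; omega⟩
  have hP1 : 1 ≤ P1 := by have := hp.two_le; omega
  rw [Nat.add_sub_cancel] at h2
  obtain ⟨c, hc⟩ : ∃ c, c = n * P1 + 1 := ⟨_, rfl⟩
  rw [← hc] at h2
  -- the relation `p y = - ∑_{m=2}^{p} C(p,m) y^m`
  have hrel : ((P1 + 1 : ℕ) : R) * y =
      - ∑ m ∈ Finset.Ico 2 (P1 + 1 + 1), ((P1 + 1).choose m : R) * y ^ m := by
    have h3 := (Commute.one_right y).add_pow (P1 + 1)
    rw [h1, Finset.range_eq_Ico, Finset.sum_eq_sum_Ico_succ_bot (by omega),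
      Finset.sum_eq_sum_Ico_succ_bot (by omega)] at h3
    simp only [one_pow, mul_one, pow_zero, Nat.choose_zero_right, Nat.cast_one, pow_one,
      Nat.choose_one_right, zero_add] at h3
    have h4 : y * ((P1 + 1 : ℕ) : R) + ∑ m ∈ Finset.Ico 2 (P1 + 1 + 1), y ^ m * ((P1 + 1).choose m : R)
        = 0 := by
      have h5 : (1 : R) = 1 + (y * ((P1 + 1 : ℕ) : R) +
          ∑ m ∈ Finset.Ico 2 (P1 + 1 + 1), y ^ m * ((P1 + 1).choose m : R)) := h3
      exact add_left_cancel (a := (1 : R)) (by rw [add_zero]; exact h5.symm)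
    rw [(Nat.cast_commute (P1 + 1) y).eq, eq_neg_iff_add_eq_zero, ← h4]
    congr 1
    apply Finset.sum_congr rfl
    intro m _
    exact (Nat.cast_commute _ _).eq
  have key : ∀ k a b : ℕ, c ≤ b + k → 1 ≤ b → c ≤ a * P1 + b →
      ((P1 + 1 : ℕ) : R) ^ a * y ^ b = 0 := by
    intro k
    induction k with
    | zero =>
      intro a b hb _ _
      have hb' : c ≤ b := hb
      obtain ⟨d, rfl⟩ := Nat.exists_eq_add_of_le hb'
      rw [pow_add, h2, zero_mul, mul_zero]
    | succ k ih =>
      intro a b hbk hb1 hab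
      by_cases hbc : c ≤ b
      · obtain ⟨d, rfl⟩ := Nat.exists_eq_add_of_le hbc
        rw [pow_add, h2, zero_mul, mul_zero]
      · push Not at hbc
        obtain ⟨a', rfl⟩ : ∃ a', a = a' + 1 := by
          refine ⟨a - 1, ?_⟩
          rcases Nat.eq_zero_or_pos a with h | h
          · subst h
            omega
          · omega
        obtain ⟨b', rfl⟩ : ∃ b', b = b' + 1 := ⟨b - 1, by omega⟩
        rw [add_mul, one_mul] at hab
        have e : ((P1 + 1 : ℕ) : R) ^ (a' + 1) * y ^ (b' + 1) =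
            ((P1 + 1 : ℕ) : R) ^ a' * (y ^ b' * (((P1 + 1 : ℕ) : R) * y)) := by
          rw [pow_succ, pow_succ, mul_assoc]
          congr 1
          rw [← mul_assoc, ((Nat.cast_commute (P1 + 1) (y ^ b')).eq), mul_assoc]
        rw [e, hrel, mul_neg, mul_neg, neg_eq_zero, Finset.mul_sum, Finset.mul_sum]
        apply Finset.sum_eq_zero
        intro m hm
        rw [Finset.mem_Ico] at hm
        have e2 : ((P1 + 1 : ℕ) : R) ^ a' * (y ^ b' * (((P1 + 1).choose m : R) * y ^ m)) =
            ((P1 + 1).choose m : R) * (((P1 + 1 : ℕ) : R) ^ a' * y ^ (b' + m)) := by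
          rw [pow_add, ← mul_assoc (y ^ b'), ← (Nat.cast_commute ((P1 + 1).choose m) (y ^ b')).eq,
            mul_assoc, ← mul_assoc, ← (Nat.cast_commute ((P1 + 1).choose m) _).eq, mul_assoc]
        rw [e2]
        by_cases hmp : m = P1 + 1
        · subst hmp
          rw [ih a' (b' + (P1 + 1)) (by omega) (by omega) (by omega), mul_zero]
        · have hdvd : (P1 + 1) ∣ (P1 + 1).choose m := hp.dvd_choose_self (by omega) (by omega)
          obtain ⟨q, hq⟩ := hdvd
          rw [hq, Nat.cast_mul, (Nat.cast_commute (P1 + 1) (q : R)).eq, mul_assoc, ← mul_assoc _ _ (y ^ _),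
            ← pow_succ']
          rw [ih (a' + 1) (b' + m) (by omega) (by omega) (by rw [add_mul, one_mul]; omega), mul_zero]
  have := key c n 1 (by omega) le_rfl (by omega)
  rw [pow_one] at this
  exact this

section grp

variable {X : Type*} [CommGroup X]

/-- the commutator endomorphism `e ↦ t e * e⁻¹` of a commutative group -/
def cmE (t : X →* X) : X →* X where
  toFun e := t e * e⁻¹
  map_one' := by simp
  map_mul' a b := by
    rw [map_mul, mul_inv, mul_mul_mul_comm]

theorem cmE_apply (t : X →* X) (e : X) : cmE t e = t e * e⁻¹ := rfl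

/-- the additive endomorphism attached to `t` -/
def toEnd (t : X →* X) : AddMonoid.End (Additive X) := MonoidHom.toAdditive t

theorem toAdd_pow (t : X →* X) (k : ℕ) (e : X) :
    ((toEnd t) ^ k) (Additive.ofMul e) =
      Additive.ofMul (t^[k] e) := by
  induction k generalizing e with
  | zero => rfl
  | succ k ih =>
    rw [pow_succ, AddMonoid.End.coe_mul, Function.comp_apply, Function.iterate_succ_apply]
    exact ih (t e)

theorem toEnd_sub_one_apply (t : X →* X) (e : X) :
    (toEnd t - 1) (Additive.ofMul e) = Additive.ofMul (cmE t e) := by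
  show Additive.ofMul (t e) - Additive.ofMul e = _
  rw [cmE_apply, ← div_eq_mul_inv, ofMul_div]

theorem sub_one_pow (t : X →* X) (k : ℕ) (e : X) :
    ((toEnd t - 1) ^ k) (Additive.ofMul e) =
      Additive.ofMul ((cmE t)^[k] e) := by
  induction k generalizing e with
  | zero => rfl
  | succ k ih =>
    rw [pow_succ, AddMonoid.End.coe_mul, Function.comp_apply, Function.iterate_succ_apply,
      toEnd_sub_one_apply]
    exact ih (cmE t e)

/-- an endomorphism `t` with `t ^ p = 1` and `[X, t; n (p - 1) + 1] = 1` fixes all `p ^ n`-th powers -/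
theorem fix_pow_of_nilpotent {p : ℕ} (hp : p.Prime) (n : ℕ) (t : X →* X)
    (htp : ∀ e, t^[p] e = e) (hnil : ∀ e, (cmE t)^[n * (p - 1) + 1] e = 1) (e : X) :
    t (e ^ (p ^ n)) = e ^ (p ^ n) := by
  obtain ⟨T, hT⟩ : ∃ T : AddMonoid.End (Additive X), T = toEnd t := ⟨_, rfl⟩
  have h1 : ((T - 1) + 1) ^ p = 1 := by
    rw [sub_add_cancel]
    ext a
    obtain ⟨e', rfl⟩ : ∃ e', Additive.ofMul e' = a := ⟨Additive.toMul a, rfl⟩
    rw [hT, toAdd_pow, htp]
    rfl
  have h2 : (T - 1) ^ (n * (p - 1) + 1) = 0 := by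
    ext a
    obtain ⟨e', rfl⟩ : ∃ e', Additive.ofMul e' = a := ⟨Additive.toMul a, rfl⟩
    rw [hT, sub_one_pow, hnil]
    rfl
  have h3 := key_ring hp n (T - 1) h1 h2
  have h4 := congrArg (fun f : AddMonoid.End (Additive X) => f (Additive.ofMul e)) h3
  simp only [AddMonoid.End.coe_mul, Function.comp_apply, ← Nat.cast_pow,
    AddMonoid.End.natCast_apply] at h4
  have h5 : (T - 1) (Additive.ofMul e) = Additive.ofMul (t e * e⁻¹) := by
    rw [hT, toEnd_sub_one_apply]
    rfl
  rw [h5] at h4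
  have h6 : (t e * e⁻¹) ^ (p ^ n) = 1 := by
    have : Additive.toMul (p ^ n • Additive.ofMul (t e * e⁻¹)) = Additive.toMul (0 : Additive X) :=
      congrArg Additive.toMul h4
    exact this
  rw [mul_pow, inv_pow, mul_inv_eq_one] at h6
  rw [map_pow, h6]

end grp

end Cfsg.Agent.Helper3.GS
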