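import Mathlib
import Cfsg.Agent.Lib.Helper3.SmallCenter2

/-!
# The decomposition of an essential subgroup and the derived subgroup (centre of index `p²`)
-/

set_option autoImplicit false
set_option linter.style.haveILetI false
set_option linter.unusedSectionVars false

namespace Cfsg.Agent.Helper3.SC

open Cfsg Cfsg.FusionSystem Cfsg.Agent.Helper25 Cfsg.Agent.Helper26 Cfsg.Agent.Helper3.KL
open Cfsg.Agent.Helper3.TT

variable {Ω : Type*} [Group Ω] {S : Subgroup Ω} {E : Subgroup Ω}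

/-- the derived subgroup of `S`, inside `Ω` -/
def Sd (S : Subgroup Ω) : Subgroup Ω :=
  Subgroup.closure {y | ∃ a ∈ S, ∃ b ∈ S, y = a * b * a⁻¹ * b⁻¹}

theorem comm_mem_Sd {a b : Ω} (ha : a ∈ S) (hb : b ∈ S) : a * b * a⁻¹ * b⁻¹ ∈ Sd S :=
  Subgroup.subset_closure ⟨a, ha, b, hb, rfl⟩

theorem Sd_le (S : Subgroup Ω) : Sd S ≤ S := by
  unfold Sd
  rw [Subgroup.closure_le]
  rintro _ ⟨a, ha, b, hb, rfl⟩
  exact S.mul_mem (S.mul_mem (S.mul_mem ha hb) (S.inv_mem ha)) (S.inv_mem hb)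

/-- automorphisms of `S` preserve the derived subgroup -/
theorem aut_mem_Sd (β : MulAut S) {d : Ω} (hd : d ∈ Sd S) :
    ((β ⟨d, Sd_le S hd⟩ : S) : Ω) ∈ Sd S := by
  have key : ∀ y (hy : y ∈ Sd S), ((β ⟨y, Sd_le S hy⟩ : S) : Ω) ∈ Sd S := by
    intro y hy
    induction hy using Subgroup.closure_induction with
    | mem y hy =>
      obtain ⟨a, ha, b, hb, rfl⟩ := hy
      have h1 : (⟨a * b * a⁻¹ * b⁻¹, Sd_le S (comm_mem_Sd ha hb)⟩ : S) =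
          ⟨a, ha⟩ * ⟨b, hb⟩ * ⟨a, ha⟩⁻¹ * ⟨b, hb⟩⁻¹ := Subtype.ext rfl
      rw [h1, map_mul, map_mul, map_mul, map_inv, map_inv]
      exact comm_mem_Sd (β ⟨a, ha⟩).2 (β ⟨b, hb⟩).2
    | one =>
      have h1 : (⟨1, Sd_le S (Sd S).one_mem⟩ : S) = 1 := Subtype.ext rfl
      rw [h1, map_one]
      exact (Sd S).one_mem
    | mul a b ha hb iha ihb =>
      have h1 : (⟨a * b, Sd_le S ((Sd S).mul_mem ha hb)⟩ : S) =
          ⟨a, Sd_le S ha⟩ * ⟨b, Sd_le S hb⟩ := Subtype.ext rfl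
      rw [h1, map_mul]
      exact (Sd S).mul_mem iha ihb
    | inv a ha iha =>
      have h1 : (⟨a⁻¹, Sd_le S ((Sd S).inv_mem ha)⟩ : S) = ⟨a, Sd_le S ha⟩⁻¹ := Subtype.ext rfl
      rw [h1, map_inv]
      exact (Sd S).inv_mem iha
  exact key d hd

section ed

variable [Finite S] {p : ℕ} [Fact p.Prime] {F : FusionSystem S}

theorem Sd_le_Zc (H : Hyp p F) : Sd S ≤ centralizerIn S S := by
  unfold Sd
  rw [Subgroup.closure_le]
  rintro _ ⟨a, ha, b, hb, rfl⟩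
  exact comm_mem_Zc H ha hb

/-- the commutator group `[E, x]`, inside `Ω` -/
def Rsub (D : ED p F E) (s : S) : Subgroup Ω :=
  (cm D.comm (kap D.norm s)).range.map E.subtype

theorem mem_Rsub (D : ED p F E) (s : S) {y : Ω} :
    y ∈ Rsub D s ↔ ∃ e : E, y = s * e * (s : Ω)⁻¹ * (e : Ω)⁻¹ := by
  constructor
  · rintro ⟨_, ⟨e, rfl⟩, rfl⟩
    exact ⟨e, rfl⟩
  · rintro ⟨e, rfl⟩
    exact ⟨_, ⟨e, rfl⟩, rfl⟩

theorem card_Rsub (H : Hyp p F) (D : ED p F E) {x : Ω} (hx : x ∈ S) (hxE : x ∉ E) :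
    Nat.card (Rsub D ⟨x, hx⟩) = p := by
  unfold Rsub
  rw [Subgroup.card_map_of_injective E.subtype_injective]
  exact (transv_kap H D hx hxE).1

theorem Rsub_le_Sd (D : ED p F E) (s : S) : Rsub D s ≤ Sd S := by
  intro y hy
  obtain ⟨e, rfl⟩ := (mem_Rsub D s).mp hy
  exact comm_mem_Sd s.2 (D.le e.2)

/-- commutators of `S` with `E` lie in `[E, x]` -/
theorem comm_E_mem_Rsub (H : Hyp p F) (D : ED p F E) {x : Ω} (hx : x ∈ S) (hxE : x ∉ E)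
    (s : S) (e : E) : (s : Ω) * e * (s : Ω)⁻¹ * (e : Ω)⁻¹ ∈ Rsub D ⟨x, hx⟩ := by
  haveI : Finite E := finite_of_le_finite D.le
  have h1 : kap D.norm s ∈ Subgroup.zpowers (kap D.norm ⟨x, hx⟩) := by
    rw [← autS_eq_zpowers D hx hxE]
    exact kap_mem D.norm s
  rw [← mem_powers_iff_mem_zpowers] at h1
  obtain ⟨n, hn⟩ := h1
  have h2 := pow_apply_of_fixed D.comm (kap D.norm ⟨x, hx⟩) e ((transv_kap H D hx hxE).2 e) n
  have hn' : kap D.norm ⟨x, hx⟩ ^ n = kap D.norm s := hn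
  rw [hn'] at h2
  refine Subgroup.mem_map.mpr ⟨(cm D.comm (kap D.norm ⟨x, hx⟩) e) ^ n,
    Subgroup.pow_mem _ (MonoidHom.mem_range.mpr ⟨e, rfl⟩) n, ?_⟩
  have h3 : cm D.comm (kap D.norm s) e = (cm D.comm (kap D.norm ⟨x, hx⟩) e) ^ n := by
    rw [cm_apply, h2, mul_inv_cancel_right]
  rw [← h3]
  rfl

/-- all commutators of `S` lie in `[E, x]` -/
theorem comm_mem_Rsub (H : Hyp p F) (D : ED p F E) {x : Ω} (hx : x ∈ S) (hxE : x ∉ E)
    {a b : Ω} (ha : a ∈ S) (hb : b ∈ S) : a * b * a⁻¹ * b⁻¹ ∈ Rsub D ⟨x, hx⟩ := by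
  have hp : p.Prime := Fact.out
  have hRZ : Rsub D ⟨x, hx⟩ ≤ centralizerIn S S := le_trans (Rsub_le_Sd D _) (Sd_le_Zc H)
  -- the subgroup of elements whose commutators with all of `S` lie in `R`
  let N : Subgroup Ω :=
    { carrier := {t | t ∈ S ∧ ∀ s ∈ S, s * t * s⁻¹ * t⁻¹ ∈ Rsub D ⟨x, hx⟩}
      one_mem' := ⟨S.one_mem, fun s _ => by simp⟩
      mul_mem' := by
        rintro t t' ⟨ht, h1⟩ ⟨ht', h2⟩
        refine ⟨S.mul_mem ht ht', fun s hs => ?_⟩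
        have hc := (mem_Zc.mp (hRZ (h2 s hs))).2 t ht
        have h3 : s * (t * t') * s⁻¹ * (t * t')⁻¹ =
            (s * t * s⁻¹ * t⁻¹) * (t * (s * t' * s⁻¹ * t'⁻¹) * t⁻¹) := by group
        rw [h3, hc, mul_inv_cancel_right]
        exact Subgroup.mul_mem _ (h1 s hs) (h2 s hs)
      inv_mem' := by
        rintro t ⟨ht, h1⟩
        refine ⟨S.inv_mem ht, fun s hs => ?_⟩
        have hc := (mem_Zc.mp (hRZ (h1 s hs))).2 t ht
        have h3 : s * t⁻¹ * s⁻¹ * t⁻¹⁻¹ = t⁻¹ * (s * t * s⁻¹ * t⁻¹)⁻¹ * t := by group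
        have hc' : t * (s * t * s⁻¹ * t⁻¹)⁻¹ = (s * t * s⁻¹ * t⁻¹)⁻¹ * t := by
          rw [eq_inv_mul_iff_mul_eq, ← mul_assoc, ← hc, mul_assoc, mul_inv_cancel, mul_one]
        rw [h3, mul_assoc, ← hc', ← mul_assoc, inv_mul_cancel, one_mul]
        exact Subgroup.inv_mem _ (h1 s hs) }
  have hEN : E ≤ N := fun e he => ⟨D.le he, fun s hs => comm_E_mem_Rsub H D hx hxE ⟨s, hs⟩ ⟨e, he⟩⟩
  have hNS : N ≤ S := fun t ht => ht.1
  have hxN : x ∈ N := by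
    refine ⟨hx, fun s hs => ?_⟩
    -- `s = x ^ k * f` up to `E`; use the kernel of `kap`
    haveI : Finite E := finite_of_le_finite D.le
    have h1 : kap D.norm ⟨s, hs⟩ ∈ Subgroup.zpowers (kap D.norm ⟨x, hx⟩) := by
      rw [← autS_eq_zpowers D hx hxE]
      exact kap_mem D.norm _
    obtain ⟨k, hk⟩ := Subgroup.mem_zpowers_iff.mp h1
    have h2 : (⟨x, hx⟩ : S) ^ (-k) * ⟨s, hs⟩ ∈ (kap D.norm).ker := by
      rw [MonoidHom.mem_ker, map_mul, map_zpow, ← hk, zpow_neg, inv_mul_cancel]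
    rw [ker_kap D, Subgroup.mem_subgroupOf] at h2
    set f : Ω := x ^ (-k) * s with hf
    have hfE : f ∈ E := by
      have : (((⟨x, hx⟩ : S) ^ (-k) * ⟨s, hs⟩ : S) : Ω) = f := by
        simp [hf]
      rw [← this]; exact h2
    have hs' : s = x ^ k * f := by rw [hf, ← mul_assoc, ← zpow_add, add_neg_cancel, zpow_zero, one_mul]
    have h3 : s * x * s⁻¹ * x⁻¹ = x ^ k * (x * f * x⁻¹ * f⁻¹)⁻¹ * (x ^ k)⁻¹ := by
      rw [hs']
      have hxk : x ^ k * x = x * x ^ k := ((Commute.refl x).zpow_left k).eq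
      have hxk' : x⁻¹ * (x ^ k)⁻¹ = (x ^ k)⁻¹ * x⁻¹ := by
        rw [← mul_inv_rev, ← mul_inv_rev, hxk]
      simp only [mul_inv_rev, inv_inv]
      calc x ^ k * f * x * (f⁻¹ * (x ^ k)⁻¹) * x⁻¹
          = x ^ k * (f * x * f⁻¹) * ((x ^ k)⁻¹ * x⁻¹) := by group
        _ = x ^ k * (f * x * f⁻¹) * (x⁻¹ * (x ^ k)⁻¹) := by rw [hxk']
        _ = x ^ k * (f * (x * (f⁻¹ * x⁻¹))) * (x ^ k)⁻¹ := by group
    have h4 := comm_E_mem_Rsub H D hx hxE ⟨x, hx⟩ ⟨f, hfE⟩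
    have h4' : x * f * x⁻¹ * f⁻¹ ∈ Rsub D ⟨x, hx⟩ := h4
    have h5 := (Rsub D ⟨x, hx⟩).inv_mem h4'
    have hc := (mem_Zc.mp (hRZ h5)).2 (x ^ k) (S.zpow_mem hx k)
    rw [h3, hc, mul_inv_cancel_right]
    exact h5
  have hN : N = S := by
    rcases eq_or_eq_of_relIndex_prime hp hEN hNS D.idx with h | h
    · exact absurd (h ▸ hxN) hxE
    · exact h
  have hbN : b ∈ N := by rw [hN]; exact hb
  exact hbN.2 a ha

theorem Sd_eq_Rsub (H : Hyp p F) (D : ED p F E) {x : Ω} (hx : x ∈ S) (hxE : x ∉ E) :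
    Sd S = Rsub D ⟨x, hx⟩ := by
  apply le_antisymm _ (Rsub_le_Sd D _)
  unfold Sd
  rw [Subgroup.closure_le]
  rintro _ ⟨a, ha, b, hb, rfl⟩
  exact comm_mem_Rsub H D hx hxE ha hb

theorem exists_not_mem (H : Hyp p F) (D : ED p F E) : ∃ x ∈ S, x ∉ E := by
  by_contra hcon
  push Not at hcon
  exact essential_ne H D.ess (le_antisymm D.le hcon)

theorem card_Sd (H : Hyp p F) : Nat.card (Sd S) = p := by
  obtain ⟨E, hE⟩ := exists_essential H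
  have D := ed_of_essential H hE
  obtain ⟨x, hx, hxE⟩ := exists_not_mem H D
  rw [Sd_eq_Rsub H D hx hxE]
  exact card_Rsub H D hx hxE

/-- the decomposition of `E` attached to a second Sylow subgroup of `Aut_F(E)` -/
theorem exists_dec (H : Hyp p F) (D : ED p F E) {x : Ω} (hx : x ∈ S) (hxE : x ∉ E)
    {g : MulAut E} (hg : g ∈ F.autGroup E)
    (hgu : g * kap D.norm ⟨x, hx⟩ * g⁻¹ ∉ Subgroup.zpowers (kap D.norm ⟨x, hx⟩)) :
    ∃ (u₂ : MulAut E) (c c' : E), u₂ ∈ F.autGroup E ∧ u₂ ^ p = 1 ∧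
      g * kap D.norm ⟨x, hx⟩ * g⁻¹ ∈ Subgroup.zpowers u₂ ∧
      c ≠ 1 ∧ c' ≠ 1 ∧ c ^ p = 1 ∧ c' ^ p = 1 ∧ c ∈ (cm D.comm (kap D.norm ⟨x, hx⟩)).range ∧
      (∀ e, ∃ k : ℤ, cm D.comm (kap D.norm ⟨x, hx⟩) e = c ^ k) ∧
      (∀ e, ∃ k : ℤ, cm D.comm u₂ e = c' ^ k) ∧
      kap D.norm ⟨x, hx⟩ c = c ∧ kap D.norm ⟨x, hx⟩ c' = c' * c ∧ u₂ c' = c' ∧ u₂ c = c * c'⁻¹ ∧
      ∀ e, ∃ (a : E) (i j : ℤ), e = a * c ^ i * c' ^ j ∧ kap D.norm ⟨x, hx⟩ a = a ∧ u₂ a = a := by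
  have hp : p.Prime := Fact.out
  haveI : Finite E := finite_of_le_finite D.le
  set u := kap D.norm ⟨x, hx⟩ with hu
  set u' := g * u * g⁻¹ with hu'
  have huG : u ∈ F.autGroup E := autInducedBy_le_autGroup F D.le (kap_mem D.norm _)
  have hu'G : u' ∈ F.autGroup E :=
    (F.autGroup E).mul_mem ((F.autGroup E).mul_mem hg huG) ((F.autGroup E).inv_mem hg)
  have hu1 : u ≠ 1 := kap_ne_one D hx hxE
  have hup : u ^ p = 1 := kap_pow D _
  have hu'1 : u' ≠ 1 := by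
    intro h
    apply hu1
    have h1 : u = g⁻¹ * u' * g := by rw [hu']; group
    rw [h1, h, mul_one, inv_mul_cancel]
  have hu'p : u' ^ p = 1 := by
    rw [hu', conj_pow, hup, mul_one, mul_inv_cancel]
  have hcu : Nat.card (Subgroup.zpowers u) = p := by
    rw [Nat.card_zpowers, orderOf_eq_prime hup hu1]
  have hcu' : Nat.card (Subgroup.zpowers u') = p := by
    rw [Nat.card_zpowers, orderOf_eq_prime hu'p hu'1]
  have hne' : u ∉ Subgroup.zpowers u' := by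
    intro h
    apply hgu
    have h1 : Subgroup.zpowers u = Subgroup.zpowers u' := by
      apply Subgroup.eq_of_le_of_card_ge (Subgroup.zpowers_le.mpr h)
      rw [hcu, hcu']
    rw [h1]
    exact Subgroup.mem_zpowers u'
  obtain ⟨u₂, c, c', hu₂, hc1, hc'1, hcp, hc'p, hcr, -, h1, h2, h3, h4, h5, h6, h7⟩ :=
    exists_decomp D.comm (F.autGroup E) (isTransv H D) (smallSylow H D) huG hu'G hu1 hu'1 hup hu'p
      hgu hne'
  have hu₂G : u₂ ∈ F.autGroup E := (Subgroup.zpowers_le.mpr hu'G) hu₂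
  have hu₂1 : u₂ ≠ 1 := by
    intro h
    rw [h, MulAut.one_apply] at h6
    have : c'⁻¹ = 1 := by
      have h8 : c * c'⁻¹ = c * 1 := by rw [← h6, mul_one]
      exact mul_left_cancel h8
    exact hc'1 (inv_eq_one.mp this)
  have hu₂p : u₂ ^ p = 1 := by
    have := pow_eq_one_of_card (Subgroup.zpowers u') hcu' hu₂
    exact this
  have hmem : u' ∈ Subgroup.zpowers u₂ := by
    have h8 : Subgroup.zpowers u₂ = Subgroup.zpowers u' := by
      apply Subgroup.eq_of_le_of_card_ge (Subgroup.zpowers_le.mpr hu₂)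
      rw [hcu', Nat.card_zpowers, orderOf_eq_prime hu₂p hu₂1]
    rw [h8]
    exact Subgroup.mem_zpowers u'
  exact ⟨u₂, c, c', hu₂G, hu₂p, hmem, hc1, hc'1, hcp, hc'p, hcr, h1, h2, h3, h4, h5, h6, h7⟩

/-- central elements of `S` in the decomposition: no `c'` component -/
theorem dec_of_fixed {u u₂ : MulAut E} {c c' : E} (hX : ∀ a b : E, a * b = b * a)
    (hc1 : c ≠ 1) (hcp : c ^ p = 1) (hc'p : c' ^ p = 1)
    (h3 : u c = c) (h4 : u c' = c' * c)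
    (h7 : ∀ e, ∃ (a : E) (i j : ℤ), e = a * c ^ i * c' ^ j ∧ u a = a ∧ u₂ a = a)
    {z : E} (hz : u z = z) : ∃ (a : E) (i : ℤ), z = a * c ^ i ∧ u a = a ∧ u₂ a = a := by
  have hp : p.Prime := Fact.out
  obtain ⟨a, i, j, rfl, ha, ha₂⟩ := h7 z
  refine ⟨a, i, ?_, ha, ha₂⟩
  rw [map_mul, map_mul, map_zpow, map_zpow, ha, h3, h4, zpow_mul_comm' hX] at hz
  have h8 : c ^ j = 1 := by
    have h9 : a * c ^ i * (c' ^ j * c ^ j) = a * c ^ i * (c' ^ j * 1) := by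
      rw [mul_one]; exact hz
    exact mul_left_cancel (mul_left_cancel h9)
  have hord : orderOf c = p := orderOf_eq_prime hcp hc1
  have hdvd : (p : ℤ) ∣ j := by
    rw [← hord]
    exact orderOf_dvd_iff_zpow_eq_one.mpr h8
  obtain ⟨m, rfl⟩ := hdvd
  rw [zpow_mul, zpow_natCast, hc'p, one_zpow, mul_one]

end ed

end Cfsg.Agent.Helper3.SC
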