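import Mathlib
import Cfsg.Agent.Lib.Helper3.SmallCenter4

/-!
# The package attached to a second Sylow subgroup of `Aut_F(E)` (centre of index `p²`)
-/

set_option autoImplicit false
set_option linter.style.haveILetI false
set_option linter.unusedSectionVars false

namespace Cfsg.Agent.Helper3.SC

open Cfsg Cfsg.FusionSystem Cfsg.Agent.Helper25 Cfsg.Agent.Helper26 Cfsg.Agent.Helper3.KL
open Cfsg.Agent.Helper3.TT

variable {Ω : Type*} [Group Ω] {S : Subgroup Ω} {E : Subgroup Ω}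

section ed

variable [Finite S] {p : ℕ} [Fact p.Prime] {F : FusionSystem S}

/-- the Weyl element -/
def wEl (u u₂ : MulAut E) : MulAut E := u * u₂ * u

/-- the data attached to a second Sylow subgroup -/
structure IsPack (F : FusionSystem S) (D : ED p F E) (x : S) (u₂ : MulAut E) (c c' : E)
    (β : MulAut S) : Prop where
  u₂_mem : u₂ ∈ F.autGroup E
  u₂p : u₂ ^ p = 1
  c_ne : c ≠ 1
  c'_ne : c' ≠ 1
  cp : c ^ p = 1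
  c'p : c' ^ p = 1
  c_range : c ∈ (cm D.comm (kap D.norm x)).range
  cmu : ∀ e, ∃ k : ℤ, cm D.comm (kap D.norm x) e = c ^ k
  cmu₂ : ∀ e, ∃ k : ℤ, cm D.comm u₂ e = c' ^ k
  h3 : kap D.norm x c = c
  h4 : kap D.norm x c' = c' * c
  h5 : u₂ c' = c'
  h6 : u₂ c = c * c'⁻¹
  dec : ∀ e, ∃ (a : E) (i j : ℤ), e = a * c ^ i * c' ^ j ∧ kap D.norm x a = a ∧ u₂ a = a
  theta : IsTheta F β
  ext : ∀ e : E, ((β ⟨e, D.le e.2⟩ : S) : Ω) =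
    (((wEl (kap D.norm x) u₂ * wEl (kap D.norm x) u₂) e : E) : Ω)

theorem mem_Sd_of_zpow (H : Hyp p F) (D : ED p F E) {x : Ω} (hx : x ∈ S) (hxE : x ∉ E) {c : E}
    (hc : c ∈ (cm D.comm (kap D.norm ⟨x, hx⟩)).range) (k : ℤ) : ((c ^ k : E) : Ω) ∈ Sd S := by
  rw [Sd_eq_Rsub H D hx hxE]
  exact Subgroup.mem_map.mpr ⟨c ^ k, Subgroup.zpow_mem _ hc k, rfl⟩

theorem exists_zpow_of_mem_Sd (H : Hyp p F) (D : ED p F E) {x : Ω} (hx : x ∈ S) (hxE : x ∉ E) {c : E}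
    (hcmu : ∀ e, ∃ k : ℤ, cm D.comm (kap D.norm ⟨x, hx⟩) e = c ^ k) {d : Ω} (hd : d ∈ Sd S) :
    ∃ k : ℤ, d = ((c ^ k : E) : Ω) := by
  rw [Sd_eq_Rsub H D hx hxE] at hd
  obtain ⟨_, ⟨e, rfl⟩, rfl⟩ := hd
  obtain ⟨k, hk⟩ := hcmu e
  exact ⟨k, by rw [← hk]; rfl⟩

theorem exists_pack (H : Hyp p F) (D : ED p F E) {x : Ω} (hx : x ∈ S) (hxE : x ∉ E)
    {g : MulAut E} (hg : g ∈ F.autGroup E)
    (hgu : g * kap D.norm ⟨x, hx⟩ * g⁻¹ ∉ Subgroup.zpowers (kap D.norm ⟨x, hx⟩)) :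
    ∃ (u₂ : MulAut E) (c c' : E) (β : MulAut S), IsPack F D ⟨x, hx⟩ u₂ c c' β ∧
      g * kap D.norm ⟨x, hx⟩ * g⁻¹ ∈ Subgroup.zpowers u₂ := by
  obtain ⟨u₂, c, c', hu₂, hu₂p, hmem, hc1, hc'1, hcp, hc'p, hcr, hcmu, hcmu₂, h3, h4, h5, h6, h7⟩ :=
    exists_dec H D hx hxE hg hgu
  haveI : Finite E := finite_of_le_finite D.le
  obtain ⟨-, hwa, hτc, hτc', hτu⟩ := weyl_facts D.comm h3 h4 h5 h6 h7
  set u := kap D.norm ⟨x, hx⟩ with hu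
  have huG : u ∈ F.autGroup E := autInducedBy_le_autGroup F D.le (kap_mem D.norm _)
  have hwG : u * u₂ * u ∈ F.autGroup E :=
    (F.autGroup E).mul_mem ((F.autGroup E).mul_mem huG hu₂) huG
  set τ : MulAut E := (u * u₂ * u) * (u * u₂ * u) with hτ
  have hτG : τ ∈ F.autGroup E := (F.autGroup E).mul_mem hwG hwG
  have hτnorm : τ * u * τ⁻¹ ∈ Subgroup.zpowers u := by
    rw [hτu, mul_inv_cancel_right]
    exact Subgroup.mem_zpowers u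
  obtain ⟨β, hβ, hβext⟩ := exists_ext H D hτG (norm_of_conj_mem D hx hxE hτnorm)
  have hτa : ∀ a, u a = a → u₂ a = a → τ a = a := by
    intro a ha ha₂
    rw [hτ, MulAut.mul_apply, hwa a ha ha₂, hwa a ha ha₂]
  refine ⟨u₂, c, c', β, ⟨hu₂, hu₂p, hc1, hc'1, hcp, hc'p, hcr, hcmu, hcmu₂, h3, h4, h5, h6, h7,
    ⟨hβ, ?_, ?_⟩,
    hβext⟩, hmem⟩
  · intro d hd
    obtain ⟨k, rfl⟩ := exists_zpow_of_mem_Sd H D hx hxE hcmu hd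
    rw [hβext (c ^ k), map_zpow, hτc]
    simp
  · intro z hz
    have hzE : z ∈ E := D.Z_le hz
    have huz : u ⟨z, hzE⟩ = ⟨z, hzE⟩ := kap_fix_Zc D _ hz
    obtain ⟨a, i, hzeq, ha, ha₂⟩ := dec_of_fixed D.comm hc1 hcp hc'p h3 h4 h7 huz
    have h8 : ((β ⟨z, Zc_le hz⟩ : S) : Ω) = ((τ ⟨z, hzE⟩ : E) : Ω) := hβext ⟨z, hzE⟩
    rw [h8, hzeq, map_mul, map_zpow, hτa a ha ha₂, hτc]
    have h9 : z = ((a * c ^ i : E) : Ω) := congrArg Subtype.val hzeq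
    rw [h9]
    have h10 : (((a * c ^ i : E) : Ω))⁻¹ * ((a * c⁻¹ ^ i : E) : Ω) = ((c ^ (-i - i) : E) : Ω) := by
      have : (a * c ^ i)⁻¹ * (a * c⁻¹ ^ i) = c ^ (-i - i) := by
        rw [mul_inv_rev, mul_assoc, inv_mul_cancel_left, inv_zpow, ← zpow_neg, ← zpow_add]
        congr 1
      rw [← this]
      rfl
    rw [h10]
    exact mem_Sd_of_zpow H D hx hxE hcr _

section pack

variable {D : ED p F E} {x : Ω} {hx : x ∈ S} {u₂ : MulAut E} {c c' : E} {β : MulAut S}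

theorem IsPack.facts (P : IsPack F D ⟨x, hx⟩ u₂ c c' β) :
    wEl (kap D.norm ⟨x, hx⟩) u₂ * kap D.norm ⟨x, hx⟩ * (wEl (kap D.norm ⟨x, hx⟩) u₂)⁻¹ = u₂ ∧
    (∀ a, kap D.norm ⟨x, hx⟩ a = a → u₂ a = a → wEl (kap D.norm ⟨x, hx⟩) u₂ a = a) ∧
    (wEl (kap D.norm ⟨x, hx⟩) u₂ * wEl (kap D.norm ⟨x, hx⟩) u₂) c = c⁻¹ ∧
    (wEl (kap D.norm ⟨x, hx⟩) u₂ * wEl (kap D.norm ⟨x, hx⟩) u₂) c' = c'⁻¹ ∧
    (wEl (kap D.norm ⟨x, hx⟩) u₂ * wEl (kap D.norm ⟨x, hx⟩) u₂) * kap D.norm ⟨x, hx⟩ =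
      kap D.norm ⟨x, hx⟩ * (wEl (kap D.norm ⟨x, hx⟩) u₂ * wEl (kap D.norm ⟨x, hx⟩) u₂) := by
  haveI : Finite E := finite_of_le_finite D.le
  exact weyl_facts D.comm P.h3 P.h4 P.h5 P.h6 P.dec

theorem IsPack.w_mem (P : IsPack F D ⟨x, hx⟩ u₂ c c' β) :
    wEl (kap D.norm ⟨x, hx⟩) u₂ ∈ F.autGroup E := by
  have huG : kap D.norm ⟨x, hx⟩ ∈ F.autGroup E :=
    autInducedBy_le_autGroup F D.le (kap_mem D.norm _)
  exact (F.autGroup E).mul_mem ((F.autGroup E).mul_mem huG P.u₂_mem) huG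

/-- `w⁻¹ g` normalizes `Aut_S(E)` -/
theorem IsPack.norm (P : IsPack F D ⟨x, hx⟩ u₂ c c' β) {g : MulAut E}
    (hmem : g * kap D.norm ⟨x, hx⟩ * g⁻¹ ∈ Subgroup.zpowers u₂) :
    ((wEl (kap D.norm ⟨x, hx⟩) u₂)⁻¹ * g) * kap D.norm ⟨x, hx⟩ *
      ((wEl (kap D.norm ⟨x, hx⟩) u₂)⁻¹ * g)⁻¹ ∈ Subgroup.zpowers (kap D.norm ⟨x, hx⟩) := by
  obtain ⟨hw, -⟩ := P.facts
  set w := wEl (kap D.norm ⟨x, hx⟩) u₂ with hwdef
  set u := kap D.norm ⟨x, hx⟩ with hu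
  obtain ⟨k, hk⟩ := Subgroup.mem_zpowers_iff.mp hmem
  have h1 : (w⁻¹ * g) * u * (w⁻¹ * g)⁻¹ = w⁻¹ * (g * u * g⁻¹) * w := by group
  have h2 : w⁻¹ * u₂ * w = u := by rw [← hw]; group
  rw [h1, ← hk]
  have h3 : w⁻¹ * u₂ ^ k * w = (w⁻¹ * u₂ * w) ^ k := by
    have := (conj_zpow (a := w⁻¹) (b := u₂) (i := k)).symm
    rw [inv_inv] at this
    exact this
  rw [h3, h2]
  exact Subgroup.zpow_mem _ (Subgroup.mem_zpowers u) k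

/-- decomposition of the centre of `S` -/
theorem IsPack.Zc_dec (P : IsPack F D ⟨x, hx⟩ u₂ c c' β) (hxE : x ∉ E) {z : Ω}
    (hz : z ∈ centralizerIn S S) :
    ∃ (a : E) (i : ℤ), z = ((a * c ^ i : E) : Ω) ∧ kap D.norm ⟨x, hx⟩ a = a ∧ u₂ a = a := by
  have hzE : z ∈ E := D.Z_le hz
  have huz : kap D.norm ⟨x, hx⟩ ⟨z, hzE⟩ = ⟨z, hzE⟩ := kap_fix_Zc D _ hz
  obtain ⟨a, i, hzeq, ha, ha₂⟩ := dec_of_fixed D.comm P.c_ne P.cp P.c'p P.h3 P.h4 P.dec huz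
  exact ⟨a, i, congrArg Subtype.val hzeq, ha, ha₂⟩

theorem IsPack.tau_fix (P : IsPack F D ⟨x, hx⟩ u₂ c c' β) {a : E}
    (ha : kap D.norm ⟨x, hx⟩ a = a) (ha₂ : u₂ a = a) :
    β ⟨a, D.le a.2⟩ = ⟨a, D.le a.2⟩ := by
  obtain ⟨-, hwa, -⟩ := P.facts
  apply Subtype.ext
  rw [P.ext a, MulAut.mul_apply, hwa a ha ha₂, hwa a ha ha₂]

theorem fixed_mem_Zc (D : ED p F E) {x : Ω} (hx : x ∈ S) (hxE : x ∉ E) {a : E}
    (ha : kap D.norm ⟨x, hx⟩ a = a) : (a : Ω) ∈ centralizerIn S S := by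
  apply D.cent x hx hxE a a.2
  have h1 := congrArg Subtype.val ha
  rw [kap_apply] at h1
  calc x * (a : Ω) = (x * a * x⁻¹) * x := by group
    _ = a * x := by rw [h1]

/-- for odd `p`: a central element fixed by `β` is fixed by `u₂` and `w` -/
theorem IsPack.fix_of_fix (hp2 : p ≠ 2) (P : IsPack F D ⟨x, hx⟩ u₂ c c' β) (hxE : x ∉ E) {z : Ω}
    (hz : z ∈ centralizerIn S S) (hβz : β ⟨z, Zc_le hz⟩ = ⟨z, Zc_le hz⟩) :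
    u₂ ⟨z, D.Z_le hz⟩ = ⟨z, D.Z_le hz⟩ ∧
      wEl (kap D.norm ⟨x, hx⟩) u₂ ⟨z, D.Z_le hz⟩ = ⟨z, D.Z_le hz⟩ := by
  have hp : p.Prime := Fact.out
  obtain ⟨-, hwa, hτc, -⟩ := P.facts
  obtain ⟨a, i, hzeq, ha, ha₂⟩ := P.Zc_dec hxE hz
  have hzeq' : (⟨z, D.Z_le hz⟩ : E) = a * c ^ i := Subtype.ext hzeq
  have h1 := P.ext ⟨z, D.Z_le hz⟩
  have h2 : ((β ⟨z, Zc_le hz⟩ : S) : Ω) = z := congrArg Subtype.val hβz
  have h3 : ((β ⟨(⟨z, D.Z_le hz⟩ : E), D.le (D.Z_le hz)⟩ : S) : Ω) = z := h2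
  rw [h3, hzeq', map_mul, map_zpow, hτc, MulAut.mul_apply, hwa a ha ha₂, hwa a ha ha₂] at h1
  -- z = a * c⁻¹ ^ i, so c ^ i = c⁻¹ ^ i
  have h4 : a * c ^ i = a * c⁻¹ ^ i := by
    apply Subtype.ext
    rw [← hzeq]
    exact h1
  have h5 : c ^ i = c⁻¹ ^ i := mul_left_cancel h4
  have h6 : c ^ (2 * i) = 1 := by
    rw [two_mul, zpow_add]
    nth_rewrite 2 [h5]
    rw [inv_zpow, mul_inv_cancel]
  have hord : orderOf c = p := orderOf_eq_prime P.cp P.c_ne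
  have hdvd : (p : ℤ) ∣ 2 * i := by
    rw [← hord]
    exact orderOf_dvd_iff_zpow_eq_one.mpr h6
  have hdvd' : (p : ℤ) ∣ i := by
    have hpi : Prime (p : ℤ) := Nat.prime_iff_prime_int.mp hp
    rcases hpi.dvd_or_dvd hdvd with h | h
    · exfalso
      have h7 : p ∣ 2 := by exact_mod_cast h
      exact hp2 ((Nat.prime_dvd_prime_iff_eq hp Nat.prime_two).mp h7)
    · exact h
  have hci : c ^ i = 1 := by
    obtain ⟨m, rfl⟩ := hdvd'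
    rw [zpow_mul, zpow_natCast, P.cp, one_zpow]
  rw [hzeq', hci, mul_one]
  exact ⟨ha₂, hwa a ha ha₂⟩

end pack

end ed

end Cfsg.Agent.Helper3.SC
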