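import Mathlib
import Cfsg.Agent.Lib.Helper3.SmallCenter5

/-!
# Odd `p`: the centre has order `p` and `S` has exponent `p` (centre of index `p²`)
-/

set_option autoImplicit false
set_option linter.style.haveILetI false
set_option linter.unusedSectionVars false

namespace Cfsg.Agent.Helper3.SC

open Cfsg Cfsg.FusionSystem Cfsg.Agent.Helper25 Cfsg.Agent.Helper26 Cfsg.Agent.Helper3.KL
open Cfsg.Agent.Helper3.TT

variable {Ω : Type*} [Group Ω] {S : Subgroup Ω} {E : Subgroup Ω}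

/-- the fixed points of `β` in `Z(S)` -/
def fixSub (β : MulAut S) : Subgroup Ω where
  carrier := {z | ∃ hz : z ∈ centralizerIn S S, β ⟨z, Zc_le hz⟩ = ⟨z, Zc_le hz⟩}
  one_mem' := ⟨(centralizerIn S S).one_mem, by
    have : (⟨1, Zc_le (centralizerIn S S).one_mem⟩ : S) = 1 := rfl
    rw [this, map_one]⟩
  mul_mem' := by
    rintro a b ⟨ha, ha'⟩ ⟨hb, hb'⟩
    refine ⟨(centralizerIn S S).mul_mem ha hb, ?_⟩
    have : (⟨a * b, Zc_le ((centralizerIn S S).mul_mem ha hb)⟩ : S) =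
        ⟨a, Zc_le ha⟩ * ⟨b, Zc_le hb⟩ := rfl
    rw [this, map_mul, ha', hb']
  inv_mem' := by
    rintro a ⟨ha, ha'⟩
    refine ⟨(centralizerIn S S).inv_mem ha, ?_⟩
    have : (⟨a⁻¹, Zc_le ((centralizerIn S S).inv_mem ha)⟩ : S) = ⟨a, Zc_le ha⟩⁻¹ := rfl
    rw [this, map_inv, ha']

theorem mem_fixSub {β : MulAut S} {z : Ω} :
    z ∈ fixSub β ↔ ∃ hz : z ∈ centralizerIn S S, β ⟨z, Zc_le hz⟩ = ⟨z, Zc_le hz⟩ := Iff.rfl

theorem fixSub_le_Zc (β : MulAut S) : fixSub β ≤ centralizerIn S S := fun _ hz => hz.1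

/-- invariance under an automorphism gives equality of the image -/
theorem map_aut_eq {P : Subgroup Ω} [Finite P] (Q : Subgroup Ω) (α : MulAut P)
    (h : ∀ y : P, (y : Ω) ∈ Q → ((α y : P) : Ω) ∈ Q) :
    (Q.subgroupOf P).map α.toMonoidHom = Q.subgroupOf P := by
  have hle : (Q.subgroupOf P).map α.toMonoidHom ≤ Q.subgroupOf P := by
    rintro _ ⟨y, hy, rfl⟩
    exact Subgroup.mem_subgroupOf.mpr (h y (Subgroup.mem_subgroupOf.mp hy))
  apply Subgroup.eq_of_le_of_card_ge hle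
  rw [Subgroup.card_map_of_injective α.injective]

/-- a power formula in class two -/
theorem mul_pow_class_two {G : Type*} [Group G] (a b z : G) (hba : b * a = z * a * b)
    (hza : Commute z a) (hzb : Commute z b) (n : ℕ) :
    (a * b) ^ n = a ^ n * b ^ n * z ^ (n * (n - 1) / 2) := by
  have h1 : ∀ n : ℕ, b ^ n * a = z ^ n * a * b ^ n := by
    intro n
    induction n with
    | zero => simp
    | succ n ih =>
      calc b ^ (n + 1) * a = b * (b ^ n * a) := by rw [pow_succ']; group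
        _ = b * (z ^ n * a * b ^ n) := by rw [ih]
        _ = z ^ n * (b * a) * b ^ n := by
          have := (hzb.pow_left n).eq
          calc b * (z ^ n * a * b ^ n) = (b * z ^ n) * a * b ^ n := by group
            _ = (z ^ n * b) * a * b ^ n := by rw [this]
            _ = z ^ n * (b * a) * b ^ n := by group
        _ = z ^ n * (z * a * b) * b ^ n := by rw [hba]
        _ = z ^ (n + 1) * a * b ^ (n + 1) := by rw [pow_succ, pow_succ']; group
  induction n with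
  | zero => simp
  | succ n ih =>
    have hT : (n + 1) * (n + 1 - 1) / 2 = n * (n - 1) / 2 + n := by
      have h2 : (n + 1) * (n + 1 - 1) = n * (n - 1) + 2 * n := by
        cases n with
        | zero => rfl
        | succ m => simp only [Nat.add_sub_cancel]; ring
      rw [h2, Nat.add_mul_div_left _ _ (by norm_num : 0 < 2)]
    have hzbn : Commute (z ^ (n * (n - 1) / 2)) (b ^ n) := (hzb.pow_left _).pow_right _
    have hzan : Commute (z ^ (n * (n - 1) / 2)) a := hza.pow_left _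
    have hzb1 : Commute (z ^ (n * (n - 1) / 2)) b := hzb.pow_left _
    have hzn_a : Commute (z ^ n) a := hza.pow_left _
    have hzn_an : Commute (z ^ n) (a ^ n) := (hza.pow_left _).pow_right _
    calc (a * b) ^ (n + 1) = (a * b) ^ n * (a * b) := pow_succ _ _
      _ = a ^ n * b ^ n * z ^ (n * (n - 1) / 2) * (a * b) := by rw [ih]
      _ = a ^ n * (b ^ n * a) * b * z ^ (n * (n - 1) / 2) := by
        have e1 : z ^ (n * (n - 1) / 2) * (a * b) = (a * b) * z ^ (n * (n - 1) / 2) :=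
          (hzan.mul_right hzb1).eq
        calc a ^ n * b ^ n * z ^ (n * (n - 1) / 2) * (a * b)
            = a ^ n * b ^ n * (z ^ (n * (n - 1) / 2) * (a * b)) := by group
          _ = a ^ n * b ^ n * ((a * b) * z ^ (n * (n - 1) / 2)) := by rw [e1]
          _ = a ^ n * (b ^ n * a) * b * z ^ (n * (n - 1) / 2) := by group
      _ = a ^ n * (z ^ n * a * b ^ n) * b * z ^ (n * (n - 1) / 2) := by rw [h1]
      _ = a ^ (n + 1) * b ^ (n + 1) * (z ^ n * z ^ (n * (n - 1) / 2)) := by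
        have e2 : a ^ n * z ^ n = z ^ n * a ^ n := hzn_an.eq.symm
        have e3 : Commute (z ^ n) (a ^ (n + 1) * b ^ (n + 1)) :=
          ((hza.pow_left _).pow_right _).mul_right ((hzb.pow_left _).pow_right _)
        calc a ^ n * (z ^ n * a * b ^ n) * b * z ^ (n * (n - 1) / 2)
            = (a ^ n * z ^ n) * a * b ^ n * b * z ^ (n * (n - 1) / 2) := by group
          _ = (z ^ n * a ^ n) * a * b ^ n * b * z ^ (n * (n - 1) / 2) := by rw [e2]
          _ = z ^ n * (a ^ (n + 1) * b ^ (n + 1)) * z ^ (n * (n - 1) / 2) := by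
            rw [pow_succ a, pow_succ b]; group
          _ = (a ^ (n + 1) * b ^ (n + 1)) * z ^ n * z ^ (n * (n - 1) / 2) := by rw [e3.eq]
          _ = a ^ (n + 1) * b ^ (n + 1) * (z ^ n * z ^ (n * (n - 1) / 2)) := by group
      _ = a ^ (n + 1) * b ^ (n + 1) * z ^ ((n + 1) * (n + 1 - 1) / 2) := by
        rw [← pow_add, hT, Nat.add_comm n (n * (n - 1) / 2)]

section ed

variable [Finite S] {p : ℕ} [Fact p.Prime] {F : FusionSystem S}

theorem fixSub_aut (H : Hyp p F) {β α : MulAut S} (hθ : IsTheta F β) (hα : α ∈ F.autGroup S)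
    {z : Ω} (hz : z ∈ fixSub β) : ((α ⟨z, Zc_le hz.1⟩ : S) : Ω) ∈ fixSub β := by
  obtain ⟨hzZ, hβz⟩ := hz
  have hαz := aut_mem_Zc α hzZ
  refine ⟨hαz, ?_⟩
  have h1 := theta_unique H (isTheta_conj hα hθ) hθ hαz
  rw [← h1, MulAut.mul_apply, MulAut.mul_apply]
  have h2 : (⟨((α ⟨z, Zc_le hzZ⟩ : S) : Ω), Zc_le hαz⟩ : S) = α ⟨z, Zc_le hzZ⟩ := Subtype.ext rfl
  rw [h2, MulAut.inv_apply_self, hβz]

theorem fixSub_autE (hp2 : p ≠ 2) (H : Hyp p F) {β : MulAut S} (hθ : IsTheta F β) (D : ED p F E)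
    {g : MulAut E} (hg : g ∈ F.autGroup E) {z : Ω} (hz : z ∈ fixSub β) :
    ((g ⟨z, D.Z_le hz.1⟩ : E) : Ω) ∈ fixSub β := by
  obtain ⟨x, hx, hxE⟩ := exists_not_mem H D
  by_cases hgu : g * kap D.norm ⟨x, hx⟩ * g⁻¹ ∈ Subgroup.zpowers (kap D.norm ⟨x, hx⟩)
  · obtain ⟨β', hβ', hext⟩ := exists_ext H D hg (norm_of_conj_mem D hx hxE hgu)
    rw [← hext ⟨z, D.Z_le hz.1⟩]
    exact fixSub_aut H hθ hβ' hz
  · obtain ⟨u₂, c, c', β₁, P, hmem⟩ := exists_pack H D hx hxE hg hgu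
    set w := wEl (kap D.norm ⟨x, hx⟩) u₂ with hw
    have hnG : w⁻¹ * g ∈ F.autGroup E :=
      (F.autGroup E).mul_mem ((F.autGroup E).inv_mem P.w_mem) hg
    obtain ⟨β', hβ', hext⟩ := exists_ext H D hnG (norm_of_conj_mem D hx hxE (P.norm hmem))
    have h1 : (((w⁻¹ * g) ⟨z, D.Z_le hz.1⟩ : E) : Ω) ∈ fixSub β := by
      rw [← hext ⟨z, D.Z_le hz.1⟩]
      exact fixSub_aut H hθ hβ' hz
    obtain ⟨hnzZ, hβnz⟩ := h1
    have hβ₁nz := (theta_unique H P.theta hθ hnzZ).trans hβnz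
    obtain ⟨-, hwfix⟩ := P.fix_of_fix hp2 hxE hnzZ hβ₁nz
    have h2 : g ⟨z, D.Z_le hz.1⟩ = w ((w⁻¹ * g) ⟨z, D.Z_le hz.1⟩) := by
      rw [MulAut.mul_apply, MulAut.apply_inv_self]
    have h3 : (⟨(((w⁻¹ * g) ⟨z, D.Z_le hz.1⟩ : E) : Ω), D.Z_le hnzZ⟩ : E) =
        (w⁻¹ * g) ⟨z, D.Z_le hz.1⟩ := Subtype.ext rfl
    rw [h3] at hwfix
    rw [h2, hwfix]
    exact ⟨hnzZ, hβnz⟩

theorem fixSub_isNormal (hp2 : p ≠ 2) (H : Hyp p F) {β : MulAut S} (hθ : IsTheta F β) :
    F.IsNormal (fixSub β) := by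
  apply isNormal_of_forall_essential p H.pg F H.sat (fixSub β)
  rintro P (rfl | hP)
  · refine ⟨le_trans (fixSub_le_Zc β) Zc_le, fun α hα => ?_⟩
    apply map_aut_eq
    intro y hy
    exact fixSub_aut H hθ hα hy
  · have D := ed_of_essential H hP
    haveI : Finite P := finite_of_le_finite D.le
    refine ⟨le_trans (fixSub_le_Zc β) D.Z_le, fun g hg => ?_⟩
    apply map_aut_eq
    intro y hy
    exact fixSub_autE hp2 H hθ D hg hy

/-- for odd `p` the centre of `S` is the derived subgroup -/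
theorem Zc_eq_Sd_odd (hp2 : p ≠ 2) (H : Hyp p F) : centralizerIn S S = Sd S := by
  obtain ⟨E, hE⟩ := exists_essential H
  have D := ed_of_essential H hE
  obtain ⟨x, hx, hxE⟩ := exists_not_mem H D
  obtain ⟨g, hg, hgu⟩ := exists_second H D hx hxE
  obtain ⟨u₂, c, c', β, P, -⟩ := exists_pack H D hx hxE hg hgu
  have hbot := eq_bot_of_isNormal H.core (fixSub_isNormal hp2 H P.theta)
  apply le_antisymm _ (Sd_le_Zc H)
  intro z hz
  obtain ⟨a, i, hzeq, ha, ha₂⟩ := P.Zc_dec hxE hz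
  have haZ := fixed_mem_Zc D hx hxE ha
  have hafix : (a : Ω) ∈ fixSub β := ⟨haZ, P.tau_fix ha ha₂⟩
  rw [hbot, Subgroup.mem_bot] at hafix
  have ha1 : a = 1 := Subtype.ext hafix
  rw [hzeq, ha1, one_mul]
  exact mem_Sd_of_zpow H D hx hxE P.c_range i

end ed

end Cfsg.Agent.Helper3.SC
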