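import Mathlib
import Cfsg.Agent.Lib.Helper3.GilSer1
import Cfsg.Agent.Lib.Helper3.OliverB1
import Cfsg.Agent.Lib.Helper3.SmallCenter6
import Cfsg.Agent.Lib.Helper25.FusionAlperin2
import Cfsg.Agent.Lib.Helper25.FusionInner

/-!
# `℧ⁿ(Z(S))`: basic invariance properties, and the action of `N_S(P)` on `Z(P)`
-/

set_option autoImplicit false
set_option linter.style.haveILetI false
set_option linter.unusedSectionVars false
set_option linter.deprecated false

namespace Cfsg.Agent.Helper3.GS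

open Cfsg Cfsg.FusionSystem Cfsg.Agent.Helper25 Cfsg.Agent.Helper26 Cfsg.Agent.Helper3.KL
open Cfsg.Agent.Helper3.TT Cfsg.Agent.Helper3.SC Cfsg.Agent.Helper3.OL

variable {Ω : Type*} [Group Ω] {S : Subgroup Ω}

/-- `℧ⁿ(Z(S))` -/
def Qn (p n : ℕ) (S : Subgroup Ω) : Subgroup Ω := Cfsg.powerClosure p n (centralizerIn S S)

theorem Qn_le_Zc (p n : ℕ) : Qn p n S ≤ centralizerIn S S := by
  unfold Qn Cfsg.powerClosure
  rw [Subgroup.closure_le]
  rintro _ ⟨x, hx, rfl⟩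
  exact Subgroup.pow_mem _ hx _

theorem powerClosure_map {G H : Type*} [Group G] [Group H] (f : G →* H) (p n : ℕ)
    (A : Subgroup G) : (Cfsg.powerClosure p n A).map f = Cfsg.powerClosure p n (A.map f) := by
  unfold Cfsg.powerClosure
  rw [MonoidHom.map_closure]
  congr 1
  ext y
  constructor
  · rintro ⟨_, ⟨x, hx, rfl⟩, rfl⟩
    exact ⟨f x, ⟨x, hx, rfl⟩, map_pow f x _⟩
  · rintro ⟨_, ⟨x, hx, rfl⟩, rfl⟩
    exact ⟨x ^ (p ^ n), ⟨x, hx, rfl⟩, map_pow f x _⟩

theorem map_mem_powerClosure {G H : Type*} [Group G] [Group H] (f : G →* H) {p n : ℕ}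
    {A : Subgroup G} {B : Subgroup H} (h : ∀ a ∈ A, f a ∈ B) {z : G}
    (hz : z ∈ Cfsg.powerClosure p n A) : f z ∈ Cfsg.powerClosure p n B := by
  have h1 : f z ∈ (Cfsg.powerClosure p n A).map f := ⟨z, hz, rfl⟩
  rw [powerClosure_map] at h1
  have h2 : Cfsg.powerClosure p n (A.map f) ≤ Cfsg.powerClosure p n B := by
    unfold Cfsg.powerClosure
    apply Subgroup.closure_mono
    rintro _ ⟨_, ⟨a, ha, rfl⟩, rfl⟩
    exact ⟨f a, h a ha, rfl⟩
  exact h2 h1

/-- `℧ⁿ(Z(S))` as the image of a subgroup of `P ≥ Z(S)` -/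
theorem Qn_eq_map (p n : ℕ) {P : Subgroup Ω} (hZP : centralizerIn S S ≤ P) :
    Qn p n S = (Cfsg.powerClosure p n ((centralizerIn S S).subgroupOf P)).map P.subtype := by
  rw [powerClosure_map, Subgroup.map_subgroupOf_eq_of_le hZP]
  rfl

/-- a homomorphism from `P` preserving `Z(S)` preserves `℧ⁿ(Z(S))` -/
theorem hom_mem_Qn {p n : ℕ} {P : Subgroup Ω} (hZP : centralizerIn S S ≤ P) (f : P →* Ω)
    (hinv : ∀ y : P, (y : Ω) ∈ centralizerIn S S → f y ∈ centralizerIn S S) (z : P)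
    (hz : (z : Ω) ∈ Qn p n S) : f z ∈ Qn p n S := by
  rw [Qn_eq_map p n hZP] at hz
  obtain ⟨z', hz', hzz'⟩ := hz
  have : z' = z := Subtype.ext hzz'
  subst this
  exact map_mem_powerClosure f (fun a ha => hinv a (Subgroup.mem_subgroupOf.mp ha)) hz'

/-- a homomorphism from `P` fixing the `pⁿ`-th powers of `Z(S)` fixes `℧ⁿ(Z(S))` pointwise -/
theorem hom_fix_Qn {p n : ℕ} {P : Subgroup Ω} (hZP : centralizerIn S S ≤ P) (f : P →* Ω)
    (hfix : ∀ y : P, (y : Ω) ∈ centralizerIn S S → f (y ^ (p ^ n)) = ((y ^ (p ^ n) : P) : Ω)) (z : P)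
    (hz : (z : Ω) ∈ Qn p n S) : f z = z := by
  rw [Qn_eq_map p n hZP] at hz
  obtain ⟨z', hz', hzz'⟩ := hz
  have : z' = z := Subtype.ext hzz'
  subst this
  have h1 : Set.EqOn f P.subtype
      (Subgroup.closure {y : P | ∃ x ∈ (centralizerIn S S).subgroupOf P, y = x ^ (p ^ n)} : Set P) := by
    apply MonoidHom.eqOn_closure
    rintro _ ⟨x, hx, rfl⟩
    exact hfix x (Subgroup.mem_subgroupOf.mp hx)
  exact h1 hz'

/-- `φ` preserves `℧ⁿ(Z(S))` in both directions -/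
def Pres (p n : ℕ) (S Q' : Subgroup Ω) (φ : Q' →* Ω) : Prop :=
  ∀ (z : Ω) (hz : z ∈ Q'), z ∈ Qn p n S ↔ φ ⟨z, hz⟩ ∈ Qn p n S

theorem mem_center_iff_coe {P : Subgroup Ω} (v : P) :
    v ∈ Subgroup.center ↥P ↔ (v : Ω) ∈ Subgroup.centralizer (P : Set Ω) := by
  rw [Subgroup.mem_center_iff, Subgroup.mem_centralizer_iff]
  constructor
  · intro h g hg
    exact congrArg Subtype.val (h ⟨g, hg⟩)
  · intro h g
    exact Subtype.ext (h g g.2)

section kap

open scoped IsMulCommutative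

variable {P : Subgroup Ω}

/-- the restriction of conjugation by `a ∈ N_S(P)` to `Z(P)` -/
def kapZ (a : normalizerIn S P) : Subgroup.center ↥P →* Subgroup.center ↥P :=
  ((kapN P a).toMonoidHom.comp (Subgroup.center ↥P).subtype).codRestrict (Subgroup.center ↥P)
    (fun v => by
      rw [mem_center_iff_coe]
      exact (center_aut_mem (kapN P a) ((mem_center_iff_coe v.1).mp v.2)).2)

theorem kapZ_coe (a : normalizerIn S P) (v : Subgroup.center ↥P) :
    (((kapZ a v : Subgroup.center ↥P) : P) : Ω) = a * (v : P) * (a : Ω)⁻¹ := rfl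

theorem kapZ_iter_coe (a : normalizerIn S P) (k : ℕ) (v : Subgroup.center ↥P) :
    ((((kapZ a)^[k] v : Subgroup.center ↥P) : P) : Ω) = (a : Ω) ^ k * (v : P) * ((a : Ω) ^ k)⁻¹ := by
  induction k generalizing v with
  | zero => simp
  | succ k ih =>
    rw [Function.iterate_succ_apply, ih, kapZ_coe, pow_succ]
    group

theorem cmE_kapZ_coe (a : normalizerIn S P) (v : Subgroup.center ↥P) :
    (((cmE (kapZ a) v : Subgroup.center ↥P) : P) : Ω) =
      a * (v : P) * (a : Ω)⁻¹ * ((v : P) : Ω)⁻¹ := rfl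

theorem cmE_iter_mem_lcs (hPS : P ≤ S) (a : normalizerIn S P) (k : ℕ) (v : Subgroup.center ↥P) :
    ((((cmE (kapZ a))^[k] v : Subgroup.center ↥P) : P) : Ω) ∈ S.lowerCentralSeries k := by
  induction k with
  | zero => exact hPS (v : P).2
  | succ k ih =>
    rw [Function.iterate_succ_apply', cmE_kapZ_coe, Subgroup.lowerCentralSeries_succ]
    obtain ⟨w, hw⟩ : ∃ w : Ω, w = ((((cmE (kapZ a))^[k] v : Subgroup.center ↥P) : P) : Ω) := ⟨_, rfl⟩
    rw [← hw] at ih ⊢
    have h1 := Subgroup.commutator_mem_commutator ih a.2.1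
    rw [commutatorElement_def] at h1
    have h2 : (a : Ω) * w * (a : Ω)⁻¹ * w⁻¹ = (w * a * w⁻¹ * (a : Ω)⁻¹)⁻¹ := by group
    rw [h2]
    exact Subgroup.inv_mem _ h1

/-- an element `a ∈ N_S(P)` with `a ^ p ∈ P` fixes the `pⁿ`-th powers of `Z(P)` when the class of `S` is at most `n(p-1)+1` -/
theorem kapN_fix_pow {p : ℕ} [Fact p.Prime] {n : ℕ}
    (hcl : S.lowerCentralSeries (n * (p - 1) + 1) = ⊥) (hPS : P ≤ S) (a : normalizerIn S P)
    (hap : (a : Ω) ^ p ∈ P) (v : P) (hv : (v : Ω) ∈ Subgroup.centralizer (P : Set Ω)) :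
    kapN P a (v ^ (p ^ n)) = v ^ (p ^ n) := by
  have hp : p.Prime := Fact.out
  have hvc : v ∈ Subgroup.center ↥P := (mem_center_iff_coe v).mpr hv
  have h1 := fix_pow_of_nilpotent hp n (kapZ a) ?_ ?_ ⟨v, hvc⟩
  · have h2 := congrArg (fun w : Subgroup.center ↥P => (w : P)) h1
    exact h2
  · intro e
    apply Subtype.ext
    apply Subtype.ext
    rw [kapZ_iter_coe]
    have h3 := (Subgroup.mem_centralizer_iff.mp ((mem_center_iff_coe e.1).mp e.2)) _ hap
    rw [h3, mul_inv_cancel_right]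
  · intro e
    apply Subtype.ext
    apply Subtype.ext
    have h3 := cmE_iter_mem_lcs hPS a (n * (p - 1) + 1) e
    rw [hcl, Subgroup.mem_bot] at h3
    exact h3

end kap

end Cfsg.Agent.Helper3.GS
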