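import Mathlib
import Cfsg.Agent.Lib.Helper3.GilSer2

/-!
# `℧ⁿ(Z(S))` is normal in `F` when the class of `S` is at most `n(p-1)+1`
-/

set_option autoImplicit false
set_option linter.style.haveILetI false
set_option linter.unusedSectionVars false
set_option linter.deprecated false

namespace Cfsg.Agent.Helper3.GS

open Cfsg Cfsg.FusionSystem Cfsg.Agent.Helper25 Cfsg.Agent.Helper26 Cfsg.Agent.Helper3.KL
open Cfsg.Agent.Helper3.TT Cfsg.Agent.Helper3.SC Cfsg.Agent.Helper3.OL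

variable {Ω : Type*} [Group Ω] {S : Subgroup Ω}

section main

variable [Finite S] {p : ℕ} [Fact p.Prime] {F : FusionSystem S}

/-- automorphisms of `S` preserve `℧ⁿ(Z(S))` -/
theorem autS_mem_Qn (n : ℕ) (β : MulAut S) (z : S) (hz : (z : Ω) ∈ Qn p n S) :
    ((β z : S) : Ω) ∈ Qn p n S := by
  apply hom_mem_Qn Zc_le (S.subtype.comp β.toMonoidHom) _ z hz
  intro y hy
  exact aut_mem_Zc β hy

/-- forward invariance under a group of automorphisms gives `Pres` -/
theorem pres_aut (n : ℕ) {P : Subgroup Ω}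
    (hfw : ∀ α ∈ F.autGroup P, ∀ z : P, (z : Ω) ∈ Qn p n S → ((α z : P) : Ω) ∈ Qn p n S)
    {α : MulAut P} (hα : α ∈ F.autGroup P) : Pres p n S P (P.subtype.comp α.toMonoidHom) := by
  intro z hz
  constructor
  · intro h
    exact hfw α hα ⟨z, hz⟩ h
  · intro h
    have h1 := hfw α⁻¹ ((F.autGroup P).inv_mem hα) (α ⟨z, hz⟩) h
    rw [MulAut.inv_apply_self] at h1
    exact h1

theorem pres_of_large (hS : IsPGroup p S) (hF : F.IsSaturated p) (n t : ℕ)
    (hess : ∀ R, F.IsEssential p R → t ≤ Nat.card R → ∀ α ∈ F.autGroup R, ∀ z : R,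
      (z : Ω) ∈ Qn p n S → ((α z : R) : Ω) ∈ Qn p n S)
    {Q' : Subgroup Ω} {φ : Q' →* Ω} (hφ : φ ∈ F.Hom Q') (hQ : t ≤ Nat.card Q') :
    Pres p n S Q' φ := by
  refine alperin_induction p hS F hF (fun Q φ => t ≤ Nat.card Q → Pres p n S Q φ) ?_ ?_ ?_ ?_ hφ hQ
  · -- conjugations
    intro P g hPS hg _ z hz
    show z ∈ Qn p n S ↔ g * z * g⁻¹ ∈ Qn p n S
    constructor
    · intro h
      rw [(mem_Zc.mp (Qn_le_Zc p n h)).2 g hg, mul_inv_cancel_right]
      exact h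
    · intro h
      have h1 := (mem_Zc.mp (Qn_le_Zc p n h)).2 g⁻¹ (S.inv_mem hg)
      have h2 : z = g⁻¹ * (g * z * g⁻¹) * g := by group
      rw [h2, h1, inv_mul_cancel_right]
      exact h
  · -- composition
    intro P Q φ ψ hφ hψ hPrφ hPrψ h hP
    have hQS : Q ≤ S := (F.le_of_mem hψ).1
    haveI : Finite Q := finite_of_le_finite hQS
    have hQl : t ≤ Nat.card Q := by
      refine le_trans hP ?_
      apply Nat.card_le_card_of_injective (φ.codRestrict Q h)
      intro a b hab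
      apply F.injective_of_mem hφ
      exact congrArg Subtype.val hab
    intro z hz
    rw [hPrφ hP z hz]
    exact hPrψ hQl (φ ⟨z, hz⟩) (h ⟨z, hz⟩)
  · -- inverses
    intro P φ hφ hPr ψ hψ hψφ hR
    have hPS : P ≤ S := (F.le_of_mem hφ).1
    haveI : Finite P := finite_of_le_finite hPS
    have hinj := F.injective_of_mem hφ
    have hPl : t ≤ Nat.card P := by
      rw [Nat.card_congr (MonoidHom.ofInjective hinj).toEquiv]
      exact hR
    intro z hz
    obtain ⟨q, hq⟩ := id hz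
    have h4 : (⟨z, hz⟩ : φ.range) = ⟨φ q, ⟨q, rfl⟩⟩ := Subtype.ext hq.symm
    rw [h4, hψφ q, ← hq]
    exact (hPr hPl q q.2).symm
  · -- automorphisms of `S` and of essential subgroups
    rintro P (rfl | hP) α hα hPl
    · exact pres_aut n (fun β _ z hz => autS_mem_Qn n β z hz) hα
    · exact pres_aut n (hess P hP hPl) hα

/-- the main step: automorphisms of an essential subgroup preserve `℧ⁿ(Z(S))`, provided all maps between larger subgroups do -/
theorem fw_essential (hS : IsPGroup p S) (hF : F.IsSaturated p) (n : ℕ)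
    (hcl : S.lowerCentralSeries (n * (p - 1) + 1) = ⊥) {P : Subgroup Ω} (hP : F.IsEssential p P)
    (hlarge : ∀ {Q' : Subgroup Ω} {φ : Q' →* Ω}, φ ∈ F.Hom Q' → Nat.card P + 1 ≤ Nat.card Q' →
      Pres p n S Q' φ)
    {g : MulAut P} (hg : g ∈ F.autGroup P) (z : P) (hz : (z : Ω) ∈ Qn p n S) :
    ((g z : P) : Ω) ∈ Qn p n S := by
  have hp : p.Prime := Fact.out
  have hPS : P ≤ S := hP.1.1
  haveI : Finite P := finite_of_le_finite hPS
  haveI : Finite (MulAut P) :=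
    Finite.of_injective (fun α : MulAut P => (α : P → P)) DFunLike.coe_injective
  have hcen : centralizerIn S P ≤ P := hP.1.2 P (isConj_refl F hPS)
  have hZP : centralizerIn S S ≤ P := Zc_le_essential hP
  obtain ⟨-, ⟨-, T, hT⟩, hrec⟩ := of_fullyNormalized p hS F hF hP.2.1
  -- central elements of `S` are central in `P`
  have hZcen : ∀ y : P, (y : Ω) ∈ centralizerIn S S → (y : Ω) ∈ Subgroup.centralizer (P : Set Ω) := by
    intro y hy
    rw [Subgroup.mem_centralizer_iff]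
    intro e he
    exact (mem_Zc.mp hy).2 e (hPS he)
  -- the normal subgroup of `Aut_F(P)` fixing all `pⁿ`-th powers of central elements of `P`
  let K : Subgroup (F.autGroup P) :=
    { carrier := {k | ∀ v : P, (v : Ω) ∈ Subgroup.centralizer (P : Set Ω) →
        (k : MulAut P) (v ^ (p ^ n)) = v ^ (p ^ n)}
      one_mem' := fun v _ => rfl
      mul_mem' := by
        intro a b ha hb v hv
        show (a : MulAut P) ((b : MulAut P) (v ^ (p ^ n))) = v ^ (p ^ n)
        rw [hb v hv, ha v hv]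
      inv_mem' := by
        intro a ha v hv
        show (a : MulAut P)⁻¹ (v ^ (p ^ n)) = v ^ (p ^ n)
        conv_lhs => rw [← ha v hv]
        exact MulAut.inv_apply_self _ _ _ }
  have hKmem : ∀ k : F.autGroup P, k ∈ K ↔ ∀ v : P, (v : Ω) ∈ Subgroup.centralizer (P : Set Ω) →
      (k : MulAut P) (v ^ (p ^ n)) = v ^ (p ^ n) := fun k => Iff.rfl
  haveI hKn : K.Normal := by
    constructor
    intro k hk a
    rw [hKmem] at hk ⊢
    intro v hv
    have h2 := center_aut_mem (a : MulAut P)⁻¹ hv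
    show (a : MulAut P) ((k : MulAut P) ((a : MulAut P)⁻¹ (v ^ (p ^ n)))) = v ^ (p ^ n)
    rw [map_pow, hk _ h2.2, ← map_pow, MulAut.apply_inv_self]
  -- elements of `K` fix `℧ⁿ(Z(S))` pointwise
  have hKfix : ∀ k : F.autGroup P, k ∈ K → ∀ y : P, (y : Ω) ∈ Qn p n S → (k : MulAut P) y = y := by
    intro k hk y hy
    apply Subtype.ext
    apply hom_fix_Qn hZP (P.subtype.comp (k : MulAut P).toMonoidHom) _ y hy
    intro v hv
    exact congrArg Subtype.val ((hKmem k).mp hk v (hZcen v hv))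
  -- an element `x ∈ N_S(P) ∖ P` with `x ^ p ∈ P`
  have hPne : P ≠ S := by
    rintro rfl
    exact Omit.not_isEssential_self p F hF hP
  obtain ⟨x₀, hx₀N, hx₀P⟩ := exists_mem_normalizerIn_not_mem hS hPS hPne
  obtain ⟨x, hxN, hxP, hxp⟩ : ∃ x ∈ normalizerIn S P, x ∉ P ∧ x ^ p ∈ P := by
    obtain ⟨m, hm⟩ := hS ⟨x₀, hx₀N.1⟩
    have hm' : x₀ ^ (p ^ m) ∈ P := by
      have h1 := congrArg Subtype.val hm
      simp only [Subgroup.coe_pow, Subgroup.coe_one] at h1
      rw [h1]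
      exact P.one_mem
    classical
    have hex : ∃ j, x₀ ^ (p ^ j) ∈ P := ⟨m, hm'⟩
    obtain ⟨j, hj, hjmin⟩ : ∃ j, x₀ ^ (p ^ j) ∈ P ∧ ∀ i < j, x₀ ^ (p ^ i) ∉ P :=
      ⟨Nat.find hex, Nat.find_spec hex, fun i hi => Nat.find_min hex hi⟩
    have hj0 : j ≠ 0 := by
      intro h
      rw [h, pow_zero, pow_one] at hj
      exact hx₀P hj
    obtain ⟨j', rfl⟩ := Nat.exists_eq_succ_of_ne_zero hj0
    refine ⟨x₀ ^ (p ^ j'), Subgroup.pow_mem _ hx₀N _, hjmin j' (Nat.lt_succ_self j'), ?_⟩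
    rw [← pow_mul, ← pow_succ]
    exact hj
  obtain ⟨cx, hcx⟩ : ∃ cx : MulAut P, cx = kapN P ⟨x, hxN⟩ := ⟨_, rfl⟩
  have hcxS : cx ∈ autInducedBy S P := hcx ▸ kapN_mem _
  have hcxG : cx ∈ F.autGroup P := autInducedBy_le_autGroup F hPS hcxS
  have hcxK : (⟨cx, hcxG⟩ : F.autGroup P) ∈ K := by
    rw [hKmem]
    intro v hv
    show cx (v ^ (p ^ n)) = v ^ (p ^ n)
    rw [hcx]
    exact kapN_fix_pow hcl hPS ⟨x, hxN⟩ hxp v hv
  -- a Sylow `p`-subgroup of `K` containing `T ∩ K`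
  have hpg : IsPGroup p ((T : Subgroup (F.autGroup P)).subgroupOf K) :=
    T.2.comap_of_injective K.subtype K.subtype_injective
  obtain ⟨R₀, hR₀⟩ := hpg.exists_le_sylow
  have hFr := Sylow.normalizer_sup_eq_top R₀
  obtain ⟨R₁, hR₁⟩ : ∃ R₁ : Subgroup (F.autGroup P), R₁ = (R₀ : Subgroup K).map K.subtype :=
    ⟨_, rfl⟩
  rw [← hR₁] at hFr
  have hR₁p : IsPGroup p R₁ := hR₁ ▸ R₀.2.map K.subtype
  obtain ⟨a, ha⟩ := exists_conj_le_sylow T hR₁p
  have hcxR₁ : (⟨cx, hcxG⟩ : F.autGroup P) ∈ R₁ := by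
    rw [hR₁]
    refine ⟨⟨⟨cx, hcxG⟩, hcxK⟩, hR₀ ?_, rfl⟩
    rw [Subgroup.mem_subgroupOf, hT, Subgroup.mem_subgroupOf]
    exact hcxS
  -- `s ∈ N_S(P) ∖ P` inducing `a cx a⁻¹`
  have h1 := ha _ hcxR₁
  rw [hT, Subgroup.mem_subgroupOf] at h1
  obtain ⟨s, hs⟩ := exists_kapN_eq h1
  have hsP : (s : Ω) ∉ P := by
    intro hsP
    apply hxP
    apply mem_of_kapN_mem_inn hPS hcen ⟨x, hxN⟩
    rw [← hcx]
    have h2 : kapN P s ∈ Inn P := by
      refine ⟨⟨s, hsP⟩, ?_⟩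
      ext e
      rfl
    rw [hs] at h2
    have h3 : cx = (a : MulAut P)⁻¹ * ((a * ⟨cx, hcxG⟩ * a⁻¹ : F.autGroup P) : MulAut P) *
        ((a : MulAut P)⁻¹)⁻¹ := by
      simp only [Subgroup.coe_mul, Subgroup.coe_inv]
      group
    rw [h3]
    exact (inn_normal P).conj_mem _ h2 _
  -- Frattini decomposition of `a⁻¹ g a`
  have hmem : (a⁻¹ * ⟨g, hg⟩ * a : F.autGroup P) ∈
      ((⊤ : Subgroup (F.autGroup P)) : Set (F.autGroup P)) := trivial
  rw [← hFr, Subgroup.mul_normal] at hmem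
  obtain ⟨ν, hν, k, hk, hνk⟩ := Set.mem_mul.mp hmem
  -- `g = ν' k'`
  obtain ⟨ν', hν'⟩ : ∃ ν' : F.autGroup P, ν' = a * ν * a⁻¹ := ⟨_, rfl⟩
  obtain ⟨k', hk'⟩ : ∃ k' : F.autGroup P, k' = a * k * a⁻¹ := ⟨_, rfl⟩
  have hk'K : k' ∈ K := hk' ▸ hKn.conj_mem k hk a
  have hgeq : (⟨g, hg⟩ : F.autGroup P) = ν' * k' := by
    rw [hν', hk']
    have : ν * k = a⁻¹ * ⟨g, hg⟩ * a := hνk
    calc (⟨g, hg⟩ : F.autGroup P) = a * (a⁻¹ * ⟨g, hg⟩ * a) * a⁻¹ := by group
      _ = a * (ν * k) * a⁻¹ := by rw [this]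
      _ = a * ν * a⁻¹ * (a * k * a⁻¹) := by group
  -- `ν'` conjugates `kapN s` into `Aut_S(P)`
  have hconj : (ν' : MulAut P) * kapN P s * (ν' : MulAut P)⁻¹ ∈ autInducedBy S P := by
    have h2 : ν * ⟨cx, hcxG⟩ * ν⁻¹ ∈ R₁ := (Subgroup.mem_normalizer_iff.mp hν _).mp hcxR₁
    have h3 := ha _ h2
    rw [hT, Subgroup.mem_subgroupOf] at h3
    have h4 : (ν' : MulAut P) * kapN P s * (ν' : MulAut P)⁻¹ =
        ((a * (ν * ⟨cx, hcxG⟩ * ν⁻¹) * a⁻¹ : F.autGroup P) : MulAut P) := by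
      rw [hs, hν']
      simp only [Subgroup.coe_mul, Subgroup.coe_inv]
      group
    rw [h4]
    exact h3
  -- `s` lies in the extender of `ν'`
  have hsext : (s : Ω) ∈ extender S P (P.subtype.comp (ν' : MulAut P).toMonoidHom) := by
    rw [mem_extender_iff]
    obtain ⟨h, hhS, hh⟩ := (mem_autInducedBy_iff _).mp hconj
    refine ⟨s.2.1, s.2.2, h, hhS, fun y hy => ?_⟩
    have h5 := hh ((ν' : MulAut P) y)
    rw [MulAut.mul_apply, MulAut.mul_apply, MulAut.inv_apply_self] at h5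
    exact h5
  obtain ⟨Q, hPQ, ψ, hψ, hψext⟩ := mem_extSet_of_extender F hrec ν'.2 hsext hsP
  have hQS : Q ≤ S := (F.le_of_mem hψ).1
  haveI : Finite Q := finite_of_le_finite hQS
  have hcardQ : Nat.card P + 1 ≤ Nat.card Q := by
    by_contra hcon
    push Not at hcon
    have h6 : P = Q := Subgroup.eq_of_le_of_card_ge hPQ.le (by omega)
    exact hPQ.ne h6
  have hpres := hlarge hψ hcardQ
  -- conclusion
  have h7 : g z = (ν' : MulAut P) ((k' : MulAut P) z) := by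
    have := congrArg (fun w : F.autGroup P => (w : MulAut P) z) hgeq
    exact this
  rw [h7, hKfix k' hk'K z hz]
  have h8 := (hpres z (hPQ.le z.2)).mp hz
  have h9 : ψ ⟨z, hPQ.le z.2⟩ = (((ν' : MulAut P) z : P) : Ω) := hψext z
  rw [h9] at h8
  exact h8

/-- `℧ⁿ(Z(S))` is invariant under all automorphisms of essential subgroups -/
theorem fw_all (hS : IsPGroup p S) (hF : F.IsSaturated p) (n : ℕ)
    (hcl : S.lowerCentralSeries (n * (p - 1) + 1) = ⊥) :
    ∀ k : ℕ, ∀ P, F.IsEssential p P → Nat.card S ≤ Nat.card P + k → ∀ g ∈ F.autGroup P, ∀ z : P,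
      (z : Ω) ∈ Qn p n S → ((g z : P) : Ω) ∈ Qn p n S := by
  intro k
  induction k with
  | zero =>
    intro P hP hcard g hg z hz
    exfalso
    have hPS : P ≤ S := hP.1.1
    have h1 : P = S := Subgroup.eq_of_le_of_card_ge hPS (by omega)
    subst h1
    exact Omit.not_isEssential_self p F hF hP
  | succ k ih =>
    intro P hP hcard g hg z hz
    apply fw_essential hS hF n hcl hP _ hg z hz
    intro Q' φ hφ hQ'
    apply pres_of_large hS hF n (Nat.card P + 1) _ hφ hQ'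
    intro R hR hRcard
    exact ih R hR (by omega)

theorem Qn_isNormal (hS : IsPGroup p S) (hF : F.IsSaturated p) (n : ℕ)
    (hcl : S.lowerCentralSeries (n * (p - 1) + 1) = ⊥) : F.IsNormal (Qn p n S) := by
  apply isNormal_of_forall_essential p hS F hF (Qn p n S)
  rintro P (rfl | hP)
  · refine ⟨le_trans (Qn_le_Zc p n) Zc_le, fun α _ => ?_⟩
    apply map_aut_eq
    intro y hy
    exact autS_mem_Qn n α y hy
  · have hPS : P ≤ S := hP.1.1
    haveI : Finite P := finite_of_le_finite hPS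
    refine ⟨le_trans (Qn_le_Zc p n) (Zc_le_essential hP), fun g hg => ?_⟩
    apply map_aut_eq
    intro y hy
    exact fw_all hS hF n hcl (Nat.card S) P hP (by omega) g hg y hy

end main

end Cfsg.Agent.Helper3.GS
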