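import Mathlib

/-!
# The exponent of a nilpotent group of class `c` divides the `c`-th power of the exponent of its centre
-/

set_option autoImplicit false
set_option linter.style.haveILetI false
set_option linter.unusedSectionVars false
set_option linter.deprecated false

namespace Cfsg.Agent.Helper3.GS

universe u

/-- if `[x, g]` is central then `[x ^ m, g] = [x, g] ^ m` -/
theorem comm_pow_of_central {G : Type*} [Group G] {x g : G}
    (h : x * g * x⁻¹ * g⁻¹ ∈ Subgroup.center G) (m : ℕ) :
    x ^ m * g * (x ^ m)⁻¹ * g⁻¹ = (x * g * x⁻¹ * g⁻¹) ^ m := by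
  induction m with
  | zero => simp
  | succ m ih =>
    have hc := Subgroup.mem_center_iff.mp (Subgroup.pow_mem _ h m)
    calc x ^ (m + 1) * g * (x ^ (m + 1))⁻¹ * g⁻¹
        = x * (x ^ m * g * (x ^ m)⁻¹ * g⁻¹) * g * x⁻¹ * g⁻¹ := by rw [pow_succ']; group
      _ = x * (x * g * x⁻¹ * g⁻¹) ^ m * g * x⁻¹ * g⁻¹ := by rw [ih]
      _ = (x * g * x⁻¹ * g⁻¹) ^ m * x * g * x⁻¹ * g⁻¹ := by rw [hc x]
      _ = (x * g * x⁻¹ * g⁻¹) ^ (m + 1) := by rw [pow_succ]; group

/-- the `e`-th power of an element of `Z₂(G)` is central when `Z(G)` has exponent dividing `e` -/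
theorem pow_mem_center {G : Type*} [Group G] {e : ℕ} (hZ : ∀ z ∈ Subgroup.center G, z ^ e = 1)
    {x : G} (hx : x ∈ Subgroup.upperCentralSeries G 2) : x ^ e ∈ Subgroup.center G := by
  rw [Subgroup.mem_center_iff]
  intro g
  have h1 : ∀ y : G, x * y * x⁻¹ * y⁻¹ ∈ Subgroup.center G := by
    intro y
    have := (Subgroup.mem_upperCentralSeries_succ_iff (n := 1)).mp hx y
    rw [Subgroup.upperCentralSeries_one, commutatorElement_def] at this
    exact this
  have h2 := comm_pow_of_central (h1 g) e
  rw [hZ _ (h1 g)] at h2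
  have h3 : x ^ e * g = g * x ^ e := by
    calc x ^ e * g = (x ^ e * g * (x ^ e)⁻¹ * g⁻¹) * g * x ^ e := by group
      _ = g * x ^ e := by rw [h2, one_mul]
  exact h3.symm

/-- `Z_{i+1}(G) / Z_i(G)` has exponent dividing `e` when `Z(G)` does -/
theorem pow_mem_upperCentralSeries (e : ℕ) : ∀ (i : ℕ) (G : Type u) [Group G],
    (∀ z ∈ Subgroup.center G, z ^ e = 1) → ∀ x ∈ Subgroup.upperCentralSeries G (i + 1),
      x ^ e ∈ Subgroup.upperCentralSeries G i := by
  intro i
  induction i with
  | zero =>
    intro G _ hZ x hx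
    rw [zero_add, Subgroup.upperCentralSeries_one] at hx
    rw [Subgroup.upperCentralSeries_zero, Subgroup.mem_bot]
    exact hZ x hx
  | succ i ih =>
    intro G _ hZ x hx
    have hZ' : ∀ z ∈ Subgroup.center (G ⧸ Subgroup.center G), z ^ e = 1 := by
      intro z hz
      obtain ⟨y, rfl⟩ := QuotientGroup.mk'_surjective (Subgroup.center G) z
      have h1 : y ∈ Subgroup.upperCentralSeries G 2 := by
        rw [← Subgroup.comap_upperCentralSeries_quotient_center 1, Subgroup.mem_comap,
          Subgroup.upperCentralSeries_one]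
        exact hz
      have h2 := pow_mem_center hZ h1
      rw [← map_pow]
      exact (QuotientGroup.eq_one_iff _).mpr h2
    rw [← Subgroup.comap_upperCentralSeries_quotient_center (i + 1), Subgroup.mem_comap] at hx
    have h3 := ih (G ⧸ Subgroup.center G) hZ' _ hx
    rw [← Subgroup.comap_upperCentralSeries_quotient_center i, Subgroup.mem_comap, map_pow]
    exact h3

theorem pow_eq_one_of_mem_upperCentralSeries {G : Type u} [Group G] {e : ℕ}
    (hZ : ∀ z ∈ Subgroup.center G, z ^ e = 1) (i : ℕ) :
    ∀ x ∈ Subgroup.upperCentralSeries G i, x ^ (e ^ i) = 1 := by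
  induction i with
  | zero =>
    intro x hx
    rw [Subgroup.upperCentralSeries_zero, Subgroup.mem_bot] at hx
    rw [hx, one_pow]
  | succ i ih =>
    intro x hx
    have h1 := pow_mem_upperCentralSeries e i G hZ x hx
    rw [pow_succ', pow_mul]
    exact ih _ h1

/-- a nilpotent group of class at most `c` whose centre has exponent dividing `e` has exponent dividing `e ^ c` -/
theorem exponent_dvd_of_class {G : Type u} [Group G] [Group.IsNilpotent G] {e c : ℕ}
    (hZ : ∀ z ∈ Subgroup.center G, z ^ e = 1) (hc : (⊤ : Subgroup G).lowerCentralSeries c = ⊥) :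
    Monoid.exponent G ∣ e ^ c := by
  apply Monoid.exponent_dvd_of_forall_pow_eq_one
  intro x
  apply pow_eq_one_of_mem_upperCentralSeries hZ c
  have h1 : Subgroup.upperCentralSeries G c = ⊤ :=
    Subgroup.upperCentralSeries_eq_top_iff_nilpotencyClass_le.mpr
      (Subgroup.lowerCentralSeries_eq_bot_iff_nilpotencyClass_le.mp hc)
  rw [h1]
  trivial

end Cfsg.Agent.Helper3.GS
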