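import Mathlib
import Cfsg.Agent.S0144
import Cfsg.Agent.Lib.Helper1.SolvableBasic
import Cfsg.Agent.Lib.Helper1.CoprimeIndex
import Cfsg.Agent.Lib.Helper3.CoverAvoid

set_option autoImplicit false

/-! P. Hall's converse theorem: a finite group with a `p`-complement for every prime `p` is
solvable. -/

namespace Cfsg.Agent.Helper3

open scoped Pointwise

universe u

/-- `G` has a `p`-complement (a subgroup of `p'`-order and `p`-power index) for every prime. -/
def HasPComplements (G : Type u) [Group G] : Prop :=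
  ∀ p : ℕ, p.Prime → ∃ L : Subgroup G, (Nat.card L).Coprime p ∧ ∃ k : ℕ, L.index = p ^ k

theorem exists_eq_pow_mul_pow {n : ℕ} (hn : n ≠ 0)
    (h : ¬ ∃ p q r : ℕ, p.Prime ∧ q.Prime ∧ r.Prime ∧ p ≠ q ∧ p ≠ r ∧ q ≠ r ∧ p ∣ n ∧ q ∣ n ∧ r ∣ n) :
    ∃ p q a b : ℕ, p.Prime ∧ q.Prime ∧ n = p ^ a * q ^ b := by
  by_cases h1 : n = 1
  · exact ⟨2, 3, 0, 0, Nat.prime_two, Nat.prime_three, by simp [h1]⟩
  have hp : (n.minFac).Prime := Nat.minFac_prime h1
  obtain ⟨m, hm⟩ : ∃ m, m = n / n.minFac ^ n.factorization n.minFac := ⟨_, rfl⟩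
  have hmn : n.minFac ^ n.factorization n.minFac * m = n := by
    rw [hm]; exact Nat.ordProj_mul_ordCompl_eq_self n n.minFac
  have hmdvd : m ∣ n := Dvd.intro_left _ hmn
  have hmpos : m ≠ 0 := by rw [hm]; exact (Nat.ordCompl_pos n.minFac hn).ne'
  have hnotdvd : ¬ n.minFac ∣ m := by rw [hm]; exact Nat.not_dvd_ordCompl hp hn
  by_cases h2 : m = 1
  · refine ⟨n.minFac, 2, n.factorization n.minFac, 0, hp, Nat.prime_two, ?_⟩
    rw [h2, mul_one] at hmn
    rw [pow_zero, mul_one]
    exact hmn.symm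
  have hq : (m.minFac).Prime := Nat.minFac_prime h2
  have hqm : m.minFac ∣ m := Nat.minFac_dvd m
  have hqp : m.minFac ≠ n.minFac := by
    intro heq; exact hnotdvd (heq ▸ hqm)
  have hmpow : m = m.minFac ^ m.primeFactorsList.length := by
    apply Nat.eq_prime_pow_of_unique_prime_dvd hmpos
    intro d hd hdm
    by_contra hdq
    apply h
    refine ⟨n.minFac, m.minFac, d, hp, hq, hd, hqp.symm, ?_, fun h' => hdq h'.symm,
      Nat.minFac_dvd n, hqm.trans hmdvd, hdm.trans hmdvd⟩
    rintro rfl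
    exact hnotdvd hdm
  exact ⟨n.minFac, m.minFac, _, _, hp, hq, by rw [← hmpow]; exact hmn.symm⟩

section

variable {G : Type u} [Group G]

theorem HasPComplements.subgroup [Finite G] (h : HasPComplements G) {p : ℕ} (hp : p.Prime)
    (H : Subgroup G) (hHidx : ∃ k, H.index = p ^ k) :
    ∀ q : ℕ, q.Prime → q ≠ p → ∃ L : Subgroup H, (Nat.card L).Coprime q ∧ ∃ k : ℕ, L.index = q ^ k := by
  intro q hq hqp
  obtain ⟨L, hLcop, k, hLk⟩ := h q hq
  obtain ⟨k', hHk'⟩ := hHidx
  refine ⟨L.subgroupOf H, ?_, k, ?_⟩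
  · have h1 : Nat.card (L.subgroupOf H) = Nat.card (L ⊓ H : Subgroup G) := by
      rw [← Subgroup.subgroupOf_map_subtype, Subgroup.card_map_of_injective H.subtype_injective]
    rw [h1]
    exact hLcop.coprime_dvd_left (Subgroup.card_dvd_of_le inf_le_left)
  · have hcop : H.index.Coprime L.index := by
      rw [hHk', hLk]
      exact Nat.Coprime.pow _ _ ((Nat.coprime_primes hp hq).mpr hqp.symm)
    have := Cfsg.Agent.Helper1.relIndex_eq_index_of_coprime hcop
    rw [← hLk, ← this]; rfl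

theorem HasPComplements.subgroup' [Finite G] (h : HasPComplements G) {p : ℕ} (hp : p.Prime)
    (H : Subgroup G) (hHcop : (Nat.card H).Coprime p) (hHidx : ∃ k, H.index = p ^ k) :
    HasPComplements H := by
  intro q hq
  by_cases hqp : q = p
  · subst hqp
    refine ⟨⊤, ?_, 0, ?_⟩
    · rw [Subgroup.card_top]; exact hHcop
    · rw [Subgroup.index_top, pow_zero]
  · exact h.subgroup hp H hHidx q hq hqp

theorem HasPComplements.quotient [Finite G] (h : HasPComplements G) (N : Subgroup G) [N.Normal] :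
    HasPComplements (G ⧸ N) := by
  intro p hp
  obtain ⟨L, hLcop, k, hLk⟩ := h p hp
  refine ⟨L.map (QuotientGroup.mk' N), hLcop.coprime_dvd_left (Subgroup.card_map_dvd _ _), ?_⟩
  have hdvd : (L.map (QuotientGroup.mk' N)).index ∣ p ^ k :=
    hLk ▸ Subgroup.index_map_dvd L (QuotientGroup.mk'_surjective N)
  obtain ⟨j, -, hj⟩ := (Nat.dvd_prime_pow hp).mp hdvd
  exact ⟨j, hj⟩

end

theorem hall_converse_aux (n : ℕ) : ∀ (G : Type u) [Group G] [Finite G], Nat.card G = n →
    HasPComplements G → Group.IsSolvable G := by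
  induction n using Nat.strong_induction_on with
  | _ n ih =>
  intro G _ _ hcard hG
  have hnpos : n ≠ 0 := hcard ▸ Nat.card_pos.ne'
  by_cases h3 : ∃ p q r : ℕ, p.Prime ∧ q.Prime ∧ r.Prime ∧ p ≠ q ∧ p ≠ r ∧ q ≠ r ∧
      p ∣ n ∧ q ∣ n ∧ r ∣ n
  · obtain ⟨p, q, r, hp, hq, hr, hpq, hpr, hqr, hpn, hqn, hrn⟩ := h3
    have hcompl : ∀ t : ℕ, t.Prime → t ∣ n → ∃ H : Subgroup G, (Nat.card H).Coprime t ∧
        (∃ k, H.index = t ^ k) ∧ H ≠ ⊤ ∧ Group.IsSolvable H := by
      intro t ht htn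
      obtain ⟨H, hHcop, k, hHk⟩ := hG t ht
      have hHtop : H ≠ ⊤ := by
        rintro rfl
        rw [Subgroup.card_top, hcard] at hHcop
        have := Nat.dvd_gcd htn (dvd_refl t)
        rw [hHcop.gcd_eq_one] at this
        exact ht.one_lt.ne' (Nat.dvd_one.mp this)
      have hlt : Nat.card H < n := by
        rw [← hcard]
        by_contra hcon
        exact hHtop (Subgroup.eq_top_of_card_eq H
          (le_antisymm (Subgroup.card_le_card_group H) (not_lt.mp hcon)))
      exact ⟨H, hHcop, ⟨k, hHk⟩, hHtop, ih _ hlt H rfl (hG.subgroup' ht H hHcop ⟨k, hHk⟩)⟩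
    obtain ⟨H₁, hH₁cop, ⟨a, hH₁a⟩, hH₁top, hH₁sol⟩ := hcompl p hp hpn
    have hqH₁ : q ∣ Nat.card H₁ := by
      have h1 : Nat.card H₁ * H₁.index = n := hcard ▸ Subgroup.card_mul_index H₁
      rw [hH₁a] at h1
      have h2 : q ∣ Nat.card H₁ * p ^ a := h1 ▸ hqn
      exact Nat.Coprime.dvd_of_dvd_mul_right
        (Nat.Coprime.pow_right _ ((Nat.coprime_primes hq hp).mpr hpq.symm)) h2
    have hH₁nt : Nontrivial H₁ := by
      rw [← Finite.one_lt_card_iff_nontrivial]
      exact lt_of_lt_of_le hq.one_lt (Nat.le_of_dvd Nat.card_pos hqH₁)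
    obtain ⟨s, hs, P, hPn, hPne, hPp⟩ :=
      Cfsg.Agent.Helper1.exists_normal_pSubgroup_of_solvable H₁
    have hsfact : Fact s.Prime := ⟨hs⟩
    have hsH₁ : s ∣ Nat.card H₁ := by
      obtain ⟨j, hj⟩ := hPp.exists_card_eq
      have hj0 : j ≠ 0 := by
        rintro rfl
        rw [pow_zero] at hj
        exact hPne (Subgroup.eq_bot_of_card_eq P hj)
      have h1 : s ∣ Nat.card P := by rw [hj]; exact dvd_pow_self s hj0
      exact h1.trans (Subgroup.card_subgroup_dvd_card P)
    have hsp : s ≠ p := by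
      rintro rfl
      have := Nat.dvd_gcd hsH₁ (dvd_refl s)
      rw [hH₁cop.gcd_eq_one] at this
      exact hs.one_lt.ne' (Nat.dvd_one.mp this)
    obtain ⟨t, ht, htn, htp, hts⟩ : ∃ t : ℕ, t.Prime ∧ t ∣ n ∧ t ≠ p ∧ t ≠ s := by
      by_cases hqs : q = s
      · exact ⟨r, hr, hrn, hpr.symm, fun h => hqr (hqs.trans h.symm)⟩
      · exact ⟨q, hq, hqn, hpq.symm, hqs⟩
    obtain ⟨Ht, hHtcop, ⟨c, hHtc⟩, hHttop, hHtsol⟩ := hcompl t ht htn
    have hcopidx : Ht.index.Coprime H₁.index := by
      rw [hHtc, hH₁a]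
      exact Nat.Coprime.pow _ _ ((Nat.coprime_primes ht hp).mpr htp)
    set N : Subgroup G := P.map H₁.subtype with hN
    -- `N ≤ Ht`
    have hNHt : N ≤ Ht := by
      set D : Subgroup H₁ := Ht.subgroupOf H₁ with hD
      have hDidx : D.index = t ^ c := by
        have := Cfsg.Agent.Helper1.relIndex_eq_index_of_coprime hcopidx.symm
        rw [← hHtc, ← this]; rfl
      let Q : Sylow s D := default
      have hfac : (Nat.card H₁).factorization s = (Nat.card D).factorization s := by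
        rw [← Subgroup.card_mul_index D, hDidx,
          Nat.factorization_mul (Nat.card_pos (α := D)).ne' (pow_ne_zero c ht.ne_zero),
          Finsupp.add_apply, Nat.factorization_pow, Finsupp.smul_apply,
          Nat.factorization_eq_zero_of_not_dvd (fun h => hts
            ((Nat.prime_dvd_prime_iff_eq hs ht).mp h).symm), smul_zero, add_zero]
      have hQ₁card : Nat.card ((Q : Subgroup D).map D.subtype) =
          s ^ (Nat.card H₁).factorization s := by
        rw [Subgroup.card_map_of_injective D.subtype_injective, hfac, Sylow.card_eq_multiplicity]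
      let S' : Sylow s H₁ := Sylow.ofCard _ hQ₁card
      have hPS' : P ≤ S' := le_sylow_of_normal_isPGroup P hPp S'
      rintro _ ⟨x, hx, rfl⟩
      have h1 : x ∈ (Q : Subgroup D).map D.subtype := hPS' hx
      have h2 : x ∈ D := Subgroup.map_subtype_le _ h1
      exact Subgroup.mem_subgroupOf.mp h2
    have hNcl : Subgroup.normalClosure (N : Set G) ≤ Ht := by
      apply (Subgroup.closure_le _).mpr
      intro z hz
      obtain ⟨x, hx, hconj⟩ := Group.mem_conjugatesOfSet_iff.mp hz
      obtain ⟨g, rfl⟩ := isConj_iff.mp hconj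
      obtain ⟨u, hu, v, hv, rfl⟩ :=
        Cfsg.Agent.Helper1.exists_mul_of_coprime_index hcopidx g
      have h1 : v * x * v⁻¹ ∈ N := by
        obtain ⟨x₀, hx₀, rfl⟩ := hx
        exact ⟨⟨v, hv⟩ * x₀ * ⟨v, hv⟩⁻¹, hPn.conj_mem x₀ hx₀ _, by simp⟩
      have h2 : u * v * x * (u * v)⁻¹ = u * (v * x * v⁻¹) * u⁻¹ := by group
      rw [SetLike.mem_coe, h2]
      exact Ht.mul_mem (Ht.mul_mem hu (hNHt h1)) (Ht.inv_mem hu)
    set M := Subgroup.normalClosure (N : Set G) with hM
    have hMn : M.Normal := Subgroup.normalClosure_normal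
    have hNne : N ≠ ⊥ := by
      intro h
      apply hPne
      rw [eq_bot_iff]
      intro x hx
      have : (x : G) ∈ N := ⟨x, hx, rfl⟩
      rw [h, Subgroup.mem_bot] at this
      rw [Subgroup.mem_bot]
      exact Subtype.ext this
    have hMne : M ≠ ⊥ := by
      intro h
      apply hNne
      rw [eq_bot_iff, ← h]
      exact Subgroup.le_normalClosure
    have hMsol : Group.IsSolvable M :=
      Group.isSolvable_of_isSolvable_injective (Subgroup.inclusion_injective hNcl)
    have hMcard : 1 < Nat.card M := by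
      rw [Subgroup.one_lt_card_iff_ne_bot]; exact hMne
    have hlt : Nat.card (G ⧸ M) < n := hcard ▸ card_quotient_lt M hMcard
    have hQsol : Group.IsSolvable (G ⧸ M) := ih _ hlt (G ⧸ M) rfl (hG.quotient M)
    exact Group.isSolvable_of_ker_le_range M.subtype (QuotientGroup.mk' M)
      (by rw [QuotientGroup.ker_mk', Subgroup.range_subtype])
  · obtain ⟨p, q, a, b, hp, hq, hn⟩ := exists_eq_pow_mul_pow hnpos h3
    exact Cfsg.Agent.S0144.result p q a b hp hq (hcard.trans hn)

/-- **P. Hall's converse theorem**. -/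
theorem hall_converse {G : Type u} [Group G] [Finite G] (h : HasPComplements G) :
    Group.IsSolvable G :=
  hall_converse_aux _ G rfl h

end Cfsg.Agent.Helper3
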