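import Mathlib
import Cfsg.Agent.Lib.Helper3.Basic
import Cfsg.Agent.Lib.Helper1.HallConj
import Cfsg.Agent.Lib.Helper1.CoprimeIndex

set_option autoImplicit false

/-! Hall complement systems indexed by natural numbers: coprime intersections and simultaneous
conjugacy. -/

namespace Cfsg.Agent.Helper3

open scoped Pointwise

universe u

variable {G : Type u} [Group G]

theorem conj_smul_top (g : G) : MulAut.conj g • (⊤ : Subgroup G) = ⊤ := by
  ext x
  simp

/-- A family of subgroups indexed by `ℕ` whose `p`-th member has index the `p`-part of `|G|`. -/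
def IsNatComplementSystem (L : ℕ → Subgroup G) : Prop :=
  ∀ p : ℕ, (L p).index = p ^ (Nat.card G).factorization p

theorem IsNatComplementSystem.eq_top_of_not_prime {L : ℕ → Subgroup G}
    (hL : IsNatComplementSystem L) {p : ℕ} (hp : ¬ p.Prime) : L p = ⊤ := by
  rw [← Subgroup.index_eq_one, hL p, Nat.factorization_eq_zero_of_not_prime _ hp, pow_zero]

theorem IsNatComplementSystem.eq_top_of_not_dvd {L : ℕ → Subgroup G}
    (hL : IsNatComplementSystem L) {p : ℕ} (hp : ¬ p ∣ Nat.card G) : L p = ⊤ := by
  rw [← Subgroup.index_eq_one, hL p, Nat.factorization_eq_zero_of_not_dvd hp, pow_zero]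

/-- The index of the intersection of the members indexed by `s` is the product of the indices;
in particular it involves only primes in `s`. -/
theorem IsNatComplementSystem.index_inf [Finite G] {L : ℕ → Subgroup G}
    (hL : IsNatComplementSystem L) (s : Finset ℕ) :
    (s.inf L).index = ∏ p ∈ s, p ^ (Nat.card G).factorization p ∧
    ∀ q : ℕ, q.Prime → q ∉ s → ¬ q ∣ (s.inf L).index := by
  classical
  induction s using Finset.induction_on with
  | empty =>
    refine ⟨by simp, ?_⟩
    intro q hq _ hdvd
    rw [Finset.inf_empty, Subgroup.index_top] at hdvd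
    exact hq.one_lt.ne' (Nat.dvd_one.mp hdvd)
  | insert r s hr ih =>
    obtain ⟨ih1, ih2⟩ := ih
    have hcop : (L r).index.Coprime (s.inf L).index := by
      by_cases hrp : r.Prime
      · rw [hL r]
        exact Nat.Coprime.pow_left _ ((Nat.Prime.coprime_iff_not_dvd hrp).mpr (ih2 r hrp hr))
      · rw [hL.eq_top_of_not_prime hrp, Subgroup.index_top]
        exact Nat.coprime_one_left _
    have hidx : ((insert r s).inf L).index = (L r).index * (s.inf L).index := by
      rw [Finset.inf_insert]
      exact Cfsg.Agent.Helper1.index_inf_of_coprime hcop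
    refine ⟨?_, ?_⟩
    · rw [hidx, Finset.prod_insert hr, ih1, hL r]
    · intro q hq hqs hdvd
      rw [Finset.mem_insert, not_or] at hqs
      rw [hidx, hq.dvd_mul] at hdvd
      rcases hdvd with hdvd | hdvd
      · rw [hL r] at hdvd
        have h1 := hq.dvd_of_dvd_pow hdvd
        by_cases hrp : r.Prime
        · exact hqs.1 ((Nat.prime_dvd_prime_iff_eq hq hrp).mp h1)
        · rw [Nat.factorization_eq_zero_of_not_prime _ hrp, pow_zero] at hdvd
          exact hq.one_lt.ne' (Nat.dvd_one.mp hdvd)
      · exact ih2 q hq hqs.2 hdvd

/-- Two complement systems of a finite solvable group are simultaneously conjugate on any finite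
set of indices. -/
theorem IsNatComplementSystem.exists_conj_finset [Finite G] [Group.IsSolvable G]
    {K L : ℕ → Subgroup G} (hK : IsNatComplementSystem K) (hL : IsNatComplementSystem L)
    (s : Finset ℕ) : ∃ g : G, ∀ p ∈ s, MulAut.conj g • K p = L p := by
  classical
  induction s using Finset.induction_on with
  | empty => exact ⟨1, by simp⟩
  | insert q s hq ih =>
    obtain ⟨g, hg⟩ := ih
    by_cases hqp : q.Prime
    · -- conjugate `K q` to `L q` by an element of the intersection of the `L p`, `p ∈ s`
      set a := (Nat.card G).factorization q with ha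
      have hcardK : Nat.card (MulAut.conj g • K q : Subgroup G) * q ^ a = Nat.card G := by
        have h1 : Nat.card (MulAut.conj g • K q : Subgroup G) = Nat.card (K q) :=
          Nat.card_congr (Subgroup.equivSMul (MulAut.conj g) (K q)).symm.toEquiv
        rw [h1, ← hK q]
        exact Subgroup.card_mul_index (K q)
      have hcardL : Nat.card (L q) * q ^ a = Nat.card G := by
        rw [← hL q]
        exact Subgroup.card_mul_index (L q)
      have hcardeq : Nat.card (MulAut.conj g • K q : Subgroup G) = Nat.card (L q) := by
        have hpos : 0 < q ^ a := pos_of_ne_zero (pow_ne_zero _ hqp.ne_zero)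
        exact Nat.eq_of_mul_eq_mul_right hpos (hcardK.trans hcardL.symm)
      have hcopm : (Nat.card (L q)).Coprime (q ^ a) := by
        apply Nat.Coprime.pow_right
        apply Nat.Coprime.symm
        rw [Nat.Prime.coprime_iff_not_dvd hqp]
        intro hdvd
        have h2 : q ^ (a + 1) ∣ Nat.card G := by
          rw [← hcardL, pow_succ, mul_comm]
          exact Nat.mul_dvd_mul_right hdvd _
        exact Nat.pow_succ_factorization_not_dvd (Nat.card_pos (α := G)).ne' hqp h2
      obtain ⟨x, hx⟩ := Cfsg.Agent.Helper1.hall_conj (Nat.card (L q)) (q ^ a) hcardL.symm hcopm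
        (MulAut.conj g • K q) (L q) hcardeq rfl
      have hcop : (L q).index.Coprime (s.inf L).index := by
        rw [hL q]
        exact Nat.Coprime.pow_left _
          ((Nat.Prime.coprime_iff_not_dvd hqp).mpr ((hL.index_inf s).2 q hqp hq))
      obtain ⟨l, hl, t, ht, hxlt⟩ := Cfsg.Agent.Helper1.exists_mul_of_coprime_index hcop x
      have hconjt : MulAut.conj t • MulAut.conj g • K q = L q := by
        rw [hxlt, map_mul, mul_smul] at hx
        have h3 : MulAut.conj l⁻¹ • MulAut.conj l • MulAut.conj t • MulAut.conj g • K q
            = MulAut.conj l⁻¹ • L q := by rw [hx]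
        rw [← mul_smul, ← map_mul, inv_mul_cancel, map_one, one_smul] at h3
        rw [h3]
        exact conj_smul_eq_of_mem_normalizer (Subgroup.le_normalizer ((L q).inv_mem hl))
      refine ⟨t * g, ?_⟩
      intro p hp
      rw [map_mul, mul_smul]
      rw [Finset.mem_insert] at hp
      rcases hp with rfl | hp
      · exact hconjt
      · rw [hg p hp]
        exact conj_smul_eq_of_mem_normalizer (Subgroup.le_normalizer ((Finset.inf_le hp : s.inf L ≤ L p) ht))
    · refine ⟨g, ?_⟩
      intro p hp
      rw [Finset.mem_insert] at hp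
      rcases hp with rfl | hp
      · rw [hK.eq_top_of_not_prime hqp, hL.eq_top_of_not_prime hqp, conj_smul_top]
      · exact hg p hp

/-- Two complement systems of a finite solvable group are simultaneously conjugate. -/
theorem IsNatComplementSystem.exists_conj [Finite G] [Group.IsSolvable G]
    {K L : ℕ → Subgroup G} (hK : IsNatComplementSystem K) (hL : IsNatComplementSystem L) :
    ∃ g : G, ∀ p : ℕ, MulAut.conj g • K p = L p := by
  obtain ⟨g, hg⟩ := hK.exists_conj_finset hL (Nat.card G).primeFactors
  refine ⟨g, fun p => ?_⟩
  by_cases hp : p ∈ (Nat.card G).primeFactors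
  · exact hg p hp
  · by_cases hpp : p.Prime
    · have hnd : ¬ p ∣ Nat.card G := by
        intro hd
        exact hp (Nat.mem_primeFactors.mpr ⟨hpp, hd, (Nat.card_pos (α := G)).ne'⟩)
      rw [hK.eq_top_of_not_dvd hnd, hL.eq_top_of_not_dvd hnd, conj_smul_top]
    · rw [hK.eq_top_of_not_prime hpp, hL.eq_top_of_not_prime hpp, conj_smul_top]

/-- Extend a family indexed by `Nat.Primes` to one indexed by `ℕ`. -/
noncomputable def natSystem (K : Nat.Primes → Subgroup G) : ℕ → Subgroup G := by
  classical
  exact fun p => if h : p.Prime then K ⟨p, h⟩ else ⊤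

theorem natSystem_prime (K : Nat.Primes → Subgroup G) (p : Nat.Primes) :
    natSystem K (p : ℕ) = K p := by
  unfold natSystem
  rw [dif_pos p.2]
  rfl

theorem natSystem_not_prime (K : Nat.Primes → Subgroup G) {p : ℕ} (hp : ¬ p.Prime) :
    natSystem K p = ⊤ := by
  unfold natSystem
  rw [dif_neg hp]

theorem isNatComplementSystem_natSystem {K : Nat.Primes → Subgroup G}
    (hK : ∀ p : Nat.Primes, (K p).index = (p : ℕ) ^ (Nat.card G).factorization p) :
    IsNatComplementSystem (natSystem K) := by
  intro p
  by_cases hp : p.Prime
  · have := natSystem_prime K ⟨p, hp⟩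
    simp only at this
    rw [this]
    exact hK ⟨p, hp⟩
  · rw [natSystem_not_prime K hp, Subgroup.index_top,
      Nat.factorization_eq_zero_of_not_prime _ hp, pow_zero]

end Cfsg.Agent.Helper3
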