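import Mathlib
import Cfsg.Agent.Lib.Helper3.HallSystem
import Cfsg.Agent.Lib.Helper1.Complement

set_option autoImplicit false

/-! Hall complement systems: conjugacy by elements of a normal subgroup, quotients. -/

namespace Cfsg.Agent.Helper3

open scoped Pointwise

universe u

variable {G : Type u} [Group G]

/-- If corresponding members of two complement systems are conjugate under the normal subgroup
`N`, then the systems are simultaneously conjugate under `N` (on a finite index set). -/
theorem IsNatComplementSystem.exists_conj_mem_finset [Finite G]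
    {K L : ℕ → Subgroup G} (hL : IsNatComplementSystem L)
    (N : Subgroup G) [N.Normal] (h : ∀ p, ∃ m ∈ N, MulAut.conj m • K p = L p)
    (s : Finset ℕ) : ∃ g ∈ N, ∀ p ∈ s, MulAut.conj g • K p = L p := by
  classical
  induction s using Finset.induction_on with
  | empty => exact ⟨1, N.one_mem, by simp⟩
  | insert q s hq ih =>
    obtain ⟨g, hgN, hg⟩ := ih
    obtain ⟨m, hmN, hm⟩ := h q
    by_cases hqp : q.Prime
    · have hx : MulAut.conj (m * g⁻¹) • MulAut.conj g • K q = L q := by
        rw [← mul_smul, ← map_mul, inv_mul_cancel_right, hm]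
      have hxN : m * g⁻¹ ∈ N := N.mul_mem hmN (N.inv_mem hgN)
      have hcop : ((L q).subgroupOf N).index.Coprime ((s.inf L).subgroupOf N).index := by
        have h1 : ((L q).subgroupOf N).index ∣ q ^ (Nat.card G).factorization q := by
          rw [← hL q]
          exact Cfsg.Agent.Helper21.relIndex_dvd_index_of_normal_right (L q) N
        have h2 : ((s.inf L).subgroupOf N).index ∣ (s.inf L).index :=
          Cfsg.Agent.Helper21.relIndex_dvd_index_of_normal_right (s.inf L) N
        have h3 : (q ^ (Nat.card G).factorization q).Coprime (s.inf L).index :=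
          Nat.Coprime.pow_left _
            ((Nat.Prime.coprime_iff_not_dvd hqp).mpr ((hL.index_inf s).2 q hqp hq))
        exact Nat.Coprime.of_dvd h1 h2 h3
      obtain ⟨l, hl, t, ht, hxlt⟩ :=
        Cfsg.Agent.Helper1.exists_mul_of_coprime_index hcop ⟨m * g⁻¹, hxN⟩
      rw [Subgroup.mem_subgroupOf] at hl ht
      have hxlt' : m * g⁻¹ = (l : G) * (t : G) := by
        have := congrArg Subtype.val hxlt
        simpa using this
      have hconjt : MulAut.conj (t : G) • MulAut.conj g • K q = L q := by
        rw [hxlt', map_mul, mul_smul] at hx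
        have h3 : MulAut.conj (l : G)⁻¹ • MulAut.conj (l : G) • MulAut.conj (t : G) •
            MulAut.conj g • K q = MulAut.conj (l : G)⁻¹ • L q := by rw [hx]
        rw [← mul_smul, ← map_mul, inv_mul_cancel, map_one, one_smul] at h3
        rw [h3]
        exact conj_smul_eq_of_mem_normalizer (Subgroup.le_normalizer ((L q).inv_mem hl))
      refine ⟨(t : G) * g, N.mul_mem t.2 hgN, ?_⟩
      intro p hp
      rw [map_mul, mul_smul]
      rw [Finset.mem_insert] at hp
      rcases hp with rfl | hp
      · exact hconjt
      · rw [hg p hp]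
        exact conj_smul_eq_of_mem_normalizer
          (Subgroup.le_normalizer ((Finset.inf_le hp : s.inf L ≤ L p) ht))
    · refine ⟨g, hgN, ?_⟩
      intro p hp
      rw [Finset.mem_insert] at hp
      rcases hp with rfl | hp
      · have hLq := hL.eq_top_of_not_prime hqp
        rw [hLq] at hm ⊢
        have hKq : K p = ⊤ := by
          have h4 : MulAut.conj m⁻¹ • MulAut.conj m • K p = MulAut.conj m⁻¹ • ⊤ := by rw [hm]
          rwa [← mul_smul, ← map_mul, inv_mul_cancel, map_one, one_smul, conj_smul_top] at h4
        rw [hKq, conj_smul_top]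
      · exact hg p hp

theorem IsNatComplementSystem.conj_smul {K : ℕ → Subgroup G}
    (hK : IsNatComplementSystem K) (x : G) :
    IsNatComplementSystem (fun p => MulAut.conj x • K p) := by
  intro p
  rw [← hK p]
  exact Subgroup.index_map_equiv (K p) (MulAut.conj x)

/-- If corresponding members of two complement systems are conjugate under the normal subgroup
`N`, then the systems are simultaneously conjugate under `N`. -/
theorem IsNatComplementSystem.exists_conj_mem [Finite G]
    {K L : ℕ → Subgroup G} (hK : IsNatComplementSystem K) (hL : IsNatComplementSystem L)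
    (N : Subgroup G) [N.Normal] (h : ∀ p, ∃ m ∈ N, MulAut.conj m • K p = L p) :
    ∃ g ∈ N, ∀ p, MulAut.conj g • K p = L p := by
  obtain ⟨g, hgN, hg⟩ := hL.exists_conj_mem_finset N h (Nat.card G).primeFactors
  refine ⟨g, hgN, fun p => ?_⟩
  by_cases hp : p ∈ (Nat.card G).primeFactors
  · exact hg p hp
  · by_cases hpp : p.Prime
    · have hnd : ¬ p ∣ Nat.card G := by
        intro hd
        exact hp (Nat.mem_primeFactors.mpr ⟨hpp, hd, (Nat.card_pos (α := G)).ne'⟩)
      rw [hK.eq_top_of_not_dvd hnd, hL.eq_top_of_not_dvd hnd, conj_smul_top]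
    · rw [hK.eq_top_of_not_prime hpp, hL.eq_top_of_not_prime hpp, conj_smul_top]

end Cfsg.Agent.Helper3
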