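import Mathlib

set_option autoImplicit false
set_option linter.style.haveILetI false
set_option linter.unusedSectionVars false

/-!
Module-theoretic core of Henke's theorem (abelian 2-groups via central conjugates): an abelian finite
2-group `A` with an involutory automorphism `τ` inverting an automorphism `c` of odd order, such that every
norm `w * τ w` is the square of a `τ`-fixed element, forces `c = 1`.
-/

namespace Cfsg.Agent.Helper3.Henke

section comm

variable {A : Type*} [CommGroup A] [Finite A]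

/-- The "trace" of the cyclic group generated by `c`: `a ↦ ∏_{i < n} c^i a`. -/
noncomputable def trN (c : MulAut A) (n : ℕ) : A →* A :=
  ∏ i ∈ Finset.range n, ((c ^ i : MulAut A).toMonoidHom)

theorem trN_apply (c : MulAut A) (n : ℕ) (a : A) :
    trN c n a = ∏ i ∈ Finset.range n, (c ^ i) a := by
  unfold trN
  rw [MonoidHom.finsetProd_apply]
  rfl

theorem trN_comp (c : MulAut A) {n : ℕ} (hn : c ^ n = 1) (a : A) : trN c n (c a) = trN c n a := by
  rw [trN_apply, trN_apply]
  have h1 := Finset.prod_range_succ' (fun i => (c ^ i) a) n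
  have h2 := Finset.prod_range_succ (fun i => (c ^ i) a) n
  have h3 : ∀ i, (c ^ i) (c a) = (c ^ (i + 1)) a := by
    intro i
    rw [pow_succ, MulAut.mul_apply]
  simp only [h3]
  have h4 : (c ^ n) a = (c ^ 0) a := by rw [hn, pow_zero]
  rw [h4] at h2
  rw [h2] at h1
  exact (mul_right_cancel h1).symm

theorem apply_trN (c : MulAut A) {n : ℕ} (hn : c ^ n = 1) (a : A) : c (trN c n a) = trN c n a := by
  have h : c (trN c n a) = trN c n (c a) := by
    rw [trN_apply, trN_apply, map_prod]
    refine Finset.prod_congr rfl fun i _ => ?_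
    rw [← MulAut.mul_apply, ← MulAut.mul_apply, ← pow_succ', ← pow_succ]
  rw [h, trN_comp c hn a]

theorem trN_of_fixed (c : MulAut A) (n : ℕ) {a : A} (ha : c a = a) : trN c n a = a ^ n := by
  rw [trN_apply]
  have : ∀ i : ℕ, (c ^ i) a = a := by
    intro i
    induction i with
    | zero => simp
    | succ i ih => rw [pow_succ, MulAut.mul_apply, ha, ih]
  simp [this]

theorem conj_pow_apply {τ c : MulAut A} (hτ : τ * τ = 1) (hinv : τ * c * τ = c⁻¹) (i : ℕ) (a : A) :
    τ ((c ^ i) a) = ((c⁻¹) ^ i) (τ a) := by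
  have h1 : τ * c = c⁻¹ * τ := by
    have : τ * c * τ * τ = c⁻¹ * τ := by rw [hinv]
    rwa [mul_assoc, hτ, mul_one] at this
  have h2 : ∀ i : ℕ, τ * c ^ i = (c⁻¹) ^ i * τ := by
    intro i
    induction i with
    | zero => simp
    | succ i ih =>
      rw [pow_succ, ← mul_assoc, ih, mul_assoc, h1, ← mul_assoc, ← pow_succ]
  have := congrArg (fun f : MulAut A => f a) (h2 i)
  simpa [MulAut.mul_apply] using this

theorem tau_trN {τ c : MulAut A} (hτ : τ * τ = 1) (hinv : τ * c * τ = c⁻¹) {n : ℕ} (hn : c ^ n = 1)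
    (a : A) : τ (trN c n a) = trN c n (τ a) := by
  rw [trN_apply, trN_apply, map_prod]
  -- ∏ (c⁻¹)^i b = ∏ c^i b
  have h1 : ∀ i ∈ Finset.range n, τ ((c ^ i) a) = (c ^ (n - i)) (τ a) := by
    intro i hi
    rw [conj_pow_apply hτ hinv]
    have hi' : i ≤ n := (Finset.mem_range.mp hi).le
    have : (c⁻¹) ^ i = c ^ (n - i) := by
      have h : c ^ (n - i) * c ^ i = 1 := by rw [← pow_add, Nat.sub_add_cancel hi', hn]
      rw [inv_pow]
      exact inv_eq_of_mul_eq_one_left h
    rw [this]
  rw [Finset.prod_congr rfl h1]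
  -- reindex
  rcases Nat.eq_zero_or_pos n with rfl | hpos
  · simp
  obtain ⟨k, rfl⟩ : ∃ k, n = k + 1 := ⟨n - 1, by omega⟩
  rw [Finset.prod_range_succ' (fun i => (c ^ (k + 1 - i)) (τ a)),
    Finset.prod_range_succ (fun i => (c ^ i) (τ a))]
  have h0 : (c ^ (k + 1 - 0)) (τ a) = (c ^ 0) (τ a) := by
    rw [Nat.sub_zero, hn, pow_zero]
  rw [h0]
  have h2 : ∏ i ∈ Finset.range k, (c ^ (k + 1 - (i + 1))) (τ a) =
      ∏ i ∈ Finset.range k, (c ^ (i + 1)) (τ a) := by
    have := Finset.prod_range_reflect (fun i => (c ^ (i + 1)) (τ a)) k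
    rw [← this]
    refine Finset.prod_congr rfl fun i hi => ?_
    have : i < k := Finset.mem_range.mp hi
    congr 2
    omega
  rw [h2]
  have h3 := Finset.prod_range_succ' (fun i => (c ^ i) (τ a)) k
  have h4 := Finset.prod_range_succ (fun i => (c ^ i) (τ a)) k
  rw [← h3, h4]

theorem trN_pow_comp (c : MulAut A) {n : ℕ} (hn : c ^ n = 1) (j : ℕ) (a : A) :
    trN c n ((c ^ j) a) = trN c n a := by
  induction j with
  | zero => simp
  | succ j ih => rw [pow_succ', MulAut.mul_apply, trN_comp c hn, ih]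

theorem inv_pow_eq {c : MulAut A} {n : ℕ} (hn : c ^ n = 1) {i : ℕ} (hi : i ≤ n) :
    (c⁻¹) ^ i = c ^ (n - i) := by
  have h : c ^ (n - i) * c ^ i = 1 := by rw [← pow_add, Nat.sub_add_cancel hi, hn]
  rw [inv_pow]
  exact inv_eq_of_mul_eq_one_left h

/-- Norm surjectivity: a `τ`-fixed element killed by the trace of `c` is a norm `w * τ w` of an element
killed by the trace. -/
theorem exists_norm_eq {τ c : MulAut A} (hτ : τ * τ = 1) (hinv : τ * c * τ = c⁻¹) {k : ℕ}
    (hn : c ^ (2 * k + 1) = 1) {e : A} (he : τ e = e) (hP : trN c (2 * k + 1) e = 1) :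
    ∃ w : A, trN c (2 * k + 1) w = 1 ∧ w * τ w = e := by
  set g : ℕ → A := fun i => (c ^ (i + 1)) e with hg
  set u : A := ∏ i ∈ Finset.range k, g i with hu
  have hτg : ∀ i ∈ Finset.range k, τ (g i) = g (k + (k - 1 - i)) := by
    intro i hi
    have hik : i < k := Finset.mem_range.mp hi
    show τ ((c ^ (i + 1)) e) = (c ^ (k + (k - 1 - i) + 1)) e
    rw [conj_pow_apply hτ hinv, he, inv_pow_eq hn (by omega)]
    congr 2
    omega
  have hτu : τ u = ∏ i ∈ Finset.range k, g (k + i) := by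
    rw [hu, map_prod, Finset.prod_congr rfl hτg]
    exact Finset.prod_range_reflect (fun i => g (k + i)) k
  have h1 : trN c (2 * k + 1) e = u * τ u * e := by
    rw [trN_apply, Finset.prod_range_succ' (fun i => (c ^ i) e) (2 * k), hτu]
    have : (c ^ 0) e = e := by simp
    rw [this, two_mul, Finset.prod_range_add]
  have hPu : trN c (2 * k + 1) u = 1 := by
    rw [hu, map_prod]
    apply Finset.prod_eq_one
    intro i _
    show trN c (2 * k + 1) ((c ^ (i + 1)) e) = 1
    rw [trN_pow_comp c hn, hP]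
  refine ⟨u⁻¹, by rw [map_inv, hPu, inv_one], ?_⟩
  rw [map_inv, ← mul_inv]
  rw [hP] at h1
  exact inv_eq_of_mul_eq_one_right h1.symm

/-- The module-theoretic core: `c = 1`. -/
theorem aut_eq_one_of_norm_squares_comm (hA : IsPGroup 2 A) (τ c : MulAut A) (hτ : τ * τ = 1)
    (hinv : τ * c * τ = c⁻¹) (hodd : Odd (orderOf c))
    (hK : ∀ w : A, ∃ d : A, τ d = d ∧ d * d = w * τ w) : c = 1 := by
  by_contra hc
  obtain ⟨k, hk⟩ := hodd
  set n := 2 * k + 1 with hndef
  have hn : c ^ n = 1 := by rw [← hk]; exact pow_orderOf_eq_one c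
  obtain ⟨r, hr⟩ := (IsPGroup.iff_card (p := 2) (G := A)).mp hA
  have hcop : (Nat.card A).Coprime n := by
    rw [hr]
    apply Nat.Coprime.pow_left
    rw [Nat.coprime_two_left]
    exact ⟨k, by omega⟩
  -- n-th powers are injective
  have hinj : ∀ a b : A, a ^ n = b ^ n → a = b := fun a b h => (powCoprime hcop).injective h
  have hfixW : ∀ a : A, trN c n a = 1 → c a = a → a = 1 := by
    intro a h1 h2
    rw [trN_of_fixed c n h2] at h1
    exact hinj a 1 (by rw [h1, one_pow])
  -- descent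
  have hdesc : ∀ e : A, trN c n e = 1 → τ e = e → ∃ e' : A, trN c n e' = 1 ∧ τ e' = e' ∧ e' * e' = e := by
    intro e heP heτ
    obtain ⟨w, hwP, hwe⟩ := exists_norm_eq hτ hinv hn heτ heP
    obtain ⟨d, hdτ, hdd⟩ := hK w
    rw [hwe] at hdd
    -- d₀ : n-th root of the trace of d
    set d₀ : A := (powCoprime hcop).symm (trN c n d) with hd₀
    have hd₀n : d₀ ^ n = trN c n d := (powCoprime hcop).apply_symm_apply _
    have hcd₀ : c d₀ = d₀ := by
      apply hinj
      rw [← map_pow, hd₀n, apply_trN c hn]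
    have hτd₀ : τ d₀ = d₀ := by
      apply hinj
      rw [← map_pow, hd₀n, tau_trN hτ hinv hn, hdτ]
    have hPd₀ : trN c n d₀ = trN c n d := by rw [trN_of_fixed c n hcd₀, hd₀n]
    set d₁ : A := d * d₀⁻¹ with hd₁
    have hPd₁ : trN c n d₁ = 1 := by rw [hd₁, map_mul, map_inv, hPd₀, mul_inv_cancel]
    have hτd₁ : τ d₁ = d₁ := by rw [hd₁, map_mul, map_inv, hdτ, hτd₀]
    have hd₀sq : d₀ * d₀ = 1 := by
      apply hfixW
      · have h5 : d₁ * d₁ = e * (d₀ * d₀)⁻¹ := by
          rw [hd₁, mul_mul_mul_comm, hdd, mul_inv]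
        have : d₀ * d₀ = e * (d₁ * d₁)⁻¹ := by
          rw [h5]; simp
        rw [this, map_mul, map_inv, map_mul, heP, hPd₁]
        simp
      · rw [map_mul, hcd₀]
    refine ⟨d₁, hPd₁, hτd₁, ?_⟩
    rw [hd₁, mul_mul_mul_comm, hdd, ← mul_inv, hd₀sq, inv_one, mul_one]
  -- a nontrivial element of the kernel of the trace
  obtain ⟨a, ha⟩ : ∃ a : A, c a ≠ a := by
    by_contra h
    push Not at h
    exact hc (MulEquiv.ext h)
  have hw₀ : a⁻¹ * c a ≠ 1 := by
    intro h
    apply ha
    rw [inv_mul_eq_one] at h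
    exact h.symm
  have hw₀P : trN c n (a⁻¹ * c a) = 1 := by
    rw [map_mul, map_inv, trN_comp c hn, inv_mul_cancel]
  -- an involution in the kernel
  obtain ⟨w, hw1, hww, hwP⟩ : ∃ w : A, w ≠ 1 ∧ w * w = 1 ∧ trN c n w = 1 := by
    set W : Subgroup A := (trN c n).ker with hW
    haveI : Fact (Nat.Prime 2) := ⟨Nat.prime_two⟩
    have hWp : IsPGroup 2 W := hA.to_subgroup W
    have hne : Nat.card W ≠ 1 := by
      intro h1
      have := (Subgroup.card_eq_one.mp h1)
      have hmem : a⁻¹ * c a ∈ W := hw₀P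
      rw [this] at hmem
      exact hw₀ (Subgroup.mem_bot.mp hmem)
    have hdvd : 2 ∣ Nat.card W := (hWp.card_eq_or_dvd).resolve_left hne
    obtain ⟨x, hx⟩ := exists_prime_orderOf_dvd_card' 2 hdvd
    refine ⟨x.1, ?_, ?_, x.2⟩
    · intro h
      have : x = 1 := Subtype.ext h
      rw [this, orderOf_one] at hx
      omega
    · have := pow_orderOf_eq_one x
      rw [hx, pow_two] at this
      exact congrArg Subtype.val this
  -- an involution in the kernel fixed by τ
  obtain ⟨i, hi1, hii, hiP, hiτ⟩ : ∃ i : A, i ≠ 1 ∧ i * i = 1 ∧ trN c n i = 1 ∧ τ i = i := by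
    by_cases h : τ w = w
    · exact ⟨w, hw1, hww, hwP, h⟩
    · have hττ : τ (τ w) = w := by
        have := congrArg (fun f : MulAut A => f w) hτ
        simpa [MulAut.mul_apply] using this
      refine ⟨w * τ w, ?_, ?_, ?_, ?_⟩
      · intro h1
        apply h
        have h2 : τ w = w⁻¹ := (inv_eq_of_mul_eq_one_right h1).symm
        rw [h2]
        exact (inv_eq_of_mul_eq_one_right hww)
      · rw [mul_mul_mul_comm, hww, ← map_mul, hww, map_one, mul_one]
      · rw [map_mul, tau_trN hτ hinv hn w |>.symm, hwP, map_one, mul_one]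
      · rw [map_mul, hττ, mul_comm]
  -- iterate the descent: elements of unbounded order
  have hiter : ∀ j : ℕ, ∃ e : A, trN c n e = 1 ∧ τ e = e ∧ e ^ 2 ^ j ≠ 1 ∧ e ^ 2 ^ (j + 1) = 1 := by
    intro j
    induction j with
    | zero => exact ⟨i, hiP, hiτ, by simpa using hi1, by simpa [pow_two] using hii⟩
    | succ j ih =>
      obtain ⟨e, heP, heτ, he1, he2⟩ := ih
      obtain ⟨e', he'P, he'τ, he'e⟩ := hdesc e heP heτ
      refine ⟨e', he'P, he'τ, ?_, ?_⟩
      · rw [pow_succ', pow_mul, pow_two, he'e]; exact he1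
      · rw [pow_succ' 2 (j + 1), pow_mul, pow_two, he'e]; exact he2
  obtain ⟨e, -, -, he1, he2⟩ := hiter (Nat.card A)
  haveI : Fact (Nat.Prime 2) := ⟨Nat.prime_two⟩
  have hord : orderOf e = 2 ^ (Nat.card A + 1) := orderOf_eq_prime_pow he1 he2
  have hle : orderOf e ≤ Nat.card A := orderOf_le_card
  have : Nat.card A < 2 ^ (Nat.card A + 1) :=
    (Nat.lt_two_pow_self).trans (Nat.pow_lt_pow_right (by norm_num) (Nat.lt_succ_self _))
  omega

end comm

/-- The same statement for a group with a commutativity hypothesis instead of a `CommGroup` instance. -/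
theorem aut_eq_one_of_norm_squares {A : Type*} [Group A] [Finite A] (hcomm : ∀ a b : A, a * b = b * a)
    (hA : IsPGroup 2 A) (τ c : MulAut A) (hτ : τ * τ = 1)
    (hinv : τ * c * τ = c⁻¹) (hodd : Odd (orderOf c))
    (hK : ∀ w : A, ∃ d : A, τ d = d ∧ d * d = w * τ w) : c = 1 := by
  letI : CommGroup A := { (inferInstance : Group A) with mul_comm := hcomm }
  exact aut_eq_one_of_norm_squares_comm hA τ c hτ hinv hodd hK

end Cfsg.Agent.Helper3.Henke
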