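import Mathlib
import Cfsg.Prelude.Def_FusionSystem
import Cfsg.Agent.Lib.Helper25.FusionAlperin2
import Cfsg.Agent.Lib.Helper3.HenkeModule

set_option autoImplicit false
set_option linter.style.haveILetI false
set_option linter.unusedSectionVars false

/-!
Fusion-theoretic part of Henke's theorem: a saturated fusion system on a finite 2-group `S` in which every
element is conjugate to an element of `Z(S)` has `S` abelian.
-/

namespace Cfsg.Agent.Helper3.Henke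

open Cfsg Cfsg.FusionSystem Cfsg.Agent.Helper25

variable {Ω : Type*} [Group Ω] {S : Subgroup Ω}

/-- `C_S(x)`. -/
def cen (S : Subgroup Ω) (x : Ω) : Subgroup Ω := centralizerIn S (Subgroup.zpowers x)

theorem mem_cen {x g : Ω} : g ∈ cen S x ↔ g ∈ S ∧ x * g = g * x := by
  unfold cen
  rw [mem_centralizerIn]
  constructor
  · rintro ⟨h1, h2⟩
    exact ⟨h1, h2 x (Subgroup.mem_zpowers x)⟩
  · rintro ⟨h1, h2⟩
    refine ⟨h1, fun y hy => ?_⟩
    obtain ⟨k, rfl⟩ := Subgroup.mem_zpowers_iff.mp hy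
    have : Commute x g := h2
    exact (this.zpow_left k)

theorem cen_le (x : Ω) : cen S x ≤ S := centralizerIn_le

theorem self_mem_cen {x : Ω} (hx : x ∈ S) : x ∈ cen S x := mem_cen.mpr ⟨hx, rfl⟩

theorem mem_ZS {z : Ω} : z ∈ centralizerIn S S ↔ z ∈ S ∧ ∀ s ∈ S, s * z = z * s := mem_centralizerIn

theorem cen_eq_of_mem_ZS {z : Ω} (hz : z ∈ centralizerIn S S) : cen S z = S := by
  apply le_antisymm (cen_le z)
  intro s hs
  rw [mem_cen]
  exact ⟨hs, ((mem_ZS.mp hz).2 s hs).symm⟩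

theorem mem_ZS_of_cen_eq {y : Ω} (hy : y ∈ S) (h : cen S y = S) : y ∈ centralizerIn S S := by
  rw [mem_ZS]
  refine ⟨hy, fun s hs => ?_⟩
  rw [← h] at hs
  exact ((mem_cen.mp hs).2).symm

theorem ZS_le_cen (x : Ω) (hx : x ∈ S) : centralizerIn S S ≤ cen S x := by
  intro z hz
  rw [mem_cen]
  exact ⟨(mem_ZS.mp hz).1, (mem_ZS.mp hz).2 x hx⟩

/-! ### Conjugacy of elements -/

theorem isConjElt_of_hom (F : FusionSystem S) {P : Subgroup Ω} {Φ : P →* Ω} (hΦ : Φ ∈ F.Hom P)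
    {x : Ω} (hx : x ∈ P) : F.IsConjElt x (Φ ⟨x, hx⟩) := by
  have hle : Subgroup.zpowers x ≤ P := (Subgroup.zpowers_le).mpr hx
  exact ⟨Φ.comp (Subgroup.inclusion hle), restrict_mem F hle hΦ, rfl⟩

theorem IsConjElt.mem_left {F : FusionSystem S} {x y : Ω} (h : F.IsConjElt x y) : x ∈ S := by
  obtain ⟨φ, hφ, -⟩ := h
  exact (F.le_of_mem hφ).1 (Subgroup.mem_zpowers x)

theorem IsConjElt.mem_right {F : FusionSystem S} {x y : Ω} (h : F.IsConjElt x y) : y ∈ S := by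
  obtain ⟨φ, hφ, rfl⟩ := h
  exact (F.le_of_mem hφ).2 _

theorem range_eq_zpowers {x : Ω} (φ : Subgroup.zpowers x →* Ω) :
    φ.range = Subgroup.zpowers (φ ⟨x, Subgroup.mem_zpowers x⟩) := by
  ext y
  constructor
  · rintro ⟨⟨a, ha⟩, rfl⟩
    obtain ⟨k, rfl⟩ := Subgroup.mem_zpowers_iff.mp ha
    have : (⟨x ^ k, ha⟩ : Subgroup.zpowers x) = ⟨x, Subgroup.mem_zpowers x⟩ ^ k := Subtype.ext rfl
    rw [this, map_zpow]
    exact Subgroup.zpow_mem_zpowers _ k
  · intro hy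
    obtain ⟨k, rfl⟩ := Subgroup.mem_zpowers_iff.mp hy
    exact ⟨⟨x, Subgroup.mem_zpowers x⟩ ^ k, map_zpow _ _ _⟩

theorem isConjElt_symm {F : FusionSystem S} {x y : Ω} (h : F.IsConjElt x y) : F.IsConjElt y x := by
  obtain ⟨φ, hφ, hxy⟩ := h
  have hr : φ.range = Subgroup.zpowers y := by rw [range_eq_zpowers, hxy]
  obtain ⟨ψ, hψ, hinv, -⟩ := exists_inv F hφ hr
  refine ⟨ψ, hψ, ?_⟩
  have := hinv ⟨x, Subgroup.mem_zpowers x⟩ (by rw [hxy]; exact Subgroup.mem_zpowers y)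
  simp only [hxy] at this
  exact this

theorem isConjElt_trans {F : FusionSystem S} {x y w : Ω} (h1 : F.IsConjElt x y) (h2 : F.IsConjElt y w) :
    F.IsConjElt x w := by
  obtain ⟨φ, hφ, hxy⟩ := h1
  obtain ⟨ψ, hψ, hyw⟩ := h2
  have hr : φ.range = Subgroup.zpowers y := by rw [range_eq_zpowers, hxy]
  have hmem : ∀ a : Subgroup.zpowers x, φ a ∈ Subgroup.zpowers y := fun a => hr ▸ ⟨a, rfl⟩
  refine ⟨ψ.comp (φ.codRestrict _ hmem), F.comp_mem hφ hψ hmem, ?_⟩
  show ψ ⟨φ ⟨x, _⟩, _⟩ = w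
  simp only [hxy]
  exact hyw

theorem isConjElt_pow {F : FusionSystem S} {x y : Ω} (h : F.IsConjElt x y) (n : ℕ) :
    F.IsConjElt (x ^ n) (y ^ n) := by
  obtain ⟨φ, hφ, hxy⟩ := h
  have hx : x ^ n ∈ Subgroup.zpowers x := Subgroup.pow_mem _ (Subgroup.mem_zpowers x) n
  have := isConjElt_of_hom F hφ hx
  have e : (⟨x ^ n, hx⟩ : Subgroup.zpowers x) = ⟨x, Subgroup.mem_zpowers x⟩ ^ n := Subtype.ext rfl
  rw [e, map_pow, hxy] at this
  exact this

/-! ### Extension to the centralizer, Burnside, squares -/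

section sat

variable [Finite S] (hS : IsPGroup 2 S) (F : FusionSystem S) (hF : F.IsSaturated 2)

include hS hF in
/-- A map from `⟨x⟩` onto a central cyclic subgroup extends to `C_S(x)`. -/
theorem exists_hom_cen {x z : Ω} (hz : z ∈ centralizerIn S S) (h : F.IsConjElt x z) :
    ∃ Φ ∈ F.Hom (cen S x), ∀ hx : x ∈ cen S x, Φ ⟨x, hx⟩ = z := by
  obtain ⟨φ, hφ, hxz⟩ := h
  have hr : φ.range = Subgroup.zpowers z := by rw [range_eq_zpowers, hxz]
  have hzS : z ∈ S := (mem_ZS.mp hz).1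
  have hfc : F.IsFullyCentralized (Subgroup.zpowers z) := by
    refine ⟨(Subgroup.zpowers_le).mpr hzS, fun Q _ => ?_⟩
    have : centralizerIn S (Subgroup.zpowers z) = S := cen_eq_of_mem_ZS hz
    rw [this]
    exact Subgroup.card_le_of_le centralizerIn_le
  have hrec := isReceptive_of_fullyCentralized 2 hS F hF hfc
  obtain ⟨ψ, hψ, hext⟩ := hrec.2 _ φ hφ hr
  have hle : cen S x ≤ extender S (Subgroup.zpowers x) φ := centralizerIn_le_extender φ
  refine ⟨ψ.comp (Subgroup.inclusion hle), restrict_mem F hle hψ, fun hx => ?_⟩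
  show ψ ⟨x, hle hx⟩ = z
  rw [hext x (Subgroup.mem_zpowers x) (hle hx), hxz]

include hS hF in
/-- Burnside: conjugate central elements are conjugate under an automorphism of `S` in the system. -/
theorem exists_aut_of_central {z z' : Ω} (hz : z ∈ centralizerIn S S) (h : F.IsConjElt z z')
    (hz' : z' ∈ centralizerIn S S) :
    ∃ α ∈ F.Hom S, ∀ hzS : z ∈ S, α ⟨z, hzS⟩ = z' := by
  obtain ⟨Φ, hΦ, hΦz⟩ := exists_hom_cen hS F hF hz' h
  have e : S = cen S z := (cen_eq_of_mem_ZS hz).symm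
  refine ⟨Φ.comp (Subgroup.inclusion e.le), hom_transport F e hΦ, fun hzS => ?_⟩
  exact hΦz (e.le hzS)

/-- A map of the system with source `S` permutes `Z(S)`. -/
theorem map_mem_ZS {α : S →* Ω} (hα : α ∈ F.Hom S) {d : Ω} (hd : d ∈ centralizerIn S S) :
    α ⟨d, (mem_ZS.mp hd).1⟩ ∈ centralizerIn S S := by
  have hαS := (F.le_of_mem hα).2
  have hinj := F.injective_of_mem hα
  set β : S → S := fun s => ⟨α s, hαS s⟩ with hβ
  have hβinj : Function.Injective β := fun a b hab => hinj (congrArg Subtype.val hab)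
  have hβsurj : Function.Surjective β := Finite.surjective_of_injective hβinj
  rw [mem_ZS]
  refine ⟨hαS _, fun s hs => ?_⟩
  obtain ⟨s', hs'⟩ := hβsurj ⟨s, hs⟩
  have : α s' = s := congrArg Subtype.val hs'
  rw [← this, ← map_mul, ← map_mul]
  congr 1
  apply Subtype.ext
  exact (mem_ZS.mp hd).2 s' s'.2

include hS hF in
/-- A central element conjugate to a square is the square of a central element. -/
theorem exists_sq_central (hH : ∀ x ∈ S, ∃ z ∈ centralizerIn S S, F.IsConjElt x z)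
    {e a : Ω} (he : e ∈ centralizerIn S S) (ha : a ∈ S) (h : F.IsConjElt e (a * a)) :
    ∃ d ∈ centralizerIn S S, d * d = e := by
  obtain ⟨za, hza, hconj⟩ := hH a ha
  have h2 := isConjElt_pow hconj 2
  rw [pow_two, pow_two] at h2
  have h3 : F.IsConjElt (za * za) e := isConjElt_symm (isConjElt_trans h h2)
  have hzz : za * za ∈ centralizerIn S S := Subgroup.mul_mem _ hza hza
  obtain ⟨α, hα, hαz⟩ := exists_aut_of_central hS F hF hzz h3 he
  have hzaS : za ∈ S := (mem_ZS.mp hza).1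
  refine ⟨α ⟨za, hzaS⟩, map_mem_ZS F hα hza, ?_⟩
  rw [← map_mul]
  exact hαz (S.mul_mem hzaS hzaS)

end sat

/-! ### Noncentral elements with centralizer of maximal order -/

/-- `y` is a noncentral element of `S` whose centralizer has order `N`. -/
def IsMaxCen (S : Subgroup Ω) (N : ℕ) (y : Ω) : Prop :=
  y ∈ S ∧ y ∉ centralizerIn S S ∧ Nat.card (cen S y) = N

section maxcen

variable [Finite S] (F : FusionSystem S) {N : ℕ}
  (hN : ∀ v ∈ S, v ∉ centralizerIn S S → Nat.card (cen S v) ≤ N)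

include hN in
theorem isMaxCen_map {P : Subgroup Ω} {φ : P →* Ω} (hφ : φ ∈ F.Hom P) (y : P)
    (hy : IsMaxCen S N (y : Ω)) (hle : cen S (y : Ω) ≤ P) (hφy : φ y ∉ centralizerIn S S) :
    IsMaxCen S N (φ y) ∧ cen S (φ y) ≤ φ.range := by
  have hφS := (F.le_of_mem hφ).2
  have hinj := F.injective_of_mem hφ
  set M : Subgroup Ω := ((cen S (y : Ω)).subgroupOf P).map φ with hM
  have hMle : M ≤ cen S (φ y) := by
    rintro _ ⟨c, hc, rfl⟩
    rw [mem_cen]
    refine ⟨hφS c, ?_⟩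
    have hc' : (c : Ω) ∈ cen S (y : Ω) := Subgroup.mem_subgroupOf.mp hc
    have : y * c = c * y := Subtype.ext (mem_cen.mp hc').2
    rw [← map_mul, ← map_mul, this]
  have hcardM : Nat.card M = N := by
    rw [hM, Subgroup.card_map_of_injective hinj,
      Nat.card_congr (Subgroup.subgroupOfEquivOfLe hle).toEquiv]
    exact hy.2.2
  haveI : Finite (cen S (φ y)) := finite_of_le_finite (cen_le _)
  have hle2 : Nat.card (cen S (φ y)) ≤ Nat.card M := by
    rw [hcardM]; exact hN _ (hφS y) hφy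
  have heq : M = cen S (φ y) := Subgroup.eq_of_le_of_card_ge hMle hle2
  refine ⟨⟨hφS y, hφy, by rw [← heq, hcardM]⟩, ?_⟩
  rw [← heq]
  rintro _ ⟨c, -, rfl⟩
  exact ⟨c, rfl⟩

include hN in
theorem isMaxCen_comap {P : Subgroup Ω} {φ : P →* Ω} (hφ : φ ∈ F.Hom P) (y : P)
    (hy : IsMaxCen S N (φ y)) (hle : cen S (φ y) ≤ φ.range) (hyZ : (y : Ω) ∉ centralizerIn S S) :
    IsMaxCen S N (y : Ω) ∧ cen S (y : Ω) ≤ P := by
  obtain ⟨ψ, hψ, hinv⟩ := F.inv_mem hφ
  have h := isMaxCen_map F hN hψ ⟨φ y, ⟨y, rfl⟩⟩ hy hle (by rw [hinv y]; exact hyZ)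
  rw [hinv y] at h
  refine ⟨h.1, h.2.trans ?_⟩
  rintro _ ⟨⟨_, x, rfl⟩, rfl⟩
  rw [hinv x]; exact x.2

/-- The predicate used in the Alperin induction: the map does not move an element with maximal centralizer
(whose centralizer lies in the source) into the centre, nor the other way round. -/
def Pr (S : Subgroup Ω) (N : ℕ) (P : Subgroup Ω) (φ : P →* Ω) : Prop :=
  ∀ y : P, (IsMaxCen S N (y : Ω) → cen S (y : Ω) ≤ P → φ y ∉ centralizerIn S S) ∧
    (IsMaxCen S N (φ y) → cen S (φ y) ≤ φ.range → (y : Ω) ∉ centralizerIn S S)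

theorem pr_conj {P : Subgroup Ω} {g : Ω} (hg : g ∈ S) : Pr S N P (conjHom P g) := by
  intro y
  have key : ∀ z : Ω, z ∈ centralizerIn S S → g * z * g⁻¹ = z := by
    intro z hz
    rw [(mem_ZS.mp hz).2 g hg, mul_inv_cancel_right]
  constructor
  · intro hy _ hφ
    apply hy.2.1
    rw [conjHom_apply] at hφ
    have h1 : g⁻¹ * (g * (y : Ω) * g⁻¹) * g⁻¹⁻¹ = (y : Ω) := by group
    have h2 : g⁻¹ * (g * (y : Ω) * g⁻¹) * g⁻¹⁻¹ = g * (y : Ω) * g⁻¹ := by
      have hz := hφ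
      rw [(mem_ZS.mp hz).2 g⁻¹ (S.inv_mem hg), mul_inv_cancel_right]
    rw [← h1, h2]
    exact hφ
  · intro hy _ hyZ
    apply hy.2.1
    rw [conjHom_apply, key _ hyZ]
    exact hyZ

include hN in
theorem pr_comp {P Q : Subgroup Ω} {φ : P →* Ω} {ψ : Q →* Ω} (hφ : φ ∈ F.Hom P) (hψ : ψ ∈ F.Hom Q)
    (h1 : Pr S N P φ) (h2 : Pr S N Q ψ) (h : ∀ x : P, φ x ∈ Q) :
    Pr S N P (ψ.comp (φ.codRestrict Q h)) := by
  intro y
  have hrange : φ.range ≤ Q := by rintro _ ⟨x, rfl⟩; exact h x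
  constructor
  · intro hy hle
    have hφy := (h1 y).1 hy hle
    obtain ⟨hmax, hle2⟩ := isMaxCen_map F hN hφ y hy hle hφy
    exact (h2 ⟨φ y, h y⟩).1 hmax (hle2.trans hrange)
  · intro hy hle
    -- the restriction of ψ to the range of φ
    have hχrange : (ψ.comp (φ.codRestrict Q h)).range ≤ ψ.range := by
      rintro _ ⟨x, rfl⟩; exact ⟨_, rfl⟩
    have hφy : φ y ∉ centralizerIn S S := (h2 ⟨φ y, h y⟩).2 hy (hle.trans hχrange)
    set θ : φ.range →* Ω := ψ.comp (Subgroup.inclusion hrange) with hθ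
    have hθF : θ ∈ F.Hom φ.range := restrict_mem F hrange hψ
    have hθrange : (ψ.comp (φ.codRestrict Q h)).range ≤ θ.range := by
      rintro _ ⟨x, rfl⟩
      exact ⟨⟨φ x, ⟨x, rfl⟩⟩, rfl⟩
    obtain ⟨hmax, hle2⟩ := isMaxCen_comap F hN hθF ⟨φ y, ⟨y, rfl⟩⟩ hy (hle.trans hθrange) hφy
    exact (h1 y).2 hmax hle2

theorem pr_inv {P : Subgroup Ω} {φ : P →* Ω} (h1 : Pr S N P φ) (ψ : φ.range →* Ω)
    (hinv : ∀ x : P, ψ ⟨φ x, ⟨x, rfl⟩⟩ = (x : Ω)) : Pr S N φ.range ψ := by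
  rintro ⟨_, y, rfl⟩
  constructor
  · intro hy hle
    rw [hinv y]
    exact (h1 y).2 hy hle
  · intro hy hle
    rw [hinv y] at hy hle
    refine (h1 y).1 hy (hle.trans ?_)
    rintro _ ⟨⟨_, x, rfl⟩, rfl⟩
    rw [hinv x]; exact x.2

end maxcen

/-! ### The essential subgroup -/

section ess

variable [Finite S] (hS : IsPGroup 2 S) (F : FusionSystem S) (hF : F.IsSaturated 2)

/-- The configuration produced by Alperin's theorem. -/
def Config (F : FusionSystem S) (N : ℕ) : Prop :=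
  ∃ (Q : Subgroup Ω) (β : MulAut Q) (x : Q),
    F.IsEssential 2 Q ∧ β ∈ F.autGroup Q ∧ IsMaxCen S N (x : Ω) ∧ cen S (x : Ω) = Q ∧
      ((β x : Q) : Ω) ∈ centralizerIn S S

theorem config_of_aut {N : ℕ} {P : Subgroup Ω} (hP : P = S ∨ F.IsEssential 2 P) {α : MulAut P}
    (hα : α ∈ F.autGroup P) (y : P) (hy : IsMaxCen S N (y : Ω)) (hle : cen S (y : Ω) ≤ P)
    (hαy : ((α y : P) : Ω) ∈ centralizerIn S S) : Config F N := by
  have hPS : P ≤ S := by
    rcases hP with rfl | hP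
    · exact le_rfl
    · exact hP.1.1
  have hPle : P ≤ cen S (y : Ω) := by
    intro p hp
    rw [mem_cen]
    refine ⟨hPS hp, ?_⟩
    have h1 : ((α y : P) : Ω) * ((α ⟨p, hp⟩ : P) : Ω) = ((α ⟨p, hp⟩ : P) : Ω) * ((α y : P) : Ω) :=
      ((mem_ZS.mp hαy).2 _ (hPS (α ⟨p, hp⟩).2)).symm
    have h2 : α (y * ⟨p, hp⟩) = α (⟨p, hp⟩ * y) := by
      rw [map_mul, map_mul]; exact Subtype.ext h1
    exact congrArg Subtype.val (α.injective h2)
  have heq : cen S (y : Ω) = P := le_antisymm hle hPle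
  have hess : F.IsEssential 2 P := by
    rcases hP with rfl | hP
    · exact absurd (mem_ZS_of_cen_eq hy.1 heq) hy.2.1
    · exact hP
  exact ⟨P, α, y, hess, hα, hy, heq, hαy⟩

include hS hF in
theorem exists_config (hH : ∀ x ∈ S, ∃ z ∈ centralizerIn S S, F.IsConjElt x z)
    (hnc : ∃ x ∈ S, x ∉ centralizerIn S S) :
    ∃ N : ℕ, (∀ v ∈ S, v ∉ centralizerIn S S → Nat.card (cen S v) ≤ N) ∧ Config F N := by
  obtain ⟨x₁, hx₁S, hx₁⟩ := hnc
  obtain ⟨x₀, hx₀, hmax⟩ := Set.exists_max_image {v : S | (v : Ω) ∉ centralizerIn S S}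
    (fun v => Nat.card (cen S (v : Ω))) (Set.toFinite _) ⟨⟨x₁, hx₁S⟩, hx₁⟩
  set N := Nat.card (cen S (x₀ : Ω)) with hNdef
  have hN : ∀ v ∈ S, v ∉ centralizerIn S S → Nat.card (cen S v) ≤ N := fun v hv hvZ =>
    hmax ⟨v, hv⟩ hvZ
  refine ⟨N, hN, ?_⟩
  by_contra hcon
  have haut : ∀ P : Subgroup Ω, (P = S ∨ F.IsEssential 2 P) → ∀ α ∈ F.autGroup P,
      Pr S N P (P.subtype.comp α.toMonoidHom) := by
    intro P hP α hα y
    have hrange : (P.subtype.comp α.toMonoidHom).range = P := by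
      ext w
      constructor
      · rintro ⟨x, rfl⟩; exact (α x).2
      · intro hw
        exact ⟨α⁻¹ ⟨w, hw⟩, by show ((α (α⁻¹ ⟨w, hw⟩) : P) : Ω) = w; simp⟩
    constructor
    · intro hy hle hαy
      exact hcon (config_of_aut F hP hα y hy hle hαy)
    · intro hy hle hyZ
      rw [hrange] at hle
      apply hcon
      refine config_of_aut F hP (Subgroup.inv_mem _ hα) (α y) hy hle ?_
      rw [MulAut.inv_apply_self]
      exact hyZ
  have hall : ∀ {P : Subgroup Ω} {φ : P →* Ω}, φ ∈ F.Hom P → Pr S N P φ := fun hφ =>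
    alperin_induction 2 hS F hF (Pr S N) (fun _ hg => pr_conj hg)
      (fun hφ hψ h1 h2 h => pr_comp F hN hφ hψ h1 h2 h)
      (fun _ h1 ψ _ hinv => pr_inv h1 ψ hinv) haut hφ
  obtain ⟨z, hz, hconj⟩ := hH x₀ x₀.2
  obtain ⟨Φ, hΦ, hΦx⟩ := exists_hom_cen hS F hF hz hconj
  have hx₀c : (x₀ : Ω) ∈ cen S (x₀ : Ω) := self_mem_cen x₀.2
  have := (hall hΦ ⟨x₀, hx₀c⟩).1 ⟨x₀.2, hx₀, rfl⟩ le_rfl
  apply this
  rw [hΦx hx₀c]
  exact hz

end ess

end Cfsg.Agent.Helper3.Henke
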