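import Mathlib
import Cfsg.Prelude.Def_FusionSystem
import Cfsg.Agent.Lib.Helper25.FusionInner
import Cfsg.Agent.Lib.Helper3.HenkeFusion

set_option autoImplicit false
set_option linter.style.haveILetI false
set_option linter.unusedSectionVars false

/-!
Local part of Henke's theorem: the configuration produced by Alperin's theorem is contradictory.
-/

namespace Cfsg.Agent.Helper3.Henke

open Cfsg Cfsg.FusionSystem Cfsg.Agent.Helper25

/-- Restriction of automorphisms to the centre. -/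
def resC (Q : Type*) [Group Q] : MulAut Q →* MulAut (Subgroup.center Q) where
  toFun α :=
    { toFun := fun z => ⟨α z, by
        rw [Subgroup.mem_center_iff]
        intro g
        have := (Subgroup.mem_center_iff.mp z.2) (α⁻¹ g)
        have h2 := congrArg α this
        simpa [map_mul] using h2⟩
      invFun := fun z => ⟨α.symm z, by
        rw [Subgroup.mem_center_iff]
        intro g
        have := (Subgroup.mem_center_iff.mp z.2) (α g)
        have h2 := congrArg α.symm this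
        simpa [map_mul] using h2⟩
      left_inv := fun z => by apply Subtype.ext; simp
      right_inv := fun z => by apply Subtype.ext; simp
      map_mul' := fun a b => by apply Subtype.ext; simp }
  map_one' := by ext z; rfl
  map_mul' := fun a b => by ext z; rfl

theorem resC_apply_coe {Q : Type*} [Group Q] (α : MulAut Q) (z : Subgroup.center Q) :
    ((resC Q α z : Subgroup.center Q) : Q) = α z := rfl

/-- Abstract Sylow argument: if all nonidentity elements of the image of a Sylow 2-subgroup have the same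
fixed points, and two involutions in the image have different fixed points, their product is not a
2-element. -/
theorem not_two_element {Γ A : Type*} [Group Γ] [Finite Γ] [Group A] (f : Γ →* MulAut A)
    (R : Sylow 2 Γ) (Zfix : Set A)
    (hTI : ∀ r ∈ R, f r ≠ 1 → ∀ v : A, f r v = v ↔ v ∈ Zfix)
    (a b : Γ) (hτ : f a * f a = 1) (hυ : f b * f b = 1) (hτ1 : f a ≠ 1) (hυ1 : f b ≠ 1)
    (x : A) (hυx : f b x = x) (hτx : f a x ≠ x) : ¬ ∃ k : ℕ, (f a * f b) ^ 2 ^ k = 1 := by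
  rintro ⟨k, hk⟩
  haveI : Fact (Nat.Prime 2) := ⟨Nat.prime_two⟩
  have hsurj : Function.Surjective f.rangeRestrict := f.rangeRestrict_surjective
  haveI : Finite f.range := Finite.of_surjective _ hsurj
  set R' : Sylow 2 f.range := R.mapSurjective hsurj with hR'
  set τ' : f.range := f.rangeRestrict a with hτ'
  set υ' : f.range := f.rangeRestrict b with hυ'
  set ρ' : f.range := τ' * υ' with hρ'
  have hτ'2 : τ' * τ' = 1 := Subtype.ext hτ
  have hυ'2 : υ' * υ' = 1 := Subtype.ext hυ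
  have hτ'inv : τ'⁻¹ = τ' := inv_eq_of_mul_eq_one_left hτ'2
  have hυ'inv : υ'⁻¹ = υ' := inv_eq_of_mul_eq_one_left hυ'2
  have hρk : ρ' ^ 2 ^ k = 1 := Subtype.ext hk
  have hconj : τ' * ρ' * τ'⁻¹ = ρ'⁻¹ := by
    rw [hτ'inv, hρ', mul_inv_rev, hτ'inv, hυ'inv, ← mul_assoc, hτ'2, one_mul]
  have hp1 : IsPGroup 2 (Subgroup.zpowers τ') := by
    rintro ⟨g, hg⟩
    obtain ⟨j, rfl⟩ := Subgroup.mem_zpowers_iff.mp hg
    refine ⟨1, Subtype.ext ?_⟩
    show (τ' ^ j) ^ 2 ^ 1 = 1
    rw [pow_one, ← zpow_natCast, ← zpow_mul, mul_comm, zpow_mul, zpow_natCast, pow_two, hτ'2, one_zpow]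
  have hp2 : IsPGroup 2 (Subgroup.zpowers ρ') := by
    rintro ⟨g, hg⟩
    obtain ⟨j, rfl⟩ := Subgroup.mem_zpowers_iff.mp hg
    refine ⟨k, Subtype.ext ?_⟩
    show (ρ' ^ j) ^ 2 ^ k = 1
    rw [← zpow_natCast, ← zpow_mul, mul_comm, zpow_mul, zpow_natCast, hρk, one_zpow]
  have hnorm : Subgroup.zpowers τ' ≤ Subgroup.normalizer (Subgroup.zpowers ρ' : Set f.range) := by
    rw [Subgroup.zpowers_le]
    rw [Subgroup.mem_normalizer_iff]
    intro h
    constructor
    · intro hh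
      obtain ⟨j, rfl⟩ := Subgroup.mem_zpowers_iff.mp hh
      have : τ' * ρ' ^ j * τ'⁻¹ = (ρ'⁻¹) ^ j := by
        rw [← hconj, conj_zpow]
      rw [this]
      exact Subgroup.zpow_mem _ (Subgroup.inv_mem _ (Subgroup.mem_zpowers ρ')) j
    · intro hh
      obtain ⟨j, hj⟩ := Subgroup.mem_zpowers_iff.mp hh
      have h2 : h = τ'⁻¹ * (ρ' ^ j) * τ' := by rw [hj]; group
      have : τ'⁻¹ * ρ' ^ j * τ' = (ρ'⁻¹) ^ j := by
        have h3 : τ'⁻¹ * ρ' * τ' = ρ'⁻¹ := by
          have := hconj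
          rw [hτ'inv] at this ⊢
          exact this
        rw [← h3]
        have := conj_zpow (a := τ'⁻¹) (b := ρ') (i := j)
        rw [inv_inv] at this
        exact this.symm
      rw [h2, this]
      exact Subgroup.zpow_mem _ (Subgroup.inv_mem _ (Subgroup.mem_zpowers ρ')) j
  have hp : IsPGroup 2 (Subgroup.zpowers τ' ⊔ Subgroup.zpowers ρ' : Subgroup f.range) :=
    IsPGroup.to_sup_of_normal_right' hp1 hp2 hnorm
  obtain ⟨P', hP'⟩ := hp.exists_le_sylow
  obtain ⟨g, hg⟩ := MulAction.exists_smul_eq f.range R' P'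
  have hτmem : τ' ∈ (P' : Subgroup f.range) := hP' (Subgroup.mem_sup_left (Subgroup.mem_zpowers τ'))
  have hρmem : ρ' ∈ (P' : Subgroup f.range) := hP' (Subgroup.mem_sup_right (Subgroup.mem_zpowers ρ'))
  have hυmem : υ' ∈ (P' : Subgroup f.range) := by
    have : υ' = τ'⁻¹ * ρ' := by rw [hρ']; group
    rw [this]
    exact Subgroup.mul_mem _ (Subgroup.inv_mem _ hτmem) hρmem
  -- unpack membership in the conjugate Sylow subgroup
  have hunpack : ∀ σ : f.range, σ ∈ (P' : Subgroup f.range) → (σ : MulAut A) ≠ 1 →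
      ∀ v : A, (σ : MulAut A) ((g : MulAut A) v) = (g : MulAut A) v ↔ v ∈ Zfix := by
    intro σ hσ hσ1 v
    rw [← hg, Sylow.coe_subgroup_smul, Subgroup.mem_pointwise_smul_iff_inv_smul_mem] at hσ
    have hσ' : g⁻¹ * σ * g ∈ (R' : Subgroup f.range) := by
      simpa [MulAut.smul_def] using hσ
    rw [hR', Sylow.coe_mapSurjective] at hσ'
    obtain ⟨r, hr, hrσ⟩ := hσ'
    have hfr : f r = (g : MulAut A)⁻¹ * (σ : MulAut A) * (g : MulAut A) := by
      have := congrArg Subtype.val hrσ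
      simpa using this
    have hfr1 : f r ≠ 1 := by
      intro h1
      apply hσ1
      rw [hfr] at h1
      have : (σ : MulAut A) = (g : MulAut A) * 1 * (g : MulAut A)⁻¹ := by rw [← h1]; group
      rw [this]; group
    have := hTI r hr hfr1 v
    rw [hfr] at this
    rw [← this]
    simp only [MulAut.mul_apply]
    constructor
    · intro h
      rw [h]; simp
    · intro h
      have := congrArg (g : MulAut A) h
      simpa using this
  have h1 := hunpack τ' hτmem hτ1 ((g : MulAut A)⁻¹ x)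
  have h2 := hunpack υ' hυmem hυ1 ((g : MulAut A)⁻¹ x)
  simp only [MulAut.apply_inv_self] at h1 h2
  exact hτx (h1.mpr (h2.mp hυx))

section loc

variable {Ω : Type*} [Group Ω] {S : Subgroup Ω} [Finite S]
  {N : ℕ} (hN : ∀ v ∈ S, v ∉ centralizerIn S S → Nat.card (cen S v) ≤ N)
  {Q : Subgroup Ω} (hQS : Q ≤ S) (hcard : Nat.card Q = N)

include hN hQS hcard in
/-- Noncentral elements of `Z(Q)` have centralizer exactly `Q`. -/
theorem cen_eq_of_center (v : Subgroup.center Q) (hv : ((v : Q) : Ω) ∉ centralizerIn S S) :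
    cen S ((v : Q) : Ω) = Q := by
  have hle : Q ≤ cen S ((v : Q) : Ω) := by
    intro q hq
    rw [mem_cen]
    refine ⟨hQS hq, ?_⟩
    have := Subgroup.mem_center_iff.mp v.2 ⟨q, hq⟩
    exact (congrArg Subtype.val this).symm
  haveI : Finite (cen S ((v : Q) : Ω)) := finite_of_le_finite (cen_le _)
  have h2 : Nat.card (cen S ((v : Q) : Ω)) ≤ Nat.card Q := by
    rw [hcard]; exact hN _ (hQS (v : Q).2) hv
  exact (Subgroup.eq_of_le_of_card_ge hle h2).symm

theorem resC_eq_one_of_mem {α : MulAut Q} {s : Ω}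
    (hα : ∀ x : Q, ((α x : Q) : Ω) = s * (x : Ω) * s⁻¹) (hs : s ∈ Q) : resC Q α = 1 := by
  ext v
  show ((α (v : Q) : Q) : Ω) = ((v : Q) : Ω)
  rw [hα]
  have := Subgroup.mem_center_iff.mp v.2 ⟨s, hs⟩
  have h2 : s * ((v : Q) : Ω) = ((v : Q) : Ω) * s := congrArg Subtype.val this
  rw [h2, mul_inv_cancel_right]

include hN hQS hcard in
theorem mem_ZS_of_fixed {α : MulAut Q} {s : Ω} (hsS : s ∈ S)
    (hα : ∀ x : Q, ((α x : Q) : Ω) = s * (x : Ω) * s⁻¹) (hs : s ∉ Q) (v : Subgroup.center Q)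
    (hv : resC Q α v = v) : ((v : Q) : Ω) ∈ centralizerIn S S := by
  by_contra hvZ
  apply hs
  rw [← cen_eq_of_center hN hQS hcard v hvZ, mem_cen]
  refine ⟨hsS, ?_⟩
  have h1 : ((α (v : Q) : Q) : Ω) = ((v : Q) : Ω) := congrArg (fun u : Subgroup.center Q => ((u : Q) : Ω)) hv
  rw [hα] at h1
  have : s * ((v : Q) : Ω) = ((v : Q) : Ω) * s := by
    calc s * ((v : Q) : Ω) = (s * ((v : Q) : Ω) * s⁻¹) * s := by group
      _ = ((v : Q) : Ω) * s := by rw [h1]
  exact this.symm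

theorem fixed_of_mem_ZS {α : MulAut Q} {s : Ω} (hsS : s ∈ S)
    (hα : ∀ x : Q, ((α x : Q) : Ω) = s * (x : Ω) * s⁻¹) (v : Subgroup.center Q)
    (hv : ((v : Q) : Ω) ∈ centralizerIn S S) : resC Q α v = v := by
  apply Subtype.ext
  apply Subtype.ext
  show ((α (v : Q) : Q) : Ω) = ((v : Q) : Ω)
  rw [hα, (mem_ZS.mp hv).2 s hsS, mul_inv_cancel_right]

include hQS in
/-- An element of `N_S(Q)` outside `Q` whose square lies in `Q`. -/
theorem exists_sq_mem (hS : IsPGroup 2 S) (hne : Q ≠ S) :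
    ∃ t ∈ normalizerIn S Q, t ∉ Q ∧ t * t ∈ Q := by
  haveI : Fact (Nat.Prime 2) := ⟨Nat.prime_two⟩
  obtain ⟨s, hsN, hsQ⟩ := exists_mem_normalizerIn_not_mem hS hQS hne
  have key : ∀ k : ℕ, ∀ s ∈ normalizerIn S Q, s ∉ Q → s ^ 2 ^ k ∈ Q →
      ∃ t ∈ normalizerIn S Q, t ∉ Q ∧ t * t ∈ Q := by
    intro k
    induction k with
    | zero =>
      intro s _ hsQ h
      rw [pow_zero, pow_one] at h
      exact absurd h hsQ
    | succ k ih =>
      intro s hsN hsQ h
      by_cases h2 : s * s ∈ Q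
      · exact ⟨s, hsN, hsQ, h2⟩
      · apply ih (s * s) (Subgroup.mul_mem _ hsN hsN) h2
        rw [← pow_two, ← pow_mul, ← pow_succ']
        exact h
  obtain ⟨k, hk⟩ := hS ⟨s, hsN.1⟩
  apply key k s hsN hsQ
  have : s ^ 2 ^ k = 1 := by
    have := congrArg Subtype.val hk
    simpa using this
  rw [this]
  exact Q.one_mem

theorem resC_mul_self {α : MulAut Q} {t : Ω} (htt : t * t ∈ Q)
    (hα : ∀ x : Q, ((α x : Q) : Ω) = t * (x : Ω) * t⁻¹) : resC Q α * resC Q α = 1 := by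
  ext v
  show ((α (α (v : Q)) : Q) : Ω) = ((v : Q) : Ω)
  rw [hα, hα]
  have := Subgroup.mem_center_iff.mp v.2 ⟨t * t, htt⟩
  have h2 : t * t * ((v : Q) : Ω) = ((v : Q) : Ω) * (t * t) := congrArg Subtype.val this
  calc t * (t * ((v : Q) : Ω) * t⁻¹) * t⁻¹ = (t * t * ((v : Q) : Ω)) * t⁻¹ * t⁻¹ := by group
    _ = ((v : Q) : Ω) := by rw [h2]; group

end loc

section main

variable {Ω : Type*} [Group Ω] {S : Subgroup Ω} [Finite S] (hS : IsPGroup 2 S) (F : FusionSystem S)
  (hF : F.IsSaturated 2) (hH : ∀ x ∈ S, ∃ z ∈ centralizerIn S S, F.IsConjElt x z)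
  {N : ℕ} (hN : ∀ v ∈ S, v ∉ centralizerIn S S → Nat.card (cen S v) ≤ N)
  {Q : Subgroup Ω} (hQS : Q ≤ S) (hcard : Nat.card Q = N) (hZQ : centralizerIn S S ≤ Q)

include hS hF hH hN hQS hcard hZQ in
/-- Every norm `w * τ w` is the square of a central element. -/
theorem exists_fixed_sq {t : Ω} (htS : t ∈ S) (htQ : t ∉ Q) (htt : t * t ∈ Q) {α : MulAut Q}
    (hα : ∀ x : Q, ((α x : Q) : Ω) = t * (x : Ω) * t⁻¹) (w : Subgroup.center Q) :
    ∃ d : Subgroup.center Q, resC Q α d = d ∧ d * d = w * resC Q α w := by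
  set τ := resC Q α with hτdef
  have hτ2 : τ * τ = 1 := resC_mul_self htt hα
  have hττ : τ (τ w) = w := by
    have := congrArg (fun f : MulAut (Subgroup.center Q) => f w) hτ2
    simpa [MulAut.mul_apply] using this
  set e : Subgroup.center Q := w * τ w with he
  have hτe : τ e = e := by
    rw [he, map_mul, hττ]
    apply Subtype.ext
    exact Subgroup.mem_center_iff.mp w.2 ((τ w : Subgroup.center Q) : Q)
  have he₀ : ((e : Q) : Ω) ∈ centralizerIn S S := mem_ZS_of_fixed hN hQS hcard htS hα htQ e hτe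
  set w₀ : Ω := ((w : Q) : Ω) with hw₀
  have hτw : (((τ w : Subgroup.center Q) : Q) : Ω) = t * w₀ * t⁻¹ := hα _
  have hecoe : ((e : Q) : Ω) = w₀ * (t * w₀ * t⁻¹) := by
    rw [← hτw]; rfl
  have hwS : w₀ ∈ S := hQS (w : Q).2
  -- t is conjugate to a central element h
  obtain ⟨h, hh, hth⟩ := hH t htS
  have h2 := isConjElt_pow hth 2
  rw [pow_two, pow_two] at h2
  have hhh : h * h ∈ centralizerIn S S := Subgroup.mul_mem _ hh hh
  obtain ⟨Φ, hΦ, hΦq⟩ := exists_hom_cen hS F hF hhh h2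
  have hqS : t * t ∈ S := S.mul_mem htS htS
  have ht_C : t ∈ cen S (t * t) := mem_cen.mpr ⟨htS, by rw [mul_assoc]⟩
  have hw_C : w₀ ∈ cen S (t * t) := by
    rw [mem_cen]
    refine ⟨hwS, ?_⟩
    have := Subgroup.mem_center_iff.mp w.2 ⟨t * t, htt⟩
    exact congrArg Subtype.val this
  have he_C : ((e : Q) : Ω) ∈ cen S (t * t) := ZS_le_cen _ hqS he₀
  have hq_C : t * t ∈ cen S (t * t) := self_mem_cen hqS
  have hΦS := (F.le_of_mem hΦ).2
  set W := Φ ⟨w₀, hw_C⟩ with hW
  set T := Φ ⟨t, ht_C⟩ with hT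
  set E := Φ ⟨((e : Q) : Ω), he_C⟩ with hE
  have hWTWT : W * T * (W * T) = E * (h * h) := by
    rw [← hΦq hq_C, hW, hT, hE, ← map_mul, ← map_mul, ← map_mul]
    congr 1
    apply Subtype.ext
    show w₀ * t * (w₀ * t) = ((e : Q) : Ω) * (t * t)
    rw [hecoe]; group
  have hcomm : ∀ s ∈ S, s * h⁻¹ = h⁻¹ * s := by
    intro s hs
    have := (mem_ZS.mp hh).2 s hs
    calc s * h⁻¹ = h⁻¹ * (h * s) * h⁻¹ := by group
      _ = h⁻¹ * (s * h) * h⁻¹ := by rw [this]
      _ = h⁻¹ * s := by group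
  have hXS : W * T ∈ S := S.mul_mem (hΦS _) (hΦS _)
  have hhS : h ∈ S := (mem_ZS.mp hh).1
  have haS : W * T * h⁻¹ ∈ S := S.mul_mem hXS (S.inv_mem hhS)
  have haa : W * T * h⁻¹ * (W * T * h⁻¹) = E := by
    calc W * T * h⁻¹ * (W * T * h⁻¹) = W * T * (h⁻¹ * (W * T)) * h⁻¹ := by group
      _ = W * T * ((W * T) * h⁻¹) * h⁻¹ := by rw [hcomm _ hXS]
      _ = (W * T * (W * T)) * h⁻¹ * h⁻¹ := by group
      _ = E := by rw [hWTWT]; group
  have hconj : F.IsConjElt ((e : Q) : Ω) (W * T * h⁻¹ * (W * T * h⁻¹)) := by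
    rw [haa]
    exact isConjElt_of_hom F hΦ he_C
  obtain ⟨d₀, hd₀, hdd⟩ := exists_sq_central hS F hF hH he₀ haS hconj
  have hdc : (⟨d₀, hZQ hd₀⟩ : Q) ∈ Subgroup.center Q := by
    rw [Subgroup.mem_center_iff]
    intro g
    apply Subtype.ext
    exact (mem_ZS.mp hd₀).2 g (hQS g.2)
  refine ⟨⟨⟨d₀, hZQ hd₀⟩, hdc⟩, fixed_of_mem_ZS htS hα _ hd₀, ?_⟩
  apply Subtype.ext
  apply Subtype.ext
  exact hdd

end main

section final

variable {Ω : Type*} [Group Ω] {S : Subgroup Ω} [Finite S] (hS : IsPGroup 2 S) (F : FusionSystem S)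
  (hF : F.IsSaturated 2) (hH : ∀ x ∈ S, ∃ z ∈ centralizerIn S S, F.IsConjElt x z)

include hS hF hH in
/-- The configuration produced by Alperin's theorem is contradictory. -/
theorem config_false {N : ℕ} (hN : ∀ v ∈ S, v ∉ centralizerIn S S → Nat.card (cen S v) ≤ N)
    (hc : Config F N) : False := by
  haveI : Fact (Nat.Prime 2) := ⟨Nat.prime_two⟩
  obtain ⟨Q, β, x, hess, hβ, hx, hcen, hβx⟩ := hc
  have hQS : Q ≤ S := hess.1.1
  haveI : Finite Q := finite_of_le_finite hQS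
  have hcard : Nat.card Q = N := by
    have := hx.2.2
    rwa [hcen] at this
  have hZQ : centralizerIn S S ≤ Q := by
    have := ZS_le_cen (S := S) (x : Ω) hx.1
    rwa [hcen] at this
  have hne : Q ≠ S := by
    intro h
    exact hx.2.1 (mem_ZS_of_cen_eq hx.1 (hcen.trans h))
  have hfa : F.IsFullyAutomized 2 Q := (of_fullyNormalized 2 hS F hF hess.2.1).2.1
  obtain ⟨R, hR⟩ := hfa.2
  obtain ⟨t, htN, htQ, htt⟩ := exists_sq_mem hQS hS hne
  have htS : t ∈ S := htN.1
  -- the automorphism induced by t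
  set ct : MulAut Q := Q.normalizerMonoidHom ⟨t, htN.2⟩ with hct
  have hctα : ∀ y : Q, ((ct y : Q) : Ω) = t * (y : Ω) * t⁻¹ := fun _ => rfl
  have hctS : ct ∈ autInducedBy S Q := (mem_autInducedBy_iff ct).mpr ⟨t, htS, hctα⟩
  have hctF : ct ∈ F.autGroup Q := autInducedBy_le_autGroup F hQS hctS
  set τ := resC Q ct with hτdef
  have hτ2 : τ * τ = 1 := resC_mul_self htt hctα
  -- x is central in Q
  have hxc : x ∈ Subgroup.center Q := by
    rw [Subgroup.mem_center_iff]
    intro g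
    have hg : (g : Ω) ∈ cen S (x : Ω) := by rw [hcen]; exact g.2
    apply Subtype.ext
    exact ((mem_cen.mp hg).2).symm
  set xc : Subgroup.center Q := ⟨x, hxc⟩ with hxcdef
  have hτx : τ xc ≠ xc := fun h =>
    hx.2.1 (mem_ZS_of_fixed hN hQS hcard htS hctα htQ xc h)
  -- the second involution
  set βc := resC Q β with hβc
  set υ := βc⁻¹ * τ * βc with hυdef
  have hυ2 : υ * υ = 1 := by
    rw [hυdef]
    calc βc⁻¹ * τ * βc * (βc⁻¹ * τ * βc) = βc⁻¹ * (τ * τ) * βc := by group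
      _ = 1 := by rw [hτ2]; group
  have hυx : υ xc = xc := by
    rw [hυdef, MulAut.mul_apply, MulAut.mul_apply]
    have : τ (βc xc) = βc xc := fixed_of_mem_ZS htS hctα _ hβx
    rw [this, MulAut.inv_apply_self]
  -- the Sylow argument
  set f : F.autGroup Q →* MulAut (Subgroup.center Q) := (resC Q).comp (F.autGroup Q).subtype with hf
  have hTI : ∀ r ∈ R, f r ≠ 1 → ∀ v : Subgroup.center Q, f r v = v ↔
      v ∈ {v : Subgroup.center Q | ((v : Q) : Ω) ∈ centralizerIn S S} := by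
    intro r hr hr1 v
    have hr' : r ∈ (R : Subgroup (F.autGroup Q)) := hr
    rw [hR, Subgroup.mem_subgroupOf] at hr'
    obtain ⟨s, hsS, hsα⟩ := (mem_autInducedBy_iff (r : MulAut Q)).mp hr'
    have hsQ : s ∉ Q := fun h => hr1 (resC_eq_one_of_mem hsα h)
    constructor
    · intro hv
      exact mem_ZS_of_fixed hN hQS hcard hsS hsα hsQ v hv
    · intro hv
      exact fixed_of_mem_ZS hsS hsα v hv
  set a : F.autGroup Q := ⟨ct, hctF⟩ with ha
  set b : F.autGroup Q := ⟨β⁻¹ * ct * β, Subgroup.mul_mem _ (Subgroup.mul_mem _ (Subgroup.inv_mem _ hβ) hctF) hβ⟩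
    with hb
  have hfa' : f a = τ := rfl
  have hfb : f b = υ := by
    show resC Q (β⁻¹ * ct * β) = υ
    rw [map_mul, map_mul, map_inv]
  have hτ1 : τ ≠ 1 := by
    intro h
    apply hτx
    rw [h]; rfl
  have hυ1 : υ ≠ 1 := by
    intro h
    apply hτ1
    have : τ = βc * υ * βc⁻¹ := by rw [hυdef]; group
    rw [this, h]; group
  have hnot := not_two_element f R _ hTI a b (by rw [hfa']; exact hτ2) (by rw [hfb]; exact hυ2)
    (by rw [hfa']; exact hτ1) (by rw [hfb]; exact hυ1) xc (by rw [hfb]; exact hυx)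
    (by rw [hfa']; exact hτx)
  rw [hfa', hfb] at hnot
  -- the odd part
  set ρ := τ * υ with hρ
  haveI : Finite (Subgroup.center Q) := inferInstance
  have hn0 : orderOf ρ ≠ 0 := (orderOf_pos ρ).ne'
  obtain ⟨k, m, hm, hkm⟩ := Nat.exists_eq_two_pow_mul_odd hn0
  set c := ρ ^ 2 ^ k with hc
  have hcm : c ^ m = 1 := by
    rw [hc, ← pow_mul, ← hkm]; exact pow_orderOf_eq_one ρ
  have hcodd : Odd (orderOf c) := Odd.of_dvd_nat hm (orderOf_dvd_of_pow_eq_one hcm)
  have hc1 : c ≠ 1 := fun h => hnot ⟨k, h⟩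
  have hτinv : τ⁻¹ = τ := inv_eq_of_mul_eq_one_left hτ2
  have hυinv : υ⁻¹ = υ := inv_eq_of_mul_eq_one_left hυ2
  have hconjρ : τ * ρ * τ⁻¹ = ρ⁻¹ := by
    rw [hτinv, hρ, mul_inv_rev, hτinv, hυinv, ← mul_assoc, hτ2, one_mul]
  have hinv : τ * c * τ = c⁻¹ := by
    have : τ * c * τ⁻¹ = c⁻¹ := by
      rw [hc, ← conj_pow, hconjρ, inv_pow]
    rwa [hτinv] at this
  have hcomm : ∀ u v : Subgroup.center Q, u * v = v * u := by
    intro u v
    apply Subtype.ext
    exact (Subgroup.mem_center_iff.mp v.2 (u : Q))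
  have hA : IsPGroup 2 (Subgroup.center Q) := by
    have h1 : IsPGroup 2 Q := hS.to_le hQS
    exact h1.to_subgroup _
  have hK : ∀ w : Subgroup.center Q, ∃ d : Subgroup.center Q, τ d = d ∧ d * d = w * τ w := fun w =>
    exists_fixed_sq hS F hF hH hN hQS hcard hZQ htS htQ htt hctα w
  exact hc1 (aut_eq_one_of_norm_squares hcomm hA τ c hτ2 hinv hcodd hK)

include hS hF hH in
/-- **Henke's theorem.** A saturated fusion system on a finite 2-group in which every element is conjugate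
to an element of the centre lives on an abelian group. -/
theorem henke_main : ∀ a b : S, a * b = b * a := by
  by_contra hnc
  push Not at hnc
  obtain ⟨a, b, hab⟩ := hnc
  have hx : ∃ x ∈ S, x ∉ centralizerIn S S := by
    refine ⟨b, b.2, fun hb => hab ?_⟩
    apply Subtype.ext
    exact (mem_ZS.mp hb).2 a a.2
  obtain ⟨N, hN, hc⟩ := exists_config hS F hF hH hx
  exact config_false hS F hF hH hN hc

end final

end Cfsg.Agent.Helper3.Henke
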