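import Mathlib
import Cfsg.Agent.Lib.Helper3.HypCyclic
import Cfsg.Agent.Lib.Helper3.CoprimeSmallExpFam

/-!
# Cyclic subgroups of order `p` or `4` of the hyperfocal subgroup, II

The chain lemma in abstract form, the trace of the upper central series of `S` on a subgroup
`P ≤ S`, and the consequence of the hypothesis "maps between small cyclic subgroups of the
hyperfocal subgroup extend to automorphisms of `S`".
-/

set_option autoImplicit false
set_option linter.style.haveILetI false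
set_option linter.unusedSectionVars false

namespace Cfsg.Agent.Helper3.HypCyclic

open Cfsg Cfsg.FusionSystem Cfsg.Agent.Helper25 Cfsg.Agent.Helper3.SmallExp
open scoped commutatorElement

/-- **Abstract chain lemma.** -/
theorem fixes_of_chain {U : Type*} [Group U] {p : ℕ} [Fact p.Prime] (hU : IsPGroup p U)
    (γ : MulAut U) {m : ℕ} (hγm : γ ^ m = 1) (hm : m.Coprime p) (D : Subgroup U)
    (hDinv : ∀ x ∈ D, γ x ∈ D) (Z : ℕ → Subgroup U) (hZ0 : Z 0 = ⊥) {n : ℕ} (hZn : Z n = ⊤)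
    (hchain : ∀ i : ℕ, ∀ x ∈ D, x ∈ Z (i + 1) → γ x * x⁻¹ ∈ Z i) : ∀ x ∈ D, γ x = x := by
  have key : ∀ i : ℕ, ∀ x ∈ D, x ∈ Z i → γ x = x := by
    intro i
    induction i with
    | zero =>
      intro x _ hx
      rw [hZ0, Subgroup.mem_bot] at hx
      rw [hx, map_one]
    | succ i ih =>
      intro x hxD hx
      have hcD : γ x * x⁻¹ ∈ D := D.mul_mem (hDinv x hxD) (D.inv_mem hxD)
      have hfix := ih _ hcD (hchain i x hxD hx)
      have h3 : γ x = (γ x * x⁻¹) * x := by group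
      have := eq_one_of_map_eq_mul' hU γ hγm hm h3 hfix
      rw [h3, this, one_mul]
  intro x hx
  apply key n x hx
  rw [hZn]; exact Subgroup.mem_top _

variable {Ω : Type*} [Group Ω] {S : Subgroup Ω}

/-- The trace on `P ≤ S` of the upper central series of `S`. -/
def ucsIn {P : Subgroup Ω} (hPS : P ≤ S) (i : ℕ) : Subgroup P :=
  (Subgroup.upperCentralSeries S i).comap (Subgroup.inclusion hPS)

theorem mem_ucsIn {P : Subgroup Ω} (hPS : P ≤ S) (i : ℕ) (x : P) :
    x ∈ ucsIn hPS i ↔ (⟨(x : Ω), hPS x.2⟩ : S) ∈ Subgroup.upperCentralSeries S i := Iff.rfl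

theorem ucsIn_zero {P : Subgroup Ω} (hPS : P ≤ S) : ucsIn hPS 0 = ⊥ := by
  ext x
  rw [mem_ucsIn, Subgroup.upperCentralSeries_zero, Subgroup.mem_bot, Subgroup.mem_bot]
  constructor
  · intro h
    exact Subtype.ext (congrArg (fun z : S => (z : Ω)) h)
  · intro h
    apply Subtype.ext
    exact congrArg (fun z : P => (z : Ω)) h

theorem ucsIn_mono {P : Subgroup Ω} (hPS : P ≤ S) (i : ℕ) : ucsIn hPS i ≤ ucsIn hPS (i + 1) := by
  intro x hx
  exact Subgroup.upperCentralSeries_mono S (Nat.le_succ i) hx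

theorem exists_ucsIn_eq_top [Finite S] {p : ℕ} [Fact p.Prime] (hS : IsPGroup p S)
    {P : Subgroup Ω} (hPS : P ≤ S) : ∃ n : ℕ, ucsIn hPS n = ⊤ := by
  haveI : Group.IsNilpotent S := hS.isNilpotent
  obtain ⟨n, hn⟩ := (Group.isNilpotent_iff (G := S)).mp inferInstance
  refine ⟨n, ?_⟩
  rw [eq_top_iff]
  intro x _
  rw [mem_ucsIn, hn]
  exact Subgroup.mem_top _

/-- Conjugation by an element of `S` normalizing `P` acts trivially on the factors. -/
theorem conj_mul_inv_mem_ucsIn {P : Subgroup Ω} (hPS : P ≤ S) (i : ℕ) {t : Ω} (ht : t ∈ S)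
    (x y : P) (hy : (y : Ω) = t * (x : Ω) * t⁻¹) (hx : x ∈ ucsIn hPS (i + 1)) :
    y * x⁻¹ ∈ ucsIn hPS i := by
  rw [mem_ucsIn] at hx ⊢
  have h1 := (Subgroup.mem_upperCentralSeries_succ_iff.mp hx) ⟨t, ht⟩
  have h2 := (Subgroup.upperCentralSeries S i).inv_mem h1
  have e : (⟨((y * x⁻¹ : P) : Ω), hPS (y * x⁻¹).2⟩ : S) =
      ⁅(⟨(x : Ω), hPS x.2⟩ : S), ⟨t, ht⟩⁆⁻¹ := by
    apply Subtype.ext
    rw [commutatorElement_def]
    simp only [Subgroup.coe_mul, InvMemClass.coe_inv, hy]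
    group
  rw [e]; exact h2

/-- A map of the system defined on `A ⊔ S` and mapping `S` onto `S` preserves the upper central
series of `S`. -/
theorem map_mem_ucs_of_normalizing [Finite S] (F : FusionSystem S) {A : Subgroup Ω}
    (ψ : ↥(A ⊔ S) →* Ω) (hψ : ψ ∈ F.Hom (A ⊔ S))
    (hmap : (S.subgroupOf (A ⊔ S)).map ψ = S) (i : ℕ) (s : Ω) (hs : s ∈ S)
    (hsZ : (⟨s, hs⟩ : S) ∈ Subgroup.upperCentralSeries S i) :
    ∃ h : ψ ⟨s, (le_sup_right : S ≤ A ⊔ S) hs⟩ ∈ S,
      (⟨ψ ⟨s, (le_sup_right : S ≤ A ⊔ S) hs⟩, h⟩ : S) ∈ Subgroup.upperCentralSeries S i := by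
  have hin : ∀ u : S, ψ (Subgroup.inclusion (le_sup_right : S ≤ A ⊔ S) u) ∈ S := by
    intro u
    have : ψ (Subgroup.inclusion (le_sup_right : S ≤ A ⊔ S) u) ∈
        (S.subgroupOf (A ⊔ S)).map ψ :=
      Subgroup.mem_map_of_mem ψ (Subgroup.mem_subgroupOf.mpr u.2)
    rw [hmap] at this
    exact this
  let e₀ : S →* S :=
    (ψ.comp (Subgroup.inclusion (le_sup_right : S ≤ A ⊔ S))).codRestrict S hin
  have hinj : Function.Injective e₀ := by
    intro a b hab
    have h1 : ψ (Subgroup.inclusion (le_sup_right : S ≤ A ⊔ S) a) =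
        ψ (Subgroup.inclusion (le_sup_right : S ≤ A ⊔ S) b) := congrArg Subtype.val hab
    have h2 := F.injective_of_mem hψ h1
    exact Subgroup.inclusion_injective _ h2
  have hbij : Function.Bijective e₀ := Finite.injective_iff_bijective.mp hinj
  let e : MulAut S := MulEquiv.ofBijective e₀ hbij
  have hchar : (Subgroup.upperCentralSeries S i).Characteristic := inferInstance
  have hmapZ := Subgroup.characteristic_iff_map_eq.mp hchar e
  refine ⟨hin ⟨s, hs⟩, ?_⟩
  have h3 : e ⟨s, hs⟩ ∈ (Subgroup.upperCentralSeries S i).map e.toMonoidHom :=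
    Subgroup.mem_map_of_mem _ hsZ
  rw [hmapZ] at h3
  exact h3

/-- **Consequence of the hypothesis.** If every map of the system between cyclic subgroups of the
hyperfocal subgroup of order `p` or `4` extends to an automorphism of `S`, then automorphisms of
`P` in the system preserve the trace of the upper central series on small elements of the
hyperfocal subgroup. -/
theorem aut_mem_ucsIn [Finite S] (F : FusionSystem S) (p : ℕ) [Fact p.Prime]
    (h : ∀ A B : Subgroup Ω, A ≤ (F.hyperfocalSubgroup p) → B ≤ (F.hyperfocalSubgroup p) →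
      IsCyclic ↥A → (Nat.card ↥A = p ∨ Nat.card ↥A = 4) → IsCyclic ↥B →
      (Nat.card ↥B = p ∨ Nat.card ↥B = 4) → F.homSet A B ⊆ F.normalizerHom S A)
    {P : Subgroup Ω} (hPS : P ≤ S) (g : MulAut P) (hg : g ∈ F.autGroup P) (x : P)
    (hxh : (x : Ω) ∈ F.hyperfocalSubgroup p) (hgxh : ((g x : P) : Ω) ∈ F.hyperfocalSubgroup p)
    (hxq : x ^ (if p = 2 then 4 else p) = 1) (i : ℕ) (hx : x ∈ ucsIn hPS i) :
    g x ∈ ucsIn hPS i := by
  by_cases hx1 : x = 1
  · rw [hx1, map_one]; exact Subgroup.one_mem _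
  have hgF : P.subtype.comp g.toMonoidHom ∈ F.Hom P := (mem_autGroup_iff F hPS g).mp hg
  have hxΩ1 : (x : Ω) ≠ 1 := fun h => hx1 (Subtype.ext h)
  have hgx1 : ((g x : P) : Ω) ≠ 1 := by
    intro h
    apply hx1
    have : g x = 1 := Subtype.ext h
    exact (MulEquiv.map_eq_one_iff g).mp this
  have hxq' : (x : Ω) ^ (if p = 2 then 4 else p) = 1 := by
    exact_mod_cast congrArg Subtype.val hxq
  have hgxq : ((g x : P) : Ω) ^ (if p = 2 then 4 else p) = 1 := by
    have : (g x) ^ (if p = 2 then 4 else p) = 1 := by rw [← map_pow, hxq, map_one]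
    exact_mod_cast congrArg Subtype.val this
  obtain ⟨φ, hφ, hφx⟩ := restrict_zpowers_mem F g hgF x
  have hA : Subgroup.zpowers (x : Ω) ≤ F.hyperfocalSubgroup p := by
    rw [Subgroup.zpowers_le]; exact hxh
  have hB : Subgroup.zpowers ((g x : P) : Ω) ≤ F.hyperfocalSubgroup p := by
    rw [Subgroup.zpowers_le]; exact hgxh
  have hin := h _ _ hA hB inferInstance (card_zpowers_of_pow hxΩ1 hxq') inferInstance
    (card_zpowers_of_pow hgx1 hgxq) hφ
  obtain ⟨-, -, -, ψ, hψ, hext, hmap⟩ := hin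
  obtain ⟨hmem, hZ⟩ := map_mem_ucs_of_normalizing F ψ hψ hmap i (x : Ω) (hPS x.2) hx
  have e1 : ψ ⟨(x : Ω), (le_sup_right : S ≤ Subgroup.zpowers (x : Ω) ⊔ S) (hPS x.2)⟩ =
      ((g x : P) : Ω) := by
    rw [← hφx, ← hext ⟨(x : Ω), Subgroup.mem_zpowers _⟩]
    rfl
  rw [mem_ucsIn]
  have e2 : (⟨((g x : P) : Ω), hPS (g x).2⟩ : S) =
      ⟨ψ ⟨(x : Ω), (le_sup_right : S ≤ Subgroup.zpowers (x : Ω) ⊔ S) (hPS x.2)⟩, hmem⟩ :=
    Subtype.ext e1.symm
  rw [e2]; exact hZ

end Cfsg.Agent.Helper3.HypCyclic
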