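import Mathlib

/-!
# Counting involution pairs whose product is conjugate to a self-centralizing element of odd prime order

`x` has odd prime order `p`, `C_G(x) = ⟨x⟩`, `t` is an involution inverting `x`.
* `isConj_of_isConj_mul`: if `s` is an involution and `s * s^y` is conjugate to `x` then `s ~ t`.
* `card_isConj_mul`: `#{y | t * t^y ~ x} = |C_G(t)|^2`.
-/

set_option autoImplicit false
set_option linter.unusedSectionVars false

namespace Cfsg.Agent.Helper3.InvCount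

variable {G : Type*} [Group G]

section basic

variable {p : ℕ} {x t : G}

theorem inv_eq_self (ht : t * t = 1) : t⁻¹ = t := inv_eq_of_mul_eq_one_left ht

/-- conjugation by `t` inverts every element of `⟨x⟩` -/
theorem conj_inv_of_mem (hinv : t * x * t⁻¹ = x⁻¹) {z : G} (hz : z ∈ Subgroup.zpowers x) :
    t * z * t⁻¹ = z⁻¹ := by
  obtain ⟨n, rfl⟩ := Subgroup.mem_zpowers_iff.mp hz
  have h1 : (MulAut.conj t) (x ^ n) = ((MulAut.conj t) x) ^ n := map_zpow _ _ _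
  simp only [MulAut.conj_apply] at h1
  rw [h1, hinv, inv_zpow]

/-- an element inverting `x` lies in the coset `t⟨x⟩` -/
theorem exists_of_inverts (hC : ∀ g : G, g * x = x * g → g ∈ Subgroup.zpowers x) (ht : t * t = 1)
    (hinv : t * x * t⁻¹ = x⁻¹) {u : G} (hu : u * x * u⁻¹ = x⁻¹) :
    ∃ z ∈ Subgroup.zpowers x, u = t * z := by
  have hti := inv_eq_self ht
  refine ⟨t⁻¹ * u, hC _ ?_, by group⟩
  have h1 : u * x = x⁻¹ * u := by rw [← hu]; group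
  have h3 : t * x⁻¹ = x * t := by
    have h := congrArg (fun g => g⁻¹ * t) hinv
    simp only [mul_inv_rev, inv_inv] at h
    rw [← h]; group
  calc t⁻¹ * u * x = t⁻¹ * (u * x) := by group
    _ = t⁻¹ * (x⁻¹ * u) := by rw [h1]
    _ = t * x⁻¹ * u := by rw [hti]; group
    _ = x * t * u := by rw [h3]
    _ = x * (t⁻¹ * u) := by rw [hti]; group

/-- square roots in `⟨x⟩` when `x` has odd order `p` -/
theorem exists_sqrt (hp2 : Odd p) (hx : orderOf x = p) {z : G} (hz : z ∈ Subgroup.zpowers x) :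
    ∃ z' ∈ Subgroup.zpowers x, z' * z' = z := by
  refine ⟨z ^ ((p + 1) / 2), Subgroup.pow_mem _ hz _, ?_⟩
  have hzp : z ^ p = 1 := by
    obtain ⟨n, rfl⟩ := Subgroup.mem_zpowers_iff.mp hz
    rw [← zpow_natCast, ← zpow_mul, mul_comm, zpow_mul, zpow_natCast, ← hx, pow_orderOf_eq_one,
      one_zpow]
  obtain ⟨k, hk⟩ := hp2
  have h1 : (p + 1) / 2 = k + 1 := by omega
  rw [h1, ← pow_add]
  have : k + 1 + (k + 1) = p + 1 := by omega
  rw [this, pow_succ, hzp, one_mul]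

/-- every element of `t⟨x⟩` is conjugate to `t` by an element of `⟨x⟩` -/
theorem exists_conj_eq (hp2 : Odd p) (hx : orderOf x = p) (ht : t * t = 1)
    (hinv : t * x * t⁻¹ = x⁻¹) {z : G} (hz : z ∈ Subgroup.zpowers x) :
    ∃ z' ∈ Subgroup.zpowers x, z'⁻¹ * t * z' = t * z := by
  obtain ⟨z', hz', hzz⟩ := exists_sqrt hp2 hx hz
  refine ⟨z', hz', ?_⟩
  have hti := inv_eq_self ht
  have h1 := conj_inv_of_mem hinv hz'
  have h2 : z'⁻¹ * t = t * z' := by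
    have : t * z' * t⁻¹ = z'⁻¹ := h1
    have h3 : z'⁻¹ * t = t * z' * t⁻¹ * t := by rw [this]
    rw [h3]; group
  rw [h2, mul_assoc, hzz]

end basic

variable [Finite G]

theorem isConj_of_isConj_mul {p : ℕ} (hp : p.Prime) (hp2 : p ≠ 2) {x t : G} (hx : orderOf x = p)
    (hC : ∀ g : G, g * x = x * g → g ∈ Subgroup.zpowers x) (ht : t * t = 1)
    (hinv : t * x * t⁻¹ = x⁻¹) {s y : G} (hs : s * s = 1)
    (h : IsConj (s * (y * s * y⁻¹)) x) : IsConj s t := by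
  have hodd : Odd p := hp.odd_of_ne_two hp2
  obtain ⟨c, hc⟩ := isConj_iff.mp h
  have hsi := inv_eq_self hs
  -- `s` inverts `w = s * s^y`
  have hw : s * (s * (y * s * y⁻¹)) * s⁻¹ = (s * (y * s * y⁻¹))⁻¹ := by
    have h1 : (y * s * y⁻¹)⁻¹ = y * s * y⁻¹ := by
      rw [mul_inv_rev, mul_inv_rev, inv_inv, hsi, mul_assoc]
    rw [mul_inv_rev, h1, hsi, ← mul_assoc s s, hs, one_mul]
  -- `u = c s c⁻¹` inverts `x`
  have hu : (c * s * c⁻¹) * x * (c * s * c⁻¹)⁻¹ = x⁻¹ := by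
    rw [← hc]
    have : (c * (s * (y * s * y⁻¹)) * c⁻¹)⁻¹ = c * (s * (y * s * y⁻¹))⁻¹ * c⁻¹ := by group
    rw [this, ← hw]; group
  obtain ⟨z, hz, huz⟩ := exists_of_inverts hC ht hinv hu
  obtain ⟨z', _, hz'⟩ := exists_conj_eq hodd hx ht hinv hz
  -- s ~ c s c⁻¹ = t z = z'⁻¹ t z' ~ t
  have h1 : IsConj s (c * s * c⁻¹) := isConj_iff.mpr ⟨c, rfl⟩
  have h2 : IsConj t (t * z) := isConj_iff.mpr ⟨z'⁻¹, by rw [inv_inv]; exact hz'⟩
  rw [huz] at h1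
  exact h1.trans h2.symm

section count

variable {p : ℕ} {x t : G}

/-- freeness: an element of `C_G(t)` centralizing `x` is trivial -/
theorem eq_one_of_comm (hp2 : Odd p) (hx : orderOf x = p)
    (hC : ∀ g : G, g * x = x * g → g ∈ Subgroup.zpowers x)
    (hinv : t * x * t⁻¹ = x⁻¹) {c : G} (hct : t * c = c * t) (hcx : c * x = x * c) : c = 1 := by
  have hcX := hC c hcx
  have h1 := conj_inv_of_mem hinv hcX
  have h2 : t * c * t⁻¹ = c := by rw [hct]; group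
  have h3 : c = c⁻¹ := h2.symm.trans h1
  have h4 : c ^ 2 = 1 := by
    rw [pow_two]
    nth_rewrite 2 [h3]
    exact mul_inv_cancel c
  have h5 : c ^ p = 1 := by
    obtain ⟨n, rfl⟩ := Subgroup.mem_zpowers_iff.mp hcX
    rw [← zpow_natCast, ← zpow_mul, mul_comm, zpow_mul, zpow_natCast, ← hx, pow_orderOf_eq_one,
      one_zpow]
  have h6 : orderOf c ∣ Nat.gcd 2 p := Nat.dvd_gcd (orderOf_dvd_of_pow_eq_one h4)
    (orderOf_dvd_of_pow_eq_one h5)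
  have h7 : Nat.gcd 2 p = 1 := by
    have : Nat.Coprime 2 p := Nat.coprime_two_left.mpr hp2
    exact this
  rw [h7, Nat.dvd_one, orderOf_eq_one_iff] at h6
  exact h6

/-- transitivity: a conjugate of `x` inverted by `t` is conjugate to `x` under `C_G(t)` -/
theorem exists_centralizer_conj (hp2 : Odd p) (hx : orderOf x = p)
    (hC : ∀ g : G, g * x = x * g → g ∈ Subgroup.zpowers x) (ht : t * t = 1)
    (hinv : t * x * t⁻¹ = x⁻¹) {w : G} (hw : IsConj w x) (hwt : t * w * t⁻¹ = w⁻¹) :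
    ∃ c : G, t * c = c * t ∧ c * x * c⁻¹ = w := by
  obtain ⟨g, hg⟩ := isConj_iff.mp hw.symm
  -- `g x g⁻¹ = w`; `g⁻¹ t g` inverts `x`
  have hu : (g⁻¹ * t * g) * x * (g⁻¹ * t * g)⁻¹ = x⁻¹ := by
    have h1 : x = g⁻¹ * w * g := by rw [← hg]; group
    have h2 : (g⁻¹ * t * g) * x * (g⁻¹ * t * g)⁻¹ = g⁻¹ * (t * w * t⁻¹) * g := by
      nth_rewrite 1 [h1]; group
    rw [h2, hwt, h1]; group
  obtain ⟨z, hz, huz⟩ := exists_of_inverts hC ht hinv hu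
  obtain ⟨z', hz'X, hz'⟩ := exists_conj_eq hp2 hx ht hinv hz
  have hz'x : z' * x = x * z' := by
    obtain ⟨n, rfl⟩ := Subgroup.mem_zpowers_iff.mp hz'X
    exact ((Commute.refl x).zpow_left n).eq
  refine ⟨g * z'⁻¹, ?_, ?_⟩
  · -- (g z'⁻¹) t (g z'⁻¹)⁻¹ = t
    have h1 : g⁻¹ * t * g = z'⁻¹ * t * z' := by rw [huz, hz']
    have h2 : t = g * (z'⁻¹ * t * z') * g⁻¹ := by rw [← h1]; group
    have h3 : (g * z'⁻¹) * t * (g * z'⁻¹)⁻¹ = t := by
      nth_rewrite 2 [h2]; group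
    calc t * (g * z'⁻¹) = ((g * z'⁻¹) * t * (g * z'⁻¹)⁻¹) * (g * z'⁻¹) := by rw [h3]
      _ = g * z'⁻¹ * t := by group
  · have h1 : z'⁻¹ * x * z' = x := by
      calc z'⁻¹ * x * z' = z'⁻¹ * (x * z') := by group
        _ = z'⁻¹ * (z' * x) := by rw [hz'x]
        _ = x := by group
    calc g * z'⁻¹ * x * (g * z'⁻¹)⁻¹ = g * (z'⁻¹ * x * z') * g⁻¹ := by group
      _ = w := by rw [h1, hg]

end count

theorem card_isConj_mul {p : ℕ} (hp : p.Prime) (hp2 : p ≠ 2) {x t : G} (hx : orderOf x = p)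
    (hC : ∀ g : G, g * x = x * g → g ∈ Subgroup.zpowers x) (ht : t * t = 1)
    (hinv : t * x * t⁻¹ = x⁻¹) :
    Nat.card {y : G // IsConj (t * (y * t * y⁻¹)) x} =
      Nat.card (Subgroup.centralizer ({t} : Set G)) ^ 2 := by
  have hodd : Odd p := hp.odd_of_ne_two hp2
  have hti := inv_eq_self ht
  have hmemC : ∀ c : G, c ∈ Subgroup.centralizer ({t} : Set G) ↔ t * c = c * t := fun c =>
    Subgroup.mem_centralizer_singleton_iff.trans eq_comm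
  -- the base point `y₀` with `y₀ t y₀⁻¹ = t x`
  obtain ⟨z', hz'X, hz'⟩ := exists_conj_eq hodd hx ht hinv (Subgroup.mem_zpowers x)
  -- key computation
  have key : ∀ c₁ c₂ : G, t * c₁ = c₁ * t → t * c₂ = c₂ * t →
      t * ((c₁ * z'⁻¹ * c₂) * t * (c₁ * z'⁻¹ * c₂)⁻¹) = c₁ * x * c₁⁻¹ := by
    intro c₁ c₂ h1 h2
    have h3 : c₂ * t * c₂⁻¹ = t := by rw [← h2]; group
    have h4 : (c₁ * z'⁻¹ * c₂) * t * (c₁ * z'⁻¹ * c₂)⁻¹
        = c₁ * (z'⁻¹ * (c₂ * t * c₂⁻¹) * z') * c₁⁻¹ := by group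
    rw [h4, h3, hz']
    calc t * (c₁ * (t * x) * c₁⁻¹) = (t * c₁) * t * x * c₁⁻¹ := by group
      _ = c₁ * (t * t) * x * c₁⁻¹ := by rw [h1]; group
      _ = c₁ * x * c₁⁻¹ := by rw [ht]; group
  let Φ : (Subgroup.centralizer ({t} : Set G)) × (Subgroup.centralizer ({t} : Set G)) →
      {y : G // IsConj (t * (y * t * y⁻¹)) x} := fun cc =>
    ⟨(cc.1 : G) * z'⁻¹ * (cc.2 : G), by
      rw [key _ _ ((hmemC _).mp cc.1.2) ((hmemC _).mp cc.2.2)]
      exact isConj_iff.mpr ⟨(cc.1 : G)⁻¹, by group⟩⟩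
  have hΦ : Function.Bijective Φ := by
    constructor
    · rintro ⟨⟨c₁, hc₁⟩, ⟨c₂, hc₂⟩⟩ ⟨⟨d₁, hd₁⟩, ⟨d₂, hd₂⟩⟩ he
      have he' : c₁ * z'⁻¹ * c₂ = d₁ * z'⁻¹ * d₂ := congrArg Subtype.val he
      have hc₁' := (hmemC _).mp hc₁
      have hc₂' := (hmemC _).mp hc₂
      have hd₁' := (hmemC _).mp hd₁
      have hd₂' := (hmemC _).mp hd₂
      have k1 := key c₁ c₂ hc₁' hc₂'
      have k2 := key d₁ d₂ hd₁' hd₂'
      rw [he'] at k1
      have h3 : c₁ * x * c₁⁻¹ = d₁ * x * d₁⁻¹ := k1.symm.trans k2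
      have h4 : (d₁⁻¹ * c₁) * x = x * (d₁⁻¹ * c₁) := by
        calc (d₁⁻¹ * c₁) * x = d₁⁻¹ * (c₁ * x * c₁⁻¹) * c₁ := by group
          _ = d₁⁻¹ * (d₁ * x * d₁⁻¹) * c₁ := by rw [h3]
          _ = x * (d₁⁻¹ * c₁) := by group
      have h5 : t * (d₁⁻¹ * c₁) = (d₁⁻¹ * c₁) * t := by
        have h6 : t * d₁⁻¹ = d₁⁻¹ * t := by
          calc t * d₁⁻¹ = d₁⁻¹ * (d₁ * t) * d₁⁻¹ := by group
            _ = d₁⁻¹ * (t * d₁) * d₁⁻¹ := by rw [hd₁']
            _ = d₁⁻¹ * t := by group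
        calc t * (d₁⁻¹ * c₁) = (t * d₁⁻¹) * c₁ := by group
          _ = d₁⁻¹ * (t * c₁) := by rw [h6]; group
          _ = (d₁⁻¹ * c₁) * t := by rw [hc₁']; group
      have h7 := eq_one_of_comm hodd hx hC hinv h5 h4
      have h8 : c₁ = d₁ := by
        have : c₁ = d₁ * (d₁⁻¹ * c₁) := by group
        rw [this, h7, mul_one]
      subst h8
      have h9 : c₂ = d₂ := by
        have := he'
        rw [mul_assoc, mul_assoc] at this
        exact mul_left_cancel (mul_left_cancel this)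
      subst h9
      rfl
    · rintro ⟨y, hy⟩
      -- `w = t * (y t y⁻¹)` is inverted by `t`
      have hwt : t * (t * (y * t * y⁻¹)) * t⁻¹ = (t * (y * t * y⁻¹))⁻¹ := by
        have h1 : (y * t * y⁻¹)⁻¹ = y * t * y⁻¹ := by
          rw [mul_inv_rev, mul_inv_rev, inv_inv, hti, mul_assoc]
        rw [mul_inv_rev, h1, hti, ← mul_assoc t t, ht, one_mul]
      obtain ⟨c₁, hc₁, hcw⟩ := exists_centralizer_conj hodd hx hC ht hinv hy hwt
      -- `c₂ = (c₁ z'⁻¹)⁻¹ y` centralizes `t`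
      have h1 : t * (c₁ * x * c₁⁻¹) = y * t * y⁻¹ := by
        rw [hcw, ← mul_assoc, ht, one_mul]
      have h2 : (c₁ * z'⁻¹) * t * (c₁ * z'⁻¹)⁻¹ = t * (c₁ * x * c₁⁻¹) := by
        have h3 : (c₁ * z'⁻¹) * t * (c₁ * z'⁻¹)⁻¹ = c₁ * (z'⁻¹ * t * z') * c₁⁻¹ := by group
        rw [h3, hz']
        calc c₁ * (t * x) * c₁⁻¹ = (c₁ * t) * x * c₁⁻¹ := by group
          _ = t * (c₁ * x * c₁⁻¹) := by rw [← hc₁]; group
      have h4 : (c₁ * z'⁻¹) * t * (c₁ * z'⁻¹)⁻¹ = y * t * y⁻¹ := h2.trans h1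
      have h5 : t * ((c₁ * z'⁻¹)⁻¹ * y) = ((c₁ * z'⁻¹)⁻¹ * y) * t := by
        have h6 : t = (c₁ * z'⁻¹)⁻¹ * (y * t * y⁻¹) * (c₁ * z'⁻¹) := by rw [← h4]; group
        calc t * ((c₁ * z'⁻¹)⁻¹ * y)
            = ((c₁ * z'⁻¹)⁻¹ * (y * t * y⁻¹) * (c₁ * z'⁻¹)) * ((c₁ * z'⁻¹)⁻¹ * y) := by rw [← h6]
          _ = ((c₁ * z'⁻¹)⁻¹ * y) * t := by group
      refine ⟨⟨⟨c₁, (hmemC _).mpr hc₁⟩, ⟨(c₁ * z'⁻¹)⁻¹ * y, (hmemC _).mpr h5⟩⟩, ?_⟩
      apply Subtype.ext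
      show c₁ * z'⁻¹ * ((c₁ * z'⁻¹)⁻¹ * y) = y
      group
  rw [← Nat.card_congr (Equiv.ofBijective Φ hΦ), Nat.card_prod, pow_two]

end Cfsg.Agent.Helper3.InvCount
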