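import Mathlib
import Cfsg.Agent.S0572

set_option autoImplicit false

/-! Products of two abelian subgroups (Itô): a nontrivial normal subgroup inside a factor. -/

namespace Cfsg.Agent.Helper3

open scoped commutatorElement

universe u

section

variable {G : Type u} [Group G]

theorem ito_comm_of_mem {A : Subgroup G} [IsMulCommutative A] {x y : G} (hx : x ∈ A) (hy : y ∈ A) :
    x * y = y * x := Cfsg.Agent.S0572.comm_of_mem hx hy

/-- The centre of a product of two abelian subgroups is factorized. -/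
theorem mem_center_of_mul_mem_center (A B : Subgroup G) [IsMulCommutative A] [IsMulCommutative B]
    (hAB : ∀ g : G, ∃ a ∈ A, ∃ b ∈ B, g = a * b) {a b : G} (ha : a ∈ A) (hb : b ∈ B)
    (hz : a * b ∈ Subgroup.center G) : a ∈ Subgroup.center G ∧ b ∈ Subgroup.center G := by
  have hzc : ∀ g : G, g * (a * b) = (a * b) * g := fun g => Subgroup.mem_center_iff.mp hz g
  have haB : ∀ b' ∈ B, a * b' = b' * a := by
    intro b' hb'
    have h1 : b⁻¹ * b' = b' * b⁻¹ := ito_comm_of_mem (B.inv_mem hb) hb'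
    calc a * b' = (a * b) * (b⁻¹ * b') := by group
      _ = (a * b) * (b' * b⁻¹) := by rw [h1]
      _ = ((a * b) * b') * b⁻¹ := by group
      _ = (b' * (a * b)) * b⁻¹ := by rw [hzc b']
      _ = b' * a := by group
  have hac : a ∈ Subgroup.center G := by
    rw [Subgroup.mem_center_iff]
    intro g
    obtain ⟨a', ha', b', hb', rfl⟩ := hAB g
    calc a' * b' * a = a' * (b' * a) := by group
      _ = a' * (a * b') := by rw [haB b' hb']
      _ = (a' * a) * b' := by group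
      _ = (a * a') * b' := by rw [ito_comm_of_mem ha' ha]
      _ = a * (a' * b') := by group
  refine ⟨hac, ?_⟩
  have : b = a⁻¹ * (a * b) := by group
  rw [this]
  exact Subgroup.mul_mem _ (Subgroup.inv_mem _ hac) hz

theorem commutator_isMulCommutative (A B : Subgroup G) [IsMulCommutative A] [IsMulCommutative B]
    (hAB : ∀ g : G, ∃ a ∈ A, ∃ b ∈ B, g = a * b) {u v : G} (hu : u ∈ commutator G)
    (hv : v ∈ commutator G) : u * v = v * u := by
  have h := Cfsg.Agent.S0572.result A B hAB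
  rw [derivedSeries_succ, derivedSeries_one, Subgroup.commutator_eq_bot_iff_le_centralizer] at h
  exact (h hu v hv).symm

theorem ito_rel (A B : Subgroup G) [IsMulCommutative A] [IsMulCommutative B] (V : Subgroup G)
    [hVn : V.Normal] (hVc : ∀ u ∈ V, ∀ v ∈ V, u * v = v * u) {a y v v' : G} (ha : a ∈ A)
    (hy : y ∈ A) (hv : v ∈ V) (hv' : v' ∈ V) (hb : a⁻¹ * v ∈ B) (hb' : y⁻¹ * v' ∈ B) :
    y * v * y⁻¹ * v⁻¹ = a * v' * a⁻¹ * v'⁻¹ := by
  have h1 : (a⁻¹ * v) * (y⁻¹ * v') = (y⁻¹ * v') * (a⁻¹ * v) := ito_comm_of_mem hb hb'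
  have h2 : y * a = a * y := ito_comm_of_mem hy ha
  have E1 : y * v * y⁻¹ * v' = a * v' * a⁻¹ * v := by
    calc y * v * y⁻¹ * v' = (y * a) * ((a⁻¹ * v) * (y⁻¹ * v')) := by group
      _ = (a * y) * ((y⁻¹ * v') * (a⁻¹ * v)) := by rw [h1, h2]
      _ = a * v' * a⁻¹ * v := by group
  have hp : y * v * y⁻¹ ∈ V := hVn.conj_mem v hv y
  have hq : a * v' * a⁻¹ ∈ V := hVn.conj_mem v' hv' a
  have h3 : v * v'⁻¹ = v'⁻¹ * v := hVc v hv v'⁻¹ (V.inv_mem hv')
  calc y * v * y⁻¹ * v⁻¹ = (y * v * y⁻¹ * v') * (v'⁻¹ * v⁻¹) := by group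
    _ = (a * v' * a⁻¹ * v) * (v'⁻¹ * v⁻¹) := by rw [E1]
    _ = a * v' * a⁻¹ * (v * v'⁻¹) * v⁻¹ := by group
    _ = a * v' * a⁻¹ * (v'⁻¹ * v) * v⁻¹ := by rw [h3]
    _ = a * v' * a⁻¹ * v'⁻¹ := by group

/-- The subgroup `[V, a]` of an abelian normal subgroup `V`. -/
def commSubgroup (V : Subgroup G) [hVn : V.Normal] (hVc : ∀ u ∈ V, ∀ v ∈ V, u * v = v * u)
    (a : G) : Subgroup G where
  carrier := {u | ∃ v' ∈ V, u = a * v' * a⁻¹ * v'⁻¹}
  one_mem' := ⟨1, V.one_mem, by group⟩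
  mul_mem' := by
    rintro _ _ ⟨v₁, hv₁, rfl⟩ ⟨v₂, hv₂, rfl⟩
    refine ⟨v₁ * v₂, V.mul_mem hv₁ hv₂, ?_⟩
    have h1 : v₁⁻¹ * (a * v₂ * a⁻¹) = (a * v₂ * a⁻¹) * v₁⁻¹ :=
      hVc _ (V.inv_mem hv₁) _ (hVn.conj_mem v₂ hv₂ a)
    have h2 : v₁⁻¹ * v₂⁻¹ = v₂⁻¹ * v₁⁻¹ := hVc _ (V.inv_mem hv₁) _ (V.inv_mem hv₂)
    calc a * v₁ * a⁻¹ * v₁⁻¹ * (a * v₂ * a⁻¹ * v₂⁻¹)
        = a * v₁ * a⁻¹ * (v₁⁻¹ * (a * v₂ * a⁻¹)) * v₂⁻¹ := by group
      _ = a * v₁ * a⁻¹ * ((a * v₂ * a⁻¹) * v₁⁻¹) * v₂⁻¹ := by rw [h1]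
      _ = a * (v₁ * v₂) * a⁻¹ * (v₁⁻¹ * v₂⁻¹) := by group
      _ = a * (v₁ * v₂) * a⁻¹ * (v₂⁻¹ * v₁⁻¹) := by rw [h2]
      _ = a * (v₁ * v₂) * a⁻¹ * (v₁ * v₂)⁻¹ := by group
  inv_mem' := by
    rintro _ ⟨v₁, hv₁, rfl⟩
    refine ⟨v₁⁻¹, V.inv_mem hv₁, ?_⟩
    have h1 : v₁ * (a * v₁⁻¹ * a⁻¹) = (a * v₁⁻¹ * a⁻¹) * v₁ :=
      hVc _ hv₁ _ (hVn.conj_mem _ (V.inv_mem hv₁) a)
    calc (a * v₁ * a⁻¹ * v₁⁻¹)⁻¹ = v₁ * (a * v₁⁻¹ * a⁻¹) := by group
      _ = (a * v₁⁻¹ * a⁻¹) * v₁ := h1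
      _ = a * v₁⁻¹ * a⁻¹ * v₁⁻¹⁻¹ := by group

theorem mem_commSubgroup {V : Subgroup G} [hVn : V.Normal]
    {hVc : ∀ u ∈ V, ∀ v ∈ V, u * v = v * u} {a u : G} :
    u ∈ commSubgroup V hVc a ↔ ∃ v' ∈ V, u = a * v' * a⁻¹ * v'⁻¹ := Iff.rfl

theorem commSubgroup_le {V : Subgroup G} [hVn : V.Normal]
    (hVc : ∀ u ∈ V, ∀ v ∈ V, u * v = v * u) (a : G) : commSubgroup V hVc a ≤ V := by
  rintro _ ⟨v', hv', rfl⟩
  exact V.mul_mem (hVn.conj_mem v' hv' a) (V.inv_mem hv')

/-- If `G = AB` with `A`, `B` abelian and `G = A G' = B G'`, then `G` is abelian. -/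
theorem commutator_eq_bot_of_sup_commutator_eq_top [Finite G] (A B : Subgroup G)
    [IsMulCommutative A] [IsMulCommutative B] (hAB : ∀ g : G, ∃ a ∈ A, ∃ b ∈ B, g = a * b)
    (hA : A ⊔ commutator G = ⊤) (hB : B ⊔ commutator G = ⊤) : commutator G = ⊥ := by
  by_contra hV
  set V := commutator G with hVdef
  have hVn : V.Normal := inferInstance
  have hVc : ∀ u ∈ V, ∀ v ∈ V, u * v = v * u := fun u hu v hv =>
    commutator_isMulCommutative A B hAB hu hv
  obtain ⟨W, -, hWmax⟩ := Finite.exists_le_maximal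
    (p := fun N : Subgroup G => N.Normal ∧ N < V) (a := ⊥)
    ⟨inferInstance, bot_lt_iff_ne_bot.mpr hV⟩
  obtain ⟨⟨hWn, hWV⟩, hWmax'⟩ := hWmax
  have hdecA : ∀ g : G, ∃ a ∈ A, ∃ v ∈ V, g = a * v := by
    intro g
    have hg : g ∈ A ⊔ V := by rw [hA]; trivial
    obtain ⟨a, ha, v, hv, rfl⟩ := Subgroup.mem_sup_of_normal_right.mp hg
    exact ⟨a, ha, v, hv, rfl⟩
  have hdecB : ∀ g : G, ∃ b ∈ B, ∃ v ∈ V, g = b * v := by
    intro g
    have hg : g ∈ B ⊔ V := by rw [hB]; trivial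
    obtain ⟨b, hb, v, hv, rfl⟩ := Subgroup.mem_sup_of_normal_right.mp hg
    exact ⟨b, hb, v, hv, rfl⟩
  have key : ∀ v ∈ V, ∀ x ∈ A, x * v * x⁻¹ * v⁻¹ ∈ W := by
    intro v hv x hx
    by_contra hnot
    obtain ⟨a, ha, b, hb, hvab⟩ := hAB v
    have hbB : a⁻¹ * v ∈ B := by rw [hvab]; simpa using hb
    set U := commSubgroup V hVc a with hU
    have hUV : U ≤ V := commSubgroup_le hVc a
    -- `T_v ⊆ U`
    have hT : ∀ y ∈ A, y * v * y⁻¹ * v⁻¹ ∈ U := by
      intro y hy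
      obtain ⟨b', hb', u, hu, hyb⟩ := hdecB y⁻¹
      have hb'' : y⁻¹ * u⁻¹ ∈ B := by rw [hyb]; simpa using hb'
      exact ⟨u⁻¹, V.inv_mem hu, ito_rel A B V hVc ha hy hv (V.inv_mem hu) hbB hb''⟩
    -- `U ⊆ T_v`
    have hU' : ∀ u ∈ U, ∃ y ∈ A, u = y * v * y⁻¹ * v⁻¹ := by
      rintro _ ⟨v', hv', rfl⟩
      obtain ⟨y, hy, b', hb', hv'yb⟩ := hAB v'
      have hb'' : y⁻¹ * v' ∈ B := by rw [hv'yb]; simpa using hb'
      exact ⟨y, hy, (ito_rel A B V hVc ha hy hv hv' hbB hb'').symm⟩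
    have hUn : U.Normal := by
      constructor
      rintro _ ⟨v', hv', rfl⟩ g
      obtain ⟨a', ha', u', hu', rfl⟩ := hdecA g
      refine ⟨a' * v' * a'⁻¹, hVn.conj_mem v' hv' a', ?_⟩
      have hmem : a * v' * a⁻¹ * v'⁻¹ ∈ V :=
        V.mul_mem (hVn.conj_mem v' hv' a) (V.inv_mem hv')
      have h1 : u' * (a * v' * a⁻¹ * v'⁻¹) = (a * v' * a⁻¹ * v'⁻¹) * u' := hVc _ hu' _ hmem
      have h2 : a' * a = a * a' := ito_comm_of_mem ha' ha
      have h3 : a'⁻¹ * a⁻¹ = a⁻¹ * a'⁻¹ := ito_comm_of_mem (A.inv_mem ha') (A.inv_mem ha)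
      calc a' * u' * (a * v' * a⁻¹ * v'⁻¹) * (a' * u')⁻¹
          = a' * (u' * (a * v' * a⁻¹ * v'⁻¹)) * u'⁻¹ * a'⁻¹ := by group
        _ = a' * ((a * v' * a⁻¹ * v'⁻¹) * u') * u'⁻¹ * a'⁻¹ := by rw [h1]
        _ = (a' * a) * v' * (a⁻¹ * v'⁻¹ * a'⁻¹) := by group
        _ = (a * a') * v' * (a⁻¹ * v'⁻¹ * a'⁻¹) := by rw [h2]
        _ = a * a' * v' * (a'⁻¹ * (a' * a⁻¹)) * v'⁻¹ * a'⁻¹ := by group
        _ = a * a' * v' * (a'⁻¹ * (a⁻¹ * a')) * v'⁻¹ * a'⁻¹ := by
            rw [ito_comm_of_mem ha' (A.inv_mem ha)]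
        _ = a * (a' * v' * a'⁻¹) * a⁻¹ * (a' * v' * a'⁻¹)⁻¹ := by group
    have hsupn : (U ⊔ W).Normal := Subgroup.sup_normal U W
    have hsup_le : U ⊔ W ≤ V := sup_le hUV hWV.le
    have hsup_eq : U ⊔ W = V := by
      by_contra hne
      have hlt : U ⊔ W < V := lt_of_le_of_ne hsup_le hne
      have hle : U ⊔ W ≤ W := hWmax' ⟨hsupn, hlt⟩ le_sup_right
      exact hnot (hle (le_sup_left (a := U) (hT x hx)))
    have hvinv : v⁻¹ ∈ U ⊔ W := by rw [hsup_eq]; exact V.inv_mem hv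
    obtain ⟨u, hu, w, hw, huw⟩ := Subgroup.mem_sup_of_normal_right.mp hvinv
    obtain ⟨y, hy, rfl⟩ := hU' u hu
    have hp : y * v * y⁻¹ ∈ V := hVn.conj_mem v hv y
    have h4 : (y * v * y⁻¹) * v⁻¹ = v⁻¹ * (y * v * y⁻¹) := hVc _ hp _ (V.inv_mem hv)
    have h5 : y * v * y⁻¹ = w⁻¹ := by
      have h6 : v⁻¹ * ((y * v * y⁻¹) * w) = v⁻¹ := by
        calc v⁻¹ * ((y * v * y⁻¹) * w) = (v⁻¹ * (y * v * y⁻¹)) * w := by group
          _ = ((y * v * y⁻¹) * v⁻¹) * w := by rw [h4]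
          _ = y * v * y⁻¹ * v⁻¹ * w := by group
          _ = v⁻¹ := huw
      have h7 : (y * v * y⁻¹) * w = 1 := by
        have := congrArg (fun t => v * t) h6
        simpa using this
      exact eq_inv_of_mul_eq_one_left h7
    have hvW : v ∈ W := by
      have h8 : y * v * y⁻¹ ∈ W := by rw [h5]; exact W.inv_mem hw
      have h9 := hWn.conj_mem _ h8 y⁻¹
      have h10 : y⁻¹ * (y * v * y⁻¹) * y⁻¹⁻¹ = v := by group
      rwa [h10] at h9
    exact hnot (W.mul_mem (hWn.conj_mem v hvW x) (W.inv_mem hvW))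
  -- hence `G / W` is abelian
  have hcV : ∀ v ∈ V, ∀ g : G, g * v * g⁻¹ * v⁻¹ ∈ W := by
    intro v hv g
    obtain ⟨x, hx, u, hu, rfl⟩ := hdecA g
    have h1 : u * v = v * u := hVc u hu v hv
    have : x * u * v * (x * u)⁻¹ * v⁻¹ = x * v * x⁻¹ * v⁻¹ := by
      calc x * u * v * (x * u)⁻¹ * v⁻¹ = x * (u * v) * u⁻¹ * x⁻¹ * v⁻¹ := by group
        _ = x * (v * u) * u⁻¹ * x⁻¹ * v⁻¹ := by rw [h1]
        _ = x * v * x⁻¹ * v⁻¹ := by group
    rw [this]
    exact key v hv x hx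
  have hcenV : ∀ v ∈ V, (QuotientGroup.mk' W v) ∈ Subgroup.center (G ⧸ W) := by
    intro v hv
    rw [Subgroup.mem_center_iff]
    intro q
    obtain ⟨g, rfl⟩ := QuotientGroup.mk'_surjective W q
    have h1 : QuotientGroup.mk' W (g * v * g⁻¹ * v⁻¹) = 1 := by
      rw [QuotientGroup.mk'_apply, QuotientGroup.eq_one_iff]; exact hcV v hv g
    rw [map_mul, map_mul, map_mul, map_inv, map_inv] at h1
    calc QuotientGroup.mk' W g * QuotientGroup.mk' W v
        = (QuotientGroup.mk' W g * QuotientGroup.mk' W v * (QuotientGroup.mk' W g)⁻¹ *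
            (QuotientGroup.mk' W v)⁻¹) * (QuotientGroup.mk' W v * QuotientGroup.mk' W g) := by
          group
      _ = QuotientGroup.mk' W v * QuotientGroup.mk' W g := by rw [h1, one_mul]
  have hcomm : IsMulCommutative (G ⧸ W) := by
    refine ⟨⟨fun p q => ?_⟩⟩
    obtain ⟨g₁, rfl⟩ := QuotientGroup.mk'_surjective W p
    obtain ⟨g₂, rfl⟩ := QuotientGroup.mk'_surjective W q
    obtain ⟨a₁, ha₁, v₁, hv₁, rfl⟩ := hdecA g₁
    obtain ⟨a₂, ha₂, v₂, hv₂, rfl⟩ := hdecA g₂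
    have c1 := Subgroup.mem_center_iff.mp (hcenV v₁ hv₁)
    have c2 := Subgroup.mem_center_iff.mp (hcenV v₂ hv₂)
    have c3 : QuotientGroup.mk' W a₁ * QuotientGroup.mk' W a₂ =
        QuotientGroup.mk' W a₂ * QuotientGroup.mk' W a₁ := by
      rw [← map_mul, ← map_mul, ito_comm_of_mem ha₁ ha₂]
    rw [map_mul, map_mul]
    calc QuotientGroup.mk' W a₁ * QuotientGroup.mk' W v₁ *
          (QuotientGroup.mk' W a₂ * QuotientGroup.mk' W v₂)
        = QuotientGroup.mk' W a₁ * (QuotientGroup.mk' W v₁ * QuotientGroup.mk' W a₂) *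
            QuotientGroup.mk' W v₂ := by group
      _ = QuotientGroup.mk' W a₁ * (QuotientGroup.mk' W a₂ * QuotientGroup.mk' W v₁) *
            QuotientGroup.mk' W v₂ := by rw [← c1]
      _ = (QuotientGroup.mk' W a₁ * QuotientGroup.mk' W a₂) *
            (QuotientGroup.mk' W v₁ * QuotientGroup.mk' W v₂) := by group
      _ = (QuotientGroup.mk' W a₂ * QuotientGroup.mk' W a₁) *
            (QuotientGroup.mk' W v₂ * QuotientGroup.mk' W v₁) := by rw [c3, c2]
      _ = QuotientGroup.mk' W a₂ * (QuotientGroup.mk' W a₁ * QuotientGroup.mk' W v₂) *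
            QuotientGroup.mk' W v₁ := by group
      _ = QuotientGroup.mk' W a₂ * (QuotientGroup.mk' W v₂ * QuotientGroup.mk' W a₁) *
            QuotientGroup.mk' W v₁ := by rw [c2]
      _ = QuotientGroup.mk' W a₂ * QuotientGroup.mk' W v₂ *
          (QuotientGroup.mk' W a₁ * QuotientGroup.mk' W v₁) := by group
  have hle : V ≤ W := Subgroup.Normal.quotient_commutative_iff_commutator_le.mp hcomm
  exact (lt_irrefl W) (lt_of_lt_of_le hWV hle)

theorem normal_of_le_center' {N : Subgroup G} (h : N ≤ Subgroup.center G) : N.Normal := by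
  constructor
  intro n hn g
  have h1 : g * n = n * g := Subgroup.mem_center_iff.mp (h hn) g
  rw [h1, mul_inv_cancel_right]
  exact hn

end

/-- Inductive step for Itô's theorem: the case `A G' ≠ G`. -/
theorem ito_step {G : Type u} [Group G] [Finite G] [Nontrivial G]
    (ih : ∀ (K : Type u) [Group K] [Finite K] [Nontrivial K], Nat.card K < Nat.card G →
      ∀ (A B : Subgroup K) [IsMulCommutative A] [IsMulCommutative B],
      (∀ g : K, ∃ a ∈ A, ∃ b ∈ B, g = a * b) →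
      ∃ N : Subgroup K, N.Normal ∧ N ≠ ⊥ ∧ (N ≤ A ∨ N ≤ B))
    (A B : Subgroup G) [IsMulCommutative A] [IsMulCommutative B]
    (hAB : ∀ g : G, ∃ a ∈ A, ∃ b ∈ B, g = a * b) (hZ : Subgroup.center G = ⊥)
    (hAV : A ⊔ commutator G ≠ ⊤) :
    ∃ N : Subgroup G, N.Normal ∧ N ≠ ⊥ ∧ (N ≤ A ∨ N ≤ B) := by
  set V := commutator G with hVdef
  have hVn : V.Normal := inferInstance
  have hVc : ∀ u ∈ V, ∀ v ∈ V, u * v = v * u := fun u hu v hv =>
    commutator_isMulCommutative A B hAB hu hv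
  set K := A ⊔ V with hK
  have hKn : K.Normal := by
    constructor
    intro k hk g
    have h1 : ⁅g, k⁆ ∈ V := Subgroup.commutator_mem_commutator (Subgroup.mem_top g)
      (Subgroup.mem_top k)
    have h2 : g * k * g⁻¹ = ⁅g, k⁆ * k := by rw [commutatorElement_def]; group
    rw [h2]
    exact K.mul_mem ((le_sup_right : V ≤ K) h1) hk
  have hVne : V ≠ ⊥ := by
    intro hV
    have hcomm : ∀ g h : G, g * h = h * g := by
      intro g h
      have : ⁅g, h⁆ ∈ V := Subgroup.commutator_mem_commutator (Subgroup.mem_top g)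
        (Subgroup.mem_top h)
      rw [hV, Subgroup.mem_bot, commutatorElement_eq_one_iff_mul_comm] at this
      exact this
    obtain ⟨g, hg⟩ := exists_ne (1 : G)
    have : g ∈ Subgroup.center G := by
      rw [Subgroup.mem_center_iff]; intro h; exact hcomm h g
    rw [hZ, Subgroup.mem_bot] at this
    exact hg this
  have hKnt : Nontrivial K := by
    rw [Subgroup.nontrivial_iff_ne_bot]
    intro h
    apply hVne
    rw [eq_bot_iff, ← h]
    exact le_sup_right
  have hKcard : Nat.card K < Nat.card G := by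
    by_contra hcon
    exact hAV (Subgroup.eq_top_of_card_eq K (le_antisymm (Subgroup.card_le_card_group K)
      (not_lt.mp hcon)))
  have hAK : A ≤ K := le_sup_left
  -- factorization inside `K`
  have hfac : ∀ k : K, ∃ a ∈ A.subgroupOf K, ∃ b ∈ B.subgroupOf K, k = a * b := by
    intro k
    obtain ⟨a, ha, b, hb, hk⟩ := hAB (k : G)
    have hbK : b ∈ K := by
      have : b = a⁻¹ * (k : G) := by rw [hk]; group
      rw [this]
      exact K.mul_mem (K.inv_mem (hAK ha)) k.2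
    refine ⟨⟨a, hAK ha⟩, Subgroup.mem_subgroupOf.mpr ha, ⟨b, hbK⟩,
      Subgroup.mem_subgroupOf.mpr hb, Subtype.ext hk⟩
  obtain ⟨Y, hYn, hYne, hY⟩ := ih K hKcard (A.subgroupOf K) (B.subgroupOf K) hfac
  rcases hY with hYA | hYB
  · -- the centre of `K`
    refine ⟨(Subgroup.center K).map K.subtype, ConjAct.normal_of_characteristic_of_normal, ?_, ?_⟩
    · -- nontrivial
      have hcen : ∃ z : K, z ≠ 1 ∧ z ∈ Subgroup.center K := by
        by_cases hAVbot : A ⊓ V = ⊥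
        · obtain ⟨y, hy, hy1⟩ := (Subgroup.ne_bot_iff_exists_ne_one (H := Y)).mp hYne |>.imp
            (fun y hy => hy) |> fun ⟨y, hy⟩ => (⟨(y : K), y.2, fun h => hy (Subtype.ext h)⟩ :
              ∃ y : K, y ∈ Y ∧ y ≠ 1)
          refine ⟨y, hy1, ?_⟩
          have hyA : (y : G) ∈ A := Subgroup.mem_subgroupOf.mp (hYA hy)
          rw [Subgroup.mem_center_iff]
          intro k
          obtain ⟨a, ha, v, hv, hkav⟩ := Subgroup.mem_sup_of_normal_right.mp k.2
          -- `y` commutes with `v`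
          have hv' : v ∈ K := (le_sup_right : V ≤ K) hv
          have h1 : (y : G) * v * (y : G)⁻¹ * v⁻¹ ∈ A ⊓ V := by
            constructor
            · have h2 : (⟨v, hv'⟩ : K) * y⁻¹ * (⟨v, hv'⟩ : K)⁻¹ ∈ Y :=
                hYn.conj_mem _ (Y.inv_mem hy) _
              have h3 : y * ((⟨v, hv'⟩ : K) * y⁻¹ * (⟨v, hv'⟩ : K)⁻¹) ∈ Y := Y.mul_mem hy h2
              have h4 := Subgroup.mem_subgroupOf.mp (hYA h3)
              have h5 : ((y * ((⟨v, hv'⟩ : K) * y⁻¹ * (⟨v, hv'⟩ : K)⁻¹) : K) : G) =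
                  (y : G) * v * (y : G)⁻¹ * v⁻¹ := by
                simp [mul_assoc]
              rwa [h5] at h4
            · exact V.mul_mem (hVn.conj_mem v hv _) (V.inv_mem hv)
          rw [hAVbot, Subgroup.mem_bot] at h1
          have hyv : (y : G) * v = v * (y : G) := by
            calc (y : G) * v = ((y : G) * v * (y : G)⁻¹ * v⁻¹) * (v * (y : G)) := by group
              _ = v * (y : G) := by rw [h1, one_mul]
          have hya : (y : G) * a = a * (y : G) := ito_comm_of_mem hyA ha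
          apply Subtype.ext
          rw [Subgroup.coe_mul, Subgroup.coe_mul, ← hkav]
          calc a * v * (y : G) = a * (v * (y : G)) := by group
            _ = a * ((y : G) * v) := by rw [hyv]
            _ = (a * (y : G)) * v := by group
            _ = ((y : G) * a) * v := by rw [hya]
            _ = (y : G) * (a * v) := by group
        · obtain ⟨t, ht, ht1⟩ := (Subgroup.ne_bot_iff_exists_ne_one (H := A ⊓ V)).mp hAVbot |>
            fun ⟨t, ht⟩ => (⟨(t : G), t.2, fun h => ht (Subtype.ext h)⟩ :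
              ∃ t : G, t ∈ A ⊓ V ∧ t ≠ 1)
          have htK : t ∈ K := hAK ht.1
          refine ⟨⟨t, htK⟩, fun h => ht1 (congrArg Subtype.val h), ?_⟩
          rw [Subgroup.mem_center_iff]
          intro k
          obtain ⟨a, ha, v, hv, hkav⟩ := Subgroup.mem_sup_of_normal_right.mp k.2
          have hta : t * a = a * t := ito_comm_of_mem ht.1 ha
          have htv : t * v = v * t := hVc t ht.2 v hv
          apply Subtype.ext
          rw [Subgroup.coe_mul, Subgroup.coe_mul, ← hkav]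
          calc a * v * t = a * (v * t) := by group
            _ = a * (t * v) := by rw [htv]
            _ = (a * t) * v := by group
            _ = (t * a) * v := by rw [hta]
            _ = t * (a * v) := by group
      obtain ⟨z, hz1, hz⟩ := hcen
      intro hbot
      have : (z : G) ∈ (Subgroup.center K).map K.subtype := ⟨z, hz, rfl⟩
      rw [hbot, Subgroup.mem_bot] at this
      exact hz1 (Subtype.ext this)
    · left
      rintro _ ⟨z, hz, rfl⟩
      obtain ⟨a, ha, b, hb, rfl⟩ := hfac z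
      obtain ⟨-, hbc⟩ := mem_center_of_mul_mem_center (A.subgroupOf K) (B.subgroupOf K) hfac
        ha hb hz
      have hbG : (b : G) ∈ Subgroup.center G := by
        rw [Subgroup.mem_center_iff]
        intro g
        obtain ⟨a', ha', b', hb', rfl⟩ := hAB g
        have h1 : a' * (b : G) = (b : G) * a' := by
          have := Subgroup.mem_center_iff.mp hbc ⟨a', hAK ha'⟩
          exact congrArg Subtype.val this
        have h2 : b' * (b : G) = (b : G) * b' :=
          ito_comm_of_mem hb' (Subgroup.mem_subgroupOf.mp hb)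
        calc a' * b' * (b : G) = a' * (b' * (b : G)) := by group
          _ = a' * ((b : G) * b') := by rw [h2]
          _ = (a' * (b : G)) * b' := by group
          _ = ((b : G) * a') * b' := by rw [h1]
          _ = (b : G) * (a' * b') := by group
      rw [hZ, Subgroup.mem_bot] at hbG
      have : ((a * b : K) : G) = (a : G) := by rw [Subgroup.coe_mul, hbG, mul_one]
      rw [Subgroup.coe_subtype, this]
      exact Subgroup.mem_subgroupOf.mp ha
  · refine ⟨Y.map K.subtype, ⟨?_⟩, ?_, Or.inr ?_⟩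
    · rintro _ ⟨y, hy, rfl⟩ g
      obtain ⟨a, ha, b, hb, rfl⟩ := hAB g
      have hyB : (y : G) ∈ B := Subgroup.mem_subgroupOf.mp (hYB hy)
      have h1 : b * (y : G) = (y : G) * b := ito_comm_of_mem hb hyB
      have h2 : (⟨a, hAK ha⟩ : K) * y * (⟨a, hAK ha⟩ : K)⁻¹ ∈ Y := hYn.conj_mem y hy _
      refine ⟨_, h2, ?_⟩
      simp only [Subgroup.coe_subtype, Subgroup.coe_mul, Subgroup.coe_inv]
      calc a * (y : G) * a⁻¹ = a * ((y : G) * b) * b⁻¹ * a⁻¹ := by group
        _ = a * (b * (y : G)) * b⁻¹ * a⁻¹ := by rw [h1]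
        _ = a * b * (y : G) * (a * b)⁻¹ := by group
    · intro hbot
      apply hYne
      rw [eq_bot_iff]
      intro y hy
      have : (y : G) ∈ Y.map K.subtype := ⟨y, hy, rfl⟩
      rw [hbot, Subgroup.mem_bot] at this
      rw [Subgroup.mem_bot]
      exact Subtype.ext this
    · rintro _ ⟨y, hy, rfl⟩
      exact Subgroup.mem_subgroupOf.mp (hYB hy)

theorem ito_normal_aux (n : ℕ) : ∀ (G : Type u) [Group G] [Finite G] [Nontrivial G],
    Nat.card G = n → ∀ (A B : Subgroup G) [IsMulCommutative A] [IsMulCommutative B],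
    (∀ g : G, ∃ a ∈ A, ∃ b ∈ B, g = a * b) →
    ∃ N : Subgroup G, N.Normal ∧ N ≠ ⊥ ∧ (N ≤ A ∨ N ≤ B) := by
  induction n using Nat.strong_induction_on with
  | _ n ih =>
  intro G _ _ _ hcard A B _ _ hAB
  by_cases hZ : Subgroup.center G = ⊥
  · have ih' : ∀ (K : Type u) [Group K] [Finite K] [Nontrivial K], Nat.card K < Nat.card G →
        ∀ (A B : Subgroup K) [IsMulCommutative A] [IsMulCommutative B],
        (∀ g : K, ∃ a ∈ A, ∃ b ∈ B, g = a * b) →
        ∃ N : Subgroup K, N.Normal ∧ N ≠ ⊥ ∧ (N ≤ A ∨ N ≤ B) := by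
      intro K _ _ _ hK A' B' _ _ hAB'
      exact ih (Nat.card K) (hcard ▸ hK) K rfl A' B' hAB'
    by_cases hAV : A ⊔ commutator G = ⊤
    · by_cases hBV : B ⊔ commutator G = ⊤
      · exfalso
        have hV := commutator_eq_bot_of_sup_commutator_eq_top A B hAB hAV hBV
        have hcomm : ∀ g h : G, g * h = h * g := by
          intro g h
          have : ⁅g, h⁆ ∈ commutator G := Subgroup.commutator_mem_commutator (Subgroup.mem_top g)
            (Subgroup.mem_top h)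
          rw [hV, Subgroup.mem_bot, commutatorElement_eq_one_iff_mul_comm] at this
          exact this
        obtain ⟨g, hg⟩ := exists_ne (1 : G)
        have : g ∈ Subgroup.center G := by
          rw [Subgroup.mem_center_iff]; intro h; exact hcomm h g
        rw [hZ, Subgroup.mem_bot] at this
        exact hg this
      · have hBA : ∀ g : G, ∃ b ∈ B, ∃ a ∈ A, g = b * a := by
          intro g
          obtain ⟨a, ha, b, hb, h⟩ := hAB g⁻¹
          refine ⟨b⁻¹, B.inv_mem hb, a⁻¹, A.inv_mem ha, ?_⟩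
          rw [← mul_inv_rev, ← h, inv_inv]
        obtain ⟨N, hN, hNne, hN'⟩ := ito_step ih' B A hBA hZ hBV
        exact ⟨N, hN, hNne, hN'.symm⟩
    · exact ito_step ih' A B hAB hZ hAV
  · obtain ⟨z, hz1⟩ := (Subgroup.ne_bot_iff_exists_ne_one (H := Subgroup.center G)).mp hZ
    obtain ⟨a, ha, b, hb, hzab⟩ := hAB (z : G)
    have hzc : a * b ∈ Subgroup.center G := hzab ▸ z.2
    obtain ⟨hac, hbc⟩ := mem_center_of_mul_mem_center A B hAB ha hb hzc
    by_cases ha1 : a = 1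
    · have hb1 : b ≠ 1 := by
        rintro rfl
        apply hz1
        apply Subtype.ext
        rw [hzab, ha1, mul_one]; rfl
      refine ⟨Subgroup.zpowers b, normal_of_le_center' ((Subgroup.zpowers_le).mpr hbc), ?_,
        Or.inr ((Subgroup.zpowers_le).mpr hb)⟩
      intro h
      exact hb1 ((Subgroup.zpowers_eq_bot).mp h)
    · refine ⟨Subgroup.zpowers a, normal_of_le_center' ((Subgroup.zpowers_le).mpr hac), ?_,
        Or.inl ((Subgroup.zpowers_le).mpr ha)⟩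
      intro h
      exact ha1 ((Subgroup.zpowers_eq_bot).mp h)

/-- **Itô**: a nontrivial finite product of two abelian subgroups has a nontrivial normal subgroup
inside one of the factors. -/
theorem ito_normal {G : Type u} [Group G] [Finite G] [Nontrivial G] (A B : Subgroup G)
    [IsMulCommutative A] [IsMulCommutative B] (hAB : ∀ g : G, ∃ a ∈ A, ∃ b ∈ B, g = a * b) :
    ∃ N : Subgroup G, N.Normal ∧ N ≠ ⊥ ∧ (N ≤ A ∨ N ≤ B) :=
  ito_normal_aux _ G rfl A B hAB

end Cfsg.Agent.Helper3
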