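import Mathlib
import Cfsg.Agent.Lib.Helper3.J1ArithDefs
import Cfsg.Agent.Lib.Helper1.J1LIN
import Cfsg.Agent.Lib.Lead.J1SUPP
import Cfsg.Agent.Lib.Helper18.J1PAIR
import Cfsg.Agent.Lib.Helper6.J1TRI
import Cfsg.Agent.Lib.Helper5.J1UNAT
import Cfsg.Agent.Lib.Lead.J1UFANO
import Cfsg.Agent.Lib.Helper6.J1NATEQ
import Cfsg.Agent.Lib.Helper1.J1FANOEQ
import Cfsg.Agent.Lib.Helper24.J1NATBOX
import Cfsg.Agent.Lib.Helper24.J1FANOBOX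
import Cfsg.Agent.Lib.Helper18.J1NATPH
import Cfsg.Agent.Lib.Helper14.J1NATC
import Cfsg.Agent.Lib.Helper14.J1NATA
import Cfsg.Agent.Lib.Helper14.J1FANOA
import Cfsg.Agent.Lib.Helper14.J1FANOC

/-!
# S0448 (helper3): assembly of the arithmetic part.  `Vals ⟹ g = 175560 ∨ Phantom`.
-/

set_option autoImplicit false
set_option linter.unusedSectionVars false
set_option linter.unusedVariables false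

namespace Cfsg.Agent.Helper3.J1A

variable {ι : Type*} [Fintype ι]

theorem natsol_solve {g : ℕ} {Y : Fin 9 → ℤ} (h : NatSol g Y) : g = 175560 ∨ PhSol g Y := by
  obtain ⟨b0, b1, b2, b3, b4, b5, b6⟩ := nat_box h
  have hsum : ∑ i, Y i ^ 2 = Y 0 ^ 2 + Y 1 ^ 2 + Y 2 ^ 2 + Y 3 ^ 2 + Y 4 ^ 2 + Y 5 ^ 2 + Y 6 ^ 2 +
      Y 7 ^ 2 + Y 8 ^ 2 := by
    simp [Fin.sum_univ_succ]
    ring
  have hbd := h.bound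
  rw [hsum] at hbd
  have hc := nat_stage_c g (Y 0) (Y 5) (Y 6) h.a0 h.a5 h.a6 h.sc b0 b5 b6
    (by nlinarith [sq_nonneg (Y 1), sq_nonneg (Y 2), sq_nonneg (Y 3), sq_nonneg (Y 4), sq_nonneg (Y 7),
      sq_nonneg (Y 8)]) h.g8 h.g16 h.g120
  have ha := nat_stage_a g (Y 0) (Y 1) (Y 2) h.a0 h.a1 h.a2 h.sa b0 b1 b2
    (by nlinarith [sq_nonneg (Y 5), sq_nonneg (Y 6), sq_nonneg (Y 3), sq_nonneg (Y 4), sq_nonneg (Y 7),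
      sq_nonneg (Y 8)]) h.g8 h.g16 h.g120
  have hb := nat_stage_a g (Y 0) (Y 3) (Y 4) h.a0 h.a3 h.a4 h.sb b0 b3 b4
    (by nlinarith [sq_nonneg (Y 5), sq_nonneg (Y 6), sq_nonneg (Y 1), sq_nonneg (Y 2), sq_nonneg (Y 7),
      sq_nonneg (Y 8)]) h.g8 h.g16 h.g120
  rcases hc with ⟨h0, hg⟩ | ⟨h0, hg⟩ | ⟨h0, hg, h56⟩ | ⟨h0, hg⟩ | ⟨h0, hg⟩ | ⟨h0, hg⟩
  · rcases ha with ⟨k0, kg⟩ | ⟨k0, kg⟩ | ⟨k0, kg, -⟩ | ⟨k0, kg⟩ | ⟨k0, kg⟩ | ⟨k0, kg⟩ | ⟨k0, kg⟩ | ⟨k0, kg⟩ <;>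
      omega
  · rcases ha with ⟨k0, kg⟩ | ⟨k0, kg⟩ | ⟨k0, kg, -⟩ | ⟨k0, kg⟩ | ⟨k0, kg⟩ | ⟨k0, kg⟩ | ⟨k0, kg⟩ | ⟨k0, kg⟩ <;>
      omega
  · right
    have h12 : (Y 1 = 35 ∧ Y 2 = -21) ∨ (Y 1 = -21 ∧ Y 2 = 35) := by
      rcases ha with ⟨k0, kg⟩ | ⟨k0, kg⟩ | ⟨k0, kg, k12⟩ | ⟨k0, kg⟩ | ⟨k0, kg⟩ | ⟨k0, kg⟩ | ⟨k0, kg⟩ |
        ⟨k0, kg⟩
      all_goals first | exact k12 | omega
    have h34 : (Y 3 = 35 ∧ Y 4 = -21) ∨ (Y 3 = -21 ∧ Y 4 = 35) := by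
      rcases hb with ⟨k0, kg⟩ | ⟨k0, kg⟩ | ⟨k0, kg, k12⟩ | ⟨k0, kg⟩ | ⟨k0, kg⟩ | ⟨k0, kg⟩ | ⟨k0, kg⟩ |
        ⟨k0, kg⟩
      all_goals first | exact k12 | omega
    exact ⟨hg, h0, h12, h34, h56⟩
  · rcases ha with ⟨k0, kg⟩ | ⟨k0, kg⟩ | ⟨k0, kg, -⟩ | ⟨k0, kg⟩ | ⟨k0, kg⟩ | ⟨k0, kg⟩ | ⟨k0, kg⟩ | ⟨k0, kg⟩ <;>
      omega
  · rcases ha with ⟨k0, kg⟩ | ⟨k0, kg⟩ | ⟨k0, kg, -⟩ | ⟨k0, kg⟩ | ⟨k0, kg⟩ | ⟨k0, kg⟩ | ⟨k0, kg⟩ | ⟨k0, kg⟩ <;>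
      omega
  · left; exact hg

theorem fanosol_false {g : ℕ} {Y : Fin 6 → ℤ} (h : FanoSol g Y) : False := by
  obtain ⟨b0, b1, b2, b3, b4, b5⟩ := fano_box h
  have hsum : ∑ i, Y i ^ 2 = Y 0 ^ 2 + Y 1 ^ 2 + Y 2 ^ 2 + Y 3 ^ 2 + Y 4 ^ 2 + Y 5 ^ 2 := by
    simp [Fin.sum_univ_succ]
    ring
  have hbd := h.bound
  rw [hsum] at hbd
  have ha := fano_stage_a g (Y 0) (Y 1) (Y 3) h.a0 h.a1 h.a3 h.sa b0 b1 b3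
    (by nlinarith [sq_nonneg (Y 2), sq_nonneg (Y 4), sq_nonneg (Y 5)]) h.g8 h.g16 h.g120
  have hc := fano_stage_c g (Y 1) (Y 2) (Y 5) h.a1 h.a2 h.a5 h.sc b1 b2 b5
    (by nlinarith [sq_nonneg (Y 0), sq_nonneg (Y 3), sq_nonneg (Y 4)]) h.g8 h.g16 h.g120
  obtain ⟨ha1, ha2⟩ := ha
  obtain ⟨hc1, hc2⟩ := hc
  have hg : g = 106920 := by
    simp only [Finset.mem_insert, Finset.mem_singleton] at ha1 hc1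
    omega
  exact hc2 hg (ha2 hg)

/-- the arithmetic main theorem -/
theorem arith_main {o : ι} {T U M N D : ι → ℤ} {g : ℕ} (h : Vals o T U M N D g) :
    g = 175560 ∨ ∃ y, Phantom o T U M D y := by
  obtain ⟨u, a, b, c, hL, hT, hU, hM, -⟩ := lat_of_vals h
  rcases abc_cfg hL with ⟨y, e, hN⟩ | ⟨y, e, hF⟩
  · obtain ⟨y', e', hN'⟩ := nat_cfg hL hN
    have hS := nat_sol hL hN'
    rcases natsol_solve hS with hg | hP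
    · left; exact hg
    · right
      exact nat_phantom hL hN' hP hS.su hT hU hM
  · obtain ⟨y', e', hF'⟩ := fano_cfg hL hF
    exact (fanosol_false (fano_sol hL hF')).elim

end Cfsg.Agent.Helper3.J1A
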