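import Mathlib
import Cfsg.Agent.Lib.Helper3.J1Defs

/-!
# S0448 piece IRR5 (helper3): `√5`.
-/

set_option autoImplicit false

namespace Cfsg.Agent.Helper3.J1

open scoped ComplexConjugate

/-- PIECE IRR5 -/
theorem sq5_mul_self : sq5 * sq5 = 5 := by
  unfold sq5
  rw [← Complex.ofReal_mul, Real.mul_self_sqrt (by norm_num : (0 : ℝ) ≤ 5)]
  norm_num

theorem conj_sq5 : conj sq5 = sq5 := by
  unfold sq5
  exact Complex.conj_ofReal _

theorem irr5_irrational : Irrational (Real.sqrt 5) := by
  have h : Nat.Prime 5 := by norm_num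
  simpa using h.irrational_sqrt

/-- PIECE IRR5: `1` and `√5` are linearly independent over the integers -/
theorem sq5_indep (A B : ℤ) (h : (A : ℂ) + (B : ℂ) * sq5 = 0) : A = 0 ∧ B = 0 := by
  unfold sq5 at h
  have h' : ((A : ℝ) + (B : ℝ) * Real.sqrt 5 : ℝ) = 0 := by
    have : (((A : ℝ) + (B : ℝ) * Real.sqrt 5 : ℝ) : ℂ) = 0 := by
      push_cast
      exact h
    exact_mod_cast this
  by_cases hB : B = 0
  · subst hB
    simp at h'
    exact ⟨by exact_mod_cast h', rfl⟩
  · exfalso
    have hBr : (B : ℝ) ≠ 0 := by exact_mod_cast hB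
    have : Real.sqrt 5 = ((-A / B : ℚ) : ℝ) := by
      push_cast
      field_simp
      linarith
    exact irr5_irrational ⟨_, this.symm⟩

end Cfsg.Agent.Helper3.J1
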