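import Mathlib
import Cfsg.Agent.Lib.Helper24.KF9CharCore
import Cfsg.Agent.Lib.Helper24.CharLinear
import Cfsg.Agent.Lib.Helper24.CharComplete
import Cfsg.Agent.Lib.Helper3.J1Defs
import Cfsg.Agent.Lib.Helper3.J1IRR5

/-!
# S0448 piece VALS10 (helper3): values of a character at a real element of order 10.
-/

set_option autoImplicit false
set_option linter.unusedSectionVars false
set_option linter.unusedVariables false

namespace Cfsg.Agent.Helper3.J1

open Cfsg Cfsg.Agent.Helper24 Cfsg.Agent.Helper16.KF9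
open scoped ComplexConjugate

universe u

/-- `φ = (1 + √5)/2` -/
noncomputable def vals10Phi : ℂ := (1 + sq5) / 2
/-- `φ' = (1 - √5)/2` -/
noncomputable def vals10Phi' : ℂ := (1 - sq5) / 2

theorem vals10_phi_add : vals10Phi + vals10Phi' = 1 := by
  unfold vals10Phi vals10Phi'; ring

theorem vals10_phi_mul : vals10Phi * vals10Phi' = -1 := by
  unfold vals10Phi vals10Phi'
  linear_combination (-1 / 4 : ℂ) * sq5_mul_self

theorem vals10_phi_sq : vals10Phi * vals10Phi = vals10Phi + 1 := by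
  unfold vals10Phi
  linear_combination (1 / 4 : ℂ) * sq5_mul_self

theorem vals10_phi'_sq : vals10Phi' * vals10Phi' = vals10Phi' + 1 := by
  unfold vals10Phi'
  linear_combination (1 / 4 : ℂ) * sq5_mul_self

theorem vals10_isIntegral_phi : IsIntegral ℤ vals10Phi := by
  refine ⟨Polynomial.X ^ 2 - (Polynomial.X + 1), ?_, ?_⟩
  · apply Polynomial.monic_X_pow_sub
    rw [show (Polynomial.X + 1 : Polynomial ℤ) = Polynomial.X + Polynomial.C 1 by simp]
    rw [Polynomial.degree_X_add_C]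
    exact_mod_cast (by norm_num : (1 : ℕ) < 2)
  · simp only [Polynomial.eval₂_sub, Polynomial.eval₂_pow, Polynomial.eval₂_X, Polynomial.eval₂_add,
      Polynomial.eval₂_one]
    linear_combination vals10_phi_sq

theorem vals10_isIntegral_phi' : IsIntegral ℤ vals10Phi' := by
  refine ⟨Polynomial.X ^ 2 - (Polynomial.X + 1), ?_, ?_⟩
  · apply Polynomial.monic_X_pow_sub
    rw [show (Polynomial.X + 1 : Polynomial ℤ) = Polynomial.X + Polynomial.C 1 by simp]
    rw [Polynomial.degree_X_add_C]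
    exact_mod_cast (by norm_num : (1 : ℕ) < 2)
  · simp only [Polynomial.eval₂_sub, Polynomial.eval₂_pow, Polynomial.eval₂_X, Polynomial.eval₂_add,
      Polynomial.eval₂_one]
    linear_combination vals10_phi'_sq

/-- coordinates of the symmetrized powers of a tenth root of unity -/
theorem vals10_root {μ : ℂ} (h : μ ^ 10 = 1) :
    ∃ A B C : ℤ, μ + μ ^ 9 = 2 * (A : ℂ) + (B : ℂ) * vals10Phi + (C : ℂ) * vals10Phi' ∧
      μ ^ 3 + μ ^ 7 = 2 * (A : ℂ) + (B : ℂ) * vals10Phi' + (C : ℂ) * vals10Phi ∧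
      μ ^ 5 = (A : ℂ) - (B : ℂ) - (C : ℂ) := by
  have hfac : (μ - 1) * ((μ + 1) * ((μ ^ 4 + μ ^ 3 + μ ^ 2 + μ + 1) *
      (μ ^ 4 - μ ^ 3 + μ ^ 2 - μ + 1))) = 0 := by
    linear_combination h
  have hp := vals10_phi_add
  have hm := vals10_phi_mul
  rcases mul_eq_zero.mp hfac with h0 | h0
  · have h1 : μ = 1 := sub_eq_zero.mp h0
    subst h1
    exact ⟨1, 0, 0, by norm_num, by norm_num, by norm_num⟩
  rcases mul_eq_zero.mp h0 with h0 | h0
  · have h1 : μ = -1 := eq_neg_of_add_eq_zero_left h0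
    subst h1
    exact ⟨-1, 0, 0, by norm_num, by norm_num, by norm_num⟩
  rcases mul_eq_zero.mp h0 with h0 | h0
  · -- primitive fifth root of unity
    have h5 : μ ^ 5 = 1 := by linear_combination (μ - 1) * h0
    have hr : (μ + μ ^ 9 + vals10Phi) * (μ + μ ^ 9 + vals10Phi') = 0 := by
      have e9 : μ ^ 9 = μ ^ 4 := by linear_combination (μ ^ 4) * h5
      rw [e9]
      linear_combination (2 + μ ^ 3) * h5 + h0 + (μ + μ ^ 4) * hp + hm
    have e9 : μ ^ 9 = μ ^ 4 := by linear_combination (μ ^ 4) * h5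
    have e7 : μ ^ 7 = μ ^ 2 := by linear_combination (μ ^ 2) * h5
    rcases mul_eq_zero.mp hr with h1 | h1
    · refine ⟨0, -1, 0, ?_, ?_, ?_⟩
      · push_cast; linear_combination h1
      · push_cast; rw [e7]; rw [e9] at h1; linear_combination h0 - h1 + hp
      · push_cast; linear_combination h5
    · refine ⟨0, 0, -1, ?_, ?_, ?_⟩
      · push_cast; linear_combination h1
      · push_cast; rw [e7]; rw [e9] at h1; linear_combination h0 - h1 + hp
      · push_cast; linear_combination h5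
  · -- primitive tenth root of unity
    have h5 : μ ^ 5 = -1 := by linear_combination (μ + 1) * h0
    have e9 : μ ^ 9 = -μ ^ 4 := by linear_combination (μ ^ 4) * h5
    have e7 : μ ^ 7 = -μ ^ 2 := by linear_combination (μ ^ 2) * h5
    have hr : (μ + μ ^ 9 - vals10Phi) * (μ + μ ^ 9 - vals10Phi') = 0 := by
      rw [e9]
      linear_combination (μ ^ 3 - 2) * h5 + h0 - (μ - μ ^ 4) * hp + hm
    rcases mul_eq_zero.mp hr with h1 | h1
    · refine ⟨0, 1, 0, ?_, ?_, ?_⟩
      · push_cast; linear_combination h1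
      · push_cast; rw [e7]; rw [e9] at h1; linear_combination -h0 - h1 - hp
      · push_cast; linear_combination h5
    · refine ⟨0, 0, 1, ?_, ?_, ?_⟩
      · push_cast; linear_combination h1
      · push_cast; rw [e7]; rw [e9] at h1; linear_combination -h0 - h1 - hp
      · push_cast; linear_combination h5

section Chr

variable {G : Type u} [Group G] [Finite G]

/-- PIECE VALS10 -/
theorem vals_ten {χ : G → ℂ} (hχ : IsCharacter G χ) {v : G} (ov : orderOf v = 10)
    (hc : IsConj v v⁻¹) :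
    ∃ M N T : ℤ, χ v = ((M : ℂ) + (N : ℂ) * sq5) / 2 ∧ χ (v ^ 3) = ((M : ℂ) - (N : ℂ) * sq5) / 2 ∧
      χ (v ^ 5) = (T : ℂ) ∧ (10 : ℤ) ∣ M - 2 * T - 5 * N := by
  have hcf := isClassFunction_of_isCharacter hχ
  have hint1 : IsIntegral ℤ (χ v) := isIntegral_of_isCharacter hχ v
  have hint3 : IsIntegral ℤ (χ (v ^ 3)) := isIntegral_of_isCharacter hχ (v ^ 3)
  obtain ⟨n, ρ, rfl⟩ := hχ
  have hv10 : v ^ 10 = 1 := by rw [← ov]; exact pow_orderOf_eq_one v
  obtain ⟨μ, hμ, hk⟩ := charcore_roots ρ v (by norm_num : 0 < 10) hv10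
  have hroot := fun i => vals10_root (hμ i)
  choose A B C h1 h3 h5 using hroot
  obtain ⟨a, ha⟩ : ∃ c : ℤ, c = ∑ i, A i := ⟨_, rfl⟩
  obtain ⟨b, hb⟩ : ∃ c : ℤ, c = ∑ i, B i := ⟨_, rfl⟩
  obtain ⟨c, hc'⟩ : ∃ c' : ℤ, c' = ∑ i, C i := ⟨_, rfl⟩
  -- `v⁹ = v⁻¹ ~ v`, `v⁷ = (v³)⁻¹ ~ v³`
  obtain ⟨g, hg⟩ := isConj_iff.mp hc
  have e9 : v ^ 9 = g * v * g⁻¹ := by
    rw [hg]
    apply eq_inv_of_mul_eq_one_left
    rw [← pow_succ]; exact hv10
  have e7 : v ^ 7 = g * v ^ 3 * g⁻¹ := by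
    rw [← conj_pow, hg, inv_pow]
    apply eq_inv_of_mul_eq_one_left
    rw [← pow_add]; exact hv10
  have c9 : ρ.character (v ^ 9) = ρ.character v := by rw [e9]; exact hcf v g
  have c7 : ρ.character (v ^ 7) = ρ.character (v ^ 3) := by rw [e7]; exact hcf (v ^ 3) g
  have s1 : 2 * ρ.character v = 2 * (a : ℂ) + (b : ℂ) * vals10Phi + (c : ℂ) * vals10Phi' := by
    have hh1 := hk 1
    simp only [pow_one] at hh1
    have : 2 * ρ.character v = ρ.character v + ρ.character (v ^ 9) := by rw [c9]; ring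
    rw [this, hh1, hk 9, ← Finset.sum_add_distrib, Finset.sum_congr rfl (fun i _ => h1 i), ha, hb, hc']
    push_cast
    simp only [Finset.sum_add_distrib, ← Finset.sum_mul, ← Finset.mul_sum]
  have s3 : 2 * ρ.character (v ^ 3) =
      2 * (a : ℂ) + (b : ℂ) * vals10Phi' + (c : ℂ) * vals10Phi := by
    have : 2 * ρ.character (v ^ 3) = ρ.character (v ^ 3) + ρ.character (v ^ 7) := by rw [c7]; ring
    rw [this, hk 3, hk 7, ← Finset.sum_add_distrib, Finset.sum_congr rfl (fun i _ => h3 i), ha, hb, hc']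
    push_cast
    simp only [Finset.sum_add_distrib, ← Finset.sum_mul, ← Finset.mul_sum]
  have s5 : ρ.character (v ^ 5) = (a : ℂ) - (b : ℂ) - (c : ℂ) := by
    rw [hk 5, Finset.sum_congr rfl (fun i _ => h5 i), ha, hb, hc']
    push_cast
    simp only [Finset.sum_sub_distrib]
  -- parity of `b` and `c` from integrality
  have hp := vals10_phi_add
  have hm := vals10_phi_mul
  have hq := vals10_phi_sq
  have hq' := vals10_phi'_sq
  have hz1 : IsIntegral ℤ (ρ.character v * vals10Phi' + ρ.character (v ^ 3) * vals10Phi) :=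
    (hint1.mul vals10_isIntegral_phi').add (hint3.mul vals10_isIntegral_phi)
  have hz2 : IsIntegral ℤ (ρ.character v * vals10Phi + ρ.character (v ^ 3) * vals10Phi') :=
    (hint1.mul vals10_isIntegral_phi).add (hint3.mul vals10_isIntegral_phi')
  have e1 : 2 * (ρ.character v * vals10Phi' + ρ.character (v ^ 3) * vals10Phi) =
      ((2 * a - 2 * b + 3 * c : ℤ) : ℂ) := by
    push_cast
    linear_combination vals10Phi' * s1 + vals10Phi * s3 + (2 * (a : ℂ)) * hp + (2 * (b : ℂ)) * hm +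
      (c : ℂ) * hq + (c : ℂ) * hq' + (c : ℂ) * hp
  have e2 : 2 * (ρ.character v * vals10Phi + ρ.character (v ^ 3) * vals10Phi') =
      ((2 * a + 3 * b - 2 * c : ℤ) : ℂ) := by
    push_cast
    linear_combination vals10Phi * s1 + vals10Phi' * s3 + (2 * (a : ℂ)) * hp + (2 * (c : ℂ)) * hm +
      (b : ℂ) * hq + (b : ℂ) * hq' + (b : ℂ) * hp
  obtain ⟨k1, hk1⟩ := charcore_int_of_two_mul _ hz1 _ e1
  obtain ⟨k2, hk2⟩ := charcore_int_of_two_mul _ hz2 _ e2
  have p1 : 2 * k1 = 2 * a - 2 * b + 3 * c := by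
    rw [hk1] at e1
    exact_mod_cast e1
  have p2 : 2 * k2 = 2 * a + 3 * b - 2 * c := by
    rw [hk2] at e2
    exact_mod_cast e2
  obtain ⟨c2, hc2⟩ : ∃ c2 : ℤ, c = 2 * c2 := ⟨k1 - a + b - c, by omega⟩
  obtain ⟨b2, hb2⟩ : ∃ b2 : ℤ, b = 2 * b2 := ⟨k2 - a - b + c, by omega⟩
  refine ⟨2 * a + b2 + c2, b2 - c2, a - b - c, ?_, ?_, s5.trans (by push_cast; ring), ?_⟩
  · have : ρ.character v = (a : ℂ) + (b2 : ℂ) * vals10Phi + (c2 : ℂ) * vals10Phi' := by
      have h2 : (b : ℂ) = 2 * (b2 : ℂ) := by rw [hb2]; push_cast; ring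
      have h3' : (c : ℂ) = 2 * (c2 : ℂ) := by rw [hc2]; push_cast; ring
      rw [h2, h3'] at s1
      linear_combination (1 / 2 : ℂ) * s1
    rw [this]
    unfold vals10Phi vals10Phi'
    push_cast
    ring
  · have : ρ.character (v ^ 3) = (a : ℂ) + (b2 : ℂ) * vals10Phi' + (c2 : ℂ) * vals10Phi := by
      have h2 : (b : ℂ) = 2 * (b2 : ℂ) := by rw [hb2]; push_cast; ring
      have h3' : (c : ℂ) = 2 * (c2 : ℂ) := by rw [hc2]; push_cast; ring
      rw [h2, h3'] at s3
      linear_combination (1 / 2 : ℂ) * s3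
    rw [this]
    unfold vals10Phi vals10Phi'
    push_cast
    ring
  · refine ⟨c2, ?_⟩
    rw [hb2, hc2]
    ring

end Chr

end Cfsg.Agent.Helper3.J1
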