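import Mathlib
import Cfsg.Agent.Lib.Helper24.CharComplete
import Cfsg.Agent.Lib.Helper24.CharLinear
import Cfsg.Agent.Lib.Helper24.CharHom
import Cfsg.Agent.Lib.Helper15.GL23TRANSPORT
import Cfsg.Agent.Lib.Helper15.GL23LIFTCENT
import Cfsg.Agent.Lib.Helper15.GL23LIFTNINV
import Cfsg.Agent.Lib.Helper15.GL23LIFTNC
import Cfsg.Agent.Lib.Helper15.GL23VALS6
import Cfsg.Agent.Lib.Helper3.J1Defs
import Cfsg.Agent.Lib.Helper3.J1Arith
import Cfsg.Agent.Lib.Helper21.J1H0A
import Cfsg.Agent.Lib.Helper21.J1H0B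
import Cfsg.Agent.Lib.Helper18.J1H0C
import Cfsg.Agent.Lib.Helper24.J1KER
import Cfsg.Agent.Lib.Helper7.J1XIS
import Cfsg.Agent.Lib.Helper19.J1CCEQ
import Cfsg.Agent.Lib.Helper3.J1IRR5
import Cfsg.Agent.Lib.Helper3.J1VALS10
import Cfsg.Agent.Lib.Lead.J1PHFIN
import Cfsg.Agent.Lib.Helper16.J1ORTHO
import Cfsg.Agent.Lib.Helper16.J1XORTHO
import Cfsg.Agent.Lib.Helper6.J1E8
import Cfsg.Agent.Lib.Helper2.J1SYL
import Cfsg.Agent.Lib.Helper18.J1FUS
import Cfsg.Agent.Lib.Helper4.J1K1ONE
import Cfsg.Agent.Lib.Helper4.J1K1E8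
import Cfsg.Agent.Lib.Helper6.J1H0K1
import Cfsg.Agent.Lib.Helper19.J1D10

/-!
# S0448 (helper3): assembly.  `G` simple, `t` 2-central, `C_G(t) ≅ Z2 × A5` ⟹ `|G| = 175560`.
-/

set_option autoImplicit false
set_option linter.unusedSectionVars false
set_option linter.unusedVariables false
set_option linter.style.haveILetI false

namespace Cfsg.Agent.Helper3.J1

open Cfsg Cfsg.Agent.Helper24 Cfsg.Agent.Helper15.GL23
open scoped ComplexConjugate

universe u

namespace Main

section Grp

variable {G : Type u} [Group G]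

theorem t_sq {t : G} (ht : orderOf t = 2) : t * t = 1 := by
  rw [← pow_two, ← ht, pow_orderOf_eq_one]

/-- the embedding attached to an isomorphism `H0 ≃* C_G(t)` -/
def emb (t : G) (E : H0 ≃* Subgroup.centralizer ({t} : Set G)) : H0 →* G :=
  (Subgroup.subtype _).comp E.toMonoidHom

theorem emb_apply (t : G) (E : H0 ≃* Subgroup.centralizer ({t} : Set G)) (h : H0) :
    emb t E h = ((E h : Subgroup.centralizer ({t} : Set G)) : G) := rfl

theorem emb_injective (t : G) (E : H0 ≃* Subgroup.centralizer ({t} : Set G)) :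
    Function.Injective (emb t E) := by
  intro a b h
  apply E.injective
  exact Subtype.ext h

theorem emb_range (t : G) (E : H0 ≃* Subgroup.centralizer ({t} : Set G)) :
    (emb t E).range = Subgroup.centralizer ({t} : Set G) := by
  ext g
  constructor
  · rintro ⟨h, rfl⟩
    exact (E h).2
  · intro hg
    refine ⟨E.symm ⟨g, hg⟩, ?_⟩
    rw [emb_apply, MulEquiv.apply_symm_apply]

theorem emb_z0 (t : G) (ht : orderOf t = 2) (E : H0 ≃* Subgroup.centralizer ({t} : Set G)) :
    E z0 = tC t := by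
  have htC : orderOf (tC t) = 2 := by
    rw [← Subgroup.orderOf_coe]; exact ht
  have hcent : ∀ y : Subgroup.centralizer ({t} : Set G), y * tC t = tC t * y := by
    intro y
    apply Subtype.ext
    show (y : G) * t = t * (y : G)
    exact (Subgroup.mem_centralizer_singleton_iff (g := t) (k := (y : G))).mp y.2
  obtain ⟨-, -, -, huniq, -⟩ := h0_basic
  have h1 : E.symm (tC t) = z0 := by
    apply huniq
    · rw [MulEquiv.orderOf_eq]; exact htC
    · intro k
      apply E.injective
      rw [map_mul, map_mul, MulEquiv.apply_symm_apply]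
      exact hcent (E k)
  rw [← h1, MulEquiv.apply_symm_apply]

/-- the configuration exists -/
theorem exists_cfg [Finite G] [IsSimpleGroup G] (t : G) (ht : Cfsg.IsTwoCentralInvolution t)
    (E : H0 ≃* Subgroup.centralizer ({t} : Set G)) : Cfg t (emb t E) := by
  classical
  have ht2 : orderOf t = 2 := ht.1
  have hz : E z0 = tC t := emb_z0 t ht2 E
  have hfz : emb t E z0 = t := by rw [emb_apply, hz]; rfl
  obtain ⟨hcard, -, -, -, ox, oy, ow, ov, w3, v5⟩ := h0_basic
  obtain ⟨cw, cv, ncv, -, -, kw, kv, kv3⟩ := h0_conj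
  obtain ⟨nz, nw, nv, nv3⟩ := h0_ninv
  have hcardt : Nat.card (Subgroup.centralizer ({t} : Set G)) = 120 := by
    rw [← hcard]; exact Nat.card_congr E.symm.toEquiv
  obtain ⟨d8, nd16, hsyl⟩ := sylow_facts t ht hcardt
  have hfus := fuse_cent t ht (emb t E) (emb_injective t E) (emb_range t E) hfz
  have one_class : ∀ s : G, orderOf s = 2 → IsConj t s := by
    intro s hs
    obtain ⟨g, hg⟩ := hsyl s hs
    rw [← emb_range t E] at hg
    obtain ⟨h, hh⟩ := hg
    have oh : orderOf h = 2 := by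
      rw [← orderOf_injective (emb t E) (emb_injective t E) h, hh]
      rw [← hs]
      exact (MulAut.conj g).orderOf_eq s
    have h1 := hfus h oh
    rw [hh] at h1
    refine h1.trans ?_
    exact (isConj_iff.mpr ⟨g, rfl⟩).symm
  -- powers
  have pw : ∀ (h : H0) (k : ℕ), h ^ k = z0 → ((E h : Subgroup.centralizer ({t} : Set G)) : G) ^ k = t := by
    intro h k hk
    rw [← Subgroup.coe_pow, ← map_pow, hk, hz]; rfl
  have v35 : (v0 ^ 3) ^ 5 = z0 := by
    rw [← pow_mul, mul_comm, pow_mul, v5]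
    have : z0 * z0 = 1 := by
      have h2 := pow_orderOf_eq_one z0
      rw [h0_basic.2.1, pow_two] at h2
      exact h2
    rw [pow_succ, pow_two, this, one_mul]
  refine
    { inj := emb_injective t E
      range_eq := emb_range t E
      fz := hfz
      cardt := hcardt
      cardw := ?_
      cardv := ?_
      cardv3 := ?_
      nconj_v := ?_
      cnt_t := ?_
      cnt_w := ?_
      cnt_v := ?_
      cnt_v3 := ?_
      one_class := one_class
      dvd8 := d8
      ndvd16 := nd16 }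
  · rw [emb_apply, card_centralizer_lift t (E w0) 3 (pw w0 3 w3), TRANSPORT.card_centralizer_equiv E w0, kw]
  · rw [emb_apply, card_centralizer_lift t (E v0) 5 (pw v0 5 v5), TRANSPORT.card_centralizer_equiv E v0, kv]
  · rw [emb_apply, card_centralizer_lift t (E (v0 ^ 3)) 5 (pw (v0 ^ 3) 5 v35),
      TRANSPORT.card_centralizer_equiv E (v0 ^ 3), kv3]
  · intro h
    apply ncv
    rw [← TRANSPORT.isConj_equiv_iff E]
    exact isConj_lift t (E v0) (E (v0 ^ 3)) 5 (pw v0 5 v5) (pw (v0 ^ 3) 5 v35) h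
  · have h1 : ((tC t : Subgroup.centralizer ({t} : Set G)) : G) ^ 1 = t := by rw [pow_one]; rfl
    have := nInv_lift t ht2 (tC t) 1 h1
    rw [show ((tC t : Subgroup.centralizer ({t} : Set G)) : G) = t from rfl] at this
    rw [this, ← hz, TRANSPORT.nInv_equiv E z0, nz]
  · rw [emb_apply, nInv_lift t ht2 (E w0) 3 (pw w0 3 w3), TRANSPORT.nInv_equiv E w0, nw]
  · rw [emb_apply, nInv_lift t ht2 (E v0) 5 (pw v0 5 v5), TRANSPORT.nInv_equiv E v0, nv]
  · rw [emb_apply, nInv_lift t ht2 (E (v0 ^ 3)) 5 (pw (v0 ^ 3) 5 v35), TRANSPORT.nInv_equiv E (v0 ^ 3), nv3]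

end Grp

section Chr

variable {G : Type u} [Group G] [Fintype G]

/-- a class function takes equal values at conjugate elements -/
theorem char_conj_eq {χ : G → ℂ} (hχ : IsCharacter G χ) {a b : G} (h : IsConj a b) : χ a = χ b := by
  obtain ⟨g, hg⟩ := isConj_iff.mp h
  rw [← hg]
  exact (isClassFunction_of_isCharacter hχ a g).symm

/-- the restriction `X ∘ f` takes the value `X t` at every involution of `H0` -/
theorem psi_invol {t : G} {f : H0 →* G} (c : Cfg t f) {χ : G → ℂ} (hχ : IsCharacter G χ) (h : H0)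
    (hh : orderOf h = 2) : (χ ∘ f) h = χ t := by
  have oh : orderOf (f h) = 2 := by
    rw [orderOf_injective f c.inj h, hh]
  exact (char_conj_eq hχ (c.one_class (f h) oh)).symm

/-- the value data exists -/
theorem exists_valdata [IsSimpleGroup G] {t : G} {f : H0 →* G} (ht : orderOf t = 2) (c : Cfg t f) :
    ∃ T U M N D : IrrCharacter G → ℤ, ValData c T U M N D := by
  obtain ⟨-, -, -, -, ox, oy, ow, ov, w3, v5⟩ := h0_basic
  obtain ⟨cw, cv, ncv, -, -, kw, kv, kv3⟩ := h0_conj
  have hψ : ∀ X : IrrCharacter G, IsCharacter H0 ((X : G → ℂ) ∘ f) :=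
    fun X => isCharacter_comp f (isCharacter_of_isIrrCharacter X.2)
  have h10 : ∀ X : IrrCharacter G, ∃ M N T : ℤ,
      ((X : G → ℂ) ∘ f) v0 = ((M : ℂ) + (N : ℂ) * sq5) / 2 ∧
      ((X : G → ℂ) ∘ f) (v0 ^ 3) = ((M : ℂ) - (N : ℂ) * sq5) / 2 ∧
      ((X : G → ℂ) ∘ f) (v0 ^ 5) = (T : ℂ) ∧ (10 : ℤ) ∣ M - 2 * T - 5 * N :=
    fun X => vals_ten (hψ X) ov cv
  have h6 : ∀ X : IrrCharacter G, ∃ U T : ℤ, ((X : G → ℂ) ∘ f) w0 = (U : ℂ) ∧
      ((X : G → ℂ) ∘ f) (w0 ^ 3) = (T : ℂ) ∧ (3 : ℤ) ∣ T - U :=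
    fun X => vals_six (hψ X) ow cw
  choose M N T hV hV3 hT c10 using h10
  choose U T' hU hT' c3 using h6
  have hTt : ∀ X : IrrCharacter G, (X : G → ℂ) t = (T X : ℂ) := by
    intro X
    have := hT X
    rw [v5] at this
    simpa [c.fz] using this
  have hTT : ∀ X, T' X = T X := by
    intro X
    have h1 := hT' X
    rw [w3] at h1
    have h2 : ((X : G → ℂ) ∘ f) z0 = (X : G → ℂ) t := by simp [c.fz]
    rw [h2, hTt X] at h1
    exact_mod_cast h1.symm
  have hD : ∀ X : IrrCharacter G,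
      (X : G → ℂ) 1 = (((charDegree (X : G → ℂ) : ℕ) : ℤ) : ℂ) := by
    intro X
    rw [irr_one_eq_charDegree X.2]
    push_cast
    rfl
  have h8 : ∀ X : IrrCharacter G, ∃ n1 n2 : ℕ,
      ((charDegree (X : G → ℂ) : ℕ) : ℤ) + 7 * T X = 8 * n1 ∧
      ((charDegree (X : G → ℂ) : ℕ) : ℤ) - T X = 8 * n2 := by
    intro X
    apply vals_e8 (hψ X)
    · show (X : G → ℂ) (f 1) = _
      rw [map_one]; exact hD X
    · intro h hh
      rw [psi_invol c (isCharacter_of_isIrrCharacter X.2) h hh]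
      exact hTt X
  refine ⟨T, U, M, N, fun X => ((charDegree (X : G → ℂ) : ℕ) : ℤ), ?_⟩
  refine ⟨hTt, hU, hV, hV3, hD, ⟨?_, c10, ?_, ?_, ?_⟩⟩
  · intro X
    rw [← hTT X]; exact c3 X
  · intro X
    obtain ⟨n1, n2, -, h2⟩ := h8 X
    exact ⟨n2, h2⟩
  · intro X hX
    obtain ⟨n1, n2, -, h2⟩ := h8 X
    have hn : n2 ≠ 0 := by
      intro h0
      apply hX
      have hDT : ((charDegree (X : G → ℂ) : ℕ) : ℤ) = T X := by
        rw [h0] at h2; simp at h2; linarith
      have hval : (X : G → ℂ) t = (X : G → ℂ) 1 := by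
        rw [hTt X, hD X, hDT]
      have ht1 : t ≠ 1 := by
        intro h
        rw [h, orderOf_one] at ht
        omega
      have := ker_trivial X.2 ht1 hval
      exact Subtype.ext this
    have : (1 : ℤ) ≤ n2 := by exact_mod_cast Nat.one_le_iff_ne_zero.mpr hn
    show T X + 8 ≤ ((charDegree (X : G → ℂ) : ℕ) : ℤ)
    linarith
  · intro X
    obtain ⟨n1, n2, h1, -⟩ := h8 X
    show 0 ≤ ((charDegree (X : G → ℂ) : ℕ) : ℤ) + 7 * T X
    rw [h1]
    positivity

/-- the data of the columns `x`, `y + y²` exists -/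
theorem exists_xidata {t : G} {f : H0 →* G} (c : Cfg t f) :
    ∃ Xi S : IrrCharacter G → ℤ, XiData c Xi S := by
  obtain ⟨-, -, -, -, ox, oy, -⟩ := h0_basic
  obtain ⟨-, -, -, cx, cy, -⟩ := h0_conj
  have h : ∀ X : IrrCharacter G, ∃ ξ s : ℤ, ((X : G → ℂ) ∘ f) x0 = (ξ : ℂ) ∧
      ((X : G → ℂ) ∘ f) y0 + ((X : G → ℂ) ∘ f) (y0 ^ 2) = (s : ℂ) :=
    fun X => vals_xs (isCharacter_comp f (isCharacter_of_isIrrCharacter X.2)) ox cx oy cy
  choose Xi S h1 h2 using h
  exact ⟨Xi, S, h1, h2⟩

/-- the phantom table is impossible -/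
theorem phantom_false {t : G} {f : H0 →* G} (c : Cfg t f) [Fintype (IrrCharacter G)]
    {T U M N D : IrrCharacter G → ℤ} (hV : ValData c T U M N D) (y : Fin 9 → IrrCharacter G)
    (hP : J1A.Phantom (principalChar G) T U M D y) (hTo : T (principalChar G) = 1)
    (hUo : U (principalChar G) = 1) (hMo : M (principalChar G) = 2) : False := by
  obtain ⟨Xi, S, hx⟩ := exists_xidata c
  obtain ⟨hxt, hxu, hxm⟩ := x_ortho c hV hx
  have hψ : ∀ X : IrrCharacter G, IsCharacter H0 ((X : G → ℂ) ∘ f) :=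
    fun X => isCharacter_comp f (isCharacter_of_isIrrCharacter X.2)
  have hD : ∀ X : IrrCharacter G, ((X : G → ℂ) ∘ f) 1 = (D X : ℂ) := by
    intro X
    show (X : G → ℂ) (f 1) = _
    rw [map_one]; exact hV.hD X
  have hT : ∀ X : IrrCharacter G, ∀ h : H0, orderOf h = 2 → ((X : G → ℂ) ∘ f) h = (T X : ℂ) := by
    intro X h hh
    rw [psi_invol c (isCharacter_of_isIrrCharacter X.2) h hh]
    exact hV.hT X
  have hM : ∀ X : IrrCharacter G,
      ((X : G → ℂ) ∘ f) v0 + ((X : G → ℂ) ∘ f) (v0 ^ 3) = (M X : ℂ) := by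
    intro X
    show (X : G → ℂ) (f v0) + (X : G → ℂ) (f (v0 ^ 3)) = _
    rw [hV.hV X, hV.hV3 X]
    ring
  have hXo : Xi (principalChar G) = 1 := by
    have := hx.hX (principalChar G)
    have hp : ((principalChar G : IrrCharacter G) : G → ℂ) (f x0) = 1 := rfl
    rw [hp] at this
    exact_mod_cast this.symm
  exact phantom_arith hP Xi S hXo hTo hUo hMo
    (fun X => res_k1_one (hψ X) (D X) (T X) (Xi X) (U X) (hD X) (hT X) (hx.hX X) (hV.hU X))
    (fun X => res_k1_e8 (hψ X) (D X) (T X) (Xi X) (U X) (hD X) (hT X) (hx.hX X) (hV.hU X))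
    (fun X => res_h0_k1 (hψ X) (D X) (T X) (Xi X) (U X) (S X) (M X) (hD X) (hT X) (hx.hX X) (hV.hU X)
      (hx.hS X) (hM X))
    (fun X => res_d10 (hψ X) (D X) (T X) (S X) (M X) (hD X) (hT X) (hx.hS X) (hM X))
    hxt hxu hxm

/-- the character-theoretic part -/
theorem card_of_cfg [IsSimpleGroup G] {t : G} {f : H0 →* G} (ht : orderOf t = 2) (c : Cfg t f) :
    Nat.card G = 175560 := by
  classical
  letI : Fintype (IrrCharacter G) := irrFintype
  obtain ⟨T, U, M, N, D, hV⟩ := exists_valdata ht c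
  have ho := ortho c hV
  have hcc := cceq c hV
  have hp : ∀ x : G, ((principalChar G : IrrCharacter G) : G → ℂ) x = 1 := fun x => rfl
  have hoT : T (principalChar G) = 1 := by
    have := hV.hT (principalChar G)
    rw [hp] at this
    exact_mod_cast this.symm
  have hoU : U (principalChar G) = 1 := by
    have := hV.hU (principalChar G)
    rw [hp] at this
    exact_mod_cast this.symm
  have hoD : D (principalChar G) = 1 := by
    have := hV.hD (principalChar G)
    rw [hp] at this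
    exact_mod_cast this.symm
  have hoMN : M (principalChar G) = 2 ∧ N (principalChar G) = 0 := by
    have := hV.hV (principalChar G)
    rw [hp] at this
    have h2 : (((M (principalChar G) - 2 : ℤ) : ℂ)) + ((N (principalChar G) : ℤ) : ℂ) * sq5 = 0 := by
      push_cast
      have h3 : (M (principalChar G) : ℂ) + (N (principalChar G) : ℂ) * sq5 = 2 := by
        field_simp at this
        linear_combination -this
      linear_combination h3
    obtain ⟨h3, h4⟩ := sq5_indep _ _ h2
    exact ⟨by omega, h4⟩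
  have hDpos : ∀ X : IrrCharacter G, 0 < D X := by
    intro X
    have h1 := hV.hD X
    rw [irr_one_eq_charDegree X.2] at h1
    have h2 : ((charDegree (X : G → ℂ) : ℕ) : ℤ) = D X := by exact_mod_cast h1
    rw [← h2]
    exact_mod_cast charDegree_pos X.2
  have h120 : 120 ∣ Nat.card G := by
    rw [← c.cardt]
    exact Subgroup.card_subgroup_dvd_card _
  have hvals : J1A.Vals (principalChar G) T U M N D (Nat.card G) :=
    { oT := hoT, oU := hoU, oM := hoMN.1, oN := hoMN.2, oD := hoD, Dpos := hDpos, cong := hV.cong,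
      ortho := ho, cceq := hcc, g8 := c.dvd8, g16 := c.ndvd16, g120 := h120 }
  rcases J1A.arith_main hvals with hg | ⟨y, hP⟩
  · exact hg
  · exact (phantom_false c hV y hP hoT hoU hoMN.1).elim

end Chr

end Main

/-- **S0448**: a finite simple group with a 2-central involution whose centralizer is `Z2 × A5` has
order 175560. -/
theorem main {G : Type u} [Group G] [Finite G] [IsSimpleGroup G] (t : G)
    (ht : Cfsg.IsTwoCentralInvolution t)
    (e : Subgroup.centralizer ({t} : Set G) ≃* Multiplicative (ZMod 2) × alternatingGroup (Fin 5)) :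
    Nat.card G = 175560 := by
  classical
  letI : Fintype G := Fintype.ofFinite G
  have c := Main.exists_cfg t ht (e.symm : H0 ≃* Subgroup.centralizer ({t} : Set G))
  exact Main.card_of_cfg ht.1 c

end Cfsg.Agent.Helper3.J1
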