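import Mathlib
import Cfsg.Agent.Lib.Helper26.J1Defs
import Cfsg.Agent.Lib.Helper3.J1SpecData

/-!
# S3627 (helper3): Boolean checks for the spectrum of `J₁` and their soundness

`mulP` multiplies packed matrices (helper26's packing: 4-bit digits); `ordOK P Q` checks that the
product of the two packed matrices has order dividing one of 6, 10, 15, 7, 11, 19.
-/

set_option autoImplicit false

namespace Cfsg.Agent.Helper3.J1Spec

open Matrix
open Cfsg.Agent.Helper26 Cfsg.Agent.Helper26.J1A Cfsg.Agent.Helper26.J1D Cfsg.Agent.Helper26.J1C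
open Cfsg.Agent.Helper3.J1Spec.D

/-- Kernel-friendly bounded sum. -/
def sumB (n : ℕ) (f : ℕ → ℕ) : ℕ := Nat.rec 0 (fun k ih => f k + ih) n

theorem sumB_succ (n : ℕ) (f : ℕ → ℕ) : sumB (n + 1) f = f n + sumB n f := rfl

theorem sumB_lt (n : ℕ) (f : ℕ → ℕ) (hf : ∀ k < n, f k < 16) :
    sumB n (fun k => f k * 16 ^ k) < 16 ^ n := by
  induction n with
  | zero => simp [sumB]
  | succ n ih =>
    rw [sumB_succ]
    have h1 := ih (fun k hk => hf k (Nat.lt_succ_of_lt hk))
    have h2 : f n < 16 := hf n (Nat.lt_succ_self n)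
    have h3 : f n * 16 ^ n ≤ 15 * 16 ^ n := Nat.mul_le_mul_right _ (by omega)
    rw [pow_succ]
    omega

theorem sumB_digit (n : ℕ) (f : ℕ → ℕ) (hf : ∀ k < n, f k < 16) (j : ℕ) (hj : j < n) :
    sumB n (fun k => f k * 16 ^ k) / 16 ^ j % 16 = f j := by
  induction n with
  | zero => exact absurd hj (Nat.not_lt_zero j)
  | succ n ih =>
    rw [sumB_succ]
    have hlt := sumB_lt n f (fun k hk => hf k (Nat.lt_succ_of_lt hk))
    rcases Nat.lt_succ_iff_lt_or_eq.1 hj with h1 | h1
    · have h2 : 16 ^ n = 16 ^ j * 16 ^ (n - j) := by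
        rw [← pow_add]; congr 1; omega
      have h3 : 16 ^ (n - j) = 16 * 16 ^ (n - j - 1) := by
        rw [← pow_succ']; congr 1; omega
      have h4 : f n * 16 ^ n = 16 ^ j * (16 * (f n * 16 ^ (n - j - 1))) := by
        rw [h2, h3]; ring
      rw [h4, Nat.mul_add_div (by positivity), Nat.mul_add_mod]
      exact ih (fun k hk => hf k (Nat.lt_succ_of_lt hk)) h1
    · subst h1
      rw [Nat.add_div_of_dvd_right (Dvd.intro_left _ rfl), Nat.mul_div_cancel _ (by positivity),
        Nat.div_eq_of_lt hlt, add_zero]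
      exact Nat.mod_eq_of_lt (hf j (Nat.lt_succ_self j))

theorem dg_eq (P k : ℕ) : dg P k = P / 16 ^ k % 16 := by
  unfold dg
  rw [Nat.shiftRight_eq_div_pow, show (15 : ℕ) = 2 ^ 4 - 1 by norm_num,
    Nat.and_two_pow_sub_one_eq_mod, pow_mul]
  norm_num

/-- The product of two packed matrices, packed with reduced digits. -/
def mulP (P Q : ℕ) : ℕ := sumB 49 fun k => (ent P Q (k / 7) (k % 7) % 11) <<< (4 * k)

theorem dg_mulP (P Q r c : ℕ) (hr : r < 7) (hc : c < 7) :
    dg (mulP P Q) (7 * r + c) = ent P Q r c % 11 := by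
  rw [dg_eq]
  unfold mulP
  have h1 : (fun k => (ent P Q (k / 7) (k % 7) % 11) <<< (4 * k)) =
      fun k => (fun k => ent P Q (k / 7) (k % 7) % 11) k * 16 ^ k := by
    funext k
    rw [Nat.shiftLeft_eq, pow_mul]
    norm_num
  rw [h1, sumB_digit 49 _ (fun k _ => lt_trans (Nat.mod_lt _ (by norm_num)) (by norm_num))
    (7 * r + c) (by omega)]
  have h2 : (7 * r + c) / 7 = r := by omega
  have h3 : (7 * r + c) % 7 = c := by omega
  simp only [h2, h3]

theorem decM_mulP (P Q : ℕ) : decM (mulP P Q) = decM P * decM Q := by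
  ext r c
  rw [decM_mul_apply]
  show ((dg (mulP P Q) (7 * r.val + c.val) : ℕ) : ZMod 11) = _
  rw [dg_mulP P Q r.val c.val r.isLt c.isLt, ZMod.natCast_eq_natCast_iff']
  exact Nat.mod_mod _ _

/-- The packed matrix is the identity. -/
def isId (P : ℕ) : Bool := Nat.beq P idP

theorem isId_sound {P : ℕ} (h : isId P = true) : decM P = 1 := by
  rw [Nat.eq_of_beq_eq_true h, decM_idP]

/-- The order of `P * Q` divides one of 6, 10, 15, 7, 11, 19. -/
def ordOK (P Q : ℕ) : Bool :=
  seqN (mulP P Q) fun g => seqN (mulP g g) fun g2 => seqN (mulP g2 g) fun g3 =>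
  seqN (mulP g3 g3) fun g6 => isId g6 ||
  seqN (mulP g3 g2) fun g5 => seqN (mulP g5 g5) fun g10 => isId g10 ||
  seqN (mulP g10 g5) fun g15 => isId g15 ||
  isId (mulP g6 g) || isId (mulP g10 g) || isId (mulP (mulP g15 g3) g)

theorem pow_six {g x : M7} (h : (g * g * g) * (g * g * g) = x) : g ^ 6 = x := by
  rw [← h]; simp only [pow_succ, pow_zero, one_mul, mul_assoc]

theorem pow_ten {g x : M7} (h : (g * g * g * (g * g)) * (g * g * g * (g * g)) = x) :
    g ^ 10 = x := by
  rw [← h]; simp only [pow_succ, pow_zero, one_mul, mul_assoc]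

theorem pow_fifteen {g x : M7}
    (h : (g * g * g * (g * g)) * (g * g * g * (g * g)) * (g * g * g * (g * g)) = x) :
    g ^ 15 = x := by
  rw [← h]; simp only [pow_succ, pow_zero, one_mul, mul_assoc]

theorem pow_seven {g x : M7} (h : (g * g * g) * (g * g * g) * g = x) : g ^ 7 = x := by
  rw [← h]; simp only [pow_succ, pow_zero, one_mul, mul_assoc]

theorem pow_eleven {g x : M7} (h : (g * g * g * (g * g)) * (g * g * g * (g * g)) * g = x) :
    g ^ 11 = x := by
  rw [← h]; simp only [pow_succ, pow_zero, one_mul, mul_assoc]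

theorem pow_nineteen {g x : M7}
    (h : (g * g * g * (g * g)) * (g * g * g * (g * g)) * (g * g * g * (g * g)) * (g * g * g) * g
      = x) : g ^ 19 = x := by
  rw [← h]; simp only [pow_succ, pow_zero, one_mul, mul_assoc]

theorem ordOK_sound {P Q : ℕ} (h : ordOK P Q = true) :
    (decM P * decM Q) ^ 6 = 1 ∨ (decM P * decM Q) ^ 10 = 1 ∨ (decM P * decM Q) ^ 15 = 1 ∨
      (decM P * decM Q) ^ 7 = 1 ∨ (decM P * decM Q) ^ 11 = 1 ∨ (decM P * decM Q) ^ 19 = 1 := by
  unfold ordOK at h
  simp only [seqN_eq, Bool.or_eq_true] at h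
  rcases h with h | h | ((h | h) | h) | h
  · have := isId_sound h
    simp only [decM_mulP] at this
    exact Or.inl (pow_six this)
  · have := isId_sound h
    simp only [decM_mulP] at this
    exact Or.inr (Or.inl (pow_ten this))
  · have := isId_sound h
    simp only [decM_mulP] at this
    exact Or.inr (Or.inr (Or.inl (pow_fifteen this)))
  · have := isId_sound h
    simp only [decM_mulP] at this
    exact Or.inr (Or.inr (Or.inr (Or.inl (pow_seven this))))
  · have := isId_sound h
    simp only [decM_mulP] at this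
    exact Or.inr (Or.inr (Or.inr (Or.inr (Or.inl (pow_eleven this)))))
  · have := isId_sound h
    simp only [decM_mulP] at this
    exact Or.inr (Or.inr (Or.inr (Or.inr (Or.inr (pow_nineteen this)))))

/-- The point check: `PTV i` is the point `i`, and `U (CJ i)` maps it to the point `REP i`,
which is its own representative. -/
def ptOK (i : ℕ) : Bool :=
  eqMulVec (TT i) bP (PTV i) && Nat.blt (CJ i) nH && Nat.blt (REP i) nPts &&
    eqMulVec (UU (CJ i)) (PTV i) (PTV (REP i)) && Nat.beq (REP (REP i)) (REP i)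

/-- The order check at a representative `r`: all `E r * U k` have order in the spectrum. -/
def chkRep (r : ℕ) : Bool := allB 57 fun k => ordOK (TT r) (UU k)

/-- The list of the orbit representatives. -/
def repsList : List ℕ := [0, 1, 2, 3, 4, 5, 6, 7, 8, 9, 10, 11, 12, 13, 15, 16, 17, 18, 19, 20, 21, 22, 24, 25, 26, 30, 31, 32, 33, 34, 36, 38, 43, 47, 52, 61, 62, 63, 65, 67, 68, 69, 72, 74, 81, 89, 90, 98, 107, 114, 118, 121, 132, 136, 137, 138, 156, 157, 166, 172, 186, 190, 192, 204, 217, 219, 228, 520]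

/-- Every fixed point of `REP` is in the list. -/
def repListOK (r : ℕ) : Bool := !(Nat.beq (REP r) r) || repsList.contains r

end Cfsg.Agent.Helper3.J1Spec
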