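import Cfsg.Agent.Lib.Helper3.J1SpecChk

/-! Kernel-evaluated orbit checks for the `J₁` spectrum (generated). -/

set_option autoImplicit false

namespace Cfsg.Agent.Helper3.J1Spec

open Cfsg.Agent.Helper26

theorem pt_chk : allB 3080 ptOK = true := by decide +kernel

theorem replist_chk : allB 3080 repListOK = true := by decide +kernel

end Cfsg.Agent.Helper3.J1Spec
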