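import Cfsg.Agent.Lib.Helper3.J1SpecChk

/-! Kernel-evaluated order checks for the `J₁` spectrum at the representatives [0, 1, 2, 3, 4, 5] (generated). -/

set_option autoImplicit false

namespace Cfsg.Agent.Helper3.J1Spec

theorem chk_0 : chkRep 0 = true := by decide +kernel
theorem chk_1 : chkRep 1 = true := by decide +kernel
theorem chk_2 : chkRep 2 = true := by decide +kernel
theorem chk_3 : chkRep 3 = true := by decide +kernel
theorem chk_4 : chkRep 4 = true := by decide +kernel
theorem chk_5 : chkRep 5 = true := by decide +kernel

end Cfsg.Agent.Helper3.J1Spec
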