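import Cfsg.Agent.Lib.Helper3.J1SpecChk

/-! Kernel-evaluated order checks for the `J₁` spectrum at the representatives [6, 7, 8, 9, 10, 11] (generated). -/

set_option autoImplicit false

namespace Cfsg.Agent.Helper3.J1Spec

theorem chk_6 : chkRep 6 = true := by decide +kernel
theorem chk_7 : chkRep 7 = true := by decide +kernel
theorem chk_8 : chkRep 8 = true := by decide +kernel
theorem chk_9 : chkRep 9 = true := by decide +kernel
theorem chk_10 : chkRep 10 = true := by decide +kernel
theorem chk_11 : chkRep 11 = true := by decide +kernel

end Cfsg.Agent.Helper3.J1Spec
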