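import Cfsg.Agent.Lib.Helper3.J1SpecChk

/-! Kernel-evaluated order checks for the `J₁` spectrum at the representatives [186, 190, 192, 204, 217, 219] (generated). -/

set_option autoImplicit false

namespace Cfsg.Agent.Helper3.J1Spec

theorem chk_186 : chkRep 186 = true := by decide +kernel
theorem chk_190 : chkRep 190 = true := by decide +kernel
theorem chk_192 : chkRep 192 = true := by decide +kernel
theorem chk_204 : chkRep 204 = true := by decide +kernel
theorem chk_217 : chkRep 217 = true := by decide +kernel
theorem chk_219 : chkRep 219 = true := by decide +kernel

end Cfsg.Agent.Helper3.J1Spec
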