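import Cfsg.Agent.Lib.Helper3.J1SpecChk

/-! Kernel-evaluated order checks for the `J₁` spectrum at the representatives [12, 13, 15, 16, 17, 18] (generated). -/

set_option autoImplicit false

namespace Cfsg.Agent.Helper3.J1Spec

theorem chk_12 : chkRep 12 = true := by decide +kernel
theorem chk_13 : chkRep 13 = true := by decide +kernel
theorem chk_15 : chkRep 15 = true := by decide +kernel
theorem chk_16 : chkRep 16 = true := by decide +kernel
theorem chk_17 : chkRep 17 = true := by decide +kernel
theorem chk_18 : chkRep 18 = true := by decide +kernel

end Cfsg.Agent.Helper3.J1Spec
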