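import Cfsg.Agent.Lib.Helper3.J1SpecChk

/-! Kernel-evaluated order checks for the `J₁` spectrum at the representatives [19, 20, 21, 22, 24, 25] (generated). -/

set_option autoImplicit false

namespace Cfsg.Agent.Helper3.J1Spec

theorem chk_19 : chkRep 19 = true := by decide +kernel
theorem chk_20 : chkRep 20 = true := by decide +kernel
theorem chk_21 : chkRep 21 = true := by decide +kernel
theorem chk_22 : chkRep 22 = true := by decide +kernel
theorem chk_24 : chkRep 24 = true := by decide +kernel
theorem chk_25 : chkRep 25 = true := by decide +kernel

end Cfsg.Agent.Helper3.J1Spec
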