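import Cfsg.Agent.Lib.Helper3.J1SpecChk

/-! Kernel-evaluated order checks for the `J₁` spectrum at the representatives [26, 30, 31, 32, 33, 34] (generated). -/

set_option autoImplicit false

namespace Cfsg.Agent.Helper3.J1Spec

theorem chk_26 : chkRep 26 = true := by decide +kernel
theorem chk_30 : chkRep 30 = true := by decide +kernel
theorem chk_31 : chkRep 31 = true := by decide +kernel
theorem chk_32 : chkRep 32 = true := by decide +kernel
theorem chk_33 : chkRep 33 = true := by decide +kernel
theorem chk_34 : chkRep 34 = true := by decide +kernel

end Cfsg.Agent.Helper3.J1Spec
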