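import Cfsg.Agent.Lib.Helper3.J1SpecChk

/-! Kernel-evaluated order checks for the `J₁` spectrum at the representatives [36, 38, 43, 47, 52, 61] (generated). -/

set_option autoImplicit false

namespace Cfsg.Agent.Helper3.J1Spec

theorem chk_36 : chkRep 36 = true := by decide +kernel
theorem chk_38 : chkRep 38 = true := by decide +kernel
theorem chk_43 : chkRep 43 = true := by decide +kernel
theorem chk_47 : chkRep 47 = true := by decide +kernel
theorem chk_52 : chkRep 52 = true := by decide +kernel
theorem chk_61 : chkRep 61 = true := by decide +kernel

end Cfsg.Agent.Helper3.J1Spec
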