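import Cfsg.Agent.Lib.Helper3.J1SpecChk

/-! Kernel-evaluated order checks for the `J₁` spectrum at the representatives [62, 63, 65, 67, 68, 69] (generated). -/

set_option autoImplicit false

namespace Cfsg.Agent.Helper3.J1Spec

theorem chk_62 : chkRep 62 = true := by decide +kernel
theorem chk_63 : chkRep 63 = true := by decide +kernel
theorem chk_65 : chkRep 65 = true := by decide +kernel
theorem chk_67 : chkRep 67 = true := by decide +kernel
theorem chk_68 : chkRep 68 = true := by decide +kernel
theorem chk_69 : chkRep 69 = true := by decide +kernel

end Cfsg.Agent.Helper3.J1Spec
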