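import Cfsg.Agent.Lib.Helper3.J1SpecChk

/-! Kernel-evaluated order checks for the `J₁` spectrum at the representatives [72, 74, 81, 89, 90, 98] (generated). -/

set_option autoImplicit false

namespace Cfsg.Agent.Helper3.J1Spec

theorem chk_72 : chkRep 72 = true := by decide +kernel
theorem chk_74 : chkRep 74 = true := by decide +kernel
theorem chk_81 : chkRep 81 = true := by decide +kernel
theorem chk_89 : chkRep 89 = true := by decide +kernel
theorem chk_90 : chkRep 90 = true := by decide +kernel
theorem chk_98 : chkRep 98 = true := by decide +kernel

end Cfsg.Agent.Helper3.J1Spec
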