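import Cfsg.Agent.Lib.Helper3.J1SpecChk

/-! Kernel-evaluated order checks for the `J₁` spectrum at the representatives [107, 114, 118, 121, 132, 136] (generated). -/

set_option autoImplicit false

namespace Cfsg.Agent.Helper3.J1Spec

theorem chk_107 : chkRep 107 = true := by decide +kernel
theorem chk_114 : chkRep 114 = true := by decide +kernel
theorem chk_118 : chkRep 118 = true := by decide +kernel
theorem chk_121 : chkRep 121 = true := by decide +kernel
theorem chk_132 : chkRep 132 = true := by decide +kernel
theorem chk_136 : chkRep 136 = true := by decide +kernel

end Cfsg.Agent.Helper3.J1Spec
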