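import Cfsg.Agent.Lib.Helper3.J1SpecChk

/-! Kernel-evaluated order checks for the `J₁` spectrum at the representatives [137, 138, 156, 157, 166, 172] (generated). -/

set_option autoImplicit false

namespace Cfsg.Agent.Helper3.J1Spec

theorem chk_137 : chkRep 137 = true := by decide +kernel
theorem chk_138 : chkRep 138 = true := by decide +kernel
theorem chk_156 : chkRep 156 = true := by decide +kernel
theorem chk_157 : chkRep 157 = true := by decide +kernel
theorem chk_166 : chkRep 166 = true := by decide +kernel
theorem chk_172 : chkRep 172 = true := by decide +kernel

end Cfsg.Agent.Helper3.J1Spec
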