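import Cfsg.Agent.Lib.Helper3.J1SpecChkA
import Cfsg.Agent.Lib.Helper3.J1SpecChkB0
import Cfsg.Agent.Lib.Helper3.J1SpecChkB1
import Cfsg.Agent.Lib.Helper3.J1SpecChkB2
import Cfsg.Agent.Lib.Helper3.J1SpecChkB3
import Cfsg.Agent.Lib.Helper3.J1SpecChkB4
import Cfsg.Agent.Lib.Helper3.J1SpecChkB5
import Cfsg.Agent.Lib.Helper3.J1SpecChkB6
import Cfsg.Agent.Lib.Helper3.J1SpecChkB7
import Cfsg.Agent.Lib.Helper3.J1SpecChkB8
import Cfsg.Agent.Lib.Helper3.J1SpecChkB9
import Cfsg.Agent.Lib.Helper3.J1SpecChkB10
import Cfsg.Agent.Lib.Helper3.J1SpecChkB11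

/-! Collected checks for the `J₁` spectrum (generated). -/

set_option autoImplicit false

namespace Cfsg.Agent.Helper3.J1Spec

open Cfsg.Agent.Helper26

theorem pt_all (i : ℕ) (hi : i < 3080) : ptOK i = true := allB_true pt_chk i hi

theorem rep_all (r : ℕ) (hr : r < 3080) (h : Cfsg.Agent.Helper3.J1Spec.D.REP r = r) :
    chkRep r = true := by
  have h1 := allB_true replist_chk r hr
  unfold repListOK at h1
  have h0 : Nat.beq (Cfsg.Agent.Helper3.J1Spec.D.REP r) r = true := by rw [h]; exact Nat.beq_refl r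
  rw [h0, Bool.not_true, Bool.false_or] at h1
  have h2 : r ∈ repsList := List.contains_iff_mem.1 h1
  unfold repsList at h2
  simp only [List.mem_cons, List.not_mem_nil, or_false] at h2
  rcases h2 with rfl | rfl | rfl | rfl | rfl | rfl | rfl | rfl | rfl | rfl | rfl | rfl | rfl | rfl | rfl | rfl | rfl | rfl | rfl | rfl | rfl | rfl | rfl | rfl | rfl | rfl | rfl | rfl | rfl | rfl | rfl | rfl | rfl | rfl | rfl | rfl | rfl | rfl | rfl | rfl | rfl | rfl | rfl | rfl | rfl | rfl | rfl | rfl | rfl | rfl | rfl | rfl | rfl | rfl | rfl | rfl | rfl | rfl | rfl | rfl | rfl | rfl | rfl | rfl | rfl | rfl | rfl | rfl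
  · exact chk_0
  · exact chk_1
  · exact chk_2
  · exact chk_3
  · exact chk_4
  · exact chk_5
  · exact chk_6
  · exact chk_7
  · exact chk_8
  · exact chk_9
  · exact chk_10
  · exact chk_11
  · exact chk_12
  · exact chk_13
  · exact chk_15
  · exact chk_16
  · exact chk_17
  · exact chk_18
  · exact chk_19
  · exact chk_20
  · exact chk_21
  · exact chk_22
  · exact chk_24
  · exact chk_25
  · exact chk_26
  · exact chk_30
  · exact chk_31
  · exact chk_32
  · exact chk_33
  · exact chk_34
  · exact chk_36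
  · exact chk_38
  · exact chk_43
  · exact chk_47
  · exact chk_52
  · exact chk_61
  · exact chk_62
  · exact chk_63
  · exact chk_65
  · exact chk_67
  · exact chk_68
  · exact chk_69
  · exact chk_72
  · exact chk_74
  · exact chk_81
  · exact chk_89
  · exact chk_90
  · exact chk_98
  · exact chk_107
  · exact chk_114
  · exact chk_118
  · exact chk_121
  · exact chk_132
  · exact chk_136
  · exact chk_137
  · exact chk_138
  · exact chk_156
  · exact chk_157
  · exact chk_166
  · exact chk_172
  · exact chk_186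
  · exact chk_190
  · exact chk_192
  · exact chk_204
  · exact chk_217
  · exact chk_219
  · exact chk_228
  · exact chk_520

end Cfsg.Agent.Helper3.J1Spec
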