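import Cfsg.Agent.Lib.Helper3.J1SpecChk

/-! Kernel-evaluated order checks for the `J₁` spectrum at the representatives [228, 520] (generated). -/

set_option autoImplicit false

namespace Cfsg.Agent.Helper3.J1Spec

theorem chk_228 : chkRep 228 = true := by decide +kernel
theorem chk_520 : chkRep 520 = true := by decide +kernel

end Cfsg.Agent.Helper3.J1Spec
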