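import Mathlib
import Cfsg.Agent.Lib.Helper26.J1Group
import Cfsg.Agent.Lib.Helper3.J1SpecChk
import Cfsg.Agent.Lib.Helper3.J1SpecDefs

/-!
# S3627 (helper3): every member of `specJ1` is an element order of the explicit `J₁ ≤ GL₇(11)`

Explicit elements `E r * U k` (helper26's Schreier data) of orders 2, 3, 5, 6, 7, 10, 11, 15, 19;
the order is certified by computing all powers below it.
-/

set_option autoImplicit false

namespace Cfsg.Agent.Helper3.J1Spec

open Matrix
open Cfsg.Agent.Helper26 Cfsg.Agent.Helper26.J1A Cfsg.Agent.Helper26.J1D Cfsg.Agent.Helper26.J1C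
  Cfsg.Agent.Helper26.J1G

/-- Powers of a packed matrix. -/
def powP (g : ℕ) : ℕ → ℕ
  | 0 => idP
  | m + 1 => mulP (powP g m) g

theorem decM_powP (g m : ℕ) : decM (powP g m) = decM g ^ m := by
  induction m with
  | zero => rw [powP, decM_idP, pow_zero]
  | succ m ih => rw [powP, decM_mulP, ih, pow_succ]

/-- The packed matrix decodes to the identity. -/
def isIdM (P : ℕ) : Bool :=
  allB 7 fun r => allB 7 fun c => Nat.beq (dg P (7 * r + c) % 11) (cond (Nat.beq r c) 1 0)

theorem allB_intro' {n : ℕ} {f : ℕ → Bool} (h : ∀ i < n, f i = true) : allB n f = true := by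
  induction n with
  | zero => rfl
  | succ n ih =>
    rw [allB_succ, Bool.and_eq_true]
    exact ⟨h n (Nat.lt_succ_self n), ih fun i hi => h i (Nat.lt_succ_of_lt hi)⟩

theorem entry_iff (x r c : ℕ) (hr : r < 7) (hc : c < 7) :
    Nat.beq (x % 11) (cond (Nat.beq r c) 1 0) = true ↔
      ((x : ℕ) : ZMod 11) = (1 : M7) ⟨r, hr⟩ ⟨c, hc⟩ := by
  rw [Matrix.one_apply]
  by_cases h : r = c
  · subst h
    rw [Nat.beq_refl, cond_true, if_pos rfl]
    constructor
    · intro h1
      have h2 : x % 11 = 1 := Nat.eq_of_beq_eq_true h1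
      have : ((x : ℕ) : ZMod 11) = ((1 : ℕ) : ZMod 11) := by
        rw [ZMod.natCast_eq_natCast_iff']; rw [h2]
      simpa using this
    · intro h1
      have : ((x : ℕ) : ZMod 11) = ((1 : ℕ) : ZMod 11) := by simpa using h1
      rw [ZMod.natCast_eq_natCast_iff'] at this
      have h2 : x % 11 = 1 := by rw [this]
      rw [h2]; rfl
  · have hb : Nat.beq r c = false := by
      cases hb : Nat.beq r c
      · rfl
      · exact absurd (Nat.eq_of_beq_eq_true hb) h
    have hne : (⟨r, hr⟩ : Fin 7) ≠ ⟨c, hc⟩ := fun e => h (Fin.mk.inj_iff.1 e)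
    rw [hb, cond_false, if_neg hne]
    constructor
    · intro h1
      have h2 : x % 11 = 0 := Nat.eq_of_beq_eq_true h1
      have : ((x : ℕ) : ZMod 11) = ((0 : ℕ) : ZMod 11) := by
        rw [ZMod.natCast_eq_natCast_iff']; rw [h2]
      simpa using this
    · intro h1
      have : ((x : ℕ) : ZMod 11) = ((0 : ℕ) : ZMod 11) := by simpa using h1
      rw [ZMod.natCast_eq_natCast_iff'] at this
      have h2 : x % 11 = 0 := by rw [this]
      rw [h2]; rfl

theorem isIdM_iff (P : ℕ) : isIdM P = true ↔ decM P = 1 := by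
  constructor
  · intro h
    ext r c
    have h1 := allB_true (allB_true h r.val r.isLt) c.val c.isLt
    exact (entry_iff _ r.val c.val r.isLt c.isLt).1 h1
  · intro h
    apply allB_intro'
    intro r hr
    apply allB_intro'
    intro c hc
    apply (entry_iff _ r c hr hc).2
    have := congrFun (congrFun h ⟨r, hr⟩) ⟨c, hc⟩
    exact this

/-- `P * Q` has order exactly `n`. -/
def exOK (P Q n : ℕ) : Bool :=
  seqN (mulP P Q) fun g =>
    isIdM (powP g n) && allB n fun m => Nat.beq m 0 || !(isIdM (powP g m))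

theorem exOK_sound (r k n : ℕ) (hr : r < nE) (hk : k < nH) (hn : 0 < n)
    (h : exOK (TT r) (UU k) n = true) : orderOf (E r * U k) = n := by
  unfold exOK at h
  rw [seqN_eq, Bool.and_eq_true] at h
  obtain ⟨h1, h2⟩ := h
  have hval : ∀ m : ℕ, (((E r * U k) ^ m : A) : M7) = decM (powP (mulP (TT r) (UU k)) m) := by
    intro m
    rw [decM_powP, decM_mulP, Units.val_pow_eq_pow_val, Units.val_mul, E_val r hr, U_val k hk]
  rw [orderOf_eq_iff hn]
  constructor
  · apply Units.ext
    rw [hval n, (isIdM_iff _).1 h1]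
    rfl
  · intro m hm hm0 hpow
    have h3 := allB_true h2 m hm
    have hm0' : Nat.beq m 0 = false := by
      cases hb : Nat.beq m 0
      · rfl
      · have := Nat.eq_of_beq_eq_true hb
        omega
    rw [hm0', Bool.false_or] at h3
    have h4 : isIdM (powP (mulP (TT r) (UU k)) m) = true := by
      rw [isIdM_iff, ← hval m, hpow]
      rfl
    rw [h4] at h3
    exact absurd h3 (by decide)

theorem ex_2 : exOK (TT 6) (UU 56) 2 = true := by decide +kernel
theorem ex_3 : exOK (TT 0) (UU 2) 3 = true := by decide +kernel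
theorem ex_5 : exOK (TT 1) (UU 5) 5 = true := by decide +kernel
theorem ex_6 : exOK (TT 1) (UU 27) 6 = true := by decide +kernel
theorem ex_7 : exOK (TT 1) (UU 0) 7 = true := by decide +kernel
theorem ex_10 : exOK (TT 1) (UU 1) 10 = true := by decide +kernel
theorem ex_11 : exOK (TT 1) (UU 6) 11 = true := by decide +kernel
theorem ex_15 : exOK (TT 1) (UU 10) 15 = true := by decide +kernel
theorem ex_19 : exOK (TT 0) (UU 1) 19 = true := by decide +kernel

theorem exists_order_closure (n : ℕ) (hn : n ∈ specJ1) :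
    ∃ g : A, g ∈ Subgroup.closure SG ∧ orderOf g = n := by
  have hmem : ∀ r k : ℕ, E r * U k ∈ Subgroup.closure SG := fun r k =>
    Subgroup.mul_mem _ (E_mem r) (H_le (U_mem k))
  unfold specJ1 at hn
  simp only [Finset.mem_insert, Finset.mem_singleton] at hn
  rcases hn with rfl | rfl | rfl | rfl | rfl | rfl | rfl | rfl | rfl | rfl
  · exact ⟨1, Subgroup.one_mem _, orderOf_one⟩
  · exact ⟨_, hmem 6 56, exOK_sound 6 56 2 (by decide) (by decide) (by norm_num) ex_2⟩
  · exact ⟨_, hmem 0 2, exOK_sound 0 2 3 (by decide) (by decide) (by norm_num) ex_3⟩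
  · exact ⟨_, hmem 1 5, exOK_sound 1 5 5 (by decide) (by decide) (by norm_num) ex_5⟩
  · exact ⟨_, hmem 1 27, exOK_sound 1 27 6 (by decide) (by decide) (by norm_num) ex_6⟩
  · exact ⟨_, hmem 1 0, exOK_sound 1 0 7 (by decide) (by decide) (by norm_num) ex_7⟩
  · exact ⟨_, hmem 1 1, exOK_sound 1 1 10 (by decide) (by decide) (by norm_num) ex_10⟩
  · exact ⟨_, hmem 1 6, exOK_sound 1 6 11 (by decide) (by decide) (by norm_num) ex_11⟩
  · exact ⟨_, hmem 1 10, exOK_sound 1 10 15 (by decide) (by decide) (by norm_num) ex_15⟩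
  · exact ⟨_, hmem 0 1, exOK_sound 0 1 19 (by decide) (by decide) (by norm_num) ex_19⟩

/-- Piece J1SPEC-EX: every member of `specJ1` is an element order of the explicit `J₁`. -/
theorem exists_order (n : ℕ) (hn : n ∈ specJ1) : ∃ g : ↥Cfsg.Spor.J1, orderOf g = n := by
  obtain ⟨g, hg, ho⟩ := exists_order_closure n hn
  refine ⟨⟨g, hg⟩, ?_⟩
  rw [← Subgroup.orderOf_coe]
  exact ho

end Cfsg.Agent.Helper3.J1Spec
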