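import Mathlib
import Cfsg.Agent.Lib.Helper26.J1Group
import Cfsg.Agent.Lib.Helper3.J1SpecChkAll
import Cfsg.Agent.Lib.Helper3.J1SpecDefs

/-!
# S3627 (helper3): every element order of the explicit `J₁ ≤ GL₇(11)` lies in `specJ1`

Every `g ∈ J₁` is `E i * h` with `h` in the stabilizer `H` (order 57) of the base point.  Conjugating
by `U (CJ i) ∈ H` moves the point `i` to the representative `REP i` of its `H`-orbit, so `g` is
conjugate to some `E r * U k` with `r` one of the 68 representatives; the orders of these 68 · 57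
elements are checked by the kernel (`chkRep`).
-/

set_option autoImplicit false

namespace Cfsg.Agent.Helper3.J1Spec

open Matrix
open Cfsg.Agent.Helper26 Cfsg.Agent.Helper26.J1A Cfsg.Agent.Helper26.J1D Cfsg.Agent.Helper26.J1C
  Cfsg.Agent.Helper26.J1G
open Cfsg.Agent.Helper3.J1Spec.D

/-- The coset decomposition behind the Schreier–Sims step. -/
theorem schreier_cover {A : Type*} [Group A] [Finite A]
    (S : Set A) (H : Subgroup A) (n : ℕ) (T : ℕ → A)
    (hn : 0 < n) (hT0 : T 0 = 1)
    (hstep : ∀ g ∈ S, ∀ i < n, ∃ j < n, (T j)⁻¹ * g * T i ∈ H) :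
    ∀ k ∈ Subgroup.closure S, ∃ i < n, ∃ h ∈ H, k = T i * h := by
  classical
  let X : Set A := {k | ∃ i < n, ∃ h ∈ H, k = T i * h}
  have hX1 : (1 : A) ∈ X := ⟨0, hn, 1, H.one_mem, by rw [hT0, one_mul]⟩
  have hXS : ∀ g ∈ S, ∀ k ∈ X, g * k ∈ X := by
    rintro g hg k ⟨i, hi, h, hh, rfl⟩
    obtain ⟨j, hj, hsch⟩ := hstep g hg i hi
    refine ⟨j, hj, (T j)⁻¹ * g * T i * h, H.mul_mem hsch hh, ?_⟩
    group
  let Y : Subgroup A :=
    { carrier := {k | ∀ z ∈ X, k * z ∈ X}
      one_mem' := by intro z hz; simpa using hz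
      mul_mem' := by
        intro a c ha hc z hz
        rw [mul_assoc]; exact ha _ (hc _ hz)
      inv_mem' := by
        intro a ha
        have hpow : ∀ m : ℕ, ∀ z ∈ X, a ^ m * z ∈ X := by
          intro m
          induction m with
          | zero => intro z hz; simpa using hz
          | succ m ih =>
            intro z hz
            rw [pow_succ, mul_assoc]
            exact ih _ (ha _ hz)
        intro z hz
        have hinv : a⁻¹ = a ^ (orderOf a - 1) := by
          have h1 : 0 < orderOf a := orderOf_pos a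
          have : a ^ (orderOf a - 1) * a = 1 := by
            rw [← pow_succ, Nat.sub_add_cancel h1, pow_orderOf_eq_one]
          exact (eq_inv_of_mul_eq_one_left this).symm
        rw [hinv]
        exact hpow _ z hz }
  have hSY : S ⊆ Y := fun g hg z hz => hXS g hg z hz
  have hclY : Subgroup.closure S ≤ Y := (Subgroup.closure_le Y).2 hSY
  intro k hk
  have h0 : k * 1 ∈ X := hclY hk 1 hX1
  rw [mul_one] at h0
  exact h0

/-- Every element of `J₁` is `E i * h` with `h` in the stabilizer. -/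
theorem cover : ∀ g ∈ Subgroup.closure SG, ∃ i < nPts, ∃ h ∈ Subgroup.closure SH, g = E i * h := by
  apply schreier_cover SG (Subgroup.closure SH) nPts E (by decide) E_zero
  intro g hg i hi
  obtain ⟨s, hs, rfl⟩ := mem_SG hg
  obtain ⟨h1, h2, h3⟩ := schOK_spec s hs hi
  refine ⟨tau s i, h1, ?_⟩
  rw [mul_assoc, h3, ← mul_assoc, inv_mul_cancel, one_mul]
  exact U_mem _

theorem pt_spec (i : ℕ) (hi : i < nPts) :
    E i • b1 = decV (PTV i) ∧ CJ i < nH ∧ REP i < nPts ∧
      U (CJ i) • decV (PTV i) = decV (PTV (REP i)) ∧ REP (REP i) = REP i := by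
  have h := pt_all i hi
  unfold ptOK at h
  simp only [Bool.and_eq_true] at h
  obtain ⟨⟨⟨⟨h1, h2⟩, h3⟩, h4⟩, h5⟩ := h
  have h2' : CJ i < nH := by
    unfold Nat.blt at h2
    have := Nat.le_of_ble_eq_true h2
    omega
  have h3' : REP i < nPts := by
    unfold Nat.blt at h3
    have := Nat.le_of_ble_eq_true h3
    omega
  refine ⟨?_, h2', h3', ?_, Nat.eq_of_beq_eq_true h5⟩
  · rw [smul_eq, E_val i (lt_trans hi (by decide)), b1]
    exact eqMulVec_sound h1
  · rw [smul_eq, U_val _ h2']
    exact eqMulVec_sound h4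

/-- The checked elements have order in the spectrum. -/
theorem order_rep (r : ℕ) (hr : r < nPts) (hrr : REP r = r) (k : ℕ) (hk : k < nH) :
    orderOf (E r * U k) ∈ specJ1 := by
  have h1 := allB_true (rep_all r hr hrr) k hk
  have h2 := ordOK_sound h1
  rw [← E_val r (lt_trans hr (by decide)), ← U_val k hk] at h2
  have key : ∀ n : ℕ, (((E r : A) : M7) * ((U k : A) : M7)) ^ n = 1 → (E r * U k) ^ n = 1 := by
    intro n hn
    apply Units.ext
    rw [Units.val_pow_eq_pow_val, Units.val_mul, hn]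
    rfl
  have hd : ∀ n : ℕ, n = 6 ∨ n = 10 ∨ n = 15 ∨ n = 7 ∨ n = 11 ∨ n = 19 →
      ∀ d ∈ Nat.divisors n, d ∈ specJ1 := by
    intro n hn
    rcases hn with rfl | rfl | rfl | rfl | rfl | rfl <;> decide
  have fin : ∀ n : ℕ, n = 6 ∨ n = 10 ∨ n = 15 ∨ n = 7 ∨ n = 11 ∨ n = 19 →
      (E r * U k) ^ n = 1 → orderOf (E r * U k) ∈ specJ1 := by
    intro n hn hp
    apply hd n hn
    rw [Nat.mem_divisors]
    refine ⟨orderOf_dvd_of_pow_eq_one hp, ?_⟩
    rcases hn with rfl | rfl | rfl | rfl | rfl | rfl <;> norm_num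
  rcases h2 with h | h | h | h | h | h
  · exact fin 6 (by simp) (key 6 h)
  · exact fin 10 (by simp) (key 10 h)
  · exact fin 15 (by simp) (key 15 h)
  · exact fin 7 (by simp) (key 7 h)
  · exact fin 11 (by simp) (key 11 h)
  · exact fin 19 (by simp) (key 19 h)

/-- Every element of `⟨X, Y⟩` has order in the spectrum. -/
theorem orderOf_mem_closure (g : A) (hg : g ∈ Subgroup.closure SG) : orderOf g ∈ specJ1 := by
  obtain ⟨i, hi, h, hh, rfl⟩ := cover g hg
  obtain ⟨p1, p2, p3, p4, p5⟩ := pt_spec i hi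
  obtain ⟨q1, -, -, -, -⟩ := pt_spec (REP i) p3
  set c := U (CJ i) with hc
  set r := REP i with hr
  have hcH : c ∈ Subgroup.closure SH := U_mem _
  -- `c * E i` and `E r` agree on the base point
  have e1 : (c * E i) • b1 = E r • b1 := by
    rw [mul_smul, p1, p4, q1]
  have hm : (E r)⁻¹ * c * E i ∈ Subgroup.closure SH := by
    apply level1.1
    · exact Subgroup.mul_mem _ (Subgroup.mul_mem _ (Subgroup.inv_mem _ (E_mem r)) (H_le hcH))
        (E_mem i)
    · rw [mul_assoc, mul_smul, e1, ← mul_smul, inv_mul_cancel, one_smul]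
  have hh' : (E r)⁻¹ * c * E i * h * c⁻¹ ∈ Subgroup.closure SH :=
    Subgroup.mul_mem _ (Subgroup.mul_mem _ hm hh) (Subgroup.inv_mem _ hcH)
  obtain ⟨k, hk, hkU⟩ := level2.1 _ hh'
  have e2 : c * (E i * h) * c⁻¹ = E r * U k := by
    rw [← hkU]; group
  have e3 : orderOf (E i * h) = orderOf (c * (E i * h) * c⁻¹) := by
    have := (MulAut.conj c).orderOf_eq (E i * h)
    rw [MulAut.conj_apply] at this
    exact this.symm
  rw [e3, e2]
  exact order_rep r p3 p5 k hk

/-- Piece J1SPEC-UP: every element order of the explicit `J₁` is in `specJ1`. -/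
theorem orderOf_mem (g : ↥Cfsg.Spor.J1) : orderOf g ∈ specJ1 := by
  rw [← Subgroup.orderOf_coe]
  exact orderOf_mem_closure g.1 g.2

end Cfsg.Agent.Helper3.J1Spec
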