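import Mathlib
import Cfsg.Agent.Lib.Helper1.HallConj
import Cfsg.Agent.Lib.Helper3.Hall
import Cfsg.Agent.Lib.Helper3.PrimSolv
import Cfsg.Agent.Lib.Helper3.NilpotentHall

/-!
# Products of two nilpotent subgroups: a proper normal subgroup containing one of the factors

Given the solvability of products of two nilpotent groups (Kegel-Wielandt), a group `G = A B` with
`A`, `B` nilpotent, not both equal to `G`, has a proper normal subgroup containing `A` or `B`.
-/

set_option autoImplicit false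
set_option linter.style.haveILetI false
set_option linter.unusedSectionVars false

namespace Cfsg.Agent.Helper3.KW

open scoped Pointwise

universe u

/-- A proper subgroup of a finite nilpotent group lies in a proper normal subgroup. -/
theorem exists_normal_of_nilpotent {G : Type*} [Group G] [Finite G] (hG : Group.IsNilpotent G)
    {B : Subgroup G} (hB : B ≠ ⊤) : ∃ N : Subgroup G, N.Normal ∧ N ≠ ⊤ ∧ B ≤ N := by
  obtain ⟨M, hM, hBM⟩ := (eq_top_or_exists_le_coatom B).resolve_left hB
  exact ⟨M, Subgroup.NormalizerCondition.normal_of_coatom M Group.normalizerCondition_of_isNilpotent hM,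
    hM.1, hBM⟩

/-- Pulling back a proper normal subgroup of a quotient. -/
theorem exists_normal_of_quotient {G : Type*} [Group G] (K : Subgroup G) [K.Normal]
    {A : Subgroup G}
    (h : ∃ N : Subgroup (G ⧸ K), N.Normal ∧ N ≠ ⊤ ∧ A.map (QuotientGroup.mk' K) ≤ N) :
    ∃ N : Subgroup G, N.Normal ∧ N ≠ ⊤ ∧ A ≤ N := by
  obtain ⟨N, hNn, hN, hAN⟩ := h
  refine ⟨N.comap (QuotientGroup.mk' K), hNn.comap _, fun htop => hN ?_,
    Subgroup.map_le_iff_le_comap.1 hAN⟩
  rw [eq_top_iff]
  intro x _
  obtain ⟨g, rfl⟩ := QuotientGroup.mk'_surjective K x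
  have : g ∈ N.comap (QuotientGroup.mk' K) := htop ▸ Subgroup.mem_top g
  exact this

theorem factor_conj {G : Type*} [Group G] {A B : Subgroup G}
    (hAB : ∀ g : G, ∃ a ∈ A, ∃ b ∈ B, g = a * b) (g : G) :
    ∀ x : G, ∃ a ∈ A, ∃ b ∈ MulAut.conj g • B, x = a * b := by
  intro x
  obtain ⟨a₀, ha₀, b₀, hb₀, hg⟩ := hAB g
  obtain ⟨a, ha, b, hb, hx⟩ := hAB (x * a₀)
  refine ⟨a * a₀⁻¹, A.mul_mem ha (A.inv_mem ha₀), a₀ * b * a₀⁻¹, ?_, ?_⟩
  · rw [Subgroup.mem_pointwise_smul_iff_inv_smul_mem]
    show (MulAut.conj g)⁻¹ (a₀ * b * a₀⁻¹) ∈ B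
    rw [← map_inv, MulAut.conj_apply, hg]
    have : (a₀ * b₀)⁻¹ * (a₀ * b * a₀⁻¹) * (a₀ * b₀)⁻¹⁻¹ = b₀⁻¹ * b * b₀ := by group
    rw [this]
    exact B.mul_mem (B.mul_mem (B.inv_mem hb₀) hb) hb₀
  · have : x = (x * a₀) * a₀⁻¹ := by group
    rw [this, hx]
    group

variable (hKW : ∀ (H : Type u) [Group H] [Finite H] (A B : Subgroup H),
  Group.IsNilpotent A → Group.IsNilpotent B → (∀ g : H, ∃ a ∈ A, ∃ b ∈ B, g = a * b) →
    Group.IsSolvable H)

include hKW in
theorem exists_normal_aux : ∀ (n : ℕ) (G : Type u) [Group G] [Finite G], Nat.card G = n →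
    ∀ A B : Subgroup G, Group.IsNilpotent A → Group.IsNilpotent B →
      (∀ g : G, ∃ a ∈ A, ∃ b ∈ B, g = a * b) → (A ≠ ⊤ ∨ B ≠ ⊤) →
      ∃ N : Subgroup G, N.Normal ∧ N ≠ ⊤ ∧ (A ≤ N ∨ B ≤ N) := by
  intro n
  induction n using Nat.strong_induction_on with
  | _ n ih =>
    intro G _ _ hn A B hA hB hAB hne
    -- the cases where one of the factors is the whole group
    by_cases hAtop : A = ⊤
    · subst hAtop
      have hBtop : B ≠ ⊤ := hne.resolve_left (fun h => h rfl)
      haveI := hA
      have hG : Group.IsNilpotent G := Group.nilpotent_of_mulEquiv Subgroup.topEquiv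
      obtain ⟨N, h1, h2, h3⟩ := exists_normal_of_nilpotent hG hBtop
      exact ⟨N, h1, h2, Or.inr h3⟩
    by_cases hBtop : B = ⊤
    · subst hBtop
      haveI := hB
      have hG : Group.IsNilpotent G := Group.nilpotent_of_mulEquiv Subgroup.topEquiv
      obtain ⟨N, h1, h2, h3⟩ := exists_normal_of_nilpotent hG hAtop
      exact ⟨N, h1, h2, Or.inl h3⟩
    -- now both factors are proper
    haveI hsolv : Group.IsSolvable G := hKW G A B hA hB hAB
    haveI : Nontrivial G := by
      by_contra hcon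
      rw [not_nontrivial_iff_subsingleton] at hcon
      exact hAtop (Subsingleton.elim _ _)
    obtain ⟨K, hKn, hKbot, hKmin⟩ := exists_minimal_normal (G := G)
    haveI := hKn
    have hKcomm := commute_of_minimal_normal K hKbot hKmin
    obtain ⟨p, d, hp, hd, hKcard, -⟩ := card_eq_prime_pow_of_minimal_normal K hKbot hKmin hKcomm
    haveI : Fact p.Prime := ⟨hp⟩
    -- the quotient
    have hcardlt : Nat.card (G ⧸ K) < n := by
      have h1 := Subgroup.card_eq_card_quotient_mul_card_subgroup K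
      have h2 : 1 < Nat.card K := by
        rw [hKcard]
        exact Nat.one_lt_pow hd.ne' hp.one_lt
      rw [← hn, h1]
      have h3 : 0 < Nat.card (G ⧸ K) := Nat.card_pos
      nlinarith
    haveI := hA
    haveI := hB
    have hAq : Group.IsNilpotent (A.map (QuotientGroup.mk' K)) :=
      Group.nilpotent_of_surjective ((QuotientGroup.mk' K).subgroupMap A)
        ((QuotientGroup.mk' K).subgroupMap_surjective A)
    have hBq : Group.IsNilpotent (B.map (QuotientGroup.mk' K)) :=
      Group.nilpotent_of_surjective ((QuotientGroup.mk' K).subgroupMap B)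
        ((QuotientGroup.mk' K).subgroupMap_surjective B)
    have hABq : ∀ x : G ⧸ K, ∃ a ∈ A.map (QuotientGroup.mk' K),
        ∃ b ∈ B.map (QuotientGroup.mk' K), x = a * b := by
      intro x
      obtain ⟨g, rfl⟩ := QuotientGroup.mk'_surjective K x
      obtain ⟨a, ha, b, hb, rfl⟩ := hAB g
      exact ⟨_, Subgroup.mem_map_of_mem _ ha, _, Subgroup.mem_map_of_mem _ hb, map_mul _ _ _⟩
    by_cases hq : A.map (QuotientGroup.mk' K) ≠ ⊤ ∨ B.map (QuotientGroup.mk' K) ≠ ⊤
    · obtain ⟨N, h1, h2, h3⟩ := ih _ hcardlt (G ⧸ K) rfl _ _ hAq hBq hABq hq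
      rcases h3 with h3 | h3
      · obtain ⟨N', h1', h2', h3'⟩ := exists_normal_of_quotient K ⟨N, h1, h2, h3⟩
        exact ⟨N', h1', h2', Or.inl h3'⟩
      · obtain ⟨N', h1', h2', h3'⟩ := exists_normal_of_quotient K ⟨N, h1, h2, h3⟩
        exact ⟨N', h1', h2', Or.inr h3'⟩
    -- both factors cover the quotient
    push Not at hq
    obtain ⟨hAK, hBK⟩ := hq
    have hmulK : ∀ {C : Subgroup G}, C.map (QuotientGroup.mk' K) = ⊤ →
        ∀ g : G, ∃ c ∈ C, ∃ k ∈ K, g = c * k := by
      intro C hC g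
      have hg : QuotientGroup.mk' K g ∈ C.map (QuotientGroup.mk' K) := hC ▸ Subgroup.mem_top _
      obtain ⟨c, hc, hcg⟩ := hg
      refine ⟨c, hc, c⁻¹ * g, ?_, by group⟩
      exact QuotientGroup.eq.1 hcg
    have hdisj : ∀ {C : Subgroup G}, C ≠ ⊤ → C.map (QuotientGroup.mk' K) = ⊤ → C ⊓ K = ⊥ := by
      intro C hCtop hC
      have hnorm : (C ⊓ K).Normal := by
        constructor
        intro x hx g
        obtain ⟨c, hc, k, hk, rfl⟩ := hmulK hC g
        have hxk : k * x * k⁻¹ = x := by
          rw [hKcomm k hk x hx.2, mul_assoc, mul_inv_cancel, mul_one]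
        have : c * k * x * (c * k)⁻¹ = c * (k * x * k⁻¹) * c⁻¹ := by group
        rw [this, hxk]
        exact ⟨C.mul_mem (C.mul_mem hc hx.1) (C.inv_mem hc), hKn.conj_mem x hx.2 c⟩
      rcases hKmin (C ⊓ K) hnorm inf_le_right with h | h
      · exact h
      · exfalso
        apply hCtop
        rw [eq_top_iff]
        intro g _
        obtain ⟨c, hc, k, hk, rfl⟩ := hmulK hC g
        have hkC : k ∈ C ⊓ K := by rw [h]; exact hk
        exact C.mul_mem hc hkC.1
    have hcardC : ∀ {C : Subgroup G}, C ≠ ⊤ → C.map (QuotientGroup.mk' K) = ⊤ →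
        Nat.card C * p ^ d = Nat.card G := by
      intro C hCtop hC
      rw [← hKcard]
      apply Subgroup.IsComplement'.card_mul_card
      apply Subgroup.isComplement'_of_disjoint_and_mul_eq_univ (disjoint_iff.2 (hdisj hCtop hC))
      rw [Set.eq_univ_iff_forall]
      intro g
      obtain ⟨c, hc, k, hk, rfl⟩ := hmulK hC g
      exact Set.mul_mem_mul hc hk
    have hcA := hcardC hAtop hAK
    have hcB := hcardC hBtop hBK
    -- the normal `p`-complements of the factors
    obtain ⟨LA, hLAn, hLAcop, kA, hLAidx⟩ := exists_normal_compl_of_isNilpotent hA p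
    obtain ⟨LB, hLBn, hLBcop, kB, hLBidx⟩ := exists_normal_compl_of_isNilpotent hB p
    have hcLA : Nat.card LA * p ^ kA = Nat.card A := by
      rw [← hLAidx]; exact Subgroup.card_mul_index LA
    have hcLB : Nat.card LB * p ^ kB = Nat.card B := by
      rw [← hLBidx]; exact Subgroup.card_mul_index LB
    have heq : Nat.card LA * p ^ (kA + d) = Nat.card LB * p ^ (kB + d) := by
      rw [pow_add, pow_add, ← mul_assoc, ← mul_assoc, hcLA, hcLB, hcA, hcB]
    have hm : Nat.card LA = Nat.card LB := by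
      apply Nat.dvd_antisymm
      · have : Nat.card LA ∣ Nat.card LB * p ^ (kB + d) := Dvd.intro _ heq
        exact (Nat.Coprime.pow_right _ hLAcop).dvd_of_dvd_mul_right this
      · have : Nat.card LB ∣ Nat.card LA * p ^ (kA + d) := Dvd.intro _ heq.symm
        exact (Nat.Coprime.pow_right _ hLBcop).dvd_of_dvd_mul_right this
    set A' := LA.map A.subtype with hA'
    set B' := LB.map B.subtype with hB'
    have hcA' : Nat.card A' = Nat.card LA := Subgroup.card_map_of_injective A.subtype_injective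
    have hcB' : Nat.card B' = Nat.card LA := by
      rw [hm]; exact Subgroup.card_map_of_injective B.subtype_injective
    have hGcard : Nat.card G = Nat.card LA * p ^ (kA + d) := by
      rw [pow_add, ← mul_assoc, hcLA, hcA]
    have hcop : (Nat.card LA).Coprime (p ^ (kA + d)) := Nat.Coprime.pow_right _ hLAcop
    obtain ⟨g, hg⟩ := Cfsg.Agent.Helper1.hall_conj (Nat.card LA) (p ^ (kA + d)) hGcard hcop B' A'
      hcB' hcA'
    -- `A'` is normal in `G`
    have hAB₂ := factor_conj hAB g
    have hA'n : A'.Normal := by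
      have hnormA : A ≤ Subgroup.normalizer (A' : Set G) := by
        intro a ha
        rw [Subgroup.mem_normalizer_iff]
        intro x
        constructor
        · rintro ⟨l, hl, rfl⟩
          exact ⟨⟨a, ha⟩ * l * ⟨a, ha⟩⁻¹, hLAn.conj_mem l hl ⟨a, ha⟩, rfl⟩
        · rintro ⟨l, hl, hlx⟩
          refine ⟨⟨a, ha⟩⁻¹ * l * ⟨a, ha⟩, ?_, ?_⟩
          · have := hLAn.conj_mem l hl ⟨a, ha⟩⁻¹
            rwa [inv_inv] at this
          · have : A.subtype (⟨a, ha⟩⁻¹ * l * ⟨a, ha⟩) = a⁻¹ * A.subtype l * a := rfl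
            rw [this, hlx]
            group
      have hnormB : MulAut.conj g • B ≤ Subgroup.normalizer (A' : Set G) := by
        intro y hy
        rw [Subgroup.mem_pointwise_smul_iff_inv_smul_mem] at hy
        have hy' : g⁻¹ * y * g ∈ B := by
          have : (MulAut.conj g)⁻¹ • y = g⁻¹ * y * g := by
            rw [← map_inv]; simp [MulAut.smul_def]
          rwa [this] at hy
        have hmemB' : ∀ z, z ∈ A' ↔ g⁻¹ * z * g ∈ B' := by
          intro z
          rw [← hg, Subgroup.mem_pointwise_smul_iff_inv_smul_mem]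
          have : (MulAut.conj g)⁻¹ • z = g⁻¹ * z * g := by
            rw [← map_inv]; simp [MulAut.smul_def]
          rw [this]
        have hB'conj : ∀ w ∈ B', ∀ b ∈ B, b * w * b⁻¹ ∈ B' := by
          rintro _ ⟨l, hl, rfl⟩ b hb
          exact ⟨⟨b, hb⟩ * l * ⟨b, hb⟩⁻¹, hLBn.conj_mem l hl ⟨b, hb⟩, rfl⟩
        rw [Subgroup.mem_normalizer_iff]
        intro x
        rw [hmemB' x, hmemB' (y * x * y⁻¹)]
        have e : g⁻¹ * (y * x * y⁻¹) * g = (g⁻¹ * y * g) * (g⁻¹ * x * g) * (g⁻¹ * y * g)⁻¹ := by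
          group
        rw [e]
        constructor
        · intro hx
          exact hB'conj _ hx _ hy'
        · intro hx
          have := hB'conj _ hx _ (B.inv_mem hy')
          have e2 : (g⁻¹ * y * g)⁻¹ * ((g⁻¹ * y * g) * (g⁻¹ * x * g) * (g⁻¹ * y * g)⁻¹) *
              (g⁻¹ * y * g)⁻¹⁻¹ = g⁻¹ * x * g := by group
          rwa [e2] at this
      have htop : Subgroup.normalizer (A' : Set G) = ⊤ := by
        rw [eq_top_iff]
        intro x _
        obtain ⟨a, ha, b, hb, rfl⟩ := hAB₂ x
        exact Subgroup.mul_mem _ (hnormA ha) (hnormB hb)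
      exact Subgroup.normalizer_eq_top_iff.1 htop
    haveI := hA'n
    -- the quotient by `A'` is a `p`-group
    have hquot : Nat.card (G ⧸ A') = p ^ (kA + d) := by
      have h1 := Subgroup.card_eq_card_quotient_mul_card_subgroup A'
      rw [hGcard, hcA', mul_comm] at h1
      exact (Nat.eq_of_mul_eq_mul_right Nat.card_pos h1).symm
    have hpg : IsPGroup p (G ⧸ A') := IsPGroup.of_card hquot
    have hnil : Group.IsNilpotent (G ⧸ A') := hpg.isNilpotent
    have hA'A : A' ≤ A := by
      rintro _ ⟨l, -, rfl⟩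
      exact l.2
    have himg : A.map (QuotientGroup.mk' A') ≠ ⊤ := by
      intro htop
      apply hAtop
      rw [eq_top_iff]
      intro x _
      have hx : QuotientGroup.mk' A' x ∈ A.map (QuotientGroup.mk' A') := htop ▸ Subgroup.mem_top _
      obtain ⟨a, ha, hax⟩ := hx
      have h2 : a⁻¹ * x ∈ A' := QuotientGroup.eq.1 hax
      have : x = a * (a⁻¹ * x) := by group
      rw [this]
      exact A.mul_mem ha (hA'A h2)
    obtain ⟨N, h1, h2, h3⟩ := exists_normal_of_quotient A' (exists_normal_of_nilpotent hnil himg)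
    exact ⟨N, h1, h2, Or.inl h3⟩

include hKW in
/-- Given Kegel-Wielandt: a product of two nilpotent subgroups, not both the whole group, has a
proper normal subgroup containing one of them. -/
theorem exists_normal {G : Type u} [Group G] [Finite G] (A B : Subgroup G)
    (hA : Group.IsNilpotent A) (hB : Group.IsNilpotent B)
    (hAB : ∀ g : G, ∃ a ∈ A, ∃ b ∈ B, g = a * b) (hproper : A ≠ ⊤ ∨ B ≠ ⊤) :
    ∃ N : Subgroup G, N.Normal ∧ N ≠ ⊤ ∧ (A ≤ N ∨ B ≤ N) :=
  exists_normal_aux hKW _ G rfl A B hA hB hAB hproper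

end Cfsg.Agent.Helper3.KW
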