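import Mathlib
import Cfsg.Prelude.Def_FusionSystem
import Cfsg.Agent.Lib.Helper3.LSDefs
import Cfsg.Agent.Lib.Helper3.LSTau
import Cfsg.Agent.Lib.Helper3.LSAsmDefs
import Cfsg.Agent.Lib.Helper19.LSACT2
import Cfsg.Agent.Lib.Helper8.LSFUS
import Cfsg.Agent.Lib.Helper13.LSTORS1
import Cfsg.Agent.Lib.Helper14.LSFIX
import Cfsg.Agent.Lib.Helper20.LSFREE
import Cfsg.Agent.Lib.Helper19.LSASMTRANS

/-!
S5286: assembly.  Every fusion system over a finite p-group is realized by the concrete virtually free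
group `(dataF F).G`.
-/

noncomputable section

namespace Cfsg.Agent.Helper3.LS

universe u

variable {Sg : Type u} [Group Sg] (D : Data Sg)

variable {Ω : Type u} [Group Ω] {S : Subgroup Ω} (F : Cfsg.FusionSystem S) [Finite S]

/-! ## real part -/

theorem ls_asm_torsion (p : ℕ) [Fact p.Prime] (hp : IsPGroup p D.S0) (H : Subgroup D.W)
    (hHG : H ≤ D.G) [Finite H] : ∃ k ∈ D.G, ∀ h ∈ H, ∃ s ∈ D.S0, k * h * k⁻¹ = D.inS s :=
  ls_tors_torsion_of_fix D (fun q _ H _ hq => fix_of_pgroup D q H hq) p hp H hHG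

theorem inS_injective : Function.Injective D.inS := SemidirectProduct.inr_injective

theorem iotaF_coe (s : S) : ((iotaF F s : (dataF F).G) : (dataF F).W) = (dataF F).inS (rho s) := rfl

theorem iotaF_injective : Function.Injective (iotaF F) := by
  intro a b h
  have h1 : ((iotaF F a : (dataF F).G) : (dataF F).W) = iotaF F b := congrArg Subtype.val h
  rw [iotaF_coe, iotaF_coe] at h1
  exact rho_injective (inS_injective _ h1)

theorem asm_fwd (P : Subgroup Ω) (hP : P ≤ S) (φ : P →* Ω) (hφ : ∀ x : P, φ x ∈ S)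
    (h : φ ∈ F.Hom P) :
    ∃ g : (dataF F).G, ∀ x : P, iotaF F ⟨φ x, hφ x⟩ = g * iotaF F ⟨x, hP x.2⟩ * g⁻¹ := by
  let i : IdxF F := ⟨P, φ, h⟩
  have hi : (dataF F).tt i ∈ (dataF F).G := Subgroup.subset_closure (Or.inr ⟨i, rfl⟩)
  refine ⟨⟨(dataF F).tt i, hi⟩, ?_⟩
  intro x
  apply Subtype.ext
  have hxS : (⟨(x : Ω), hP x.2⟩ : S) ∈ P.subgroupOf S := by
    rw [Subgroup.mem_subgroupOf]
    exact x.2
  have hA : rho (⟨(x : Ω), hP x.2⟩ : S) ∈ (dataF F).A i := ⟨_, hxS, rfl⟩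
  have h1 := conj_tt (dataF F) i _ hA
  have h2 := tauF_conj F i ⟨⟨(x : Ω), hP x.2⟩, hxS⟩
  have h3 : liftHom F i ⟨⟨(x : Ω), hP x.2⟩, hxS⟩ = ⟨φ x, hφ x⟩ := by
    apply Subtype.ext
    rfl
  rw [h3] at h2
  simp only [Subgroup.coe_mul, Subgroup.coe_inv, iotaF_coe]
  rw [h1]
  congr 1
  exact h2.symm

theorem asm_bwd (P : Subgroup Ω) (hP : P ≤ S) (φ : P →* Ω) (hφ : ∀ x : P, φ x ∈ S)
    (g : (dataF F).G)
    (hg : ∀ x : P, iotaF F ⟨φ x, hφ x⟩ = g * iotaF F ⟨x, hP x.2⟩ * g⁻¹) : φ ∈ F.Hom P := by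
  have hg' : ∀ x : P, (dataF F).inS (rho (⟨φ x, hφ x⟩ : S)) =
      (g : (dataF F).W) * (dataF F).inS (rho (⟨(x : Ω), hP x.2⟩ : S)) * (g : (dataF F).W)⁻¹ := by
    intro x
    have := congrArg Subtype.val (hg x)
    simpa only [Subgroup.coe_mul, Subgroup.coe_inv, iotaF_coe] using this
  have hQ0 : (P.subgroupOf S).map rho ≤ (dataF F).S0 := by
    rintro _ ⟨a, -, rfl⟩
    exact ⟨a, rfl⟩
  have hfus : (dataF F).Fus (g : (dataF F).W).right ((P.subgroupOf S).map rho) := by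
    apply fus_of_mem (dataF F) g g.2 _ hQ0
    rintro _ ⟨a, ha, rfl⟩
    replace ha : (a : Ω) ∈ P := Subgroup.mem_subgroupOf.1 ha
    refine ⟨rho (⟨φ ⟨(a : Ω), ha⟩, hφ _⟩ : S), ?_⟩
    exact (hg' ⟨(a : Ω), ha⟩).symm
  obtain ⟨ψ, hψ, hψ2⟩ := asm_trans F _ _ hfus P hP rfl
  have : ψ = φ := by
    ext x
    obtain ⟨hx, hx2⟩ := hψ2 x
    have h1 := congrArg SemidirectProduct.right (hg' x)
    simp only [SemidirectProduct.mul_right, SemidirectProduct.inv_right] at h1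
    have h2 : ((dataF F).inS (rho (⟨φ x, hφ x⟩ : S))).right = rho (⟨φ x, hφ x⟩ : S) := rfl
    have h3 : ((dataF F).inS (rho (⟨(x : Ω), hP x.2⟩ : S))).right = rho (⟨(x : Ω), hP x.2⟩ : S) := rfl
    rw [h2, h3] at h1
    have h4 : rho (⟨ψ x, hx⟩ : S) = rho (⟨φ x, hφ x⟩ : S) := by rw [hx2, h1]
    exact congrArg Subtype.val (rho_injective h4)
  rw [← this]
  exact hψ

theorem main (p : ℕ) [Fact p.Prime] (hS : IsPGroup p ↥S) :
    ∃ (G : Type u) (_ : Group G) (ι : ↥S →* G), F.IsRealizedBy ι ∧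
      (∀ H : Subgroup G, Finite ↥H → ∃ g : G, ∀ h ∈ H, g * h * g⁻¹ ∈ ι.range) ∧
      ∃ N : Subgroup G, N.Normal ∧ IsFreeGroup ↥N ∧ N.index ∣ (Nat.card ↥S).factorial := by
  refine ⟨(dataF F).G, inferInstance, iotaF F, ⟨iotaF_injective F, ?_⟩, ?_, ?_⟩
  · intro P hP φ hφ
    constructor
    · intro h
      exact asm_fwd F P hP φ hφ h
    · rintro ⟨g, hg⟩
      exact asm_bwd F P hP φ hφ g hg
  · intro H hH
    have hp0 : IsPGroup p (dataF F).S0 := by
      have : (dataF F).S0 = (rho (S := S)).range := rfl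
      rw [this]
      exact IsPGroup.of_surjective hS (rho (S := S)).rangeRestrict
        (rho (S := S)).rangeRestrict_surjective
    haveI : Finite (H.map (dataF F).G.subtype) := by
      exact Finite.of_equiv H (H.equivMapOfInjective _ (Subgroup.subtype_injective _)).toEquiv
    obtain ⟨k, hk, hk2⟩ := ls_asm_torsion (dataF F) p hp0 (H.map (dataF F).G.subtype)
      (by rintro _ ⟨h, -, rfl⟩; exact h.2)
    refine ⟨⟨k, hk⟩, ?_⟩
    intro h hh
    obtain ⟨s, ⟨s0, rfl⟩, hs2⟩ := hk2 (h : (dataF F).W) ⟨h, hh, rfl⟩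
    refine ⟨s0, ?_⟩
    apply Subtype.ext
    simp only [Subgroup.coe_mul, Subgroup.coe_inv, iotaF_coe]
    exact hs2.symm
  · obtain ⟨N, hN1, hN2, hN3⟩ := free_kernel (dataF F)
    refine ⟨N, hN1, hN2, ?_⟩
    have : Nat.card (Equiv.Perm S) = (Nat.card S).factorial := by
      classical
      haveI := Fintype.ofFinite S
      rw [Nat.card_eq_fintype_card, Fintype.card_perm, Nat.card_eq_fintype_card]
    rw [← this]
    exact hN3

end Cfsg.Agent.Helper3.LS
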