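import Mathlib
import Cfsg.Agent.Lib.Helper3.M24IdxDefs

set_option autoImplicit false
open Cfsg

namespace Cfsg.Agent.Helper3.M24Idx

open Cfsg.Agent.Helper27 Cfsg.Agent.Helper29 Cfsg.Agent.Helper29.M24
open Cfsg.Agent.Helper29.M23Idx
open Cfsg.Agent.Helper29.FusM23 (Q23)
open Cfsg.Agent.Helper29.IdxTools
open Cfsg.Agent.S0358 (idx)
open scoped Pointwise

/-- the orbit analysis of `M23Idx.orbit_cases`, exposing the orbit of the point 4 -/
theorem orbit_cases' (K : Subgroup (Equiv.Perm GolayPt)) (hKM : K ≤ Cfsg.Spor.M23)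
    (hQ : Q23 ≤ K) :
    ∃ b0 b5 b1 : Bool,
      (∀ p, p ∈ orbF K (dec 4) ↔ (oMask b0 b5 b1).testBit (idx p) = true) ∧
      pop24 (oMask b0 b5 b1) ∣ Nat.card K ∧
      ∀ g ∈ K, g • maskSet (cMask b0 b5 b1) = maskSet (cMask b0 b5 b1) := by
  classical
  set O := Orb K (dec 4) with hO
  have hfix : ∀ g ∈ K, g (dec 23) = dec 23 := fun g hg => ((mem_M23 g).1 (hKM hg)).2
  have h4 : dec 4 ∈ O := ⟨1, K.one_mem, rfl⟩
  have h23 : dec 23 ∉ O := by
    rintro ⟨g, hg, e⟩
    have h1 := hfix g hg
    rw [← h1] at e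
    have := dec_inj (by norm_num) (by norm_num) (g.injective e)
    omega
  set b0 := decide (dec 0 ∈ O) with hb0
  set b5 := decide (dec 5 ∈ O) with hb5
  set b1 := decide (dec 1 ∈ O) with hb1
  have hmem : ∀ p, p ∈ O ↔ (oMask b0 b5 b1).testBit (idx p) = true := by
    intro p
    rw [hO, mem_orb_iff_rep K hQ, ← hO, oMask_ok b0 b5 b1 _ (M24.idx_lt p)]
    obtain ⟨hrc, hc5⟩ := rep_cls (idx p) (M24.idx_lt p)
    rw [hrc]
    generalize clsOf (idx p) = c at hc5
    interval_cases c
    · simpa using h23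
    · simp [hb0]
    · simp [hb5]
    · simp [hb1]
    · simpa using h4
  have hOF : ∀ p, p ∈ orbF K (dec 4) ↔ p ∈ O := fun p => mem_orbF K (dec 4) p
  refine ⟨b0, b5, b1, fun p => (hOF p).trans (hmem p), ?_, ?_⟩
  · have h1 : ∀ g ∈ K, g (dec 4) ∈ maskSet (oMask b0 b5 b1) := by
      intro g hg
      rw [mem_maskSet, ← hmem]
      exact ⟨g, hg, rfl⟩
    have h2 : ∀ q ∈ maskSet (oMask b0 b5 b1), ∃ g ∈ K, g (dec 4) = q := by
      intro q hq
      rw [mem_maskSet, ← hmem] at hq
      exact hq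
    have h3 := card_chain_step K (dec 4) (maskSet (oMask b0 b5 b1)) h1 h2
    rw [card_maskSet] at h3
    exact ⟨_, h3⟩
  · intro g hg
    rw [smul_eq_iff_forall]
    have hC : ∀ p, p ∈ maskSet (cMask b0 b5 b1) ↔ p ∉ O ∧ p ≠ dec 23 := by
      intro p
      rw [mem_maskSet, cMask_ok b0 b5 b1 _ (M24.idx_lt p), hmem]
      simp only [Bool.and_eq_true, Bool.not_eq_true', beq_eq_false_iff_ne, ne_eq, Bool.not_eq_true]
      refine and_congr Iff.rfl (not_congr ?_)
      constructor
      · intro h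
        rw [← dec_idx p, h]
      · intro h
        rw [h]
        exact idx_dec ⟨23, by norm_num⟩
    intro x
    rw [hC, hC, hO, orb_smul K _ g hg]
    refine and_congr Iff.rfl (not_congr ?_)
    constructor
    · intro h
      rw [← hfix g hg] at h
      exact g.injective h
    · intro h
      rw [h]
      exact hfix g hg

theorem m24idx_c5_sub : maskSet (cMask false true false) ⊆ oct0 := by decide

theorem m24idx_c5_card : (maskSet (cMask false true false)).card = 5 := by decide

theorem m24idx_c5_4 : dec 4 ∉ oct0 := by decide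

theorem m24idx_c5_5 : dec 5 ∈ oct0 := by decide

/-- an element of the group fixing the five points 0, 1, 2, 3, 17 cannot map 4 to 5 -/
theorem c5_false (g : Equiv.Perm GolayPt) (hg : g ∈ Cfsg.M24)
    (hC : g • maskSet (cMask false true false) = maskSet (cMask false true false))
    (h4 : g (dec 4) = dec 5) : False := by
  have ho : g • oct0 ∈ octads := smul_mem_octads hg oct0_mem
  have hsub : maskSet (cMask false true false) ⊆ g • oct0 := by
    rw [← hC]
    exact Finset.smul_finset_subset_smul_finset m24idx_c5_sub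
  have e : oct0 = g • oct0 :=
    Cfsg.Agent.S0363.octad_unique oct0_mem ho m24idx_c5_card m24idx_c5_sub hsub
  have h5 : g (dec 4) ∈ g • oct0 := by rw [h4, ← e]; exact m24idx_c5_5
  have : dec 4 ∈ oct0 := by
    have := (Finset.smul_mem_smul_finset_iff (s := oct0) (b := dec 4) g).1 h5
    exact this
  exact m24idx_c5_4 this

end Cfsg.Agent.Helper3.M24Idx
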