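import Mathlib
import Cfsg.Agent.Lib.Helper3.M24IdxDefs
import Cfsg.Agent.Lib.Helper29.SchurM24a
import Cfsg.Agent.S1551
import Cfsg.Agent.Lib.Helper3.M24IdxOrb
import Cfsg.Agent.Lib.Helper22.M24IdxF5
import Cfsg.Agent.Lib.Helper25.M24IdxF11
import Cfsg.Agent.Lib.Helper7.M24IdxP0A
import Cfsg.Agent.Lib.Helper13.M24IdxP0B
import Cfsg.Agent.Lib.Helper2.M24IdxCASES
import Cfsg.Agent.Lib.Helper11.M24IdxBLK8
import Cfsg.Agent.Lib.Helper12.M24IdxBLK3
import Cfsg.Agent.Lib.Helper24.M24IdxIDXFIX4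
import Cfsg.Agent.Lib.Helper4.M24IdxC3A
import Cfsg.Agent.Lib.Helper8.M24IdxC3B
import Cfsg.Agent.Lib.Helper14.M24IdxPAIR
import Cfsg.Agent.Lib.Helper24.M24IdxIDX276A
import Cfsg.Agent.Lib.Helper19.M24IdxIDX276B

set_option autoImplicit false
open Cfsg

namespace Cfsg.Agent.Helper3.M24Idx

open Cfsg.Agent.Helper27 Cfsg.Agent.Helper29 Cfsg.Agent.Helper29.M24
open Cfsg.Agent.Helper29.M23Idx
open Cfsg.Agent.Helper29.FusM23 (Q23)
open Cfsg.Agent.Helper29.Syl2 (P0)
open Cfsg.Agent.Helper29.IdxTools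
open Cfsg.Agent.S0358 (idx)
open scoped Pointwise

/-! ## Assembly -/

theorem m24idx_asm_pop : ∀ b0 b5 b1 : Bool, pop24 (oMask b0 b5 b1) =
    16 + (if b0 then 1 else 0) + (if b5 then 2 else 0) + (if b1 then 4 else 0) := by decide

theorem m24idx_asm_oct0_eq : oct0 = insert (dec 23) (maskSet (cMask false false false)) := by decide

theorem m24idx_asm_pair_eq : maskSet (cMask true false true) = {dec 5, dec 14} := by decide

theorem m24idx_asm_tri_eq : maskSet (cMask false false true) = {dec 0, dec 5, dec 14} := by decide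

theorem m24idx_asm_bit5 : (oMask false true false).testBit (idx (dec 5)) = true := by decide

theorem m24idx_asm_ne : dec 23 ≠ dec 0 ∧ dec 23 ≠ dec 5 ∧ dec 23 ≠ dec 14 ∧ dec 0 ≠ dec 5 ∧
    dec 0 ≠ dec 14 ∧ dec 5 ≠ dec 14 := by decide

/-- the point stabilizer of a subgroup containing the Sylow 2-subgroup -/
theorem m24idx_asm_Q23_le (K : Subgroup (Equiv.Perm GolayPt)) (hP : P0 ≤ K) :
    Q23 ≤ stabIn K (dec 23) := by
  intro g hg
  obtain ⟨h1, h2⟩ := Subgroup.mem_inf.1 hg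
  rw [mem_stabIn]
  exact ⟨hP h1, (Cfsg.Agent.Helper29.FusM23.mem_stab_none g).1 h2⟩

theorem m24idx_asm_stab_le_M23 (K : Subgroup (Equiv.Perm GolayPt)) (hKM : K ≤ Cfsg.M24) :
    stabIn K (dec 23) ≤ Cfsg.Spor.M23 := by
  intro g hg
  rw [mem_stabIn] at hg
  exact (mem_M23 g).2 ⟨hKM hg.1, hg.2⟩

/-- the analysis of a transitive subgroup containing the Sylow 2-subgroup -/
theorem odd_trans (K : Subgroup (Equiv.Perm GolayPt)) (hKM : K ≤ Cfsg.M24) (hP : P0 ≤ K)
    (htr : IsTrans K) :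
    (Nat.card (stabIn K (dec 23)) = 13440 → False) ∧
    (Nat.card (stabIn K (dec 23)) = 40320 → False) ∧
    (Nat.card (stabIn K (dec 23)) = 5760 → ∀ k ∈ K,
      k • sextetOf ({dec 23, dec 0, dec 5, dec 14} : Finset GolayPt) =
        sextetOf {dec 23, dec 0, dec 5, dec 14}) := by
  obtain ⟨n23_0, n23_5, n23_14, n0_5, n0_14, n5_14⟩ := m24idx_asm_ne
  have hKx : stabIn K (dec 23) ≤ Cfsg.Spor.M23 := m24idx_asm_stab_le_M23 K hKM
  have hKxM : stabIn K (dec 23) ≤ Cfsg.M24 := fun g hg => hKM (stabIn_le K _ hg)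
  have hfixx : ∀ g ∈ stabIn K (dec 23), g (dec 23) = dec 23 :=
    fun g hg => ((mem_stabIn K _ g).1 hg).2
  obtain ⟨b0, b5, b1, hmem, hdvd, hinv⟩ :=
    orbit_cases' (stabIn K (dec 23)) hKx (m24idx_asm_Q23_le K hP)
  rw [m24idx_asm_pop] at hdvd
  -- the four ways to a contradiction or to the sextet
  have kill_fff : b0 = false → b5 = false → b1 = false →
      5 ∣ Nat.card (stabIn K (dec 23)) → False := by
    rintro rfl rfl rfl h5
    refine block8_false K hKM htr (dec 23) oct0 dec23_mem_oct0 oct0_mem.2 ?_ ?_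
      ord5_fixed_card h5
    · intro w hw
      obtain ⟨g, hg, e⟩ := P0_trans_oct0 w hw
      exact ⟨g, hP hg, e, P0_smul_oct0 g hg⟩
    · intro g hg hgx
      have h1 := hinv g ((mem_stabIn K _ g).2 ⟨hg, hgx⟩)
      rw [m24idx_asm_oct0_eq, Finset.smul_finset_insert, h1]
      congr 1
  have kill_ftf : b0 = false → b5 = true → b1 = false → False := by
    rintro rfl rfl rfl
    have h5 : dec 5 ∈ orbF (stabIn K (dec 23)) (dec 4) := (hmem (dec 5)).2 m24idx_asm_bit5
    obtain ⟨g, hg, e⟩ := (mem_orbF _ _ _).1 h5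
    exact c5_false g (hKxM hg) (hinv g hg) e
  have kill_fft : b0 = false → b5 = false → b1 = true →
      7 ∣ Nat.card (stabIn K (dec 23)) → False := by
    rintro rfl rfl rfl h7
    have := small_inv_set (stabIn K (dec 23)) hKxM h7 (maskSet (cMask false false true)) hinv
      (dec 23) (by decide) hfixx (by decide)
    revert this
    decide
  have kill_tft : b0 = true → b5 = false → b1 = true →
      5 ∣ Nat.card (stabIn K (dec 23)) → 7 ∣ Nat.card (stabIn K (dec 23)) → False := by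
    rintro rfl rfl rfl h5 h7
    refine block3_false K hKM htr (dec 23) (dec 5) (dec 14) n23_5 n23_14 n5_14 ?_
      ord5_fixed_card ord7_fixF_card h5 h7
    intro g hg hgx
    have h1 := hinv g ((mem_stabIn K _ g).2 ⟨hg, hgx⟩)
    rwa [m24idx_asm_pair_eq] at h1
  have sext_fft : b0 = false → b5 = false → b1 = true →
      Nat.card (stabIn K (dec 23)) = 5760 → ∀ k ∈ K,
      k • sextetOf ({dec 23, dec 0, dec 5, dec 14} : Finset GolayPt) =
        sextetOf {dec 23, dec 0, dec 5, dec 14} := by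
    rintro rfl rfl rfl hc
    have hstab : ∀ g ∈ K, g (dec 23) = dec 23 →
        g • ({dec 0, dec 5, dec 14} : Finset GolayPt) = {dec 0, dec 5, dec 14} := by
      intro g hg hgx
      have h1 := hinv g ((mem_stabIn K _ g).2 ⟨hg, hgx⟩)
      rwa [m24idx_asm_tri_eq] at h1
    have hle := fix4_le_of_card K hKM (dec 23) (dec 0) (dec 5) (dec 14) n23_0 n23_5 n23_14 n0_5
      n0_14 n5_14 hc hstab (card_fix4 _ _ _ _ n23_0 n23_5 n23_14 n0_5 n0_14 n5_14)
    exact sextet_of_fix4 K hKM htr (dec 23) (dec 0) (dec 5) (dec 14) n23_0 n23_5 n23_14 n0_5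
      n0_14 n5_14 hstab hle
      (fun u v hu hv => fix4_trans _ _ _ _ n23_0 n23_5 n23_14 n0_5 n0_14 n5_14 u v hu hv)
  refine ⟨?_, ?_, ?_⟩
  · intro hc
    rw [hc] at hdvd
    have h5 : 5 ∣ Nat.card (stabIn K (dec 23)) := by rw [hc]; norm_num
    have h7 : 7 ∣ Nat.card (stabIn K (dec 23)) := by rw [hc]; norm_num
    rcases b0 <;> rcases b5 <;> rcases b1 <;> simp only [Bool.false_eq_true, if_false, if_true] at hdvd
    · exact kill_fff rfl rfl rfl h5
    · exact kill_fft rfl rfl rfl h7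
    · omega
    · omega
    · omega
    · exact kill_tft rfl rfl rfl h5 h7
    · omega
    · omega
  · intro hc
    rw [hc] at hdvd
    have h5 : 5 ∣ Nat.card (stabIn K (dec 23)) := by rw [hc]; norm_num
    have h7 : 7 ∣ Nat.card (stabIn K (dec 23)) := by rw [hc]; norm_num
    rcases b0 <;> rcases b5 <;> rcases b1 <;> simp only [Bool.false_eq_true, if_false, if_true] at hdvd
    · exact kill_fff rfl rfl rfl h5
    · exact kill_fft rfl rfl rfl h7
    · exact kill_ftf rfl rfl rfl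
    · omega
    · omega
    · exact kill_tft rfl rfl rfl h5 h7
    · omega
    · omega
  · intro hc
    rw [hc] at hdvd
    have h5 : 5 ∣ Nat.card (stabIn K (dec 23)) := by rw [hc]; norm_num
    rcases b0 <;> rcases b5 <;> rcases b1 <;> simp only [Bool.false_eq_true, if_false, if_true] at hdvd
    · exact (kill_fff rfl rfl rfl h5).elim
    · exact sext_fft rfl rfl rfl hc
    · exact (kill_ftf rfl rfl rfl).elim
    · omega
    · omega
    · omega
    · omega
    · omega

/-! ### Conjugation and stabilizers -/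

theorem m24idx_asm_conjS_le (g : Equiv.Perm GolayPt) (hg : g ∈ Cfsg.M24)
    (K : Subgroup (Equiv.Perm GolayPt)) (hKM : K ≤ Cfsg.M24) : conjS g K ≤ Cfsg.M24 := by
  intro y hy
  rw [mem_conjS] at hy
  have e : y = g * (g⁻¹ * y * g) * g⁻¹ := by group
  rw [e]
  exact Subgroup.mul_mem _ (Subgroup.mul_mem _ hg (hKM hy)) (Subgroup.inv_mem _ hg)

theorem m24idx_asm_conjS_stab {X : Type*} [MulAction (Equiv.Perm GolayPt) X]
    (g : Equiv.Perm GolayPt) (hg : g ∈ Cfsg.M24) (S : X) :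
    conjS g (Cfsg.M24 ⊓ MulAction.stabilizer (Equiv.Perm GolayPt) S) =
      Cfsg.M24 ⊓ MulAction.stabilizer (Equiv.Perm GolayPt) (g • S) := by
  ext y
  rw [mem_conjS, Subgroup.mem_inf, Subgroup.mem_inf]
  constructor
  · rintro ⟨h1, h2⟩
    rw [MulAction.mem_stabilizer_iff] at h2
    constructor
    · have e : y = g * (g⁻¹ * y * g) * g⁻¹ := by group
      rw [e]
      exact Subgroup.mul_mem _ (Subgroup.mul_mem _ hg h1) (Subgroup.inv_mem _ hg)
    · rw [MulAction.mem_stabilizer_iff]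
      have e : y * g = g * (g⁻¹ * y * g) := by group
      rw [← mul_smul, e, mul_smul, h2]
  · rintro ⟨h1, h2⟩
    rw [MulAction.mem_stabilizer_iff] at h2
    constructor
    · exact Subgroup.mul_mem _ (Subgroup.mul_mem _ (Subgroup.inv_mem _ hg) h1) hg
    · rw [MulAction.mem_stabilizer_iff, mul_smul, mul_smul, h2, inv_smul_smul]

/-- a subgroup is determined by a conjugate -/
theorem m24idx_asm_of_conj {X : Type*} [MulAction (Equiv.Perm GolayPt) X]
    (g : Equiv.Perm GolayPt) (hg : g ∈ Cfsg.M24) (K : Subgroup (Equiv.Perm GolayPt)) (S : X)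
    (h : conjS g K = Cfsg.M24 ⊓ MulAction.stabilizer (Equiv.Perm GolayPt) S) :
    K = Cfsg.M24 ⊓ MulAction.stabilizer (Equiv.Perm GolayPt) (g⁻¹ • S) := by
  rw [conjS_inv_eq g K _ h, m24idx_asm_conjS_stab g⁻¹ (Subgroup.inv_mem _ hg) S]

/-- the stabilizer in the group of the code, seen in the group of all permutations -/
theorem m24idx_asm_map_stab {X : Type*} [MulAction (Equiv.Perm GolayPt) X] (S : X) :
    (MulAction.stabilizer ↥Cfsg.M24 S).map Cfsg.M24.subtype =
      Cfsg.M24 ⊓ MulAction.stabilizer (Equiv.Perm GolayPt) S := by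
  ext y
  rw [Subgroup.mem_map, Subgroup.mem_inf, MulAction.mem_stabilizer_iff]
  constructor
  · rintro ⟨z, hz, rfl⟩
    exact ⟨z.2, hz⟩
  · rintro ⟨h1, h2⟩
    exact ⟨⟨y, h1⟩, h2, rfl⟩

theorem m24idx_asm_octK_eq (o : Finset GolayPt) :
    octK o = Cfsg.M24 ⊓ MulAction.stabilizer (Equiv.Perm GolayPt) o := rfl

theorem m24idx_asm_card_sextet (S : Finset (Finset GolayPt)) (hS : S ∈ Cfsg.sextets) :
    Nat.card ↥(Cfsg.M24 ⊓ MulAction.stabilizer (Equiv.Perm GolayPt) S) = 138240 := by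
  rw [← Cfsg.Agent.S1551.card_stab S hS]
  symm
  exact card_of_map_eq _ _ (m24idx_asm_map_stab S)

theorem m24idx_asm_Q23_le_P0 : Q23 ≤ P0 := fun _ hg => (Subgroup.mem_inf.1 hg).1

/-- the dichotomy for a subgroup containing the Sylow 2-subgroup -/
theorem P0_cases (K : Subgroup (Equiv.Perm GolayPt)) (hP : P0 ≤ K) :
    (∀ g ∈ K, g • oct0 = oct0) ∨ IsTrans K := by
  apply P0_cases_core K (m24idx_asm_Q23_le_P0.trans hP)
  intro w hw
  obtain ⟨g, hg, e⟩ := P0_trans_oct0 w hw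
  exact ⟨g, hP hg, e⟩

theorem m24idx_asm_le_octK (K : Subgroup (Equiv.Perm GolayPt)) (hKM : K ≤ Cfsg.M24)
    (h : ∀ g ∈ K, g • oct0 = oct0) : K ≤ octK oct0 :=
  fun g hg => (mem_octK oct0 g).2 ⟨hKM hg, h g hg⟩

/-! ### The four orders, in the group of all permutations -/

theorem idx759_perm (K : Subgroup (Equiv.Perm GolayPt)) (hKM : K ≤ Cfsg.M24)
    (hc : Nat.card K = 322560) :
    ∃ o ∈ Cfsg.octads, K = Cfsg.M24 ⊓ MulAction.stabilizer (Equiv.Perm GolayPt) o := by
  obtain ⟨g, hg, hP⟩ := conj_to_P0 K hKM (by rw [hc]; norm_num)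
  have hK'M := m24idx_asm_conjS_le g hg K hKM
  have hc' : Nat.card (conjS g K) = 322560 := by rw [card_conjS, hc]
  rcases P0_cases (conjS g K) hP with h | htr
  · have hle := m24idx_asm_le_octK _ hK'M h
    have heq : conjS g K = octK oct0 :=
      eq_of_le_of_card_eq hle (by rw [hc', card_octK oct0 oct0_mem])
    refine ⟨g⁻¹ • oct0, smul_mem_octads (Subgroup.inv_mem _ hg) oct0_mem, ?_⟩
    exact m24idx_asm_of_conj g hg K oct0 heq
  · exfalso
    have h1 := card_of_isTrans _ htr (dec 23)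
    rw [hc'] at h1
    exact (odd_trans _ hK'M hP htr).1 (by omega)

theorem idx1771_perm (K : Subgroup (Equiv.Perm GolayPt)) (hKM : K ≤ Cfsg.M24)
    (hc : Nat.card K = 138240) :
    ∃ S ∈ Cfsg.sextets, K = Cfsg.M24 ⊓ MulAction.stabilizer (Equiv.Perm GolayPt) S := by
  obtain ⟨g, hg, hP⟩ := conj_to_P0 K hKM (by rw [hc]; norm_num)
  have hK'M := m24idx_asm_conjS_le g hg K hKM
  have hc' : Nat.card (conjS g K) = 138240 := by rw [card_conjS, hc]
  rcases P0_cases (conjS g K) hP with h | htr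
  · exfalso
    have hle := m24idx_asm_le_octK _ hK'M h
    have := Subgroup.card_dvd_of_le hle
    rw [hc', card_octK oct0 oct0_mem] at this
    omega
  · have h1 := card_of_isTrans _ htr (dec 23)
    rw [hc'] at h1
    have h2 := (odd_trans _ hK'M hP htr).2.2 (by omega)
    have h4 : ({dec 23, dec 0, dec 5, dec 14} : Finset GolayPt).card = 4 := by decide
    have hS := sextetOf_mem_sextets _ h4
    have hle : conjS g K ≤ Cfsg.M24 ⊓ MulAction.stabilizer (Equiv.Perm GolayPt)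
        (sextetOf ({dec 23, dec 0, dec 5, dec 14} : Finset GolayPt)) := by
      intro k hk
      exact Subgroup.mem_inf.2 ⟨hK'M hk, MulAction.mem_stabilizer_iff.2 (h2 k hk)⟩
    have heq := eq_of_le_of_card_eq hle (by rw [hc', m24idx_asm_card_sextet _ hS])
    refine ⟨g⁻¹ • sextetOf ({dec 23, dec 0, dec 5, dec 14} : Finset GolayPt),
      smul_mem_sextets (Subgroup.inv_mem _ hg) hS, ?_⟩
    exact m24idx_asm_of_conj g hg K _ heq

theorem idx253_perm (K : Subgroup (Equiv.Perm GolayPt)) (hKM : K ≤ Cfsg.M24)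
    (hc : Nat.card K = 967680) : False := by
  obtain ⟨g, hg, hP⟩ := conj_to_P0 K hKM (by rw [hc]; norm_num)
  have hK'M := m24idx_asm_conjS_le g hg K hKM
  have hc' : Nat.card (conjS g K) = 967680 := by rw [card_conjS, hc]
  rcases P0_cases (conjS g K) hP with h | htr
  · have hle := m24idx_asm_le_octK _ hK'M h
    have := Subgroup.card_dvd_of_le hle
    rw [hc', card_octK oct0 oct0_mem] at this
    omega
  · have h1 := card_of_isTrans _ htr (dec 23)
    rw [hc'] at h1
    exact (odd_trans _ hK'M hP htr).2.1 (by omega)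

theorem idx276_perm (K : Subgroup (Equiv.Perm GolayPt)) (hKM : K ≤ Cfsg.M24)
    (hc : Nat.card K = 887040) :
    ∃ s : Finset GolayPt, s.card = 2 ∧
      K = Cfsg.M24 ⊓ MulAction.stabilizer (Equiv.Perm GolayPt) s := by
  rcases idx276_orbit K hKM hc ord11_fixed_card ord7_fixF_card with ⟨s, hs, h⟩ | htr
  · refine ⟨s, hs, eq_of_le_of_card_eq ?_ (by rw [hc, card_pairStab s hs])⟩
    intro k hk
    exact Subgroup.mem_inf.2 ⟨hKM hk, MulAction.mem_stabilizer_iff.2 (h k hk)⟩
  · exact (idx276_trans_false K hKM hc htr ord11_fixed_card ord7_fixF_card).elim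

/-! ### Transfer to subgroups of the group of the code -/

theorem m24idx_asm_card_map (H : Subgroup ↥Cfsg.M24) :
    Nat.card (H.map Cfsg.M24.subtype) = Nat.card H := Subgroup.card_subtype _ _

theorem m24idx_asm_card_of_index (H : Subgroup ↥Cfsg.M24) (n : ℕ) (h : H.index = n) :
    n * Nat.card (H.map Cfsg.M24.subtype) = 244823040 := by
  rw [m24idx_asm_card_map, ← h, Subgroup.index_mul_card, card_M24]

theorem m24idx_asm_map_le (H : Subgroup ↥Cfsg.M24) : H.map Cfsg.M24.subtype ≤ Cfsg.M24 := by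
  rintro _ ⟨y, _, rfl⟩
  exact y.2

theorem m24idx_asm_eq_stab {X : Type*} [MulAction (Equiv.Perm GolayPt) X] (H : Subgroup ↥Cfsg.M24)
    (S : X) (h : H.map Cfsg.M24.subtype =
      Cfsg.M24 ⊓ MulAction.stabilizer (Equiv.Perm GolayPt) S) :
    H = MulAction.stabilizer ↥Cfsg.M24 S := by
  rw [← m24idx_asm_map_stab S] at h
  exact Subgroup.map_injective Cfsg.M24.subtype_injective h

/-- the statement S1589 -/
theorem main : (∀ H : Subgroup ↥Cfsg.M24, H.index = 759 → ∃ o ∈ Cfsg.octads, H = MulAction.stabilizer Cfsg.M24 o) ∧ (∀ H : Subgroup ↥Cfsg.M24, H.index = 276 → ∃ s : Finset Cfsg.GolayPt, s.card = 2 ∧ H = MulAction.stabilizer Cfsg.M24 s) ∧ (∀ H : Subgroup ↥Cfsg.M24, H.index = 1771 → ∃ S ∈ Cfsg.sextets, H = MulAction.stabilizer Cfsg.M24 S) ∧ ∀ H : Subgroup ↥Cfsg.M24, H.index ≠ 253 := by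
  refine ⟨?_, ?_, ?_, ?_⟩
  · intro H hH
    have hc := m24idx_asm_card_of_index H 759 hH
    obtain ⟨o, ho, e⟩ := idx759_perm _ (m24idx_asm_map_le H) (by omega)
    exact ⟨o, ho, m24idx_asm_eq_stab H o e⟩
  · intro H hH
    have hc := m24idx_asm_card_of_index H 276 hH
    obtain ⟨s, hs, e⟩ := idx276_perm _ (m24idx_asm_map_le H) (by omega)
    exact ⟨s, hs, m24idx_asm_eq_stab H s e⟩
  · intro H hH
    have hc := m24idx_asm_card_of_index H 1771 hH
    obtain ⟨S, hS, e⟩ := idx1771_perm _ (m24idx_asm_map_le H) (by omega)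
    exact ⟨S, hS, m24idx_asm_eq_stab H S e⟩
  · intro H hH
    have hc := m24idx_asm_card_of_index H 253 hH
    exact idx253_perm _ (m24idx_asm_map_le H) (by omega)

end Cfsg.Agent.Helper3.M24Idx
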