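import Mathlib
import Cfsg.Agent.Lib.Helper18.MargDefs

set_option autoImplicit false

/-!
Piece C of Marggraf's theorem (S3620): from `Γ.card`-fold transitivity and a Jordan set `Γ`
with `2 * Γ.card < card Ω` a primitive group contains the alternating group.
-/

namespace Cfsg.Agent.Helper3.MargC

open Cfsg.Agent.Helper18.Marg

section list
variable {G Ω : Type*} [Group G] [MulAction G Ω] [DecidableEq Ω]

/-- list transitivity from `T` -/
theorem exists_smul_list {t : ℕ} (hT : T G Ω t) :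
    ∀ l : List (Ω × Ω), (l.map Prod.fst).Nodup → (l.map Prod.snd).Nodup → l.length ≤ t →
      ∃ g : G, ∀ p ∈ l, g • p.1 = p.2 := by
  intro l
  induction l with
  | nil => intro _ _ _; exact ⟨1, by simp⟩
  | cons p l ih =>
    intro h1 h2 hlen
    simp only [List.map_cons, List.nodup_cons, List.length_cons] at h1 h2 hlen
    obtain ⟨g', hg'⟩ := ih h1.2 h2.2 (by omega)
    have hXcard : ((l.map Prod.snd).toFinset).card < t := by
      calc ((l.map Prod.snd).toFinset).card ≤ (l.map Prod.snd).length := List.toFinset_card_le _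
        _ = l.length := by simp
        _ < t := by omega
    have ha : g' • p.1 ∉ (l.map Prod.snd).toFinset := by
      intro hmem
      rw [List.mem_toFinset, List.mem_map] at hmem
      obtain ⟨q, hq, hq2⟩ := hmem
      have h3 : g' • q.1 = g' • p.1 := by rw [hg' q hq, hq2]
      have h4 : q.1 = p.1 := MulAction.injective g' h3
      exact h1.1 (List.mem_map.mpr ⟨q, hq, h4⟩)
    have hb : p.2 ∉ (l.map Prod.snd).toFinset := by
      intro hmem
      rw [List.mem_toFinset] at hmem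
      exact h2.1 hmem
    obtain ⟨k, hkfix, hk⟩ := hT _ hXcard _ _ ha hb
    refine ⟨k * g', ?_⟩
    intro q hq
    rcases List.mem_cons.mp hq with rfl | hq
    · rw [mul_smul, hk]
    · rw [mul_smul, hg' q hq]
      exact hkfix _ (by rw [List.mem_toFinset]; exact List.mem_map.mpr ⟨q, hq, rfl⟩)

end list

section comm
variable {Ω : Type*} [DecidableEq Ω]

open Equiv

/-- the commutator of two permutations whose supports meet in exactly one point is a 3-cycle -/
theorem comm_eq_swap_mul_swap (σ τ : Perm Ω) (a : Ω)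
    (hst : ∀ x, σ x ≠ x → τ x ≠ x → x = a) (ha1 : σ a ≠ a) (ha2 : τ a ≠ a) :
    σ⁻¹ * τ⁻¹ * σ * τ = swap a (τ⁻¹ a) * swap a (σ⁻¹ a) := by
  have hu : σ (σ⁻¹ a) = a := by simp
  have hv : τ (τ⁻¹ a) = a := by simp
  have hua : σ⁻¹ a ≠ a := by
    intro h; apply ha1; rw [h] at hu; exact hu
  have hva : τ⁻¹ a ≠ a := by
    intro h; apply ha2; rw [h] at hv; exact hv
  -- elements of supp σ other than a are fixed by τ and conversely
  have hτfix : ∀ x, σ x ≠ x → x ≠ a → τ x = x := by
    intro x hx hxa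
    by_contra h
    exact hxa (hst x hx h)
  have hσfix : ∀ x, τ x ≠ x → x ≠ a → σ x = x := by
    intro x hx hxa
    by_contra h
    exact hxa (hst x h hx)
  have hσu : σ (σ⁻¹ a) ≠ σ⁻¹ a := by rw [hu]; exact fun h => hua h.symm
  have hτv : τ (τ⁻¹ a) ≠ τ⁻¹ a := by rw [hv]; exact fun h => hva h.symm
  have huv : σ⁻¹ a ≠ τ⁻¹ a := by
    intro h
    have := hτfix _ hσu hua
    rw [h] at this
    exact hτv this
  have hτu : τ (σ⁻¹ a) = σ⁻¹ a := hτfix _ hσu hua
  have hσv : σ (τ⁻¹ a) = τ⁻¹ a := hσfix _ hτv hva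
  have hσinvv : σ⁻¹ (τ⁻¹ a) = τ⁻¹ a := by
    rw [Perm.inv_eq_iff_eq]; exact hσv.symm
  ext x
  simp only [Perm.mul_apply]
  by_cases hxa : x = a
  · subst hxa
    -- τ x = y, fixed by σ
    have hy1 : τ (τ x) ≠ τ x := fun h => ha2 (τ.injective h)
    have hy2 : τ x ≠ x := ha2
    have hσy : σ (τ x) = τ x := hσfix _ hy1 hy2
    rw [hσy]
    have : τ⁻¹ (τ x) = x := by simp
    rw [this]
    rw [swap_apply_left, swap_apply_of_ne_of_ne hua huv]
  · by_cases hxu : x = σ⁻¹ a
    · rw [hxu, hτu, hu, hσinvv]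
      rw [swap_apply_right, swap_apply_left]
    · by_cases hxv : x = τ⁻¹ a
      · rw [hxv, hv]
        -- σ a = w, fixed by τ
        have hw1 : σ (σ a) ≠ σ a := fun h => ha1 (σ.injective h)
        have hτw : τ (σ a) = σ a := hτfix _ hw1 ha1
        have hτinvw : τ⁻¹ (σ a) = σ a := by
          rw [Perm.inv_eq_iff_eq]; exact hτw.symm
        rw [hτinvw]
        have : σ⁻¹ (σ a) = a := by simp
        rw [this]
        rw [swap_apply_of_ne_of_ne hva (fun h => huv h.symm), swap_apply_right]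
      · rw [swap_apply_of_ne_of_ne hxa hxu, swap_apply_of_ne_of_ne hxa hxv]
        by_cases hτx : τ x = x
        · rw [hτx]
          by_cases hσx : σ x = x
          · rw [hσx]
            have h1 : τ⁻¹ x = x := by rw [Perm.inv_eq_iff_eq]; exact hτx.symm
            have h2 : σ⁻¹ x = x := by rw [Perm.inv_eq_iff_eq]; exact hσx.symm
            rw [h1, h2]
          · have hy1 : σ (σ x) ≠ σ x := fun h => hσx (σ.injective h)
            have hy2 : σ x ≠ a := by
              intro h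
              apply hxu
              rw [← h]; simp
            have hτy : τ (σ x) = σ x := hτfix _ hy1 hy2
            have h1 : τ⁻¹ (σ x) = σ x := by rw [Perm.inv_eq_iff_eq]; exact hτy.symm
            rw [h1]; simp
        · have hσx : σ x = x := hσfix _ hτx hxa
          have hy1 : τ (τ x) ≠ τ x := fun h => hτx (τ.injective h)
          have hy2 : τ x ≠ a := by
            intro h
            apply hxv
            rw [← h]; simp
          have hσy : σ (τ x) = τ x := hσfix _ hy1 hy2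
          rw [hσy]
          have h1 : τ⁻¹ (τ x) = x := by simp
          have h2 : σ⁻¹ x = x := by rw [Perm.inv_eq_iff_eq]; exact hσx.symm
          rw [h1, h2]

theorem comm_isThreeCycle [Fintype Ω] (σ τ : Perm Ω) (a : Ω)
    (hst : ∀ x, σ x ≠ x → τ x ≠ x → x = a) (ha1 : σ a ≠ a) (ha2 : τ a ≠ a) :
    (σ⁻¹ * τ⁻¹ * σ * τ).IsThreeCycle := by
  rw [comm_eq_swap_mul_swap σ τ a hst ha1 ha2]
  have hu : σ (σ⁻¹ a) = a := by simp
  have hv : τ (τ⁻¹ a) = a := by simp
  have hua : σ⁻¹ a ≠ a := by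
    intro h; apply ha1; rw [h] at hu; exact hu
  have hva : τ⁻¹ a ≠ a := by
    intro h; apply ha2; rw [h] at hv; exact hv
  have huv : τ⁻¹ a ≠ σ⁻¹ a := by
    intro h
    have hσu : σ (σ⁻¹ a) ≠ σ⁻¹ a := by rw [hu]; exact fun h => hua h.symm
    have hτv : τ (τ⁻¹ a) ≠ τ⁻¹ a := by rw [hv]; exact fun h => hva h.symm
    rw [h] at hτv
    exact hua (hst _ hσu hτv)
  exact Perm.isThreeCycle_swap_mul_swap_same (fun h => hva h.symm) (fun h => hua h.symm) huv

end comm

section main
variable {G Ω : Type*} [Group G] [MulAction G Ω] [Fintype Ω] [DecidableEq Ω]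

/-- Piece C of S3620. -/
theorem alt_of_T (hprim : MulAction.IsPreprimitive G Ω) (Γ : Finset Ω) (hJ : IsJordan G Γ)
    (h1 : 2 ≤ Γ.card) (h2 : 2 * Γ.card < Fintype.card Ω) (hT : T G Ω Γ.card) :
    ∀ σ : Equiv.Perm Ω, Equiv.Perm.sign σ = 1 →
      ∃ x : G, (MulAction.toPerm x : Equiv.Perm Ω) = σ := by
  classical
  obtain ⟨x₀, hx₀, y₀, hy₀, hxy⟩ := Finset.one_lt_card.mp (by omega : 1 < Γ.card)
  obtain ⟨h, hfix, hh⟩ := hJ x₀ hx₀ y₀ hy₀
  have hσapp : ∀ z, (MulAction.toPerm h : Equiv.Perm Ω) z = h • z := fun z => rfl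
  have hsupp : (MulAction.toPerm h : Equiv.Perm Ω).support ⊆ Γ := by
    intro z hz
    by_contra hzΓ
    rw [Equiv.Perm.mem_support] at hz
    exact hz (hfix z hzΓ)
  have hα : x₀ ∈ (MulAction.toPerm h : Equiv.Perm Ω).support := by
    rw [Equiv.Perm.mem_support, hσapp, hh]; exact hxy.symm
  obtain ⟨S, hSdef⟩ : ∃ S : Finset Ω, S = (MulAction.toPerm h : Equiv.Perm Ω).support := ⟨_, rfl⟩
  have hSmem : ∀ z, z ∈ S ↔ h • z ≠ z := by
    intro z; rw [hSdef, Equiv.Perm.mem_support, hσapp]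
  have hαS : x₀ ∈ S := by rw [hSdef]; exact hα
  have hScard : S.card ≤ Γ.card := by rw [hSdef]; exact Finset.card_le_card hsupp
  have hSpos : 1 ≤ S.card := Finset.card_pos.mpr ⟨x₀, hαS⟩
  obtain ⟨L1, hL1⟩ : ∃ L1 : List Ω, L1 = (S.erase x₀).toList := ⟨_, rfl⟩
  have hL1len : L1.length = S.card - 1 := by
    rw [hL1, Finset.length_toList, Finset.card_erase_of_mem hαS]
  have hcompl : S.card - 1 ≤ Sᶜ.card := by
    rw [Finset.card_compl]; omega
  obtain ⟨L2, hL2⟩ : ∃ L2 : List Ω, L2 = (Sᶜ.toList).take (S.card - 1) := ⟨_, rfl⟩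
  have hL2len : L2.length = S.card - 1 := by
    rw [hL2, List.length_take, Finset.length_toList]; omega
  have hfst : (L1.zip L2).map Prod.fst = L1 := List.map_fst_zip (by omega)
  have hsnd : (L1.zip L2).map Prod.snd = L2 := List.map_snd_zip (by omega)
  have hL1nd : L1.Nodup := by rw [hL1]; exact Finset.nodup_toList _
  have hL2nd : L2.Nodup := by
    rw [hL2]; exact (Finset.nodup_toList _).sublist (List.take_sublist _ _)
  have hL1mem : ∀ z, z ∈ L1 ↔ z ∈ S ∧ z ≠ x₀ := by
    intro z; rw [hL1, Finset.mem_toList, Finset.mem_erase]; tauto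
  have hL2mem : ∀ z, z ∈ L2 → z ∉ S := by
    intro z hz
    rw [hL2] at hz
    have := List.mem_of_mem_take hz
    rw [Finset.mem_toList, Finset.mem_compl] at this
    exact this
  obtain ⟨g, hg⟩ := exists_smul_list hT ((x₀, x₀) :: L1.zip L2)
    (by
      rw [List.map_cons, hfst, List.nodup_cons]
      exact ⟨fun hm => ((hL1mem _).mp hm).2 rfl, hL1nd⟩)
    (by
      rw [List.map_cons, hsnd, List.nodup_cons]
      exact ⟨fun hm => hL2mem _ hm hαS, hL2nd⟩)
    (by
      rw [List.length_cons, List.length_zip]; omega)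
  have hgα : g • x₀ = x₀ := hg (x₀, x₀) (List.mem_cons_self ..)
  have hginvα : g⁻¹ • x₀ = x₀ := by
    rw [inv_smul_eq_iff]; exact hgα.symm
  have hgS : ∀ β ∈ S, β ≠ x₀ → g • β ∉ S := by
    intro β hβ hβα
    have hβL : β ∈ (L1.zip L2).map Prod.fst := by
      rw [hfst]; exact (hL1mem β).mpr ⟨hβ, hβα⟩
    obtain ⟨q, hq, hq1⟩ := List.mem_map.mp hβL
    have hq2 : q.2 ∈ L2 := by
      rw [← hsnd]; exact List.mem_map.mpr ⟨q, hq, rfl⟩
    have := hg q (List.mem_cons_of_mem _ hq)
    rw [hq1] at this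
    rw [this]
    exact hL2mem _ hq2
  -- the two permutations
  obtain ⟨k, hk⟩ : ∃ k : G, k = g * h * g⁻¹ := ⟨_, rfl⟩
  have hτapp : ∀ z, (MulAction.toPerm k : Equiv.Perm Ω) z = g • h • g⁻¹ • z := by
    intro z
    show k • z = _
    rw [hk, mul_smul, mul_smul]
  have hst : ∀ z, (MulAction.toPerm h : Equiv.Perm Ω) z ≠ z →
      (MulAction.toPerm k : Equiv.Perm Ω) z ≠ z → z = x₀ := by
    intro z hz1 hz2
    rw [hσapp] at hz1
    rw [hτapp] at hz2
    have hzS : z ∈ S := (hSmem z).mpr hz1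
    have hβS : g⁻¹ • z ∈ S := by
      rw [hSmem]
      intro hcon
      apply hz2
      rw [hcon, smul_inv_smul]
    by_contra hne
    have hβα : g⁻¹ • z ≠ x₀ := by
      intro hcon
      apply hne
      rw [inv_smul_eq_iff] at hcon
      rw [hcon, hgα]
    have := hgS _ hβS hβα
    rw [smul_inv_smul] at this
    exact this hzS
  have ha1 : (MulAction.toPerm h : Equiv.Perm Ω) x₀ ≠ x₀ := by
    rw [hσapp, hh]; exact hxy.symm
  have ha2 : (MulAction.toPerm k : Equiv.Perm Ω) x₀ ≠ x₀ := by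
    rw [hτapp, hginvα, hh]
    intro hcon
    have : g • y₀ = g • x₀ := by rw [hcon, hgα]
    exact hxy.symm (MulAction.injective g this)
  have h3 := comm_isThreeCycle _ _ x₀ hst ha1 ha2
  have hmem : ((MulAction.toPerm h : Equiv.Perm Ω)⁻¹ *
      (MulAction.toPerm k : Equiv.Perm Ω)⁻¹ * (MulAction.toPerm h : Equiv.Perm Ω) *
      (MulAction.toPerm k : Equiv.Perm Ω)) ∈ (MulAction.toPermHom G Ω).range := by
    refine ⟨h⁻¹ * k⁻¹ * h * k, ?_⟩
    simp only [map_mul, map_inv]
    rfl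
  have hprim' : MulAction.IsPreprimitive (MulAction.toPermHom G Ω).range Ω := by
    have := hprim
    let f : Ω →ₑ[(MulAction.toPermHom G Ω).rangeRestrict] Ω :=
      { toFun := id, map_smul' := fun _ _ => rfl }
    exact MulAction.IsPreprimitive.of_surjective (f := f) Function.surjective_id
  have hle := Equiv.Perm.alternatingGroup_le_of_isPreprimitive_of_isThreeCycle_mem hprim' h3 hmem
  intro σ hσ
  obtain ⟨x, hx⟩ := hle (Equiv.Perm.mem_alternatingGroup.mpr hσ)
  exact ⟨x, hx⟩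

end main

end Cfsg.Agent.Helper3.MargC
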