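import Mathlib
import Cfsg.Agent.Lib.Helper21.N9KDefs
import Cfsg.Agent.Lib.Helper3.N9OUTCore
import Cfsg.Agent.Lib.Helper17.N9KINA
import Cfsg.Agent.Lib.Helper25.N9KNCONJ
import Cfsg.Agent.Lib.Helper22.N9TRA
import Cfsg.Agent.Lib.Helper14.N9TI

/-!
# S3702 GROUP piece NCONJ (helper3): `nconj_G`.
-/

set_option autoImplicit false
set_option linter.unusedSectionVars false
set_option linter.unusedVariables false

namespace Cfsg.Agent.Helper21.N9

open Cfsg Cfsg.Agent.Helper16

universe u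

variable {G : Type u} [Group G] [Finite G] {H J : Subgroup G}

/-- PIECE S3702-GR-NCONJ -/
theorem nconj_G (c : Cfg H J) : ∀ a b : Fin 9, IsConj (c.ι (CK.z a)) (c.ι (CK.z b)) → a = b :=
  nconj_G_core c inA_K0 nconj_K0 (ι_injective c) (ι_mem c) (fun hg => exists_ι c hg) (ι_mem_J c)
    (fun {x} hx k hk hk1 {g} hg => ti c hx k hk hk1 hg)

end Cfsg.Agent.Helper21.N9
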