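import Mathlib
import Cfsg.Agent.Lib.Lead.NC2Defs
import Cfsg.Agent.Lib.Helper1.NC2CEN

/-!
# S3894 (n = 2) piece N2-COVER, core (helper3): the explicit cover
`{normalizer(A) ⊓ G : A ∈ Iu} ∪ {A ⊓ G : A ∈ Ins}`.

The statements of N2-EIG, N2-NORM, N2-PROPU, N2-PROPNS enter as hypotheses.
-/

set_option autoImplicit false
set_option linter.unusedSectionVars false
set_option linter.unusedVariables false

namespace Cfsg.Agent.Lead.NC2

open Matrix

variable {F : Type*} [Field F]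

section fin

variable [Fintype F]

theorem nc2_cover_core
    (hEIG : ∀ g : GL (Fin 2) F,
      NoEig g ∨ ∃ (N : Matrix (Fin 2) (Fin 2) F) (c : F), N ≠ 0 ∧ N * N = 0 ∧ c ≠ 0 ∧
        (g : Matrix (Fin 2) (Fin 2) F) * N = c • (N * (g : Matrix (Fin 2) (Fin 2) F)))
    (hNORM : ∀ {g : GL (Fin 2) F} {N : Matrix (Fin 2) (Fin 2) F} {c : F}
      (hN : N * N = 0) (hc : c ≠ 0)
      (h : (g : Matrix (Fin 2) (Fin 2) F) * N = c • (N * (g : Matrix (Fin 2) (Fin 2) F))),
      pr g ∈ Subgroup.normalizer ((T (uni N hN) : Subgroup (PGL2 F)) : Set (PGL2 F)))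
    (hPROPU : ∀ (N : Matrix (Fin 2) (Fin 2) F) (hN : N * N = 0) (hN0 : N ≠ 0),
      ∃ s ∈ (slImage : Subgroup (PGL2 F)),
        s ∉ Subgroup.normalizer ((T (uni N hN) : Subgroup (PGL2 F)) : Set (PGL2 F)))
    (hPROPNS : ∀ {x : GL (Fin 2) F} (hx : NoEig x),
      ∃ s ∈ (slImage : Subgroup (PGL2 F)), s ∉ T x)
    (G : Subgroup (PGL2 F)) (hG : (slImage : Subgroup (PGL2 F)) ≤ G)
    (hfin : (Iall : Set (Subgroup (PGL2 F))).Finite) :
    ∃ 𝓑 : Finset (Subgroup ↥G), (∀ B ∈ 𝓑, B ≠ ⊤) ∧ (∀ g : ↥G, ∃ B ∈ 𝓑, g ∈ B) ∧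
      𝓑.card ≤ hfin.toFinset.card := by
  classical
  let f : Subgroup (PGL2 F) → Subgroup ↥G := fun A =>
    if A ∈ (Iu : Set (Subgroup (PGL2 F))) then
      (Subgroup.normalizer ((A : Subgroup (PGL2 F)) : Set (PGL2 F))).subgroupOf G
    else A.subgroupOf G
  have hf1 : ∀ A, A ∈ (Iu : Set (Subgroup (PGL2 F))) →
      f A = (Subgroup.normalizer ((A : Subgroup (PGL2 F)) : Set (PGL2 F))).subgroupOf G := by
    intro A hA
    exact if_pos hA
  have hf2 : ∀ A, A ∉ (Iu : Set (Subgroup (PGL2 F))) → f A = A.subgroupOf G := by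
    intro A hA
    exact if_neg hA
  refine ⟨hfin.toFinset.image f, ?_, ?_, Finset.card_image_le⟩
  · -- the members are proper
    intro B hB
    rw [Finset.mem_image] at hB
    obtain ⟨A, hA, rfl⟩ := hB
    have hA' : A ∈ (Iall : Set (Subgroup (PGL2 F))) := (Set.Finite.mem_toFinset hfin).1 hA
    by_cases hu : A ∈ (Iu : Set (Subgroup (PGL2 F)))
    · rw [hf1 A hu]
      obtain ⟨N, hN, hN0, rfl⟩ := hu
      obtain ⟨s, hs, hsn⟩ := hPROPU N hN hN0
      intro htop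
      rw [Subgroup.subgroupOf_eq_top] at htop
      exact hsn (htop (hG hs))
    · rw [hf2 A hu]
      have hns : A ∈ (Ins : Set (Subgroup (PGL2 F))) := by
        rcases hA' with h | h
        · exact absurd h hu
        · exact h
      obtain ⟨x, hx, rfl⟩ := hns
      obtain ⟨s, hs, hsn⟩ := hPROPNS hx
      intro htop
      rw [Subgroup.subgroupOf_eq_top] at htop
      exact hsn (htop (hG hs))
  · -- the members cover `G`
    intro g
    obtain ⟨g₀, hg₀⟩ := pr_surjective (g : PGL2 F)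
    rcases hEIG g₀ with hne | ⟨N, c, hN0, hN, hc, hgN⟩
    · have hA' : T g₀ ∈ (Iall : Set (Subgroup (PGL2 F))) := Or.inr ⟨g₀, hne, rfl⟩
      have hmemT : (g : PGL2 F) ∈ T g₀ := by
        rw [← hg₀, pr_mem_T_iff]
      refine ⟨f (T g₀), Finset.mem_image_of_mem f ((Set.Finite.mem_toFinset hfin).2 hA'), ?_⟩
      by_cases hu : T g₀ ∈ (Iu : Set (Subgroup (PGL2 F)))
      · rw [hf1 _ hu, Subgroup.mem_subgroupOf]
        exact Subgroup.le_normalizer hmemT
      · rw [hf2 _ hu, Subgroup.mem_subgroupOf]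
        exact hmemT
    · have hu : T (uni N hN) ∈ (Iu : Set (Subgroup (PGL2 F))) := ⟨N, hN, hN0, rfl⟩
      have hA' : T (uni N hN) ∈ (Iall : Set (Subgroup (PGL2 F))) := Or.inl hu
      refine ⟨f (T (uni N hN)),
        Finset.mem_image_of_mem f ((Set.Finite.mem_toFinset hfin).2 hA'), ?_⟩
      rw [hf1 _ hu, Subgroup.mem_subgroupOf, ← hg₀]
      exact hNORM hN hc hgN

end fin

end Cfsg.Agent.Lead.NC2
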