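import Mathlib
import Cfsg.Agent.Lib.Lead.NC2Defs
import Cfsg.Agent.Lib.Helper3.NC2COVERCore
import Cfsg.Agent.Lib.Helper6.NC2EIG
import Cfsg.Agent.Lib.Helper22.NC2NORM
import Cfsg.Agent.Lib.Helper1.NC2PROPU
import Cfsg.Agent.Lib.Helper1.NC2PROPNS

/-!
# S3894 (n = 2) piece N2-COVER (helper3): the explicit cover.  Wrapper of `nc2_cover_core`.
-/

set_option autoImplicit false
set_option linter.unusedSectionVars false
set_option linter.unusedVariables false

namespace Cfsg.Agent.Lead.NC2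

open Matrix

variable {F : Type*} [Field F]

section fin

variable [Fintype F]

theorem exists_cover (G : Subgroup (PGL2 F)) (hG : (slImage : Subgroup (PGL2 F)) ≤ G)
    (hfin : (Iall : Set (Subgroup (PGL2 F))).Finite) :
    ∃ 𝓑 : Finset (Subgroup ↥G), (∀ B ∈ 𝓑, B ≠ ⊤) ∧ (∀ g : ↥G, ∃ B ∈ 𝓑, g ∈ B) ∧
      𝓑.card ≤ hfin.toFinset.card :=
  nc2_cover_core noEig_or_exists_nilp (fun hN hc h => pr_mem_normalizer_T_uni hN hc h)
    exists_slImage_not_mem_normalizer (fun hx => exists_slImage_not_mem_T hx) G hG hfin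

end fin

end Cfsg.Agent.Lead.NC2
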