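import Mathlib
import Cfsg.Agent.Lib.Lead.NC2Defs
import Cfsg.Agent.Lib.Helper1.NC2CEN

/-!
# S3894 (n = 2) piece N2-WITU (helper3): `pr (1 + N)` is a witness of the unipotent piece `T (1 + N)`.
-/

set_option autoImplicit false
set_option linter.unusedSectionVars false
set_option linter.unusedVariables false

namespace Cfsg.Agent.Lead.NC2

open Matrix

variable {F : Type*} [Field F]

/-- local copy of `det_uni` (N2-GOOD): `det (1 + N) = 1` for `N² = 0` -/
theorem nc2_witu_det_uni (N : Matrix (Fin 2) (Fin 2) F) (hN : N * N = 0) :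
    ((uni N hN : GL (Fin 2) F) : Matrix (Fin 2) (Fin 2) F).det = 1 := by
  rw [uni_val, Matrix.det_fin_two]
  have h00 := congrFun (congrFun hN 0) 0
  have h01 := congrFun (congrFun hN 0) 1
  have h10 := congrFun (congrFun hN 1) 0
  have h11 := congrFun (congrFun hN 1) 1
  simp only [Matrix.mul_apply, Fin.sum_univ_two, Matrix.zero_apply] at h00 h01 h10 h11
  simp only [Matrix.add_apply, Matrix.one_apply_eq, Matrix.one_apply_ne, ne_eq, zero_ne_one,
    one_ne_zero, not_false_eq_true, zero_add]
  by_cases ht : N 0 0 + N 1 1 = 0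
  · have h4 : N 1 1 = - N 0 0 := by linear_combination ht
    rw [h4]
    linear_combination -h00
  · exfalso
    have h2 : N 0 1 = 0 := by
      have : N 0 1 * (N 0 0 + N 1 1) = 0 := by linear_combination h01
      rcases mul_eq_zero.1 this with h | h
      · exact h
      · exact absurd h ht
    have h3 : N 1 0 = 0 := by
      have : N 1 0 * (N 0 0 + N 1 1) = 0 := by linear_combination h10
      rcases mul_eq_zero.1 this with h | h
      · exact h
      · exact absurd h ht
    rw [h2, h3] at h00 h11
    simp only [mul_zero, add_zero, zero_add] at h00 h11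
    have e0 : N 0 0 = 0 := mul_self_eq_zero.1 h00
    have e1 : N 1 1 = 0 := mul_self_eq_zero.1 h11
    apply ht
    rw [e0, e1, add_zero]

/-- local copy of `uniType_uni` (N2-GOOD) -/
theorem nc2_witu_uniType_uni (N : Matrix (Fin 2) (Fin 2) F) (hN : N * N = 0) (hN0 : N ≠ 0) :
    UniType (uni N hN) :=
  ⟨1, N, hN0, hN, by rw [uni_val, one_smul]⟩

section fin

variable [Fintype F]

theorem isWit_uni (N : Matrix (Fin 2) (Fin 2) F) (hN : N * N = 0) (hN0 : N ≠ 0) :
    IsWit (T (uni N hN)) (pr (uni N hN)) :=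
  ⟨uni N hN, rfl, Or.inr (nc2_witu_uniType_uni N hN hN0), rfl,
    pr_mem_slImage_of_det (nc2_witu_det_uni N hN),
    fun _ => Or.inl (nc2_witu_uniType_uni N hN hN0)⟩

end fin

end Cfsg.Agent.Lead.NC2
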