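import Mathlib
import Cfsg.Agent.Lib.Helper3.OliverB1

/-!
# Essential subgroups of a fusion system on a `p`-group with a unique abelian subgroup of index `p`
-/

set_option autoImplicit false
set_option linter.style.haveILetI false
set_option linter.unusedSectionVars false

namespace Cfsg.Agent.Helper3.OL

open Cfsg Cfsg.FusionSystem Cfsg.Agent.Helper25 Cfsg.Agent.Helper26 Cfsg.Agent.Helper3.KL
open Cfsg.Agent.Helper3.TT Cfsg.Agent.Helper3.SC

variable {Ω : Type*} [Group Ω] {S A P : Subgroup Ω}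

section grp

variable [Finite S] {p : ℕ} [Fact p.Prime]

theorem relIndex_eq_one_or_prime' (hS : IsPGroup p S) {H K : Subgroup Ω} (hK : K ≤ S)
    (h : H.relIndex K ≤ p) : H.relIndex K = 1 ∨ H.relIndex K = p := by
  have hp : p.Prime := Fact.out
  haveI : Finite K := finite_of_le_finite hK
  have h1 : H.relIndex K ∣ Nat.card K := Subgroup.relIndex_dvd_card H K
  obtain ⟨n, hn⟩ := (hS.to_le hK).exists_card_eq
  rw [hn] at h1
  obtain ⟨k, -, hk⟩ := (Nat.dvd_prime_pow hp).mp h1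
  rcases Nat.eq_zero_or_pos k with h0 | h0
  · left
    rw [hk, h0, pow_zero]
  · right
    apply le_antisymm h
    rw [hk]
    calc p = p ^ 1 := (pow_one p).symm
      _ ≤ p ^ k := Nat.pow_le_pow_right hp.pos h0

/-- for `a ∈ A`: `a` normalizes `P ∋ x` iff `[x, a] ∈ P` -/
theorem mem_normalizer_iff (D : OD p S A) {x : Ω} (hx : x ∈ S) (hxA : x ∉ A) (hPS : P ≤ S)
    (hxP : x ∈ P) {a : Ω} (ha : a ∈ A) :
    a ∈ Subgroup.normalizer (P : Set Ω) ↔ x * a * x⁻¹ * a⁻¹ ∈ P := by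
  constructor
  · intro h
    have h1 := (Subgroup.mem_normalizer_iff.mp h x⁻¹).mp (P.inv_mem hxP)
    have h2 : x * a * x⁻¹ * a⁻¹ = x * (a * x⁻¹ * a⁻¹) := by group
    rw [h2]
    exact P.mul_mem hxP h1
  · intro hc
    haveI : Finite P := finite_of_le_finite hPS
    apply mem_normalizer_of_conj_le
    intro e he
    obtain ⟨b, hb, k, rfl⟩ := D.exists_mul_pow hx hxA (hPS he)
    have hbP : b ∈ P := by
      have h1 : b = (b * x ^ k) * (x ^ k)⁻¹ := by group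
      rw [h1]
      exact P.mul_mem he (P.inv_mem (P.pow_mem hxP k))
    have h1 : a * (b * x ^ k) * a⁻¹ = (a * b * a⁻¹) * (a * x * a⁻¹) ^ k := by
      rw [conj_pow]; group
    have h2 : a * b * a⁻¹ = b := by rw [D.comm' ha hb]; group
    have h3 : a * x * a⁻¹ = (x * a * x⁻¹ * a⁻¹)⁻¹ * x := by group
    rw [h1, h2, h3]
    exact P.mul_mem hbP (P.pow_mem (P.mul_mem (P.inv_mem hc) hxP) k)

theorem dec_mem (D : OD p S A) {x : Ω} (hx : x ∈ S) (hxA : x ∉ A) (hPS : P ≤ S) (hxP : x ∈ P)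
    {e : Ω} (he : e ∈ P) : ∃ b ∈ A ⊓ P, ∃ k : ℕ, e = b * x ^ k := by
  obtain ⟨b, hb, k, rfl⟩ := D.exists_mul_pow hx hxA (hPS he)
  refine ⟨b, ⟨hb, ?_⟩, k, rfl⟩
  have h1 : b = (b * x ^ k) * (x ^ k)⁻¹ := by group
  rw [h1]
  exact P.mul_mem he (P.inv_mem (P.pow_mem hxP k))

theorem inf_normalizerIn (D : OD p S A) {x : Ω} (hx : x ∈ S) (hxA : x ∉ A) (hPS : P ≤ S)
    (hxP : x ∈ P) {i : ℕ} (hi : A ⊓ P = K D hx i) : A ⊓ normalizerIn S P = K D hx (i + 1) := by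
  ext a
  constructor
  · rintro ⟨ha, -, haN⟩
    rw [mem_K_succ]
    refine ⟨ha, ?_⟩
    rw [← hi]
    exact ⟨(phi D hx ⟨a, ha⟩).2, (mem_normalizer_iff D hx hxA hPS hxP ha).mp haN⟩
  · intro h
    obtain ⟨ha, h1⟩ := (mem_K_succ D hx).mp h
    rw [← hi] at h1
    exact ⟨ha, D.le ha, (mem_normalizer_iff D hx hxA hPS hxP ha).mpr h1.2⟩

theorem relIndex_normalizerIn (D : OD p S A) {x : Ω} (hx : x ∈ S) (hxA : x ∉ A) (hPS : P ≤ S)
    (hxP : x ∈ P) {i : ℕ} (hi : A ⊓ P = K D hx i) :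
    P.relIndex (normalizerIn S P) = (K D hx i).relIndex (K D hx (i + 1)) := by
  rw [D.relIndex_eq (le_normalizerIn hPS) normalizerIn_le (fun h => hxA (h hxP)), hi,
    inf_normalizerIn D hx hxA hPS hxP hi]

theorem P_eq (D : OD p S A) {x : Ω} (hx : x ∈ S) (hxA : x ∉ A) (hPS : P ≤ S) (hxP : x ∈ P)
    {Q : Subgroup Ω} (hi : A ⊓ P = Q) : P = Q ⊔ Subgroup.zpowers x := by
  apply le_antisymm
  · intro e he
    obtain ⟨b, hb, k, rfl⟩ := dec_mem D hx hxA hPS hxP he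
    rw [hi] at hb
    exact Subgroup.mul_mem _ (Subgroup.mem_sup_left hb)
      (Subgroup.mem_sup_right (Subgroup.pow_mem _ (Subgroup.mem_zpowers x) k))
  · apply sup_le
    · rw [← hi]; exact inf_le_right
    · exact Subgroup.zpowers_le.mpr hxP

/-- if `A ∩ P ≤ Z(S)` then `P` is abelian -/
theorem abelian_of_inf_le (D : OD p S A) {x : Ω} (hx : x ∈ S) (hxA : x ∉ A) (hPS : P ≤ S)
    (hxP : x ∈ P) (h : A ⊓ P ≤ centralizerIn S S) : ∀ u v : P, u * v = v * u := by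
  rintro ⟨u, hu⟩ ⟨v, hv⟩
  apply Subtype.ext
  show u * v = v * u
  obtain ⟨b, hb, k, rfl⟩ := dec_mem D hx hxA hPS hxP hu
  obtain ⟨c, hc, l, rfl⟩ := dec_mem D hx hxA hPS hxP hv
  have hbZ := mem_Zc.mp (h hb)
  have hcZ := mem_Zc.mp (h hc)
  have h1 : x ^ k * c = c * x ^ k := hcZ.2 _ (S.pow_mem hx k)
  have h2 : x ^ l * b = b * x ^ l := hbZ.2 _ (S.pow_mem hx l)
  have h3 : c * b = b * c := hbZ.2 c hcZ.1
  have h4 : x ^ k * x ^ l = x ^ l * x ^ k := by rw [← pow_add, ← pow_add, add_comm]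
  calc b * x ^ k * (c * x ^ l) = b * (x ^ k * c) * x ^ l := by group
    _ = b * (c * x ^ k) * x ^ l := by rw [h1]
    _ = (b * c) * (x ^ k * x ^ l) := by group
    _ = (c * b) * (x ^ l * x ^ k) := by rw [h3, h4]
    _ = c * (b * x ^ l) * x ^ k := by group
    _ = c * (x ^ l * b) * x ^ k := by rw [h2]
    _ = c * x ^ l * (b * x ^ k) := by group

end grp

end Cfsg.Agent.Helper3.OL
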