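import Mathlib
import Cfsg.Agent.Lib.Helper3.OliverB2

/-!
# Essential subgroups (unique abelian subgroup of index `p`): the abelian case
-/

set_option autoImplicit false
set_option linter.style.haveILetI false
set_option linter.unusedSectionVars false

namespace Cfsg.Agent.Helper3.OL

open Cfsg Cfsg.FusionSystem Cfsg.Agent.Helper25 Cfsg.Agent.Helper26 Cfsg.Agent.Helper3.KL
open Cfsg.Agent.Helper3.TT Cfsg.Agent.Helper3.SC

variable {Ω : Type*} [Group Ω] {S A P : Subgroup Ω}

section ess

variable [Finite S] {p : ℕ} [Fact p.Prime] {F : FusionSystem S}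

/-- `Aut_S(P)` has order at most `p` if it stabilizes `1 ≤ W ≤ P` with `|P : W| = p`, `P` abelian essential -/
theorem card_autS_le (hS : IsPGroup p S) (hF : F.IsSaturated p) (hP : F.IsEssential p P)
    (hab : ∀ u v : P, u * v = v * u) (W : Subgroup P) (hW : W.index = p)
    (hT : ∀ α ∈ autInducedBy S P, α ∈ stab W) : Nat.card (autInducedBy S P) ≤ p := by
  obtain ⟨hcen, hfn, hnormal, E, hE⟩ := hP
  have hPS : P ≤ S := hfn.1
  haveI : Finite P := finite_of_le_finite hPS
  haveI : Finite (MulAut P) :=
    Finite.of_injective (fun α : MulAut P => (α : P → P)) DFunLike.coe_injective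
  have hPp : IsPGroup p P := hS.to_le hPS
  obtain ⟨-, hfa, -⟩ := of_fullyNormalized p hS F hF hfn
  obtain ⟨-, R, hR⟩ := hfa
  haveI := hnormal
  have hN₀ : (Inn P).subgroupOf (F.autGroup P) = ⊥ := by
    ext n
    rw [Subgroup.mem_subgroupOf, Subgroup.mem_bot]
    constructor
    · rintro ⟨y, hy⟩
      apply Subtype.ext
      rw [← hy]
      ext e
      rw [MulAut.conj_apply, hab y e, mul_inv_cancel_right]
      rfl
    · rintro rfl
      exact Subgroup.one_mem _
  let ι : (F.autGroup P ⧸ (Inn P).subgroupOf (F.autGroup P)) →* MulAut P :=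
    QuotientGroup.lift _ (F.autGroup P).subtype (by rw [hN₀]; exact bot_le)
  have hιmk : ∀ g : F.autGroup P,
      ι (QuotientGroup.mk' ((Inn P).subgroupOf (F.autGroup P)) g) = (g : MulAut P) := fun g => rfl
  have hι : Function.Injective ι := by
    rw [injective_iff_map_eq_one]
    intro q hq
    obtain ⟨g, rfl⟩ := QuotientGroup.mk'_surjective _ q
    rw [hιmk] at hq
    have : g = 1 := Subtype.ext hq
    rw [this, map_one]
  have hmkinj : Function.Injective (QuotientGroup.mk' ((Inn P).subgroupOf (F.autGroup P))) := by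
    rw [← MonoidHom.ker_eq_bot_iff, QuotientGroup.ker_mk', hN₀]
  set T : Sylow p (F.autGroup P ⧸ (Inn P).subgroupOf (F.autGroup P)) :=
    R.mapSurjective (QuotientGroup.mk'_surjective _) with hTdef
  have hTcoe : (T : Subgroup (F.autGroup P ⧸ (Inn P).subgroupOf (F.autGroup P))) =
      (R : Subgroup (F.autGroup P)).map (QuotientGroup.mk' _) := Sylow.coe_mapSurjective _ _
  have hT' : ∀ t ∈ T, ι t ∈ stab W := by
    intro t ht
    have ht' : t ∈ (T : Subgroup _) := ht
    rw [hTcoe] at ht'
    obtain ⟨r, hr, rfl⟩ := ht'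
    rw [hιmk]
    apply hT
    rw [hR] at hr
    exact Subgroup.mem_subgroupOf.mp hr
  have hL1 := card_sylow_le hab hPp ι hι E hE T W hW hT'
  have h1 : Nat.card (autInducedBy S P) = Nat.card (R : Subgroup (F.autGroup P)) := by
    rw [hR]
    exact (Nat.card_congr
      (Subgroup.subgroupOfEquivOfLe (autInducedBy_le_autGroup F hPS)).toEquiv).symm
  have h2 : Nat.card (T : Subgroup (F.autGroup P ⧸ (Inn P).subgroupOf (F.autGroup P))) =
      Nat.card (R : Subgroup (F.autGroup P)) := by
    rw [hTcoe]
    exact Subgroup.card_map_of_injective hmkinj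
  rw [h1, ← h2]
  exact hL1

end ess

end Cfsg.Agent.Helper3.OL
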