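import Mathlib
import Cfsg.Agent.Lib.Helper3.OliverB3

/-!
# Essential subgroups (unique abelian subgroup of index `p`): classification
-/

set_option autoImplicit false
set_option linter.style.haveILetI false
set_option linter.unusedSectionVars false

namespace Cfsg.Agent.Helper3.OL

open Cfsg Cfsg.FusionSystem Cfsg.Agent.Helper25 Cfsg.Agent.Helper26 Cfsg.Agent.Helper3.KL
open Cfsg.Agent.Helper3.TT Cfsg.Agent.Helper3.SC

variable {Ω : Type*} [Group Ω] {S A P : Subgroup Ω}

section ess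

variable [Finite S] {p : ℕ} [Fact p.Prime] {F : FusionSystem S}

theorem essential_le_A (D : OD p S A) (hP : F.IsEssential p P) (hPA : P ≤ A) : P = A := by
  apply le_antisymm hPA
  have hPS : P ≤ S := hP.1.1
  have hcen : centralizerIn S P ≤ P := hP.1.2 P (isConj_refl F hPS)
  intro a ha
  apply hcen
  rw [mem_centralizerIn]
  exact ⟨D.le ha, fun e he => D.comm' (hPA he) ha⟩

/-- conjugation by `a ∈ K 2` moves elements of `S` by central elements -/
theorem comm_mem_Z_of_mem_K_two (D : OD p S A) {x : Ω} (hx : x ∈ S) (hxA : x ∉ A) {a : Ω}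
    (ha : a ∈ K D hx 2) {e : Ω} (he : e ∈ S) : a * e * a⁻¹ * e⁻¹ ∈ centralizerIn S S := by
  have h1 := ((mem_K_two D hx hxA).mp ha).2 e he
  have h2 : a * e * a⁻¹ * e⁻¹ = (e * a * e⁻¹ * a⁻¹)⁻¹ := by group
  rw [h2]
  exact Subgroup.inv_mem _ h1

theorem abelian_case (hF : F.IsSaturated p) (D : OD p S A) (hP : F.IsEssential p P) {x : Ω}
    (hx : x ∈ S) (hxA : x ∉ A) (hxP : x ∈ P) (hab : ∀ u v : P, u * v = v * u) :
    A ⊓ P = K D hx 1 ∧ (K D hx 1).relIndex (K D hx 2) = p := by
  have hp : p.Prime := Fact.out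
  have hPS : P ≤ S := hP.1.1
  haveI : Finite P := finite_of_le_finite hPS
  haveI : Finite A := finite_of_le_finite D.le
  have hcen : centralizerIn S P ≤ P := hP.1.2 P (isConj_refl F hPS)
  have hZP : centralizerIn S S ≤ P := Zc_le_essential hP
  have hPA : ¬ P ≤ A := fun h => hxA (h hxP)
  have hi : A ⊓ P = K D hx 1 := by
    rw [K_one D hx hxA]
    apply le_antisymm
    · rintro b ⟨hbA, hbP⟩
      apply D.cent hx hxA hbA
      exact congrArg Subtype.val (hab ⟨x, hxP⟩ ⟨b, hbP⟩)
    · exact le_inf D.Z_le hZP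
  refine ⟨hi, ?_⟩
  have hN := inf_normalizerIn D hx hxA hPS hxP hi
  have hrel := relIndex_normalizerIn D hx hxA hPS hxP hi
  -- the subgroup `W = Z(S)` of `P`
  set W : Subgroup P := (centralizerIn S S).subgroupOf P with hW
  have hWidx : W.index = p := by
    show (centralizerIn S S).relIndex P = p
    rw [← K_one D hx hxA, ← hi, Subgroup.inf_relIndex_right]
    exact D.relIndex_of_not_le hPS hPA
  have hT : ∀ α ∈ autInducedBy S P, α ∈ stab W := by
    intro α hα
    obtain ⟨g, hg, hgα⟩ := (mem_autInducedBy_iff α).mp hα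
    have hgN : g ∈ Subgroup.normalizer (P : Set Ω) := mem_normalizer_of_aut α hgα
    obtain ⟨a, ha, k, rfl⟩ := D.exists_mul_pow hx hxA hg
    have haN : a ∈ normalizerIn S P := by
      have h1 : a = (a * x ^ k) * (x ^ k)⁻¹ := by group
      rw [h1]
      exact Subgroup.mul_mem _ ⟨hg, hgN⟩
        (Subgroup.inv_mem _ (Subgroup.pow_mem _ (le_normalizerIn hPS hxP) k))
    have haK : a ∈ K D hx 2 := by
      have : a ∈ A ⊓ normalizerIn S P := ⟨ha, haN⟩
      rw [hN] at this
      exact this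
    constructor
    · intro w hw
      apply Subtype.ext
      rw [hgα]
      have hwZ : (w : Ω) ∈ centralizerIn S S := Subgroup.mem_subgroupOf.mp hw
      rw [(mem_Zc.mp hwZ).2 _ hg, mul_inv_cancel_right]
    · intro e
      apply Subgroup.mem_subgroupOf.mpr
      show ((α e : P) : Ω) * ((e : P) : Ω)⁻¹ ∈ centralizerIn S S
      rw [hgα]
      have h1 : x ^ k * (e : Ω) = e * x ^ k := by
        have := congrArg Subtype.val (hab ⟨x ^ k, P.pow_mem hxP k⟩ e)
        exact this
      have h2 : a * x ^ k * (e : Ω) * (a * x ^ k)⁻¹ * (e : Ω)⁻¹ =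
          a * (x ^ k * (e : Ω)) * (x ^ k)⁻¹ * a⁻¹ * (e : Ω)⁻¹ := by group
      rw [h2, h1]
      have h3 : a * ((e : Ω) * x ^ k) * (x ^ k)⁻¹ * a⁻¹ * (e : Ω)⁻¹ = a * e * a⁻¹ * (e : Ω)⁻¹ := by
        group
      rw [h3]
      exact comm_mem_Z_of_mem_K_two D hx hxA haK (hPS e.2)
  have hle := card_autS_le D.pg hF hP hab W hWidx hT
  rw [card_autS_abelian hPS hcen hab, hrel] at hle
  have hne : (K D hx 1).relIndex (K D hx (1 + 1)) ≠ 1 := by
    intro h
    apply K_succ_ne D hx (K_one_ne D hx hxA)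
    exact le_antisymm (Subgroup.relIndex_eq_one.mp h) (K_mono D hx 1)
  rcases relIndex_eq_one_or_prime' D.pg (le_trans (K_le D hx 2) D.le) hle with h | h
  · exact absurd h hne
  · exact h

end ess

end Cfsg.Agent.Helper3.OL
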