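import Mathlib
import Cfsg.Agent.Lib.Helper3.OliverB4
import Cfsg.Agent.Lib.Helper25.FusionOmit

/-!
# Essential subgroups (unique abelian subgroup of index `p`): the nonabelian case
-/

set_option autoImplicit false
set_option linter.style.haveILetI false
set_option linter.unusedSectionVars false

namespace Cfsg.Agent.Helper3.OL

open Cfsg Cfsg.FusionSystem Cfsg.Agent.Helper25 Cfsg.Agent.Helper26 Cfsg.Agent.Helper3.KL
open Cfsg.Agent.Helper3.TT Cfsg.Agent.Helper3.SC

variable {Ω : Type*} [Group Ω] {S A P : Subgroup Ω}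

section ess

variable [Finite S] {p : ℕ} [Fact p.Prime] {F : FusionSystem S}

/-- `A ∩ P` is not invariant under `Aut_F(P)` -/
theorem exists_aut_moving (hF : F.IsSaturated p) (D : OD p S A) (hP : F.IsEssential p P) {x : Ω}
    (hx : x ∈ S) (hxA : x ∉ A) (hxP : x ∈ P) :
    ∃ α ∈ F.autGroup P, ∃ y : P, (y : Ω) ∈ A ∧ ((α y : P) : Ω) ∉ A := by
  have hPS : P ≤ S := hP.1.1
  by_contra hcon
  push Not at hcon
  have hPne : P ≠ S := by
    rintro rfl
    exact Cfsg.Agent.Helper25.Omit.not_isEssential_self p F hF hP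
  obtain ⟨g, hgN, hgP⟩ := exists_mem_normalizerIn_not_mem D.pg hPS hPne
  have hPA : ¬ P ≤ A := fun h => hxA (h hxP)
  set W : Subgroup P := A.subgroupOf P with hW
  have hWinv : ∀ α ∈ F.autGroup P, ∀ w ∈ W, α w ∈ W := by
    intro α hα w hw
    exact Subgroup.mem_subgroupOf.mpr (hcon α hα w (Subgroup.mem_subgroupOf.mp hw))
  have hle : A ⊓ normalizerIn S P ≤ A ⊓ P := by
    rintro a ⟨ha, haN⟩
    refine ⟨ha, ?_⟩
    apply mem_of_stab D.pg hP W hWinv ⟨a, haN⟩
    constructor
    · intro w hw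
      apply Subtype.ext
      rw [kapN_apply]
      show a * (w : Ω) * a⁻¹ = w
      rw [D.comm' ha (Subgroup.mem_subgroupOf.mp hw), mul_inv_cancel_right]
    · intro e
      apply Subgroup.mem_subgroupOf.mpr
      show ((kapN P ⟨a, haN⟩ e : P) : Ω) * (e : Ω)⁻¹ ∈ A
      rw [kapN_apply]
      show a * (e : Ω) * a⁻¹ * (e : Ω)⁻¹ ∈ A
      have h1 : (e : Ω) * a⁻¹ * (e : Ω)⁻¹ ∈ A :=
        (Subgroup.mem_normalizer_iff.mp (D.norm (hPS e.2)) a⁻¹).mp (A.inv_mem ha)
      have h2 : a * (e : Ω) * a⁻¹ * (e : Ω)⁻¹ = a * ((e : Ω) * a⁻¹ * (e : Ω)⁻¹) := by group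
      rw [h2]
      exact A.mul_mem ha h1
  have h1 := D.relIndex_eq (le_normalizerIn hPS) normalizerIn_le hPA
  rw [Subgroup.relIndex_eq_one.mpr hle] at h1
  exact hgP (Subgroup.relIndex_eq_one.mp h1 hgN)

theorem not_inf_le (D : OD p S A) {x : Ω} (hx : x ∈ S) (hxA : x ∉ A) (hPS : P ≤ S)
    (hxP : x ∈ P) (hnab : ¬ ∀ u v : P, u * v = v * u) : ¬ A ⊓ P ≤ centralizerIn S S :=
  fun h => hnab (abelian_of_inf_le D hx hxA hPS hxP h)

/-- the centre of a nonabelian `P ∌ A` is `Z(S)` -/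
theorem center_le (D : OD p S A) {x : Ω} (hx : x ∈ S) (hxA : x ∉ A) (hPS : P ≤ S)
    (hxP : x ∈ P) (hnab : ¬ ∀ u v : P, u * v = v * u) :
    P ⊓ Subgroup.centralizer (P : Set Ω) ≤ centralizerIn S S := by
  intro e he
  obtain ⟨heP, hec⟩ := mem_inf_cen.mp he
  have heA : e ∈ A := by
    by_contra heA
    apply not_inf_le D hx hxA hPS hxP hnab
    rintro b ⟨hbA, hbP⟩
    exact D.cent (hPS heP) heA hbA (hec b hbP).symm
  exact D.cent hx hxA heA (hec x hxP)

theorem nonabelian_case (hF : F.IsSaturated p) (D : OD p S A) (hP : F.IsEssential p P) {x : Ω}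
    (hx : x ∈ S) (hxA : x ∉ A) (hxP : x ∈ P) (hnab : ¬ ∀ u v : P, u * v = v * u) :
    A ⊓ P = K D hx 2 ∧ (K D hx 1).relIndex (K D hx 2) = p := by
  have hp : p.Prime := Fact.out
  have hPS : P ≤ S := hP.1.1
  haveI : Finite P := finite_of_le_finite hPS
  haveI : Finite A := finite_of_le_finite D.le
  have hZP : centralizerIn S S ≤ P := Zc_le_essential hP
  have hZ0 : centralizerIn S S ≤ A ⊓ P := le_inf D.Z_le hZP
  have hnotle := not_inf_le D hx hxA hPS hxP hnab
  -- step 2 : `|A ∩ P : Z| = p`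
  have hidx : (centralizerIn S S).relIndex (A ⊓ P) = p := by
    obtain ⟨α, hα, y, hyA, hαy⟩ := exists_aut_moving hF D hP hx hxA hxP
    set W : Subgroup P := A.subgroupOf P with hW
    set Q : Subgroup Ω := (W.map α.toMonoidHom).map P.subtype with hQ
    have hQP : Q ≤ P := by
      rintro _ ⟨e, -, rfl⟩
      exact e.2
    have hQS : Q ≤ S := le_trans hQP hPS
    haveI : Finite Q := finite_of_le_finite hQS
    have hy'Q : ((α y : P) : Ω) ∈ Q := ⟨α y, ⟨y, Subgroup.mem_subgroupOf.mpr hyA, rfl⟩, rfl⟩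
    have hQA : ¬ Q ≤ A := fun h => hαy (h hy'Q)
    have hQcomm : ∀ u ∈ Q, ∀ v ∈ Q, u * v = v * u := by
      rintro _ ⟨_, ⟨w, hw, rfl⟩, rfl⟩ _ ⟨_, ⟨w', hw', rfl⟩, rfl⟩
      have h1 : w * w' = w' * w := by
        apply Subtype.ext
        exact D.comm' (Subgroup.mem_subgroupOf.mp hw) (Subgroup.mem_subgroupOf.mp hw')
      have h2 : α w * α w' = α w' * α w := by rw [← map_mul, h1, map_mul]
      exact congrArg Subtype.val h2
    have hAQ : A ⊓ Q ≤ centralizerIn S S := by
      rintro b ⟨hbA, hbQ⟩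
      exact D.cent (hPS (α y).2) hαy hbA (hQcomm _ hy'Q b hbQ)
    have hcardQ : Nat.card Q = Nat.card (A ⊓ P : Subgroup Ω) := by
      rw [hQ, Subgroup.card_map_of_injective P.subtype_injective,
        Subgroup.card_map_of_injective α.injective, hW, ← Subgroup.subgroupOf_map_subtype,
        Subgroup.card_map_of_injective P.subtype_injective]
    have h1 := D.card_eq hQS hQA
    haveI : Finite (centralizerIn S S) := finite_of_le_finite Zc_le
    have h2 : Nat.card (A ⊓ Q : Subgroup Ω) ≤ Nat.card (centralizerIn S S) :=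
      Subgroup.card_le_of_le hAQ
    have h3 := Subgroup.relIndex_mul_relIndex ⊥ (centralizerIn S S) (A ⊓ P) bot_le hZ0
    rw [Subgroup.relIndex_bot_left, Subgroup.relIndex_bot_left] at h3
    have hZpos : 0 < Nat.card (centralizerIn S S) := Nat.card_pos
    have hle : (centralizerIn S S).relIndex (A ⊓ P) ≤ p := by
      have h4 : Nat.card (centralizerIn S S) * (centralizerIn S S).relIndex (A ⊓ P) ≤
          Nat.card (centralizerIn S S) * p := by
        rw [h3, ← hcardQ, h1, mul_comm]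
        exact Nat.mul_le_mul_right p h2
      exact Nat.le_of_mul_le_mul_left h4 hZpos
    rcases relIndex_eq_one_or_prime' D.pg (le_trans inf_le_left D.le) hle with h | h
    · exact absurd (Subgroup.relIndex_eq_one.mp h) hnotle
    · exact h
  -- step 3 : `K 2 ≤ A ∩ P`
  have hK2 : K D hx 2 ≤ A ⊓ P := by
    intro a ha
    have haA : a ∈ A := K_le D hx 2 ha
    refine ⟨haA, ?_⟩
    have haN : a ∈ normalizerIn S P := by
      refine ⟨D.le haA, (mem_normalizer_iff D hx hxA hPS hxP haA).mpr ?_⟩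
      have e : K D hx 2 = K D hx (1 + 1) := rfl
      rw [e, mem_K_succ, K_one D hx hxA] at ha
      exact hZP ha.2
    set W' : Subgroup P := (centralizerIn S S).subgroupOf P with hW'
    have hW'inv : ∀ α ∈ F.autGroup P, ∀ w ∈ W', α w ∈ W' := by
      intro α _ w hw
      have hwZ : (w : Ω) ∈ centralizerIn S S := Subgroup.mem_subgroupOf.mp hw
      have hwc : (w : Ω) ∈ Subgroup.centralizer (P : Set Ω) := by
        rw [Subgroup.mem_centralizer_iff]
        intro e he
        exact (mem_Zc.mp hwZ).2 e (hPS he)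
      have := center_aut_mem α hwc
      exact Subgroup.mem_subgroupOf.mpr (center_le D hx hxA hPS hxP hnab this)
    apply mem_of_stab D.pg hP W' hW'inv ⟨a, haN⟩
    constructor
    · intro w hw
      apply Subtype.ext
      rw [kapN_apply]
      show a * (w : Ω) * a⁻¹ = w
      have hwZ : (w : Ω) ∈ centralizerIn S S := Subgroup.mem_subgroupOf.mp hw
      rw [(mem_Zc.mp hwZ).2 a (D.le haA), mul_inv_cancel_right]
    · intro e
      apply Subgroup.mem_subgroupOf.mpr
      show ((kapN P ⟨a, haN⟩ e : P) : Ω) * (e : Ω)⁻¹ ∈ centralizerIn S S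
      rw [kapN_apply]
      exact comm_mem_Z_of_mem_K_two D hx hxA ha (hPS e.2)
  -- step 4
  have hK1 : K D hx 1 ≤ K D hx 2 := K_mono D hx 1
  rw [K_one D hx hxA] at hK1
  have heq : K D hx 2 = A ⊓ P := by
    rcases eq_or_eq_of_relIndex_prime hp hK1 hK2 hidx with h | h
    · exfalso
      apply K_succ_ne D hx (K_one_ne D hx hxA)
      rw [K_one D hx hxA]
      exact h
    · exact h
  refine ⟨heq.symm, ?_⟩
  rw [K_one D hx hxA, heq]
  exact hidx

/-- the structure of an essential subgroup other than `A` -/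
theorem essential_cases (hF : F.IsSaturated p) (D : OD p S A) (hP : F.IsEssential p P)
    (hPA : P ≠ A) : ∃ (x : Ω) (hx : x ∈ S), x ∉ A ∧ x ∈ P ∧
      (K D hx 1).relIndex (K D hx 2) = p ∧ P.relIndex (normalizerIn S P) = p ∧
      ((P = centralizerIn S S ⊔ Subgroup.zpowers x ∧ A ⊓ P = K D hx 1 ∧
          ∀ u v : P, u * v = v * u) ∨
        (P = K D hx 2 ⊔ Subgroup.zpowers x ∧ A ⊓ P = K D hx 2 ∧
          ¬ ∀ u v : P, u * v = v * u)) := by
  have hPS : P ≤ S := hP.1.1
  haveI : Finite A := finite_of_le_finite D.le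
  obtain ⟨x, hxP, hxA⟩ : ∃ x ∈ P, x ∉ A := by
    by_contra hcon
    push Not at hcon
    exact hPA (essential_le_A D hP hcon)
  have hx : x ∈ S := hPS hxP
  refine ⟨x, hx, hxA, hxP, ?_⟩
  by_cases hab : ∀ u v : P, u * v = v * u
  · obtain ⟨hi, h12⟩ := abelian_case hF D hP hx hxA hxP hab
    refine ⟨h12, ?_, Or.inl ⟨?_, hi, hab⟩⟩
    · rw [relIndex_normalizerIn D hx hxA hPS hxP hi]
      exact h12
    · have := P_eq D hx hxA hPS hxP hi
      rwa [K_one D hx hxA] at this
  · obtain ⟨hi, h12⟩ := nonabelian_case hF D hP hx hxA hxP hab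
    refine ⟨h12, ?_, Or.inr ⟨P_eq D hx hxA hPS hxP hi, hi, hab⟩⟩
    rw [relIndex_normalizerIn D hx hxA hPS hxP hi, relIndex_K]
    have h12' : (Kf (phi D hx) 1).relIndex (Kf (phi D hx) 2) = p := by
      rw [← relIndex_K]; exact h12
    have hne : Kf (phi D hx) (1 + 1) ≠ ⊤ := by
      rw [Ne, ← K_eq_A_iff]
      exact K_two_ne D hx hxA h12
    exact step_eq (isPGroup_A D) h12' (exists_Kf_top D hx) hne

end ess

end Cfsg.Agent.Helper3.OL
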