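import Mathlib
import Cfsg.Agent.Lib.Helper3.SmallCenter6

/-!
# Inverting automorphisms of `S` relative to a characteristic subgroup `W ≤ Z(S)` of exponent `p`

Generalization of the `IsTheta` machinery of `SmallCenter4`: `β ∈ Aut_F(S)` inverts `W` and centralizes `Z(S)/W`.
Such a `β` is unique on `Z(S)`, and its fixed points in `Z(S)` are `Aut_F(S)`-invariant.
-/

set_option autoImplicit false
set_option linter.style.haveILetI false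
set_option linter.unusedSectionVars false

namespace Cfsg.Agent.Helper3.OL

open Cfsg Cfsg.FusionSystem Cfsg.Agent.Helper25 Cfsg.Agent.Helper26 Cfsg.Agent.Helper3.KL
open Cfsg.Agent.Helper3.TT Cfsg.Agent.Helper3.SC

variable {Ω : Type*} [Group Ω] {S W : Subgroup Ω}

/-- `W` is a subgroup of `Z(S)` of exponent `p` invariant under all automorphisms of `S` -/
structure WD (p : ℕ) (S W : Subgroup Ω) : Prop where
  le : W ≤ centralizerIn S S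
  inv : ∀ (β : MulAut S) (d : Ω) (hd : d ∈ W), ((β ⟨d, Zc_le (le hd)⟩ : S) : Ω) ∈ W
  exp : ∀ w ∈ W, w ^ p = 1

section theta

variable [Finite S] {p : ℕ} [Fact p.Prime] {F : FusionSystem S}

/-- `p`-elements of `Aut_F(S)` centralize `Z(S)` -/
theorem pElement_fix' (hF : F.IsSaturated p) {δ : MulAut S} (hδ : δ ∈ F.autGroup S) {a : ℕ}
    (hδp : δ ^ (p ^ a) = 1) {z : Ω} (hz : z ∈ centralizerIn S S) :
    δ ⟨z, Zc_le hz⟩ = ⟨z, Zc_le hz⟩ := by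
  obtain ⟨-, R, hR⟩ := isFullyAutomized_self p F hF
  have hSg : IsPGroup p (Subgroup.zpowers (⟨δ, hδ⟩ : F.autGroup S)) := by
    rintro ⟨g, hg⟩
    obtain ⟨k, rfl⟩ := Subgroup.mem_zpowers_iff.mp hg
    refine ⟨a, ?_⟩
    apply Subtype.ext
    apply Subtype.ext
    show ((δ ^ k) ^ (p ^ a) : MulAut S) = 1
    rw [← zpow_natCast, ← zpow_mul, mul_comm, zpow_mul, zpow_natCast, hδp, one_zpow]
  obtain ⟨l, hl⟩ := exists_conj_le_sylow R hSg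
  have h1 := hl _ (Subgroup.mem_zpowers _)
  rw [hR, Subgroup.mem_subgroupOf] at h1
  obtain ⟨s, hs, hconj⟩ := (mem_autInducedBy_iff _).mp h1
  have hlz := aut_mem_Zc (l : MulAut S) hz
  have h2 := hconj ((l : MulAut S) ⟨z, Zc_le hz⟩)
  have h3 : ((l * ⟨δ, hδ⟩ * l⁻¹ : F.autGroup S) : MulAut S) ((l : MulAut S) ⟨z, Zc_le hz⟩) =
      (l : MulAut S) (δ ⟨z, Zc_le hz⟩) := by
    simp only [Subgroup.coe_mul, Subgroup.coe_inv, MulAut.mul_apply, MulAut.inv_apply_self]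
  rw [h3, (mem_Zc.mp hlz).2 s hs, mul_inv_cancel_right] at h2
  exact (l : MulAut S).injective (Subtype.ext h2)

/-- an automorphism of `S` in `F` centralizing `W` and `Z(S)/W` centralizes `Z(S)` -/
theorem fix_of_stab' (hF : F.IsSaturated p) (hW : WD p S W) {γ : MulAut S} (hγ : γ ∈ F.autGroup S)
    (h1 : ∀ d (hd : d ∈ W), ((γ ⟨d, Zc_le (hW.le hd)⟩ : S) : Ω) = d)
    (h2 : ∀ z (hz : z ∈ centralizerIn S S), z⁻¹ * ((γ ⟨z, Zc_le hz⟩ : S) : Ω) ∈ W)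
    {z : Ω} (hz : z ∈ centralizerIn S S) : γ ⟨z, Zc_le hz⟩ = ⟨z, Zc_le hz⟩ := by
  have hp : p.Prime := Fact.out
  set f : Ω := z⁻¹ * ((γ ⟨z, Zc_le hz⟩ : S) : Ω) with hf
  have hfS : f ∈ W := h2 z hz
  have hfZ : f ∈ S := Zc_le (hW.le hfS)
  have hγf : γ ⟨f, hfZ⟩ = ⟨f, hfZ⟩ := Subtype.ext (h1 f hfS)
  have hγz : γ ⟨z, Zc_le hz⟩ = ⟨z, Zc_le hz⟩ * ⟨f, hfZ⟩ := by
    apply Subtype.ext
    simp [hf]
  have hpow : ∀ n : ℕ, (γ ^ n) ⟨z, Zc_le hz⟩ = ⟨z, Zc_le hz⟩ * ⟨f, hfZ⟩ ^ n := by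
    intro n
    induction n with
    | zero => simp
    | succ n ih =>
      rw [pow_succ', MulAut.mul_apply, ih, map_mul, map_pow, hγf, hγz, mul_assoc, ← pow_succ']
  have hfp : (⟨f, hfZ⟩ : S) ^ p = 1 := by
    apply Subtype.ext
    exact hW.exp f hfS
  have hγp : (γ ^ p) ⟨z, Zc_le hz⟩ = ⟨z, Zc_le hz⟩ := by rw [hpow, hfp, mul_one]
  have hord : orderOf γ ≠ 0 := (orderOf_pos γ).ne'
  obtain ⟨a, m', hm', hn⟩ := Nat.exists_eq_pow_mul_and_not_dvd hord p hp.ne_one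
  have hδp : (γ ^ m') ^ (p ^ a) = 1 := by
    rw [← pow_mul, mul_comm, ← hn, pow_orderOf_eq_one]
  have hγm : (γ ^ m') ⟨z, Zc_le hz⟩ = ⟨z, Zc_le hz⟩ :=
    pElement_fix' hF ((F.autGroup S).pow_mem hγ m') hδp hz
  have hcop : IsCoprime (p : ℤ) (m' : ℤ) :=
    Nat.isCoprime_iff_coprime.mpr ((Nat.Prime.coprime_iff_not_dvd hp).mpr hm')
  obtain ⟨s, t, hst⟩ := hcop
  have hstab : ∀ δ : MulAut S, δ ⟨z, Zc_le hz⟩ = ⟨z, Zc_le hz⟩ → ∀ k : ℤ,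
      (δ ^ k) ⟨z, Zc_le hz⟩ = ⟨z, Zc_le hz⟩ := by
    intro δ hδ k
    have : δ ∈ MulAction.stabilizer (MulAut S) (⟨z, Zc_le hz⟩ : S) := hδ
    exact (MulAction.stabilizer (MulAut S) (⟨z, Zc_le hz⟩ : S)).zpow_mem this k
  have hγeq : γ = (γ ^ p) ^ s * (γ ^ m') ^ t := by
    rw [← zpow_natCast, ← zpow_natCast, ← zpow_mul, ← zpow_mul, ← zpow_add, mul_comm (p : ℤ),
      mul_comm (m' : ℤ), hst, zpow_one]
  rw [hγeq, MulAut.mul_apply, hstab _ hγm t, hstab _ hγp s]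

/-- the inverting automorphisms of `S` relative to `W` -/
def IsThetaW (F : FusionSystem S) (W : Subgroup Ω) (hW : WD p S W) (β : MulAut S) : Prop :=
  β ∈ F.autGroup S ∧ (∀ d (hd : d ∈ W), ((β ⟨d, Zc_le (hW.le hd)⟩ : S) : Ω) = d⁻¹) ∧
    ∀ z (hz : z ∈ centralizerIn S S), z⁻¹ * ((β ⟨z, Zc_le hz⟩ : S) : Ω) ∈ W

theorem thetaW_unique (hF : F.IsSaturated p) (hW : WD p S W) {β β' : MulAut S}
    (h : IsThetaW F W hW β) (h' : IsThetaW F W hW β') {z : Ω} (hz : z ∈ centralizerIn S S) :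
    β ⟨z, Zc_le hz⟩ = β' ⟨z, Zc_le hz⟩ := by
  obtain ⟨hβ, hβ1, hβ2⟩ := h
  obtain ⟨hβ', hβ'1, hβ'2⟩ := h'
  have hWS : ∀ {d : Ω}, d ∈ W → d ∈ S := fun hd => Zc_le (hW.le hd)
  have hinv1 : ∀ d (hd : d ∈ W), ((β⁻¹ ⟨d, hWS hd⟩ : S) : Ω) = d⁻¹ := by
    intro d hd
    have h1 := hβ1 d⁻¹ (W.inv_mem hd)
    rw [inv_inv] at h1
    have h2 : β ⟨d⁻¹, hWS (W.inv_mem hd)⟩ = ⟨d, hWS hd⟩ := Subtype.ext h1
    rw [← h2, MulAut.inv_apply_self]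
  have hγ : β⁻¹ * β' ∈ F.autGroup S := (F.autGroup S).mul_mem ((F.autGroup S).inv_mem hβ) hβ'
  have hγ1 : ∀ d (hd : d ∈ W), (((β⁻¹ * β') ⟨d, hWS hd⟩ : S) : Ω) = d := by
    intro d hd
    rw [MulAut.mul_apply]
    have h1 : β' ⟨d, hWS hd⟩ = ⟨d⁻¹, hWS (W.inv_mem hd)⟩ := Subtype.ext (hβ'1 d hd)
    rw [h1, hinv1 _ (W.inv_mem hd), inv_inv]
  have hγ2 : ∀ y (hy : y ∈ centralizerIn S S),
      y⁻¹ * (((β⁻¹ * β') ⟨y, Zc_le hy⟩ : S) : Ω) ∈ W := by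
    intro y hy
    rw [MulAut.mul_apply]
    set d' : Ω := y⁻¹ * ((β' ⟨y, Zc_le hy⟩ : S) : Ω) with hd'
    have hd'S : d' ∈ W := hβ'2 y hy
    have h1 : β' ⟨y, Zc_le hy⟩ = ⟨y, Zc_le hy⟩ * ⟨d', hWS hd'S⟩ := by
      apply Subtype.ext
      simp [hd']
    have hy' := aut_mem_Zc β⁻¹ hy
    set y' : Ω := ((β⁻¹ ⟨y, Zc_le hy⟩ : S) : Ω) with hy'def
    have h2 := hβ2 y' hy'
    have h3 : β ⟨y', Zc_le hy'⟩ = ⟨y, Zc_le hy⟩ := by
      have : (⟨y', Zc_le hy'⟩ : S) = β⁻¹ ⟨y, Zc_le hy⟩ := Subtype.ext rfl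
      rw [this, MulAut.apply_inv_self]
    rw [h3] at h2
    rw [h1, map_mul]
    have h4 : y⁻¹ * (((β⁻¹ ⟨y, Zc_le hy⟩ * β⁻¹ ⟨d', hWS hd'S⟩ : S)) : Ω) =
        (y'⁻¹ * y)⁻¹ * d'⁻¹ := by
      rw [Subgroup.coe_mul, hinv1 d' hd'S, ← hy'def]
      group
    rw [h4]
    exact W.mul_mem (W.inv_mem h2) (W.inv_mem hd'S)
  have h5 := fix_of_stab' hF hW hγ hγ1 hγ2 hz
  rw [MulAut.mul_apply] at h5
  have h6 := congrArg β h5
  rw [MulAut.apply_inv_self] at h6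
  exact h6.symm

theorem isThetaW_conj (hW : WD p S W) {α β : MulAut S} (hα : α ∈ F.autGroup S)
    (h : IsThetaW F W hW β) : IsThetaW F W hW (α * β * α⁻¹) := by
  obtain ⟨hβ, hβ1, hβ2⟩ := h
  have hWS : ∀ {d : Ω}, d ∈ W → d ∈ S := fun hd => Zc_le (hW.le hd)
  refine ⟨(F.autGroup S).mul_mem ((F.autGroup S).mul_mem hα hβ) ((F.autGroup S).inv_mem hα), ?_, ?_⟩
  · intro d hd
    rw [MulAut.mul_apply, MulAut.mul_apply]
    have h1 := hW.inv α⁻¹ d hd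
    set d' : Ω := ((α⁻¹ ⟨d, hWS hd⟩ : S) : Ω) with hd'
    have h2 : β (α⁻¹ ⟨d, hWS hd⟩) = (α⁻¹ ⟨d, hWS hd⟩)⁻¹ := by
      apply Subtype.ext
      have := hβ1 d' h1
      exact this
    rw [h2, map_inv, MulAut.apply_inv_self]
    rfl
  · intro z hz
    rw [MulAut.mul_apply, MulAut.mul_apply]
    have h1 := aut_mem_Zc α⁻¹ hz
    set z' : Ω := ((α⁻¹ ⟨z, Zc_le hz⟩ : S) : Ω) with hz'
    have h2 := hβ2 z' h1
    have h3 := hW.inv α _ h2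
    have h4 : (⟨z', Zc_le h1⟩ : S) = α⁻¹ ⟨z, Zc_le hz⟩ := Subtype.ext rfl
    have h5 : (⟨z'⁻¹ * ((β ⟨z', Zc_le h1⟩ : S) : Ω), hWS h2⟩ : S) =
        (α⁻¹ ⟨z, Zc_le hz⟩)⁻¹ * β (α⁻¹ ⟨z, Zc_le hz⟩) := by
      apply Subtype.ext
      rw [← h4]
      rfl
    rw [h5, map_mul, map_inv, MulAut.apply_inv_self] at h3
    exact h3

theorem fixSub_autW (hF : F.IsSaturated p) (hW : WD p S W) {β α : MulAut S}
    (hθ : IsThetaW F W hW β) (hα : α ∈ F.autGroup S) {z : Ω} (hz : z ∈ fixSub β) :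
    ((α ⟨z, Zc_le hz.1⟩ : S) : Ω) ∈ fixSub β := by
  obtain ⟨hzZ, hβz⟩ := hz
  have hαz := aut_mem_Zc α hzZ
  refine ⟨hαz, ?_⟩
  have h1 := thetaW_unique hF hW (isThetaW_conj hW hα hθ) hθ hαz
  rw [← h1, MulAut.mul_apply, MulAut.mul_apply]
  have h2 : (⟨((α ⟨z, Zc_le hzZ⟩ : S) : Ω), Zc_le hαz⟩ : S) = α ⟨z, Zc_le hzZ⟩ := Subtype.ext rfl
  rw [h2, MulAut.inv_apply_self, hβz]

/-- two inverting automorphisms have the same fixed points in `Z(S)` -/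
theorem fixSub_eq_of_thetaW (hF : F.IsSaturated p) (hW : WD p S W) {β β' : MulAut S}
    (h : IsThetaW F W hW β) (h' : IsThetaW F W hW β') : fixSub β = fixSub β' := by
  ext z
  constructor
  · rintro ⟨hz, hβz⟩
    exact ⟨hz, by rw [← thetaW_unique hF hW h h' hz]; exact hβz⟩
  · rintro ⟨hz, hβz⟩
    exact ⟨hz, by rw [thetaW_unique hF hW h h' hz]; exact hβz⟩

end theta

end Cfsg.Agent.Helper3.OL
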