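import Mathlib
import Cfsg.Agent.Lib.Helper3.OliverB5

/-!
# Fusion systems on `p`-groups with a unique abelian subgroup of index `p`: summary statements
-/

set_option autoImplicit false
set_option linter.style.haveILetI false
set_option linter.unusedSectionVars false

namespace Cfsg.Agent.Helper3.OL

open Cfsg Cfsg.FusionSystem Cfsg.Agent.Helper25 Cfsg.Agent.Helper26 Cfsg.Agent.Helper3.KL
open Cfsg.Agent.Helper3.TT Cfsg.Agent.Helper3.SC

variable {Ω : Type*} [Group Ω] {S A P : Subgroup Ω}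

section ess

variable [Finite S] {p : ℕ} [Fact p.Prime] {F : FusionSystem S}

theorem od_of_hyps (hS : IsPGroup p S) (hna : ¬ IsMulCommutative ↥S)
    (hA : A ≤ S ∧ IsMulCommutative ↥A ∧ (A.subgroupOf S).index = p)
    (huniq : ∀ B : Subgroup Ω, B ≤ S → IsMulCommutative ↥B → (B.subgroupOf S).index = p → B = A) :
    OD p S A :=
  ⟨hS, hA.1, fun a b => hA.2.1.is_comm.comm a b, hA.2.2, fun h => hna ⟨⟨h⟩⟩,
    fun B hB hBc hBi => huniq B hB ⟨⟨hBc⟩⟩ hBi⟩

theorem relIndex_Z_A_of (D : OD p S A) {m : ℕ} (h : (centralizerIn S S).relIndex S = p ^ m)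
    (hm : 1 ≤ m) : (centralizerIn S S).relIndex A = p ^ (m - 1) := by
  have hp : p.Prime := Fact.out
  have h1 := Subgroup.relIndex_mul_relIndex (centralizerIn S S) A S D.Z_le D.le
  rw [D.idx, h] at h1
  have h2 : p ^ m = p ^ (m - 1) * p := by
    rw [← pow_succ, Nat.sub_add_cancel hm]
  rw [h2] at h1
  exact Nat.eq_of_mul_eq_mul_right hp.pos h1

theorem index_normalizer_A (D : OD p S A) :
    (A.subgroupOf (S ⊓ Subgroup.normalizer (A : Set Ω))).index = p := by
  rw [inf_of_le_left D.norm]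
  exact D.idx

end ess

end Cfsg.Agent.Helper3.OL
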