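import Mathlib
import Cfsg.Agent.Lib.Helper3.OliverMain
import Cfsg.Agent.Lib.Helper3.OliverC1
import Cfsg.Agent.Lib.Helper25.FusionAlperin2

/-!
# Morphisms between large subgroups act on `Z(S)` like automorphisms of `S`
-/

set_option autoImplicit false
set_option linter.style.haveILetI false
set_option linter.unusedSectionVars false

namespace Cfsg.Agent.Helper3.OL

open Cfsg Cfsg.FusionSystem Cfsg.Agent.Helper25 Cfsg.Agent.Helper26 Cfsg.Agent.Helper3.KL
open Cfsg.Agent.Helper3.TT Cfsg.Agent.Helper3.SC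

variable {Ω : Type*} [Group Ω] {S A : Subgroup Ω}

/-- `φ` agrees on `Z(S) ∩ Q` with an automorphism of `S` belonging to `F` -/
def AgreeZ (F : FusionSystem S) (Q : Subgroup Ω) (φ : Q →* Ω) : Prop :=
  ∃ γ ∈ F.autGroup S, ∀ (z : Ω) (hz : z ∈ centralizerIn S S) (hzQ : z ∈ Q),
    φ ⟨z, hzQ⟩ = ((γ ⟨z, Zc_le hz⟩ : S) : Ω)

/-- `Q` is nonabelian of order at least `t` -/
def Large (t : ℕ) (Q : Subgroup Ω) : Prop := (¬ ∀ u v : Q, u * v = v * u) ∧ t ≤ Nat.card Q

section od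

variable [Finite S] {p : ℕ} [Fact p.Prime] {F : FusionSystem S}

/-- the centre of a nonabelian subgroup of `S` lies in `Z(S)` -/
theorem center_le' (D : OD p S A) {Q : Subgroup Ω} (hQS : Q ≤ S)
    (hnab : ¬ ∀ u v : Q, u * v = v * u) :
    Q ⊓ Subgroup.centralizer (Q : Set Ω) ≤ centralizerIn S S := by
  obtain ⟨y, hyQ, hyA⟩ : ∃ y ∈ Q, y ∉ A := by
    by_contra hcon
    push Not at hcon
    apply hnab
    intro u v
    apply Subtype.ext
    exact D.comm' (hcon u u.2) (hcon v v.2)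
  exact center_le D (hQS hyQ) hyA hQS hyQ hnab

theorem agree_of_large (hF : F.IsSaturated p) (D : OD p S A) (t : ℕ)
    (hess : ∀ R, F.IsEssential p R → Large t R → ∀ α ∈ F.autGroup R,
      AgreeZ F R (R.subtype.comp α.toMonoidHom))
    {Q : Subgroup Ω} {φ : Q →* Ω} (hφ : φ ∈ F.Hom Q) (hQ : Large t Q) : AgreeZ F Q φ := by
  refine alperin_induction p D.pg F hF (fun Q φ => Large t Q → AgreeZ F Q φ) ?_ ?_ ?_ ?_ hφ hQ
  · -- conjugations
    intro P g hPS hg _
    refine ⟨1, Subgroup.one_mem _, fun z hz hzP => ?_⟩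
    show g * z * g⁻¹ = z
    rw [(mem_Zc.mp hz).2 g hg, mul_inv_cancel_right]
  · -- composition
    intro P Q φ ψ hφ hψ hPrφ hPrψ h hP
    have hQS : Q ≤ S := (F.le_of_mem hψ).1
    haveI : Finite Q := finite_of_le_finite hQS
    obtain ⟨γ, hγ, hγz⟩ := hPrφ hP
    have hQl : Large t Q := by
      constructor
      · intro hQab
        apply hP.1
        intro u v
        apply F.injective_of_mem hφ
        rw [map_mul, map_mul]
        exact congrArg Subtype.val (hQab ⟨φ u, h u⟩ ⟨φ v, h v⟩)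
      · refine le_trans hP.2 ?_
        apply Nat.card_le_card_of_injective (φ.codRestrict Q h)
        intro a b hab
        apply F.injective_of_mem hφ
        exact congrArg Subtype.val hab
    obtain ⟨γ', hγ', hγ'z⟩ := hPrψ hQl
    refine ⟨γ' * γ, (F.autGroup S).mul_mem hγ' hγ, fun z hz hzP => ?_⟩
    have hz₁ := aut_mem_Zc γ hz
    have e : φ ⟨z, hzP⟩ = ((γ ⟨z, Zc_le hz⟩ : S) : Ω) := hγz z hz hzP
    have hz₁Q : ((γ ⟨z, Zc_le hz⟩ : S) : Ω) ∈ Q := e ▸ h ⟨z, hzP⟩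
    have e2 : (φ.codRestrict Q h) ⟨z, hzP⟩ = ⟨((γ ⟨z, Zc_le hz⟩ : S) : Ω), hz₁Q⟩ := Subtype.ext e
    rw [MonoidHom.comp_apply, e2, hγ'z _ hz₁ hz₁Q, MulAut.mul_apply]
  · -- inverses
    intro P φ hφ hPr ψ hψ hψφ hR
    have hPS : P ≤ S := (F.le_of_mem hφ).1
    haveI : Finite P := finite_of_le_finite hPS
    have hinj := F.injective_of_mem hφ
    have hPl : Large t P := by
      constructor
      · intro hPab
        apply hR.1
        rintro ⟨_, ⟨a, rfl⟩⟩ ⟨_, ⟨b, rfl⟩⟩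
        apply Subtype.ext
        show φ a * φ b = φ b * φ a
        rw [← map_mul, ← map_mul, hPab a b]
      · rw [Nat.card_congr (MonoidHom.ofInjective hinj).toEquiv]
        exact hR.2
    obtain ⟨γ, hγ, hγz⟩ := hPr hPl
    refine ⟨γ⁻¹, (F.autGroup S).inv_mem hγ, fun z hz hzR => ?_⟩
    obtain ⟨q, hq⟩ := id hzR
    have hqZ : (q : Ω) ∈ centralizerIn S S := by
      apply center_le' D hPS hPl.1
      refine mem_inf_cen.mpr ⟨q.2, fun q' hq' => ?_⟩
      have h1 : φ (⟨q', hq'⟩ * q) = φ (q * ⟨q', hq'⟩) := by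
        rw [map_mul, map_mul, hq]
        exact (mem_Zc.mp hz).2 _ ((F.le_of_mem hφ).2 ⟨q', hq'⟩)
      exact congrArg Subtype.val (hinj h1)
    have h1 := hγz q hqZ q.2
    have h2 : φ q = z := hq
    have h3 : (⟨(q : Ω), q.2⟩ : P) = q := Subtype.ext rfl
    rw [h3, h2] at h1
    have h4 : (⟨z, hzR⟩ : φ.range) = ⟨φ q, ⟨q, rfl⟩⟩ := Subtype.ext h2.symm
    rw [h4, hψφ q]
    have h5 : γ ⟨q, Zc_le hqZ⟩ = ⟨z, Zc_le hz⟩ := Subtype.ext h1.symm
    rw [← h5, MulAut.inv_apply_self]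
  · -- automorphisms of `S` and of essential subgroups
    rintro P (rfl | hP) α hα hPl
    · exact ⟨α, hα, fun z hz hzP => rfl⟩
    · exact hess P hP hPl α hα

end od

end Cfsg.Agent.Helper3.OL
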