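import Mathlib
import Cfsg.Agent.Lib.Helper3.OliverC2

/-!
# Frattini argument and extension: automorphisms of essential subgroups act on `Z(S)` like automorphisms of `S`
-/

set_option autoImplicit false
set_option linter.style.haveILetI false
set_option linter.unusedSectionVars false
set_option linter.deprecated false

namespace Cfsg.Agent.Helper3.OL

open Cfsg Cfsg.FusionSystem Cfsg.Agent.Helper25 Cfsg.Agent.Helper26 Cfsg.Agent.Helper3.KL
open Cfsg.Agent.Helper3.TT Cfsg.Agent.Helper3.SC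

variable {Ω : Type*} [Group Ω] {S A : Subgroup Ω}

section od

variable [Finite S] {p : ℕ} [Fact p.Prime] {F : FusionSystem S}

/-- Frattini: every `α ∈ Aut_F(R)` agrees on `Z(S)` with an element normalizing `Aut_S(R)` -/
theorem exists_normalizing (hS : IsPGroup p S) (hF : F.IsSaturated p) {R : Subgroup Ω}
    (hfn : F.IsFullyNormalized R)
    (hinv : ∀ α ∈ F.autGroup R, ∀ z : R, (z : Ω) ∈ centralizerIn S S →
      ((α z : R) : Ω) ∈ centralizerIn S S)
    {α : MulAut R} (hα : α ∈ F.autGroup R) :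
    ∃ ν ∈ F.autGroup R, (∀ β ∈ autInducedBy S R, ν * β * ν⁻¹ ∈ autInducedBy S R) ∧
      ∀ z : R, (z : Ω) ∈ centralizerIn S S → ν z = α z := by
  have hRS : R ≤ S := hfn.1
  haveI : Finite R := finite_of_le_finite hRS
  haveI : Finite (MulAut R) :=
    Finite.of_injective (fun α : MulAut R => (α : R → R)) DFunLike.coe_injective
  obtain ⟨-, ⟨-, T, hT⟩, -⟩ := of_fullyNormalized p hS F hF hfn
  let N : Subgroup (F.autGroup R) :=
    { carrier := {g | ∀ z : R, (z : Ω) ∈ centralizerIn S S → (g : MulAut R) z = z}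
      one_mem' := fun z _ => rfl
      mul_mem' := by
        intro a b ha hb z hz
        show (a : MulAut R) ((b : MulAut R) z) = z
        rw [hb z hz, ha z hz]
      inv_mem' := by
        intro a ha z hz
        show (a : MulAut R)⁻¹ z = z
        conv_lhs => rw [← ha z hz]
        exact MulAut.inv_apply_self _ _ z }
  have hNmem : ∀ g : F.autGroup R, g ∈ N ↔
      ∀ z : R, (z : Ω) ∈ centralizerIn S S → (g : MulAut R) z = z := fun g => Iff.rfl
  haveI hNn : N.Normal := by
    constructor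
    intro g hg a
    rw [hNmem] at hg ⊢
    intro z hz
    have h1 : ((a⁻¹ : F.autGroup R) : MulAut R) z = (a : MulAut R)⁻¹ z := rfl
    have h2 := hinv _ (a⁻¹).2 z hz
    show (a : MulAut R) ((g : MulAut R) ((a : MulAut R)⁻¹ z)) = z
    rw [hg _ (h1 ▸ h2), MulAut.apply_inv_self]
  have hTN : (T : Subgroup (F.autGroup R)) ≤ N := by
    intro t ht
    rw [hT, Subgroup.mem_subgroupOf] at ht
    obtain ⟨s, hs, hst⟩ := (mem_autInducedBy_iff _).mp ht
    rw [hNmem]
    intro z hz
    apply Subtype.ext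
    rw [hst, (mem_Zc.mp hz).2 s hs, mul_inv_cancel_right]
  have hFr := Sylow.normalizer_sup_eq_top' T hTN
  have hmem : (⟨α, hα⟩ : F.autGroup R) ∈
      ((⊤ : Subgroup (F.autGroup R)) : Set (F.autGroup R)) := trivial
  rw [← hFr, Subgroup.mul_normal] at hmem
  obtain ⟨ν, hν, k, hk, hνk⟩ := Set.mem_mul.mp hmem
  refine ⟨(ν : MulAut R), ν.2, ?_, ?_⟩
  · intro β hβ
    have hβG : β ∈ F.autGroup R := autInducedBy_le_autGroup F hRS hβ
    have h1 : (⟨β, hβG⟩ : F.autGroup R) ∈ (T : Subgroup (F.autGroup R)) := by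
      rw [hT, Subgroup.mem_subgroupOf]
      exact hβ
    have h2 := (Subgroup.mem_normalizer_iff.mp hν ⟨β, hβG⟩).mp h1
    rw [hT, Subgroup.mem_subgroupOf] at h2
    exact h2
  · intro z hz
    have h1 : (⟨α, hα⟩ : F.autGroup R) = ν * k := hνk.symm
    have h2 : α = (ν : MulAut R) * (k : MulAut R) := congrArg Subtype.val h1
    rw [h2, MulAut.mul_apply, (hNmem k).mp hk z hz]

/-- `K 2 = Z₂(S) ∩ A`, independently of `x` -/
def K2 (S A : Subgroup Ω) : Subgroup Ω := (upperCentralSeries ↥S 2).map S.subtype ⊓ A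

theorem K_two_eq' (D : OD p S A) {x : Ω} (hx : x ∈ S) (hxA : x ∉ A) : K D hx 2 = K2 S A :=
  K_two_eq D hx hxA

/-- a morphism from a subgroup `Q` that is nonabelian of order `> p |K2|` agrees on `Z(S)` with an automorphism of `S` -/
theorem agree_very_large (hF : F.IsSaturated p) (D : OD p S A) {Q : Subgroup Ω} {φ : Q →* Ω}
    (hφ : φ ∈ F.Hom Q) (hQ : Large (p * Nat.card (K2 S A) + 1) Q) : AgreeZ F Q φ := by
  apply agree_of_large hF D _ _ hφ hQ
  intro R hR hRl α _
  exfalso
  have hRA : R ≠ A := by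
    rintro rfl
    apply hRl.1
    intro u v
    apply Subtype.ext
    exact D.comm' u.2 v.2
  obtain ⟨x, hx, hxA, hxR, -, -, hcase⟩ := essential_cases hF D hR hRA
  rcases hcase with ⟨-, -, hab⟩ | ⟨-, hi, -⟩
  · exact hRl.1 hab
  · have h1 := D.card_eq hR.1.1 (fun h => hxA (h hxR))
    rw [hi, K_two_eq' D hx hxA] at h1
    have h2 := hRl.2
    omega

end od

end Cfsg.Agent.Helper3.OL
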