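import Mathlib
import Cfsg.Agent.Lib.Helper3.OliverC3

/-!
# Automorphisms of essential subgroups act on `Z(S)` like automorphisms of `S`
-/

set_option autoImplicit false
set_option linter.style.haveILetI false
set_option linter.unusedSectionVars false
set_option linter.deprecated false

namespace Cfsg.Agent.Helper3.OL

open Cfsg Cfsg.FusionSystem Cfsg.Agent.Helper25 Cfsg.Agent.Helper26 Cfsg.Agent.Helper3.KL
open Cfsg.Agent.Helper3.TT Cfsg.Agent.Helper3.SC

variable {Ω : Type*} [Group Ω] {S A : Subgroup Ω}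

section od

variable [Finite S] {p : ℕ} [Fact p.Prime] {F : FusionSystem S}

theorem card_K2_pos (D : OD p S A) : 0 < Nat.card (K2 S A) := by
  haveI : Finite (K2 S A) := finite_of_le_finite (le_trans inf_le_right D.le)
  exact Nat.card_pos

/-- extension of a normalizing automorphism to the normalizer, and agreement with an automorphism of `S` -/
theorem agree_of_normalizing (hF : F.IsSaturated p) (D : OD p S A) {R : Subgroup Ω}
    (hR : F.IsEssential p R)
    (hag : ∀ {φ : normalizerIn S R →* Ω}, φ ∈ F.Hom (normalizerIn S R) →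
      AgreeZ F (normalizerIn S R) φ)
    {ν : MulAut R} (hν : ν ∈ F.autGroup R)
    (hnorm : ∀ β ∈ autInducedBy S R, ν * β * ν⁻¹ ∈ autInducedBy S R) :
    AgreeZ F R (R.subtype.comp ν.toMonoidHom) := by
  have hRS : R ≤ S := hR.1.1
  obtain ⟨-, -, hrec⟩ := of_fullyNormalized p D.pg F hF hR.2.1
  obtain ⟨νbar, hνbar, hext⟩ := exists_autGroup_normalizerIn_extension F hrec hν hnorm
  have hNS : normalizerIn S R ≤ S := normalizerIn_le
  have hφ : (normalizerIn S R).subtype.comp νbar.toMonoidHom ∈ F.Hom (normalizerIn S R) :=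
    (mem_autGroup_iff F hNS νbar).mp hνbar
  obtain ⟨γ, hγ, hγz⟩ := hag hφ
  refine ⟨γ, hγ, fun z hz hzR => ?_⟩
  have h1 := hγz z hz (le_normalizerIn hRS hzR)
  rw [← h1]
  exact (hext ⟨z, hzR⟩).symm

theorem agree_nonabelian (hF : F.IsSaturated p) (D : OD p S A) {R : Subgroup Ω}
    (hR : F.IsEssential p R) (hnab : ¬ ∀ u v : R, u * v = v * u) {α : MulAut R}
    (hα : α ∈ F.autGroup R) : AgreeZ F R (R.subtype.comp α.toMonoidHom) := by
  have hp : p.Prime := Fact.out
  have hRS : R ≤ S := hR.1.1
  haveI : Finite R := finite_of_le_finite hRS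
  have hRA : R ≠ A := by
    rintro rfl
    apply hnab
    intro u v
    apply Subtype.ext
    exact D.comm' u.2 v.2
  obtain ⟨x, hx, hxA, hxR, -, hN, hcase⟩ := essential_cases hF D hR hRA
  rcases hcase with ⟨-, -, hab⟩ | ⟨-, hi, -⟩
  · exact absurd hab hnab
  have hcenter := center_le D hx hxA hRS hxR hnab
  have hinv : ∀ α ∈ F.autGroup R, ∀ z : R, (z : Ω) ∈ centralizerIn S S →
      ((α z : R) : Ω) ∈ centralizerIn S S := by
    intro α _ z hz
    apply hcenter
    apply center_aut_mem α
    rw [Subgroup.mem_centralizer_iff]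
    intro y hy
    exact (mem_Zc.mp hz).2 y (hRS hy)
  obtain ⟨ν, hν, hνnorm, hνz⟩ := exists_normalizing D.pg hF hR.2.1 hinv hα
  have hcardR : Nat.card R = p * Nat.card (K2 S A) := by
    have h1 := D.card_eq hRS (fun h => hxA (h hxR))
    rw [hi, K_two_eq' D hx hxA] at h1
    exact h1
  have hcardN : Nat.card (normalizerIn S R) = p * Nat.card R := by
    have h1 := Subgroup.relIndex_mul_relIndex ⊥ R (normalizerIn S R) bot_le (le_normalizerIn hRS)
    rw [Subgroup.relIndex_bot_left, Subgroup.relIndex_bot_left, hN] at h1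
    rw [← h1, mul_comm]
  have hlarge : Large (p * Nat.card (K2 S A) + 1) (normalizerIn S R) := by
    constructor
    · intro hNab
      apply hnab
      intro u v
      apply Subtype.ext
      have h1 := congrArg Subtype.val
        (hNab ⟨u, le_normalizerIn hRS u.2⟩ ⟨v, le_normalizerIn hRS v.2⟩)
      exact h1
    · rw [hcardN, hcardR]
      have h1 := card_K2_pos D
      have h2 := hp.two_le
      nlinarith
  obtain ⟨γ, hγ, hγz⟩ := agree_of_normalizing hF D hR
    (fun hφ => agree_very_large hF D hφ hlarge) hν hνnorm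
  refine ⟨γ, hγ, fun z hz hzR => ?_⟩
  rw [← hγz z hz hzR]
  show ((α ⟨z, hzR⟩ : R) : Ω) = ((ν ⟨z, hzR⟩ : R) : Ω)
  rw [hνz ⟨z, hzR⟩ hz]

theorem agree_abelian (hF : F.IsSaturated p) (D : OD p S A) (hAe : ¬ F.IsEssential p A)
    {P : Subgroup Ω} (hP : F.IsEssential p P) (hab : ∀ u v : P, u * v = v * u) {n : MulAut P}
    (hn : n ∈ F.autGroup P)
    (hnorm : ∀ β ∈ autInducedBy S P, n * β * n⁻¹ ∈ autInducedBy S P) :
    AgreeZ F P (P.subtype.comp n.toMonoidHom) := by
  have hp : p.Prime := Fact.out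
  have hPS : P ≤ S := hP.1.1
  haveI : Finite P := finite_of_le_finite hPS
  have hPA : P ≠ A := by
    rintro rfl
    exact hAe hP
  obtain ⟨x, hx, hxA, hxP, h12, hN, hcase⟩ := essential_cases hF D hP hPA
  rcases hcase with ⟨-, hi, -⟩ | ⟨-, -, hnab⟩
  swap
  · exact absurd hab hnab
  haveI : Finite (K D hx 2) := finite_of_le_finite (le_trans (K_le D hx 2) D.le)
  have hcardK : Nat.card (K2 S A) = p * Nat.card (K D hx 1) := by
    rw [← K_two_eq' D hx hxA]
    have h1 := Subgroup.relIndex_mul_relIndex ⊥ (K D hx 1) (K D hx 2) bot_le (K_mono D hx 1)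
    rw [Subgroup.relIndex_bot_left, Subgroup.relIndex_bot_left, h12] at h1
    rw [← h1, mul_comm]
  have hcardP : Nat.card P = p * Nat.card (K D hx 1) := by
    have h1 := D.card_eq hPS (fun h => hxA (h hxP))
    rw [hi] at h1
    exact h1
  have hcardN : Nat.card (normalizerIn S P) = p * Nat.card P := by
    have h1 := Subgroup.relIndex_mul_relIndex ⊥ P (normalizerIn S P) bot_le (le_normalizerIn hPS)
    rw [Subgroup.relIndex_bot_left, Subgroup.relIndex_bot_left, hN] at h1
    rw [← h1, mul_comm]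
  have hNi := inf_normalizerIn D hx hxA hPS hxP hi
  have hlarge : Large (p * Nat.card (K2 S A)) (normalizerIn S P) := by
    constructor
    · intro hNab
      apply K_succ_ne D hx (K_one_ne D hx hxA)
      apply le_antisymm _ (K_mono D hx 1)
      intro b hb
      rw [← hNi] at hb
      rw [K_one D hx hxA]
      apply D.cent hx hxA hb.1
      exact congrArg Subtype.val (hNab ⟨x, le_normalizerIn hPS hxP⟩ ⟨b, hb.2⟩)
    · rw [hcardN, hcardP, hcardK]
  apply agree_of_normalizing hF D hP _ hn hnorm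
  intro φ hφ
  apply agree_of_large hF D _ _ hφ hlarge
  intro R hR hRl α hα
  exact agree_nonabelian hF D hR hRl.1 hα

end od

end Cfsg.Agent.Helper3.OL
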