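import Mathlib
import Cfsg.Agent.Lib.Helper3.OliverC4

/-!
# Abelian essential subgroups `Z(S)⟨x⟩`: the transvection structure of `Aut_F(P)`
-/

set_option autoImplicit false
set_option linter.style.haveILetI false
set_option linter.unusedSectionVars false
set_option linter.deprecated false

namespace Cfsg.Agent.Helper3.OL

open Cfsg Cfsg.FusionSystem Cfsg.Agent.Helper25 Cfsg.Agent.Helper26 Cfsg.Agent.Helper3.KL
open Cfsg.Agent.Helper3.TT Cfsg.Agent.Helper3.SC

variable {Ω : Type*} [Group Ω] {S A P : Subgroup Ω}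

/-- the data of an abelian essential subgroup of type `Z(S)⟨x⟩` -/
structure AE (p : ℕ) (F : FusionSystem S) (P : Subgroup Ω) : Prop where
  ess : F.IsEssential p P
  comm : ∀ u v : P, u * v = v * u
  idxN : P.relIndex (normalizerIn S P) = p
  idxZ : ((centralizerIn S S).subgroupOf P).index = p
  stab : ∀ α ∈ autInducedBy S P, α ∈ stab ((centralizerIn S S).subgroupOf P)

section od

variable [Finite S] {p : ℕ} [Fact p.Prime] {F : FusionSystem S}

theorem ae_of_essential (hF : F.IsSaturated p) (D : OD p S A) (hAe : ¬ F.IsEssential p A)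
    (hP : F.IsEssential p P) (hab : ∀ u v : P, u * v = v * u) :
    AE p F P ∧ ∃ (x : Ω) (hx : x ∈ S), x ∉ A ∧ x ∈ P ∧
      (K D hx 1).relIndex (K D hx 2) = p ∧ P = centralizerIn S S ⊔ Subgroup.zpowers x := by
  have hp : p.Prime := Fact.out
  have hPS : P ≤ S := hP.1.1
  haveI : Finite P := finite_of_le_finite hPS
  have hPA : P ≠ A := by
    rintro rfl
    exact hAe hP
  obtain ⟨x, hx, hxA, hxP, h12, hN, hcase⟩ := essential_cases hF D hP hPA
  rcases hcase with ⟨hPeq, hi, -⟩ | ⟨-, -, hnab⟩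
  swap
  · exact absurd hab hnab
  have hNi := inf_normalizerIn D hx hxA hPS hxP hi
  have hPnA : ¬ P ≤ A := fun h => hxA (h hxP)
  refine ⟨⟨hP, hab, hN, ?_, ?_⟩, x, hx, hxA, hxP, h12, hPeq⟩
  · show (centralizerIn S S).relIndex P = p
    rw [← K_one D hx hxA, ← hi, Subgroup.inf_relIndex_right]
    exact D.relIndex_of_not_le hPS hPnA
  · intro α hα
    obtain ⟨g, hg, hgα⟩ := (mem_autInducedBy_iff α).mp hα
    have hgN : g ∈ Subgroup.normalizer (P : Set Ω) := mem_normalizer_of_aut α hgα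
    obtain ⟨a, ha, k, rfl⟩ := D.exists_mul_pow hx hxA hg
    have haN : a ∈ normalizerIn S P := by
      have h1 : a = (a * x ^ k) * (x ^ k)⁻¹ := by group
      rw [h1]
      exact Subgroup.mul_mem _ ⟨hg, hgN⟩
        (Subgroup.inv_mem _ (Subgroup.pow_mem _ (le_normalizerIn hPS hxP) k))
    have haK : a ∈ K D hx 2 := by
      have : a ∈ A ⊓ normalizerIn S P := ⟨ha, haN⟩
      rw [hNi] at this
      exact this
    constructor
    · intro w hw
      apply Subtype.ext
      rw [hgα]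
      have hwZ : (w : Ω) ∈ centralizerIn S S := Subgroup.mem_subgroupOf.mp hw
      rw [(mem_Zc.mp hwZ).2 _ hg, mul_inv_cancel_right]
    · intro e
      apply Subgroup.mem_subgroupOf.mpr
      show ((α e : P) : Ω) * ((e : P) : Ω)⁻¹ ∈ centralizerIn S S
      rw [hgα]
      have h1 : x ^ k * (e : Ω) = e * x ^ k := by
        have := congrArg Subtype.val (hab ⟨x ^ k, P.pow_mem hxP k⟩ e)
        exact this
      have h2 : a * x ^ k * (e : Ω) * (a * x ^ k)⁻¹ * (e : Ω)⁻¹ =
          a * (x ^ k * (e : Ω)) * (x ^ k)⁻¹ * a⁻¹ * (e : Ω)⁻¹ := by group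
      rw [h2, h1]
      have h3 : a * ((e : Ω) * x ^ k) * (x ^ k)⁻¹ * a⁻¹ * (e : Ω)⁻¹ = a * e * a⁻¹ * (e : Ω)⁻¹ := by
        group
      rw [h3]
      exact comm_mem_Z_of_mem_K_two D hx hxA haK (hPS e.2)

variable (hS : IsPGroup p S) (hF : F.IsSaturated p)
include hS hF

theorem AE.le (E : AE p F P) : P ≤ S := E.ess.1.1

theorem AE.cen_le (E : AE p F P) : centralizerIn S P ≤ P :=
  E.ess.1.2 P (isConj_refl F E.ess.1.1)

theorem AE.card_autS (E : AE p F P) : Nat.card (autInducedBy S P) = p := by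
  rw [card_autS_abelian E.ess.1.1 (E.ess.1.2 P (isConj_refl F E.ess.1.1)) E.comm, E.idxN]

theorem AE.pow_eq_one (E : AE p F P) {u : MulAut P} (hu : u ∈ autInducedBy S P) : u ^ p = 1 :=
  pow_eq_one_of_card (autInducedBy S P) (E.card_autS hS hF) hu

theorem AE.autS_eq_zpowers (E : AE p F P) {u : MulAut P} (hu : u ∈ autInducedBy S P)
    (hu1 : u ≠ 1) : autInducedBy S P = Subgroup.zpowers u := by
  have hp : p.Prime := Fact.out
  haveI : Finite P := finite_of_le_finite E.ess.1.1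
  symm
  apply Subgroup.eq_of_le_of_card_ge (Subgroup.zpowers_le.mpr hu)
  rw [E.card_autS hS hF, Nat.card_zpowers, orderOf_eq_prime (E.pow_eq_one hS hF hu) hu1]

theorem AE.smallSylow (E : AE p F P) : SmallSylow p (F.autGroup P) := by
  intro K hK hKp
  have hPS : P ≤ S := E.ess.1.1
  haveI : Finite P := finite_of_le_finite hPS
  obtain ⟨-, hfa, -⟩ := of_fullyNormalized p hS F hF E.ess.2.1
  obtain ⟨-, R, hR⟩ := hfa
  have hK' : IsPGroup p (K.subgroupOf (F.autGroup P)) :=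
    hKp.comap_of_injective (F.autGroup P).subtype (F.autGroup P).subtype_injective
  obtain ⟨Q, hQ⟩ := hK'.exists_le_sylow
  have h1 : Nat.card K = Nat.card (K.subgroupOf (F.autGroup P)) :=
    Nat.card_congr (Subgroup.subgroupOfEquivOfLe hK).symm.toEquiv
  have h2 : Nat.card (K.subgroupOf (F.autGroup P)) ≤ Nat.card Q := Subgroup.card_le_of_le hQ
  have h3 : Nat.card Q = Nat.card R := by
    rw [Sylow.card_eq_multiplicity, Sylow.card_eq_multiplicity]
  have h4 : Nat.card R = p := by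
    show Nat.card (R : Subgroup (F.autGroup P)) = p
    rw [hR, ← E.card_autS hS hF]
    exact Nat.card_congr (Subgroup.subgroupOfEquivOfLe (autInducedBy_le_autGroup F hPS)).toEquiv
  omega

/-- every element of order `p` of `Aut_F(P)` is conjugate into `Aut_S(P)` -/
theorem AE.exists_conj (E : AE p F P) {v : MulAut P} (hv : v ∈ F.autGroup P)
    (hvp : v ^ p = 1) : ∃ g ∈ F.autGroup P, ∃ t ∈ autInducedBy S P, v = g * t * g⁻¹ := by
  haveI : Finite P := finite_of_le_finite E.ess.1.1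
  obtain ⟨-, hfa, -⟩ := of_fullyNormalized p hS F hF E.ess.2.1
  obtain ⟨-, R, hR⟩ := hfa
  have hSg : IsPGroup p (Subgroup.zpowers (⟨v, hv⟩ : F.autGroup P)) := by
    apply isPGroup_zpowers_of_pow_eq_one
    apply Subtype.ext
    exact hvp
  obtain ⟨l, hl⟩ := exists_conj_le_sylow R hSg
  have h1 := hl _ (Subgroup.mem_zpowers _)
  rw [hR, Subgroup.mem_subgroupOf] at h1
  refine ⟨(l⁻¹ : F.autGroup P), (l⁻¹).2, _, h1, ?_⟩
  simp only [Subgroup.coe_mul, Subgroup.coe_inv, inv_inv]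
  group

theorem AE.transv (E : AE p F P) {t : MulAut P} (ht : t ∈ autInducedBy S P) (ht1 : t ≠ 1) :
    Nat.card (cm E.comm t).range = p ∧ ∀ e, t (cm E.comm t e) = cm E.comm t e := by
  have hp : p.Prime := Fact.out
  haveI : Finite P := finite_of_le_finite E.ess.1.1
  obtain ⟨hst1, hst2⟩ := E.stab t ht
  refine ⟨?_, fun e => hst1 _ (hst2 e)⟩
  rw [← Subgroup.index_ker]
  have hle : (centralizerIn S S).subgroupOf P ≤ (cm E.comm t).ker := by
    intro w hw
    rw [MonoidHom.mem_ker, cm_eq_one_iff]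
    exact hst1 w hw
  have h1 := Subgroup.index_dvd_of_le hle
  rw [E.idxZ] at h1
  rcases (Nat.dvd_prime hp).mp h1 with h | h
  · exfalso
    apply ht1
    ext e
    have h2 : e ∈ (cm E.comm t).ker := by
      rw [Subgroup.index_eq_one.mp h]
      trivial
    rw [MonoidHom.mem_ker, cm_eq_one_iff] at h2
    rw [h2]
    rfl
  · exact h

theorem AE.isTransv (E : AE p F P) : IsTransv E.comm p (F.autGroup P) := by
  intro v hv hv1 hvp
  obtain ⟨g, -, t, ht, rfl⟩ := E.exists_conj hS hF hv hvp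
  apply transv_conj
  apply E.transv hS hF ht
  rintro rfl
  apply hv1
  rw [mul_one, mul_inv_cancel]

theorem AE.exists_ne_one (E : AE p F P) : ∃ u ∈ autInducedBy S P, u ≠ 1 := by
  have hp : p.Prime := Fact.out
  by_contra hcon
  push Not at hcon
  have h1 : autInducedBy S P = ⊥ := by
    rw [eq_bot_iff]
    intro u hu
    rw [Subgroup.mem_bot]
    exact hcon u hu
  have h2 := E.card_autS hS hF
  rw [h1, Subgroup.card_bot] at h2
  exact hp.one_lt.ne h2

theorem AE.exists_second (E : AE p F P) {u : MulAut P} (hu : u ∈ autInducedBy S P) (hu1 : u ≠ 1) :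
    ∃ g ∈ F.autGroup P, g * u * g⁻¹ ∉ Subgroup.zpowers u := by
  by_contra hall
  push Not at hall
  refine not_essential_of_normal_pSubgroup p hS F hF E.ess (autInducedBy S P)
    (autInducedBy_le_autGroup F E.ess.1.1) ?_ (isPGroup_autInducedBy hS P) le_rfl
  refine ⟨fun a ha g => ?_⟩
  rw [Subgroup.mem_subgroupOf] at ha ⊢
  rw [E.autS_eq_zpowers hS hF hu hu1] at ha ⊢
  obtain ⟨k, hk⟩ := Subgroup.mem_zpowers_iff.mp ha
  have h1 : ((g * a * g⁻¹ : F.autGroup P) : MulAut P) =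
      ((g : MulAut P) * u * (g : MulAut P)⁻¹) ^ k := by
    rw [conj_zpow, hk]
    rfl
  rw [h1]
  exact Subgroup.zpow_mem _ (hall g g.2) k

/-- the decomposition of `P` attached to a second Sylow subgroup of `Aut_F(P)` -/
theorem AE.exists_dec (E : AE p F P) {u : MulAut P} (hu : u ∈ autInducedBy S P) (hu1 : u ≠ 1)
    {g : MulAut P} (hg : g ∈ F.autGroup P) (hgu : g * u * g⁻¹ ∉ Subgroup.zpowers u) :
    ∃ (u₂ : MulAut P) (c c' : P), u₂ ∈ F.autGroup P ∧ u₂ ^ p = 1 ∧
      g * u * g⁻¹ ∈ Subgroup.zpowers u₂ ∧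
      c ≠ 1 ∧ c' ≠ 1 ∧ c ^ p = 1 ∧ c' ^ p = 1 ∧ c ∈ (cm E.comm u).range ∧
      (∀ e, ∃ k : ℤ, cm E.comm u e = c ^ k) ∧
      (∀ e, ∃ k : ℤ, cm E.comm u₂ e = c' ^ k) ∧
      u c = c ∧ u c' = c' * c ∧ u₂ c' = c' ∧ u₂ c = c * c'⁻¹ ∧
      ∀ e, ∃ (a : P) (i j : ℤ), e = a * c ^ i * c' ^ j ∧ u a = a ∧ u₂ a = a := by
  have hp : p.Prime := Fact.out
  have hPS : P ≤ S := E.ess.1.1
  haveI : Finite P := finite_of_le_finite hPS
  set u' := g * u * g⁻¹ with hu'
  have huG : u ∈ F.autGroup P := autInducedBy_le_autGroup F hPS hu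
  have hu'G : u' ∈ F.autGroup P :=
    (F.autGroup P).mul_mem ((F.autGroup P).mul_mem hg huG) ((F.autGroup P).inv_mem hg)
  have hup : u ^ p = 1 := E.pow_eq_one hS hF hu
  have hu'1 : u' ≠ 1 := by
    intro h
    apply hu1
    have h1 : u = g⁻¹ * u' * g := by rw [hu']; group
    rw [h1, h, mul_one, inv_mul_cancel]
  have hu'p : u' ^ p = 1 := by
    rw [hu', conj_pow, hup, mul_one, mul_inv_cancel]
  have hcu : Nat.card (Subgroup.zpowers u) = p := by
    rw [Nat.card_zpowers, orderOf_eq_prime hup hu1]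
  have hcu' : Nat.card (Subgroup.zpowers u') = p := by
    rw [Nat.card_zpowers, orderOf_eq_prime hu'p hu'1]
  have hne' : u ∉ Subgroup.zpowers u' := by
    intro h
    apply hgu
    have h1 : Subgroup.zpowers u = Subgroup.zpowers u' := by
      apply Subgroup.eq_of_le_of_card_ge (Subgroup.zpowers_le.mpr h)
      rw [hcu, hcu']
    rw [h1]
    exact Subgroup.mem_zpowers u'
  obtain ⟨u₂, c, c', hu₂, hc1, hc'1, hcp, hc'p, hcr, -, h1, h2, h3, h4, h5, h6, h7⟩ :=
    exists_decomp E.comm (F.autGroup P) (E.isTransv hS hF) (E.smallSylow hS hF) huG hu'G hu1 hu'1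
      hup hu'p hgu hne'
  have hu₂G : u₂ ∈ F.autGroup P := (Subgroup.zpowers_le.mpr hu'G) hu₂
  have hu₂1 : u₂ ≠ 1 := by
    intro h
    rw [h, MulAut.one_apply] at h6
    have : c'⁻¹ = 1 := by
      have h8 : c * c'⁻¹ = c * 1 := by rw [← h6, mul_one]
      exact mul_left_cancel h8
    exact hc'1 (inv_eq_one.mp this)
  have hu₂p : u₂ ^ p = 1 := by
    have := pow_eq_one_of_card (Subgroup.zpowers u') hcu' hu₂
    exact this
  have hmem : u' ∈ Subgroup.zpowers u₂ := by
    have h8 : Subgroup.zpowers u₂ = Subgroup.zpowers u' := by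
      apply Subgroup.eq_of_le_of_card_ge (Subgroup.zpowers_le.mpr hu₂)
      rw [hcu', Nat.card_zpowers, orderOf_eq_prime hu₂p hu₂1]
    rw [h8]
    exact Subgroup.mem_zpowers u'
  exact ⟨u₂, c, c', hu₂G, hu₂p, hmem, hc1, hc'1, hcp, hc'p, hcr, h1, h2, h3, h4, h5, h6, h7⟩

end od

end Cfsg.Agent.Helper3.OL
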