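import Mathlib
import Cfsg.Agent.Lib.Helper3.OliverC5
import Cfsg.Agent.Lib.Helper3.SmallCenter5

/-!
# The inverting automorphism attached to a second Sylow subgroup of `Aut_F(Z(S)⟨x⟩)`
-/

set_option autoImplicit false
set_option linter.style.haveILetI false
set_option linter.unusedSectionVars false
set_option linter.deprecated false

namespace Cfsg.Agent.Helper3.OL

open Cfsg Cfsg.FusionSystem Cfsg.Agent.Helper25 Cfsg.Agent.Helper26 Cfsg.Agent.Helper3.KL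
open Cfsg.Agent.Helper3.TT Cfsg.Agent.Helper3.SC

variable {Ω : Type*} [Group Ω] {S A P : Subgroup Ω}

/-- `Z(S) ∩ [S, S]` -/
def Z0 (S : Subgroup Ω) : Subgroup Ω := centralizerIn S S ⊓ (commutator ↥S).map S.subtype

theorem aut_mem_comm (β : MulAut S) {d : Ω} (hd : d ∈ (commutator ↥S).map S.subtype) :
    ((β ⟨d, by obtain ⟨d', -, rfl⟩ := hd; exact d'.2⟩ : S) : Ω) ∈ (commutator ↥S).map S.subtype := by
  obtain ⟨d', hd', rfl⟩ := hd
  refine ⟨β d', ?_, rfl⟩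
  have hchar : (commutator ↥S).Characteristic := by
    rw [commutator_def]
    infer_instance
  have h1 := Subgroup.characteristic_iff_map_eq.mp hchar β
  rw [← h1]
  exact ⟨d', hd', rfl⟩

theorem Z0_le_Zc : Z0 S ≤ centralizerIn S S := inf_le_left

theorem comm_mem_comm {g e : Ω} (hg : g ∈ S) (he : e ∈ S) :
    g * e * g⁻¹ * e⁻¹ ∈ (commutator ↥S).map S.subtype := by
  refine ⟨(⟨g, hg⟩ : S) * ⟨e, he⟩ * (⟨g, hg⟩ : S)⁻¹ * (⟨e, he⟩ : S)⁻¹, ?_, rfl⟩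
  rw [commutator_def, ← commutatorElement_def]
  exact Subgroup.commutator_mem_commutator (Subgroup.mem_top _) (Subgroup.mem_top _)

section od

variable [Finite S] {p : ℕ} [Fact p.Prime] {F : FusionSystem S}

theorem wd_Z0 {p : ℕ} (hcard : Nat.card (Z0 S) = p) : WD p S (Z0 S) := by
  refine ⟨inf_le_left, ?_, fun w hw => pow_eq_one_of_card (Z0 S) hcard hw⟩
  intro β d hd
  exact ⟨aut_mem_Zc β hd.1, aut_mem_comm β hd.2⟩

/-- the data attached to a second Sylow subgroup -/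
structure IsPackA (F : FusionSystem S) (hW : WD p S (Z0 S)) (P : Subgroup Ω)
    (hX : ∀ a b : P, a * b = b * a) (hZP : centralizerIn S S ≤ P)
    (u u₂ : MulAut P) (c c' : P) (β : MulAut S) : Prop where
  u_mem : u ∈ autInducedBy S P
  u_ne : u ≠ 1
  u₂_mem : u₂ ∈ F.autGroup P
  c_ne : c ≠ 1
  cp : c ^ p = 1
  c'p : c' ^ p = 1
  cZ0 : (c : Ω) ∈ Z0 S
  h3 : u c = c
  h4 : u c' = c' * c
  h5 : u₂ c' = c'
  h6 : u₂ c = c * c'⁻¹
  dec : ∀ e, ∃ (a : P) (i j : ℤ), e = a * c ^ i * c' ^ j ∧ u a = a ∧ u₂ a = a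
  theta : IsThetaW F (Z0 S) hW β
  ext : ∀ (z : Ω) (hz : z ∈ centralizerIn S S), ((β ⟨z, Zc_le hz⟩ : S) : Ω) =
    (((wEl u u₂ * wEl u u₂) ⟨z, hZP hz⟩ : P) : Ω)

theorem fix_Zc {u : MulAut P} (hu : u ∈ autInducedBy S P) {e : P}
    (he : (e : Ω) ∈ centralizerIn S S) : u e = e := by
  obtain ⟨g, hg, hgu⟩ := (mem_autInducedBy_iff u).mp hu
  apply Subtype.ext
  rw [hgu, (mem_Zc.mp he).2 g hg, mul_inv_cancel_right]

/-- automorphisms commuting with a generator of `Aut_S(P)` normalize it -/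
theorem norm_of_conj_mem' (hS : IsPGroup p S) (hF : F.IsSaturated p) (E : AE p F P)
    {u : MulAut P} (hu : u ∈ autInducedBy S P) (hu1 : u ≠ 1) {n : MulAut P}
    (h : n * u * n⁻¹ ∈ Subgroup.zpowers u) :
    ∀ β ∈ autInducedBy S P, n * β * n⁻¹ ∈ autInducedBy S P := by
  intro β hβ
  rw [E.autS_eq_zpowers hS hF hu hu1] at hβ ⊢
  obtain ⟨k, rfl⟩ := Subgroup.mem_zpowers_iff.mp hβ
  have h1 : n * u ^ k * n⁻¹ = (n * u * n⁻¹) ^ k := (conj_zpow).symm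
  rw [h1]
  exact Subgroup.zpow_mem _ h k

theorem exists_packA (hF : F.IsSaturated p) (D : OD p S A) (hAe : ¬ F.IsEssential p A)
    (hcard : Nat.card (Z0 S) = p) (E : AE p F P)
    {u : MulAut P} (hu : u ∈ autInducedBy S P) (hu1 : u ≠ 1)
    {g : MulAut P} (hg : g ∈ F.autGroup P) (hgu : g * u * g⁻¹ ∉ Subgroup.zpowers u) :
    ∃ (u₂ : MulAut P) (c c' : P) (β : MulAut S),
      IsPackA F (wd_Z0 hcard) P E.comm (Zc_le_essential E.ess) u u₂ c c' β ∧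
      g * u * g⁻¹ ∈ Subgroup.zpowers u₂ := by
  have hPS : P ≤ S := E.ess.1.1
  haveI : Finite P := finite_of_le_finite hPS
  have hZP : centralizerIn S S ≤ P := Zc_le_essential E.ess
  obtain ⟨u₂, c, c', hu₂, hu₂p, hmem, hc1, hc'1, hcp, hc'p, hcr, hcmu, hcmu₂, h3, h4, h5, h6, h7⟩ :=
    E.exists_dec D.pg hF hu hu1 hg hgu
  obtain ⟨-, hwa, hτc, hτc', hτu⟩ := weyl_facts E.comm h3 h4 h5 h6 h7
  have huG : u ∈ F.autGroup P := autInducedBy_le_autGroup F hPS hu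
  have hwG : u * u₂ * u ∈ F.autGroup P :=
    (F.autGroup P).mul_mem ((F.autGroup P).mul_mem huG hu₂) huG
  set τ : MulAut P := (u * u₂ * u) * (u * u₂ * u) with hτ
  have hτG : τ ∈ F.autGroup P := (F.autGroup P).mul_mem hwG hwG
  have hτnorm : τ * u * τ⁻¹ ∈ Subgroup.zpowers u := by
    rw [hτu, mul_inv_cancel_right]
    exact Subgroup.mem_zpowers u
  obtain ⟨β, hβ, hβext⟩ := agree_abelian hF D hAe E.ess E.comm hτG
    (norm_of_conj_mem' D.pg hF E hu hu1 hτnorm)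
  have hβext' : ∀ (z : Ω) (hz : z ∈ centralizerIn S S), ((β ⟨z, Zc_le hz⟩ : S) : Ω) =
      ((τ ⟨z, hZP hz⟩ : P) : Ω) := fun z hz => (hβext z hz (hZP hz)).symm
  have hτa : ∀ a, u a = a → u₂ a = a → τ a = a := by
    intro a ha ha₂
    rw [hτ, MulAut.mul_apply, hwa a ha ha₂, hwa a ha ha₂]
  -- `c` lies in `Z(S) ∩ [S, S]`
  have hcZ0 : (c : Ω) ∈ Z0 S := by
    obtain ⟨e, rfl⟩ := hcr
    obtain ⟨s, hs, hsu⟩ := (mem_autInducedBy_iff u).mp hu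
    constructor
    · exact Subgroup.mem_subgroupOf.mp ((E.stab u hu).2 e)
    · show ((u e * e⁻¹ : P) : Ω) ∈ _
      rw [Subgroup.coe_mul, hsu, Subgroup.coe_inv]
      exact comm_mem_comm hs (hPS e.2)
  have hzpow : ∀ k : ℤ, ((c ^ k : P) : Ω) ∈ Z0 S := by
    intro k
    rw [Subgroup.coe_zpow]
    exact Subgroup.zpow_mem _ hcZ0 k
  have hc1' : (c : Ω) ≠ 1 := fun h => hc1 (Subtype.ext h)
  refine ⟨u₂, c, c', β, ⟨hu, hu1, hu₂, hc1, hcp, hc'p, hcZ0, h3, h4, h5, h6, h7,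
    ⟨hβ, ?_, ?_⟩, hβext'⟩, hmem⟩
  · intro d hd
    obtain ⟨k, hk⟩ := exists_zpow_of_card_prime (Z0 S) hcard hcZ0 hc1' hd
    have hk' : (⟨d, hZP (Z0_le_Zc hd)⟩ : P) = c ^ k := by
      apply Subtype.ext
      rw [Subgroup.coe_zpow]
      exact hk
    rw [hβext' d (Z0_le_Zc hd), hk', map_zpow, hτc, hk]
    simp
  · intro z hz
    have hzP : z ∈ P := hZP hz
    have huz : u ⟨z, hzP⟩ = ⟨z, hzP⟩ := fix_Zc hu hz
    obtain ⟨a, i, hzeq, ha, ha₂⟩ := dec_of_fixed E.comm hc1 hcp hc'p h3 h4 h7 huz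
    rw [hβext' z hz, hzeq, map_mul, map_zpow, hτa a ha ha₂, hτc]
    have h9 : z = ((a * c ^ i : P) : Ω) := congrArg Subtype.val hzeq
    rw [h9]
    have h10 : (((a * c ^ i : P) : Ω))⁻¹ * ((a * c⁻¹ ^ i : P) : Ω) = ((c ^ (-i - i) : P) : Ω) := by
      have : (a * c ^ i)⁻¹ * (a * c⁻¹ ^ i) = c ^ (-i - i) := by
        rw [mul_inv_rev, mul_assoc, inv_mul_cancel_left, inv_zpow, ← zpow_neg, ← zpow_add]
        congr 1
      rw [← this]
      rfl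
    rw [h10]
    exact hzpow _

section pack

variable {hW : WD p S (Z0 S)} {hX : ∀ a b : P, a * b = b * a} {hZP : centralizerIn S S ≤ P}
  {u u₂ : MulAut P} {c c' : P} {β : MulAut S}

theorem IsPackA.facts [Finite P] (Pk : IsPackA F hW P hX hZP u u₂ c c' β) :
    wEl u u₂ * u * (wEl u u₂)⁻¹ = u₂ ∧
    (∀ a, u a = a → u₂ a = a → wEl u u₂ a = a) ∧
    (wEl u u₂ * wEl u u₂) c = c⁻¹ ∧
    (wEl u u₂ * wEl u u₂) c' = c'⁻¹ ∧
    (wEl u u₂ * wEl u u₂) * u = u * (wEl u u₂ * wEl u u₂) :=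
  weyl_facts hX Pk.h3 Pk.h4 Pk.h5 Pk.h6 Pk.dec

theorem IsPackA.w_mem (hPS : P ≤ S) (Pk : IsPackA F hW P hX hZP u u₂ c c' β) :
    wEl u u₂ ∈ F.autGroup P := by
  have huG : u ∈ F.autGroup P := autInducedBy_le_autGroup F hPS Pk.u_mem
  exact (F.autGroup P).mul_mem ((F.autGroup P).mul_mem huG Pk.u₂_mem) huG

/-- `w⁻¹ g` normalizes `Aut_S(P)` -/
theorem IsPackA.norm [Finite P] (Pk : IsPackA F hW P hX hZP u u₂ c c' β) {g : MulAut P}
    (hmem : g * u * g⁻¹ ∈ Subgroup.zpowers u₂) :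
    ((wEl u u₂)⁻¹ * g) * u * ((wEl u u₂)⁻¹ * g)⁻¹ ∈ Subgroup.zpowers u := by
  obtain ⟨hw, -⟩ := Pk.facts
  obtain ⟨w, hwdef⟩ : ∃ w, w = wEl u u₂ := ⟨_, rfl⟩
  rw [← hwdef] at hw ⊢
  obtain ⟨k, hk⟩ := Subgroup.mem_zpowers_iff.mp hmem
  have h1 : (w⁻¹ * g) * u * (w⁻¹ * g)⁻¹ = w⁻¹ * (g * u * g⁻¹) * w := by group
  have h2 : w⁻¹ * u₂ * w = u := by rw [← hw]; group
  rw [h1, ← hk]
  have h3 : w⁻¹ * u₂ ^ k * w = (w⁻¹ * u₂ * w) ^ k := by
    have := (conj_zpow (a := w⁻¹) (b := u₂) (i := k)).symm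
    rw [inv_inv] at this
    exact this
  rw [h3, h2]
  exact Subgroup.zpow_mem _ (Subgroup.mem_zpowers u) k

/-- decomposition of the centre of `S` -/
theorem IsPackA.Zc_dec (Pk : IsPackA F hW P hX hZP u u₂ c c' β) {z : Ω}
    (hz : z ∈ centralizerIn S S) :
    ∃ (a : P) (i : ℤ), z = ((a * c ^ i : P) : Ω) ∧ u a = a ∧ u₂ a = a := by
  have hzP : z ∈ P := hZP hz
  have huz : u ⟨z, hzP⟩ = ⟨z, hzP⟩ := fix_Zc Pk.u_mem hz
  obtain ⟨a, i, hzeq, ha, ha₂⟩ := dec_of_fixed hX Pk.c_ne Pk.cp Pk.c'p Pk.h3 Pk.h4 Pk.dec huz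
  exact ⟨a, i, congrArg Subtype.val hzeq, ha, ha₂⟩

/-- for odd `p`: a central element fixed by `β` is fixed by `w` -/
theorem IsPackA.fix_of_fix [Finite P] (hp2 : p ≠ 2) (Pk : IsPackA F hW P hX hZP u u₂ c c' β)
    {z : Ω} (hz : z ∈ centralizerIn S S) (hβz : β ⟨z, Zc_le hz⟩ = ⟨z, Zc_le hz⟩) :
    wEl u u₂ ⟨z, hZP hz⟩ = ⟨z, hZP hz⟩ := by
  have hp : p.Prime := Fact.out
  obtain ⟨-, hwa, hτc, -⟩ := Pk.facts
  obtain ⟨a, i, hzeq, ha, ha₂⟩ := Pk.Zc_dec hz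
  have hzeq' : (⟨z, hZP hz⟩ : P) = a * c ^ i := Subtype.ext hzeq
  have h1 := Pk.ext z hz
  have h2 : ((β ⟨z, Zc_le hz⟩ : S) : Ω) = z := congrArg Subtype.val hβz
  rw [h2, hzeq', map_mul, map_zpow, hτc, MulAut.mul_apply, hwa a ha ha₂, hwa a ha ha₂] at h1
  have h4 : a * c ^ i = a * c⁻¹ ^ i := by
    apply Subtype.ext
    rw [← hzeq]
    exact h1
  have h5 : c ^ i = c⁻¹ ^ i := mul_left_cancel h4
  have h6 : c ^ (2 * i) = 1 := by
    rw [two_mul, zpow_add]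
    nth_rewrite 2 [h5]
    rw [inv_zpow, mul_inv_cancel]
  have hord : orderOf c = p := orderOf_eq_prime Pk.cp Pk.c_ne
  have hdvd : (p : ℤ) ∣ 2 * i := by
    rw [← hord]
    exact orderOf_dvd_iff_zpow_eq_one.mpr h6
  have hdvd' : (p : ℤ) ∣ i := by
    have hpi : Prime (p : ℤ) := Nat.prime_iff_prime_int.mp hp
    rcases hpi.dvd_or_dvd hdvd with h | h
    · exfalso
      have h7 : p ∣ 2 := by exact_mod_cast h
      exact hp2 ((Nat.prime_dvd_prime_iff_eq hp Nat.prime_two).mp h7)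
    · exact h
  have hci : c ^ i = 1 := by
    obtain ⟨m, rfl⟩ := hdvd'
    rw [zpow_mul, zpow_natCast, Pk.cp, one_zpow]
  rw [hzeq', hci, mul_one]
  exact hwa a ha ha₂

end pack

end od

end Cfsg.Agent.Helper3.OL
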