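import Mathlib
import Cfsg.Agent.Lib.Helper3.OliverC6

/-!
# `O_p(F) = 1` forces `Z(S) ≤ [S, S]` of order `p` (unique abelian subgroup of index `p`, not essential)
-/

set_option autoImplicit false
set_option linter.style.haveILetI false
set_option linter.unusedSectionVars false
set_option linter.deprecated false

namespace Cfsg.Agent.Helper3.OL

open Cfsg Cfsg.FusionSystem Cfsg.Agent.Helper25 Cfsg.Agent.Helper26 Cfsg.Agent.Helper3.KL
open Cfsg.Agent.Helper3.TT Cfsg.Agent.Helper3.SC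

variable {Ω : Type*} [Group Ω] {S A P : Subgroup Ω}

section od

variable [Finite S] {p : ℕ} [Fact p.Prime] {F : FusionSystem S}

theorem fixSub_autP (hp2 : p ≠ 2) (hF : F.IsSaturated p) (D : OD p S A)
    (hAe : ¬ F.IsEssential p A) (hcard : Nat.card (Z0 S) = p) {β : MulAut S}
    (hθ : IsThetaW F (Z0 S) (wd_Z0 hcard) β) (E : AE p F P) {g : MulAut P}
    (hg : g ∈ F.autGroup P) {z : Ω} (hz : z ∈ fixSub β) :
    ((g ⟨z, Zc_le_essential E.ess hz.1⟩ : P) : Ω) ∈ fixSub β := by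
  have hPS : P ≤ S := E.ess.1.1
  haveI : Finite P := finite_of_le_finite hPS
  have hZP : centralizerIn S S ≤ P := Zc_le_essential E.ess
  obtain ⟨u, hu, hu1⟩ := E.exists_ne_one D.pg hF
  by_cases hgu : g * u * g⁻¹ ∈ Subgroup.zpowers u
  · obtain ⟨γ, hγ, hγz⟩ := agree_abelian hF D hAe E.ess E.comm hg
      (norm_of_conj_mem' D.pg hF E hu hu1 hgu)
    have h1 : ((g ⟨z, hZP hz.1⟩ : P) : Ω) = ((γ ⟨z, Zc_le hz.1⟩ : S) : Ω) := hγz z hz.1 (hZP hz.1)
    rw [h1]
    exact fixSub_autW hF (wd_Z0 hcard) hθ hγ hz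
  · obtain ⟨u₂, c, c', β₁, Pk, hmem⟩ := exists_packA hF D hAe hcard E hu hu1 hg hgu
    obtain ⟨w, hw⟩ : ∃ w, w = wEl u u₂ := ⟨_, rfl⟩
    have hwG : w ∈ F.autGroup P := hw ▸ Pk.w_mem hPS
    have hnG : w⁻¹ * g ∈ F.autGroup P :=
      (F.autGroup P).mul_mem ((F.autGroup P).inv_mem hwG) hg
    have hnorm : (w⁻¹ * g) * u * (w⁻¹ * g)⁻¹ ∈ Subgroup.zpowers u := hw ▸ Pk.norm hmem
    obtain ⟨γ, hγ, hγz⟩ := agree_abelian hF D hAe E.ess E.comm hnG
      (norm_of_conj_mem' D.pg hF E hu hu1 hnorm)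
    have h1 : (((w⁻¹ * g) ⟨z, hZP hz.1⟩ : P) : Ω) ∈ fixSub β := by
      have h2 : (((w⁻¹ * g) ⟨z, hZP hz.1⟩ : P) : Ω) = ((γ ⟨z, Zc_le hz.1⟩ : S) : Ω) :=
        hγz z hz.1 (hZP hz.1)
      rw [h2]
      exact fixSub_autW hF (wd_Z0 hcard) hθ hγ hz
    obtain ⟨hnzZ, hβnz⟩ := h1
    have hβ₁nz := (thetaW_unique hF (wd_Z0 hcard) Pk.theta hθ hnzZ).trans hβnz
    have hwfix := Pk.fix_of_fix hp2 hnzZ hβ₁nz
    rw [← hw] at hwfix
    have h2 : g ⟨z, hZP hz.1⟩ = w ((w⁻¹ * g) ⟨z, hZP hz.1⟩) := by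
      rw [MulAut.mul_apply, MulAut.apply_inv_self]
    have h3 : (⟨(((w⁻¹ * g) ⟨z, hZP hz.1⟩ : P) : Ω), hZP hnzZ⟩ : P) =
        (w⁻¹ * g) ⟨z, hZP hz.1⟩ := Subtype.ext rfl
    rw [h3] at hwfix
    rw [h2, hwfix]
    exact ⟨hnzZ, hβnz⟩

theorem fixSub_isNormal' (hp2 : p ≠ 2) (hF : F.IsSaturated p) (D : OD p S A)
    (hAe : ¬ F.IsEssential p A) (hcard : Nat.card (Z0 S) = p) {β : MulAut S}
    (hθ : IsThetaW F (Z0 S) (wd_Z0 hcard) β) : F.IsNormal (fixSub β) := by
  apply isNormal_of_forall_essential p D.pg F hF (fixSub β)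
  rintro P (rfl | hP)
  · refine ⟨le_trans (fixSub_le_Zc β) Zc_le, fun α hα => ?_⟩
    apply map_aut_eq
    intro y hy
    exact fixSub_autW hF (wd_Z0 hcard) hθ hα hy
  · have hPS : P ≤ S := hP.1.1
    haveI : Finite P := finite_of_le_finite hPS
    have hZP : centralizerIn S S ≤ P := Zc_le_essential hP
    refine ⟨le_trans (fixSub_le_Zc β) hZP, fun g hg => ?_⟩
    apply map_aut_eq
    intro y hy
    by_cases hab : ∀ u v : P, u * v = v * u
    · obtain ⟨E, -⟩ := ae_of_essential hF D hAe hP hab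
      exact fixSub_autP hp2 hF D hAe hcard hθ E hg hy
    · obtain ⟨γ, hγ, hγz⟩ := agree_nonabelian hF D hP hab hg
      have h1 : ((g y : P) : Ω) = ((γ ⟨y, Zc_le hy.1⟩ : S) : Ω) := hγz y hy.1 y.2
      rw [h1]
      exact fixSub_autW hF (wd_Z0 hcard) hθ hγ hy

/-- with an abelian essential subgroup and `O_p(F) = 1`, the centre is `Z(S) ∩ [S, S]` -/
theorem center_eq_Z0 (hp2 : p ≠ 2) (hF : F.IsSaturated p) (D : OD p S A)
    (hAe : ¬ F.IsEssential p A) (hcore : F.core = ⊥) (hcard : Nat.card (Z0 S) = p)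
    (E : AE p F P) : centralizerIn S S = Z0 S := by
  have hPS : P ≤ S := E.ess.1.1
  haveI : Finite P := finite_of_le_finite hPS
  have hZP : centralizerIn S S ≤ P := Zc_le_essential E.ess
  obtain ⟨u, hu, hu1⟩ := E.exists_ne_one D.pg hF
  obtain ⟨g, hg, hgu⟩ := E.exists_second D.pg hF hu hu1
  obtain ⟨u₂, c, c', β, Pk, -⟩ := exists_packA hF D hAe hcard E hu hu1 hg hgu
  have hbot := eq_bot_of_isNormal hcore (fixSub_isNormal' hp2 hF D hAe hcard Pk.theta)
  apply le_antisymm _ Z0_le_Zc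
  intro z hz
  obtain ⟨a, i, hzeq, ha, ha₂⟩ := Pk.Zc_dec hz
  obtain ⟨-, hwa, -⟩ := Pk.facts
  have hci : ((c ^ i : P) : Ω) ∈ Z0 S := by
    rw [Subgroup.coe_zpow]
    exact Subgroup.zpow_mem _ Pk.cZ0 i
  have haZ : (a : Ω) ∈ centralizerIn S S := by
    have h1 : (a : Ω) = z * ((c ^ i : P) : Ω)⁻¹ := by
      rw [hzeq, Subgroup.coe_mul, mul_inv_cancel_right]
    rw [h1]
    exact Subgroup.mul_mem _ hz (Subgroup.inv_mem _ (Z0_le_Zc hci))
  have hafix : (a : Ω) ∈ fixSub β := by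
    refine ⟨haZ, ?_⟩
    apply Subtype.ext
    rw [Pk.ext a haZ, MulAut.mul_apply]
    have h2 : (⟨(a : Ω), hZP haZ⟩ : P) = a := Subtype.ext rfl
    rw [h2, hwa a ha ha₂, hwa a ha ha₂]
  rw [hbot, Subgroup.mem_bot] at hafix
  rw [hzeq, Subgroup.coe_mul, hafix, one_mul]
  exact hci

/-- if no essential subgroup is abelian then `Z(S)` is normal in `F` -/
theorem center_isNormal (hF : F.IsSaturated p) (D : OD p S A)
    (hall : ∀ R, F.IsEssential p R → ¬ ∀ u v : R, u * v = v * u) :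
    F.IsNormal (centralizerIn S S) := by
  apply isNormal_of_forall_essential p D.pg F hF (centralizerIn S S)
  rintro P (rfl | hP)
  · refine ⟨Zc_le, fun α hα => ?_⟩
    apply map_aut_eq
    intro y hy
    exact aut_mem_Zc α hy
  · have hPS : P ≤ S := hP.1.1
    haveI : Finite P := finite_of_le_finite hPS
    have hZP : centralizerIn S S ≤ P := Zc_le_essential hP
    have hnab := hall P hP
    refine ⟨hZP, fun g hg => ?_⟩
    apply map_aut_eq
    intro y hy
    apply center_le' D hPS hnab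
    apply center_aut_mem g
    rw [Subgroup.mem_centralizer_iff]
    intro e he
    exact (mem_Zc.mp hy).2 e (hPS he)

theorem Zc_ne_bot (D : OD p S A) : centralizerIn S S ≠ ⊥ := by
  intro h
  haveI : Nontrivial S := by
    by_contra hnt
    rw [not_nontrivial_iff_subsingleton] at hnt
    apply D.nab
    intro a b
    rw [Subsingleton.elim a b]
  haveI := D.pg.center_nontrivial
  obtain ⟨⟨y, hy⟩, hy1⟩ := exists_ne (1 : Subgroup.center ↥S)
  rw [center_eq, Subgroup.mem_subgroupOf, h, Subgroup.mem_bot] at hy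
  apply hy1
  apply Subtype.ext
  apply Subtype.ext
  exact hy

/-- there is an abelian essential subgroup -/
theorem exists_abelian_essential (hF : F.IsSaturated p) (D : OD p S A) (hcore : F.core = ⊥) :
    ∃ R, F.IsEssential p R ∧ ∀ u v : R, u * v = v * u := by
  by_contra hcon
  push Not at hcon
  apply Zc_ne_bot D
  apply eq_bot_of_isNormal hcore
  apply center_isNormal hF D
  intro R hR hab
  obtain ⟨u, v, huv⟩ := hcon R hR
  exact huv (hab u v)

theorem main (hp2 : p ≠ 2) (hF : F.IsSaturated p) (D : OD p S A) (hAe : ¬ F.IsEssential p A)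
    (hcore : F.core = ⊥) :
    (∃ x ∈ S, x ∉ A ∧ F.IsEssential p (centralizerIn S S ⊔ Subgroup.zpowers x)) ∧
    centralizerIn S S ≤ (commutator ↥S).map S.subtype ∧
    ∀ n : ℕ, Nat.card S = p ^ n → 3 ≤ n → Subgroup.lowerCentralSeries S (n - 2) ≠ ⊥ := by
  have hp : p.Prime := Fact.out
  obtain ⟨P, hP, hab⟩ := exists_abelian_essential hF D hcore
  obtain ⟨E, x, hx, hxA, hxP, h12, hPeq⟩ := ae_of_essential hF D hAe hP hab
  have hcard : Nat.card (Z0 S) = p := card_Z_inf_comm D hx hxA h12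
  have hZ := center_eq_Z0 hp2 hF D hAe hcore hcard E
  refine ⟨⟨x, hx, hxA, hPeq ▸ hP⟩, ?_, ?_⟩
  · rw [hZ]
    exact inf_le_right
  · intro n hn h3
    have hcZ : Nat.card (centralizerIn S S) = p := by rw [hZ]; exact hcard
    have h1 := Subgroup.relIndex_mul_relIndex ⊥ (centralizerIn S S) S bot_le Zc_le
    rw [Subgroup.relIndex_bot_left, Subgroup.relIndex_bot_left, hcZ, hn] at h1
    have h2 : (centralizerIn S S).relIndex S = p ^ (n - 1) := by
      have h4 : p ^ n = p * p ^ (n - 1) := by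
        rw [← pow_succ']
        congr 1
        omega
      rw [h4] at h1
      exact Nat.eq_of_mul_eq_mul_left hp.pos h1
    have h5 := relIndex_Z_A_of D h2 (by omega)
    have h6 : n - 1 - 1 = n - 2 := by omega
    rw [h6] at h5
    exact lcs_ne_bot D hx hxA h12 (by omega) h5

end od

end Cfsg.Agent.Helper3.OL
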