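import Mathlib
import Cfsg.Agent.Lib.Helper27.Ord459N19
import Cfsg.Agent.Lib.Helper16.Ord459K1
import Cfsg.Agent.Lib.Helper16.Ord459K3
import Cfsg.Agent.Lib.Helper19.Ord459K4
import Cfsg.Agent.Lib.Helper19.Ord459FIN

set_option autoImplicit false
open Cfsg

/-!
# No simple group of order 459648 = 2^7 * 3^3 * 7 * 19  (assembly for S1022)

Pieces: `data` (helper27), `key_cases`, `key_7296` (helper16), `key_21`, `final` (helper19).
-/

namespace Cfsg.Agent.Helper3.Ord459

variable {G : Type*} [Group G] [Finite G] [IsSimpleGroup G]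

/-- The key lemma: a proper subgroup containing `P` and a subgroup of order 4 of `C(P)`
normalizes `P`. -/
theorem key (h : Nat.card G = 459648) (P : Sylow 19 G) (H : Subgroup G) (hH : H ≠ ⊤)
    (hPH : (P : Subgroup G) ≤ H) (T : Subgroup G) (hT : Nat.card T = 4) (hTH : T ≤ H)
    (hTC : T ≤ Subgroup.centralizer ((P : Subgroup G) : Set G)) :
    H ≤ Subgroup.normalizer ((P : Subgroup G) : Set G) := by
  by_contra hn
  rcases key_cases h P H hH hPH T hT hTH hTC hn with ⟨h1, h2⟩ | h1
  · exact key_7296 h P H hPH h1 h2 T hT hTH hTC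
  · exact key_21 h P H hPH h1 T hT hTC

theorem no_simple_459648 (h : Nat.card G = 459648) : False := by
  obtain ⟨P⟩ : Nonempty (Sylow 19 G) := inferInstance
  obtain ⟨-, -, hN, hC⟩ := data h P
  exact final h P hN hC (fun H hH hPH T hT hTH hTC => key h P H hH hPH T hT hTH hTC)

end Cfsg.Agent.Helper3.Ord459
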