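import Mathlib
import Cfsg.Agent.Lib.Helper3.SmallOrd
import Cfsg.Agent.Lib.Helper19.Ord150
import Cfsg.Agent.S0985

set_option autoImplicit false
set_option linter.unusedSectionVars false
set_option linter.unusedVariables false
set_option linter.style.haveILetI false
open Cfsg

namespace Cfsg.Agent.Helper3.SmallOrd

/-!
Piece ORD5400 of helper10's farm-out of S0983: there is no simple group of order 5400.

`n_5` is not `1` mod `25`, so (S0985) two Sylow `5`-subgroups meet in a subgroup `D` of order `5`;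
`H = N(D)` contains both; arithmetic gives `|H| = 300` and six Sylow `5`-subgroups in `H`
(orders `150` and `450` have a normal Sylow `5`-subgroup). On the `18` cosets of `H` every
`5`-subgroup fixes `3` points mod `5`; the six Sylow `5`-subgroups of `H` contain `D` and share
only the base point, so `|Fix D| ≥ |Fix P| + 10`; a second fixed point `g H` of `P` gives
`D ^ g ≤ P`, `D ⊔ D ^ g = P`, and `|Fix D ∪ Fix (D ^ g)| ≥ 23 > 18`.
-/

section o5400gen

variable {G : Type*} [Group G]

/-- fixed points of the subgroup `K` on the cosets of `H`. -/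
def h3o5400_fix (H K : Subgroup G) : Set (G ⧸ H) := {x | ∀ k ∈ K, k • x = x}

theorem h3o5400_fix_iff (H K : Subgroup G) (x : G ⧸ H) :
    x ∈ h3o5400_fix H K ↔ K ≤ MulAction.stabilizer G x := Iff.rfl

theorem h3o5400_fix_sup (H K₁ K₂ : Subgroup G) :
    h3o5400_fix H (K₁ ⊔ K₂) = h3o5400_fix H K₁ ∩ h3o5400_fix H K₂ := by
  ext x
  rw [Set.mem_inter_iff, h3o5400_fix_iff, h3o5400_fix_iff, h3o5400_fix_iff, sup_le_iff]

theorem h3o5400_fix_mono (H : Subgroup G) {K₁ K₂ : Subgroup G} (h : K₁ ≤ K₂) :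
    h3o5400_fix H K₂ ⊆ h3o5400_fix H K₁ := fun _ hx k hk => hx k (h hk)

theorem h3o5400_fix_mk (H K : Subgroup G) (g : G) :
    ((g : G ⧸ H) ∈ h3o5400_fix H K) ↔ ∀ k ∈ K, g⁻¹ * k * g ∈ H := by
  constructor
  · intro hx k hk
    have h1 : k • (g : G ⧸ H) = (g : G ⧸ H) := hx k hk
    have h2 : ((k * g : G) : G ⧸ H) = (g : G ⧸ H) := h1
    rw [QuotientGroup.eq] at h2
    have h3 := H.inv_mem h2
    simpa [mul_assoc] using h3
  · intro hx k hk
    change ((k * g : G) : G ⧸ H) = (g : G ⧸ H)
    rw [QuotientGroup.eq]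
    have h3 := H.inv_mem (hx k hk)
    simpa [mul_assoc] using h3

theorem h3o5400_fix_one (H K : Subgroup G) (h : K ≤ H) : ((1 : G) : G ⧸ H) ∈ h3o5400_fix H K := by
  rw [h3o5400_fix_mk]
  intro k hk
  simpa using h hk

theorem h3o5400_fix_conj (H K : Subgroup G) (g : G) :
    (h3o5400_fix H (K.map (MulAut.conj g).toMonoidHom)).ncard = (h3o5400_fix H K).ncard := by
  have himg : h3o5400_fix H (K.map (MulAut.conj g).toMonoidHom) =
      (fun x : G ⧸ H => g • x) '' h3o5400_fix H K := by
    ext y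
    constructor
    · intro hy
      refine ⟨g⁻¹ • y, ?_, by simp⟩
      intro k hk
      have h1 : (g * k * g⁻¹) • y = y :=
        hy _ ⟨k, hk, by simp [MulAut.conj_apply]⟩
      calc k • g⁻¹ • y = g⁻¹ • (g * k * g⁻¹) • y := by simp [smul_smul, mul_assoc]
        _ = g⁻¹ • y := by rw [h1]
    · rintro ⟨x, hx, rfl⟩
      rintro k' ⟨k, hk, rfl⟩
      have h1 : k • x = x := hx k hk
      calc (MulAut.conj g).toMonoidHom k • g • x = g • k • x := by
            simp [MulAut.conj_apply, smul_smul, mul_assoc]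
        _ = g • x := by rw [h1]
  rw [himg]
  exact Set.ncard_image_of_injective _ (MulAction.injective g)

theorem h3o5400_fix_mod (H K : Subgroup G) [Finite (G ⧸ H)] {p : ℕ} [Fact p.Prime]
    (hK : IsPGroup p K) : (h3o5400_fix H K).ncard ≡ Nat.card (G ⧸ H) [MOD p] := by
  have h1 := hK.card_modEq_card_fixedPoints (G ⧸ H)
  have h2 : (MulAction.fixedPoints K (G ⧸ H)) = h3o5400_fix H K := by
    ext x
    constructor
    · intro hx k hk
      exact hx ⟨k, hk⟩
    · intro hx k
      exact hx k.1 k.2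
  rw [h2, Nat.card_coe_set_eq] at h1
  exact h1.symm

end o5400gen

section o5400grp

variable {G : Type*} [Group G] [Finite G]

/-- a subgroup of order `25` normalizing a `5`-subgroup `D'` contains it (`|G| = 5400`). -/
theorem h3o5400_le_of_le_normalizer (hG : Nat.card G = 5400) (Q D' : Subgroup G)
    (hQ : Nat.card Q = 25) (hD' : IsPGroup 5 D') (hle : Q ≤ Subgroup.normalizer (D' : Set G)) :
    D' ≤ Q := by
  haveI : Fact (Nat.Prime 5) := ⟨by norm_num⟩
  have hQp : IsPGroup 5 Q := IsPGroup.of_card (n := 2) (by rw [hQ]; norm_num)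
  have hsup : IsPGroup 5 (Q ⊔ D' : Subgroup G) := IsPGroup.to_sup_of_normal_right' hQp hD' hle
  obtain ⟨n, hn⟩ := IsPGroup.iff_card.1 hsup
  have hdvd : Nat.card (Q ⊔ D' : Subgroup G) ∣ 5400 := hG ▸ Subgroup.card_subgroup_dvd_card _
  have hn2 : n ≤ 2 := by
    by_contra hlt
    have h3 : 3 ≤ n := by omega
    have h125 : 5 ^ 3 ∣ 5 ^ n := pow_dvd_pow 5 h3
    rw [← hn] at h125
    have := h125.trans hdvd
    norm_num at this
  have hge : Nat.card Q ≤ Nat.card (Q ⊔ D' : Subgroup G) := Subgroup.card_le_of_le le_sup_left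
  have hcard : Nat.card (Q ⊔ D' : Subgroup G) ≤ Nat.card Q := by
    rw [hn, hQ]
    interval_cases n <;> norm_num
  have heq : Q = Q ⊔ D' := Subgroup.eq_of_le_of_card_ge le_sup_left hcard
  rw [heq]
  exact le_sup_right

/-- two distinct subgroups of order `5` generate any group of order `25` containing them. -/
theorem h3o5400_sup_eq (Q D₁ D₂ : Subgroup G) (hQ : Nat.card Q = 25) (h1 : Nat.card D₁ = 5)
    (h2 : Nat.card D₂ = 5) (hle1 : D₁ ≤ Q) (hle2 : D₂ ≤ Q) (hne : D₁ ≠ D₂) : D₁ ⊔ D₂ = Q := by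
  have hle : D₁ ⊔ D₂ ≤ Q := sup_le hle1 hle2
  have hdvd : Nat.card (D₁ ⊔ D₂ : Subgroup G) ∣ 5 ^ 2 := by
    have := Subgroup.card_dvd_of_le hle
    rw [hQ] at this
    exact this
  obtain ⟨k, hk, hk'⟩ := (Nat.dvd_prime_pow (by norm_num : Nat.Prime 5)).1 hdvd
  have hge1 : Nat.card D₁ ≤ Nat.card (D₁ ⊔ D₂ : Subgroup G) := Subgroup.card_le_of_le le_sup_left
  rw [h1, hk'] at hge1
  interval_cases k
  · norm_num at hge1
  · exfalso
    apply hne
    have e1 : D₁ = D₁ ⊔ D₂ := Subgroup.eq_of_le_of_card_ge le_sup_left (by rw [hk', h1]; norm_num)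
    have e2 : D₂ = D₁ ⊔ D₂ := Subgroup.eq_of_le_of_card_ge le_sup_right (by rw [hk', h2]; norm_num)
    exact e1.trans e2.symm
  · exact Subgroup.eq_of_le_of_card_ge hle (by rw [hk', hQ]; norm_num)

/-- a point `g N(D)` fixed by a subgroup `Q` of order `25`: the conjugate `D ^ g` lies in `Q`. -/
theorem h3o5400_conj_le (hG : Nat.card G = 5400) (D Q : Subgroup G) (hD : Nat.card D = 5)
    (hQ : Nat.card Q = 25) (g : G)
    (hx : (g : G ⧸ Subgroup.normalizer (D : Set G)) ∈
      h3o5400_fix (Subgroup.normalizer (D : Set G)) Q) :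
    D.map (MulAut.conj g).toMonoidHom ≤ Q := by
  haveI : Fact (Nat.Prime 5) := ⟨by norm_num⟩
  have hDp : IsPGroup 5 D := IsPGroup.of_card (n := 1) (by rw [hD]; norm_num)
  apply h3o5400_le_of_le_normalizer hG Q _ hQ (hDp.map _)
  intro k hk
  rw [h3o5400_fix_mk] at hx
  apply Subgroup.le_normalizer_map (MulAut.conj g).toMonoidHom
  exact ⟨g⁻¹ * k * g, hx k hk, by simp [MulAut.conj_apply, mul_assoc]⟩

theorem h3o5400_conj_eq_iff (D : Subgroup G) (g : G) :
    D.map (MulAut.conj g).toMonoidHom = D ↔ g ∈ Subgroup.normalizer (D : Set G) :=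
  Subgroup.mem_normalizer_iff_map_conj_eq.symm

theorem h3o5400_conj_card (D : Subgroup G) (g : G) :
    Nat.card (D.map (MulAut.conj g).toMonoidHom) = Nat.card D :=
  Subgroup.card_map_of_injective (MulAut.conj g).injective

/-- distinct subgroups of order `25` containing `D` share only the base point. -/
theorem h3o5400_disj (hG : Nat.card G = 5400) (D Q₁ Q₂ : Subgroup G) (hD : Nat.card D = 5)
    (hQ₁ : Nat.card Q₁ = 25) (hQ₂ : Nat.card Q₂ = 25) (h1 : D ≤ Q₁) (h2 : D ≤ Q₂) (hne : Q₁ ≠ Q₂)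
    (x : G ⧸ Subgroup.normalizer (D : Set G))
    (hx1 : x ∈ h3o5400_fix (Subgroup.normalizer (D : Set G)) Q₁)
    (hx2 : x ∈ h3o5400_fix (Subgroup.normalizer (D : Set G)) Q₂) :
    x = ((1 : G) : G ⧸ Subgroup.normalizer (D : Set G)) := by
  obtain ⟨g, rfl⟩ := QuotientGroup.mk_surjective x
  have hc1 := h3o5400_conj_le hG D Q₁ hD hQ₁ g hx1
  have hc2 := h3o5400_conj_le hG D Q₂ hD hQ₂ g hx2
  have hcard := (h3o5400_conj_card D g).trans hD
  by_cases heq : D.map (MulAut.conj g).toMonoidHom = D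
  · rw [h3o5400_conj_eq_iff] at heq
    rw [QuotientGroup.eq]
    simpa using heq
  · exfalso
    apply hne
    have e1 := h3o5400_sup_eq Q₁ _ D hQ₁ hcard hD hc1 h1 heq
    have e2 := h3o5400_sup_eq Q₂ _ D hQ₂ hcard hD hc2 h2 heq
    exact e1.symm.trans e2

end o5400grp

section o5400cnt

variable {G : Type*} [Group G] [Finite G]

open scoped Function in
/-- the counting contradiction: `|G| = 5400`, `|D| = 5`, `|N(D)| = 300`, `n_5(N(D)) = 6`. -/
theorem h3o5400_count (hG : Nat.card G = 5400) (D : Subgroup G) (hD : Nat.card D = 5)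
    (hH : Nat.card (Subgroup.normalizer (D : Set G)) = 300)
    (h6 : Nat.card (Sylow 5 (Subgroup.normalizer (D : Set G))) = 6) : False := by
  classical
  haveI : Fact (Nat.Prime 5) := ⟨by norm_num⟩
  have hDp : IsPGroup 5 D := IsPGroup.of_card (n := 1) (by rw [hD]; norm_num)
  set H : Subgroup G := Subgroup.normalizer (D : Set G) with hHdef
  haveI : Fintype (Sylow 5 H) := Fintype.ofFinite _
  have hidx : Nat.card (G ⧸ H) = 18 := by
    have h1 := Subgroup.card_mul_index H
    rw [hH, hG] at h1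
    rw [← Subgroup.index_eq_card]
    omega
  set x0 : G ⧸ H := ((1 : G) : G ⧸ H) with hx0def
  -- the Sylow subgroups of `H` as subgroups of `G`
  have hSyl : ∀ S : Sylow 5 H, Nat.card (S : Subgroup H) = 5 ^ 2 :=
    (Cfsg.Agent.Lead.sylow_facts (G := H) (p := 5) (k := 2) (m := 12)
      (by rw [hH]; norm_num) (by norm_num)).1
  let up : Sylow 5 H → Subgroup G := fun S => (S : Subgroup H).map H.subtype
  have hup_card : ∀ S, Nat.card (up S) = 25 := by
    intro S
    have h1 : Nat.card (up S) = Nat.card (S : Subgroup H) :=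
      Subgroup.card_map_of_injective H.subtype_injective
    rw [h1, hSyl S]
    norm_num
  have hup_le : ∀ S, up S ≤ H := fun S => Subgroup.map_subtype_le _
  have hup_inj : Function.Injective up := by
    intro S T hST
    exact Sylow.ext (Subgroup.map_injective H.subtype_injective hST)
  have hDup : ∀ S, D ≤ up S := fun S =>
    h3o5400_le_of_le_normalizer hG (up S) D (hup_card S) hDp (hup_le S)
  have hupP : ∀ S, IsPGroup 5 (up S) := fun S =>
    IsPGroup.of_card (n := 2) (by rw [hup_card S]; norm_num)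
  -- fixed point counts
  have hmod : ∀ K : Subgroup G, IsPGroup 5 K → (h3o5400_fix H K).ncard % 5 = 3 := by
    intro K hK
    have h1 := h3o5400_fix_mod H K hK
    rw [hidx] at h1
    exact h1
  have hx0 : ∀ S, x0 ∈ h3o5400_fix H (up S) := fun S => h3o5400_fix_one H _ (hup_le S)
  have hx0D : x0 ∈ h3o5400_fix H D := h3o5400_fix_one H _ Subgroup.le_normalizer
  let T : Sylow 5 H → Set (G ⧸ H) := fun S => h3o5400_fix H (up S) \ {x0}
  have hTcard : ∀ S, (T S).ncard + 1 = (h3o5400_fix H (up S)).ncard := fun S =>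
    Set.ncard_sdiff_singleton_add_one (hx0 S)
  have hT2 : ∀ S, 2 ≤ (T S).ncard := by
    intro S
    have h1 := hTcard S
    have h2 := hmod _ (hupP S)
    omega
  have hTdisj : Pairwise (Disjoint on T) := by
    intro S S' hne
    rw [Function.onFun, Set.disjoint_left]
    rintro x ⟨hx1, hx1'⟩ ⟨hx2, -⟩
    apply hx1'
    exact h3o5400_disj hG D (up S) (up S') hD (hup_card S) (hup_card S') (hDup S) (hDup S')
      (fun h => hne (hup_inj h)) x hx1 hx2
  have hTsub : ∀ S, T S ⊆ h3o5400_fix H D \ {x0} := by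
    intro S x hx
    exact ⟨h3o5400_fix_mono H (hDup S) hx.1, hx.2⟩
  have hsum : (⋃ S, T S).ncard = ∑ S, (T S).ncard := by
    rw [Set.ncard_iUnion_of_finite (fun S => Set.toFinite _) hTdisj, finsum_eq_sum_of_fintype]
  have hsumle : ∑ S, (T S).ncard ≤ (h3o5400_fix H D \ {x0}).ncard := by
    rw [← hsum]
    exact Set.ncard_le_ncard (Set.iUnion_subset hTsub) (Set.toFinite _)
  obtain ⟨S0⟩ : Nonempty (Sylow 5 H) := inferInstance
  have hsplit : ∑ S, (T S).ncard =
      (T S0).ncard + ∑ S ∈ Finset.univ.erase S0, (T S).ncard :=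
    (Finset.add_sum_erase _ _ (Finset.mem_univ S0)).symm
  have hrest : 10 ≤ ∑ S ∈ Finset.univ.erase S0, (T S).ncard := by
    have hc : (Finset.univ.erase S0).card = 5 := by
      rw [Finset.card_erase_of_mem (Finset.mem_univ _), Finset.card_univ,
        ← Nat.card_eq_fintype_card, h6]
    have h1 := Finset.card_nsmul_le_sum (Finset.univ.erase S0) (fun S => (T S).ncard) 2
      (fun S _ => hT2 S)
    rw [hc] at h1
    simpa using h1
  have hDcard : (h3o5400_fix H D \ {x0}).ncard + 1 = (h3o5400_fix H D).ncard :=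
    Set.ncard_sdiff_singleton_add_one hx0D
  -- so `|Fix D| ≥ |Fix P| + 10`
  have hkey : (h3o5400_fix H (up S0)).ncard + 10 ≤ (h3o5400_fix H D).ncard := by
    have h1 := hTcard S0
    omega
  -- a second fixed point of `P`
  have hP3 : 1 < (h3o5400_fix H (up S0)).ncard := by
    have h2 := hmod _ (hupP S0)
    omega
  obtain ⟨y, hy, hyne⟩ := Set.exists_ne_of_one_lt_ncard hP3 x0
  obtain ⟨g, rfl⟩ := QuotientGroup.mk_surjective y
  have hD'le := h3o5400_conj_le hG D (up S0) hD (hup_card S0) g hy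
  have hD'card := (h3o5400_conj_card D g).trans hD
  have hD'ne : D.map (MulAut.conj g).toMonoidHom ≠ D := by
    intro heq
    rw [h3o5400_conj_eq_iff] at heq
    apply hyne
    rw [hx0def, QuotientGroup.eq]
    simpa using heq
  have hsupeq := h3o5400_sup_eq (up S0) _ D (hup_card S0) hD'card hD hD'le (hDup S0) hD'ne
  have hfix : h3o5400_fix H (up S0) =
      h3o5400_fix H (D.map (MulAut.conj g).toMonoidHom) ∩ h3o5400_fix H D := by
    rw [← hsupeq, h3o5400_fix_sup]
  have hconj := h3o5400_fix_conj H D g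
  have hun := Set.ncard_union_add_ncard_inter
    (h3o5400_fix H (D.map (MulAut.conj g).toMonoidHom)) (h3o5400_fix H D)
  rw [← hfix, hconj] at hun
  have hle := Set.ncard_le_card
    (h3o5400_fix H (D.map (MulAut.conj g).toMonoidHom) ∪ h3o5400_fix H D)
  rw [hidx] at hle
  have h3 := hmod _ (hupP S0)
  omega

end o5400cnt

/-- a group of order `2 * (25 * j)`, `25 * j` odd, `5 ∤ j`, the only divisor of `j` that is
`1` mod `5` being `1`: exactly one Sylow `5`-subgroup. -/
theorem h3o5400_card_sylow_two_mul {H : Type*} [Group H] [Finite H] (j : ℕ) (hodd : Odd (25 * j))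
    (hj5 : ¬ 5 ∣ j) (hj : ∀ d, d ∣ j → d % 5 = 1 → d = 1) (h : Nat.card H = 2 * (25 * j)) :
    Nat.card (Sylow 5 H) = 1 := by
  haveI : Fact (Nat.Prime 5) := ⟨by norm_num⟩
  obtain ⟨M, hMn, hMcard, hMidx⟩ :=
    L150.exists_normal_of_two_mul_odd (G := H) (25 * j) hodd h
  haveI := hMn
  have hle : ∀ S : Sylow 5 H, (S : Subgroup H) ≤ M := by
    intro S x hx
    obtain ⟨n, hn⟩ := (S.2 ⟨x, hx⟩)
    have hxn : x ^ 5 ^ n = 1 := by
      have := congrArg Subtype.val hn
      simpa using this
    have hq : Nat.card (H ⧸ M) = 2 := by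
      rw [← Subgroup.index_eq_card]; exact hMidx
    have h1 : ((x : H) : H ⧸ M) ^ 2 = 1 := by
      rw [← hq]
      exact pow_card_eq_one'
    have h2 : ((x : H) : H ⧸ M) ^ 5 ^ n = 1 := by
      rw [← QuotientGroup.mk_pow, hxn]; rfl
    have hcop : Nat.Coprime (5 ^ n) 2 := by
      apply Nat.Coprime.pow_left
      decide
    have h3 : ((x : H) : H ⧸ M) = 1 := by
      have hd1 : orderOf ((x : H) : H ⧸ M) ∣ 5 ^ n := orderOf_dvd_of_pow_eq_one h2
      have hd2 : orderOf ((x : H) : H ⧸ M) ∣ 2 := orderOf_dvd_of_pow_eq_one h1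
      have := Nat.dvd_gcd hd1 hd2
      rw [hcop] at this
      exact orderOf_eq_one_iff.1 (Nat.dvd_one.1 this)
    exact (QuotientGroup.eq_one_iff x).1 h3
  have hMone : Nat.card (Sylow 5 M) = 1 := by
    obtain ⟨-, hd, hm⟩ := Cfsg.Agent.Lead.sylow_facts (G := M) (p := 5) (k := 2) (m := j)
      (by rw [hMcard]; norm_num) hj5
    exact hj _ hd hm
  haveI hsubM : Subsingleton (Sylow 5 M) := (Nat.card_eq_one_iff_unique.1 hMone).1
  haveI : Subsingleton (Sylow 5 H) := by
    constructor
    intro S S'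
    have h1 : S.subtype (hle S) = S'.subtype (hle S') := Subsingleton.elim _ _
    exact Sylow.subtype_injective h1
  exact Nat.card_unique

section o5400main

variable {G : Type*} [Group G] [Finite G] [IsSimpleGroup G]

theorem no_simple_5400 (h : Nat.card G = 5400) : False := by
  have hG : ∃ x y : G, x * y ≠ y * x :=
    Cfsg.Agent.Lead.nonabelian_of_not_prime (by rw [h]; norm_num)
  haveI : Fact (Nat.Prime 5) := ⟨by norm_num⟩
  have hcard : Nat.card G = 5 ^ 2 * 216 := by rw [h]; norm_num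
  obtain ⟨h1, h2, h3, h4, h5⟩ := basic hG (by norm_num) hcard (by norm_num)
  have hnp : ¬ Nat.card (Sylow 5 G) ≡ 1 [MOD 5 ^ 2] := by
    intro hmod
    have hmem : Nat.card (Sylow 5 G) ∈ Nat.divisors 216 :=
      Nat.mem_divisors.2 ⟨h1, by norm_num⟩
    simp only [Nat.divisors_ofNat] at hmem
    unfold Nat.ModEq at hmod
    norm_num at hmod
    generalize Nat.card (Sylow 5 G) = n at *
    simp only [Finset.mem_insert, Finset.mem_singleton] at hmem
    omega
  obtain ⟨P, R, hPR, hidx⟩ := Cfsg.Agent.S0985.result 5 2 hnp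
  have hP : Nat.card (P : Subgroup G) = 25 := by rw [(h5 P).1]; norm_num
  have hR : Nat.card (R : Subgroup G) = 25 := by rw [(h5 R).1]; norm_num
  set D : Subgroup G := (P : Subgroup G) ⊓ (R : Subgroup G) with hD
  have hDP : D ≤ (P : Subgroup G) := inf_le_left
  have hDR : D ≤ (R : Subgroup G) := inf_le_right
  have hsub : (R : Subgroup G).subgroupOf (P : Subgroup G) = D.subgroupOf (P : Subgroup G) := by
    rw [hD, Subgroup.inf_subgroupOf_left]
  rw [hsub] at hidx
  have hcD : Nat.card (D.subgroupOf (P : Subgroup G)) = Nat.card D := by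
    rw [Cfsg.Agent.Lead.card_subgroupOf_eq, inf_of_le_left hDP]
  have hmul := Subgroup.card_mul_index (D.subgroupOf (P : Subgroup G))
  rw [hcD, hP] at hmul
  have hidx1 : (D.subgroupOf (P : Subgroup G)).index ≠ 1 := by
    intro h1'
    rw [Subgroup.index_eq_one, Subgroup.subgroupOf_eq_top] at h1'
    have hle : (P : Subgroup G) ≤ (R : Subgroup G) := h1'.trans hDR
    exact hPR (Sylow.ext (P.is_maximal' R.isPGroup' hle)).symm
  have hidx0 : (D.subgroupOf (P : Subgroup G)).index ≠ 0 := Subgroup.index_ne_zero_of_finite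
  have hDcard : Nat.card D = 5 := by
    norm_num at hidx
    generalize (D.subgroupOf (P : Subgroup G)).index = i at *
    interval_cases i <;> omega
  -- `P` and `R` are abelian, hence normalize `D`
  have hPc : IsMulCommutative (P : Subgroup G) :=
    IsPGroup.isMulCommutative_of_card_eq_prime_sq (p := 5) (by rw [hP]; norm_num)
  have hRc : IsMulCommutative (R : Subgroup G) :=
    IsPGroup.isMulCommutative_of_card_eq_prime_sq (p := 5) (by rw [hR]; norm_num)
  have hnorm : ∀ (Q : Subgroup G), IsMulCommutative Q → D ≤ Q →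
      Q ≤ Subgroup.normalizer (D : Set G) := by
    intro Q hQc hDQ x hx
    rw [Subgroup.mem_normalizer_iff]
    intro d
    constructor
    · intro hd
      have hcomm : x * d = d * x := by
        have := hQc.is_comm.comm ⟨x, hx⟩ ⟨d, hDQ hd⟩
        exact congrArg Subtype.val this
      rw [hcomm, mul_inv_cancel_right]
      exact hd
    · intro hd
      have hdQ : x * d * x⁻¹ ∈ Q := hDQ hd
      have hdQ' : d ∈ Q := by
        have := Q.mul_mem (Q.mul_mem (Q.inv_mem hx) hdQ) hx
        simpa [mul_assoc] using this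
      have hcomm : x * d = d * x := by
        have := hQc.is_comm.comm ⟨x, hx⟩ ⟨d, hdQ'⟩
        exact congrArg Subtype.val this
      rw [hcomm, mul_inv_cancel_right] at hd
      exact hd
  have hPN : (P : Subgroup G) ≤ Subgroup.normalizer (D : Set G) := hnorm _ hPc hDP
  have hRN : (R : Subgroup G) ≤ Subgroup.normalizer (D : Set G) := hnorm _ hRc hDR
  obtain ⟨hn6, -⟩ := Cfsg.Agent.Lead.card_ge_of_two_sylow_le P R hPR _ hPN hRN
  have hDb : D ≠ ⊥ := by
    intro hb
    rw [hb, Subgroup.card_bot] at hDcard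
    omega
  have hDt : D ≠ ⊤ := by
    intro ht
    have hPt : (P : Subgroup G) = ⊤ := top_le_iff.1 (ht ▸ hDP)
    have : Nat.card D = Nat.card (P : Subgroup G) := by rw [ht, hPt]
    rw [hDcard, hP] at this
    omega
  have hNt := Cfsg.Agent.Lead.normalizer_ne_top_of_simple D hDb hDt
  have hfac := two_mul_card_dvd_factorial_index hG _ hNt
  rw [h] at hfac
  have hci := Subgroup.card_mul_index (Subgroup.normalizer (D : Set G))
  rw [h] at hci
  have hdvd : 25 ∣ Nat.card (Subgroup.normalizer (D : Set G)) := by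
    rw [← hP]
    exact Subgroup.card_dvd_of_le hPN
  obtain ⟨k, hk⟩ := hdvd
  -- Sylow data of `N(D)`
  have hk0 : k ≠ 0 := by
    rintro rfl
    have : 0 < Nat.card (Subgroup.normalizer (D : Set G)) := Nat.card_pos
    omega
  have hkdvd : k ∣ 216 := by
    rw [hk] at hci
    exact ⟨(Subgroup.normalizer (D : Set G)).index, by nlinarith⟩
  have hk5 : ¬ 5 ∣ k := by
    intro h5k
    have := h5k.trans hkdvd
    norm_num at this
  obtain ⟨-, hnk, hnmod⟩ := Cfsg.Agent.Lead.sylow_facts
    (G := Subgroup.normalizer (D : Set G)) (p := 5) (k := 2) (m := k) (by rw [hk]; norm_num) hk5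
  -- the index is at least 10
  have hidx10 : 10 ≤ (Subgroup.normalizer (D : Set G)).index := by
    by_contra hlt
    have hlt' : (Subgroup.normalizer (D : Set G)).index ≤ 9 := by omega
    generalize (Subgroup.normalizer (D : Set G)).index = i at *
    interval_cases i <;> revert hfac <;> decide
  have hmemk : k ∈ Nat.divisors 216 := Nat.mem_divisors.2 ⟨hkdvd, by norm_num⟩
  simp only [Nat.divisors_ofNat] at hmemk
  simp only [Finset.mem_insert, Finset.mem_singleton] at hmemk
  have hk21 : k ≤ 21 := by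
    rw [hk] at hci
    nlinarith
  have hnle : Nat.card (Sylow 5 (Subgroup.normalizer (D : Set G))) ≤ k :=
    Nat.le_of_dvd (Nat.pos_of_ne_zero hk0) hnk
  have hn : Nat.card (Sylow 5 (Subgroup.normalizer (D : Set G))) = 6 := by
    generalize Nat.card (Sylow 5 (Subgroup.normalizer (D : Set G))) = n at *
    have hn21 : n ≤ 21 := hnle.trans hk21
    interval_cases n <;> first | rfl | omega
  have hk3 : k = 6 ∨ k = 12 ∨ k = 18 := by
    rw [hn] at hnk
    omega
  rcases hk3 with rfl | rfl | rfl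
  · -- order 150
    have h150 := card_sylow_five_of_card_150 (H := Subgroup.normalizer (D : Set G))
      (by rw [hk])
    omega
  · exact h3o5400_count h D hDcard (by rw [hk]) hn
  · -- order 450
    have h450 := h3o5400_card_sylow_two_mul (H := Subgroup.normalizer (D : Set G)) 9 (by decide)
      (by norm_num) (by
        intro d hd hd5
        have hle : d ≤ 9 := Nat.le_of_dvd (by norm_num) hd
        interval_cases d <;> first | rfl | omega)
      (by rw [hk])
    omega

end o5400main

end Cfsg.Agent.Helper3.SmallOrd
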