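import Mathlib
import Cfsg.Agent.Lib.Helper22.PPrimeCore

set_option autoImplicit false

namespace Cfsg.Agent.Helper3.PG7920

open Subgroup

variable {H : Type*} [Group H]

/-- an element whose order is divisible by a prime has a power of that prime order -/
theorem exists_pow_orderOf_eq_prime [Finite H] {r : ℕ} (x : H) (hr : r ∣ orderOf x) :
    orderOf (x ^ (orderOf x / r)) = r :=
  orderOf_pow_orderOf_div (orderOf_pos x).ne' hr

/-- commuting elements of orders divisible by distinct primes give an element of order `r * s` -/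
theorem exists_orderOf_mul_of_commute [Finite H] {r s : ℕ} (hr : r.Prime) (hs : s.Prime) (hrs : r ≠ s)
    (x y : H) (hxy : x * y = y * x) (hx : r ∣ orderOf x) (hy : s ∣ orderOf y) :
    ∃ g : H, orderOf g = r * s := by
  refine ⟨x ^ (orderOf x / r) * y ^ (orderOf y / s), ?_⟩
  have h1 := exists_pow_orderOf_eq_prime x hx
  have h2 := exists_pow_orderOf_eq_prime y hy
  have hc : Commute (x ^ (orderOf x / r)) (y ^ (orderOf y / s)) :=
    Commute.pow_pow (show Commute x y from hxy) _ _
  rw [hc.orderOf_mul_eq_mul_orderOf_of_coprime, h1, h2]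
  rw [h1, h2]
  exact (Nat.coprime_primes hr hs).2 hrs

/-- a nontrivial element of a subgroup of prime power order has order divisible by the prime -/
theorem prime_dvd_orderOf_of_mem [Finite H] {r k : ℕ} (hr : r.Prime) (R : Subgroup H)
    (hR : Nat.card R = r ^ k) (x : H) (hx : x ∈ R) (hx1 : x ≠ 1) : r ∣ orderOf x := by
  have h1 : orderOf x ∣ r ^ k := by
    rw [← hR]
    have := orderOf_dvd_natCard (⟨x, hx⟩ : R)
    rwa [Subgroup.orderOf_mk] at this
  obtain ⟨i, -, hi⟩ := (Nat.dvd_prime_pow hr).1 h1
  rcases Nat.eq_zero_or_pos i with h0 | h0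
  · rw [h0, pow_zero, orderOf_eq_one_iff] at hi
    exact absurd hi hx1
  · rw [hi]
    exact dvd_pow_self r h0.ne'

end Cfsg.Agent.Helper3.PG7920
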