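import Mathlib
import Cfsg.Agent.Lib.Helper22.PPrimeCore
import Cfsg.Agent.Lib.Helper3.PG7920A

set_option autoImplicit false

namespace Cfsg.Agent.Helper3.PG7920

open Subgroup

variable {H : Type*} [Group H]

/-- a group acting freely on a finite type has order dividing the cardinality -/
theorem card_dvd_of_free {R X : Type*} [Group R] [MulAction R X] [Finite R] [Finite X]
    (h : ∀ b : X, MulAction.stabilizer R b = ⊥) : Nat.card R ∣ Nat.card X := by
  have e := MulAction.selfEquivOrbitsQuotientProd (G := R) (X := X) h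
  rw [Nat.card_congr e, Nat.card_prod]
  exact dvd_mul_left _ _

/-- conjugation action of a subgroup normalizing `S` on the nonidentity elements of `S` -/
@[instance_reducible] noncomputable def conjActOn (R S : Subgroup H) (hRS : R ≤ normalizer (S : Set H)) :
    MulAction R ↥((S : Set H) \ {1}) where
  smul x y := ⟨(x : H) * (y : H) * (x : H)⁻¹, by
    obtain ⟨hy1, hy2⟩ := y.2
    refine ⟨?_, ?_⟩
    · exact (Subgroup.mem_normalizer_iff.1 (hRS x.2) _).1 hy1
    · intro h
      rw [Set.mem_singleton_iff] at h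
      apply hy2
      rw [Set.mem_singleton_iff]
      have : (y : H) = (x : H)⁻¹ * ((x : H) * (y : H) * (x : H)⁻¹) * (x : H) := by group
      rw [this, h]; group⟩
  one_smul y := by
    apply Subtype.ext
    show ((1 : R) : H) * (y : H) * ((1 : R) : H)⁻¹ = y
    simp
  mul_smul a b y := by
    apply Subtype.ext
    show ((a * b : R) : H) * (y : H) * ((a * b : R) : H)⁻¹ = (a : H) * ((b : H) * (y : H) * (b : H)⁻¹) * (a : H)⁻¹
    simp only [Subgroup.coe_mul]
    group

theorem lemC [Finite H] (N : Subgroup H) [N.Normal] {r s : ℕ} (hr : r.Prime) (hs : s.Prime)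
    (hrs : r ≠ s) (k : ℕ) (hk : r ^ k ∣ Nat.card H) (hrN : ¬ r ∣ Nat.card N)
    (hsN : s ∣ Nat.card N)
    (hnd : ∀ c, 0 < c → s ^ c ∣ Nat.card N → ¬ r ^ k ∣ s ^ c - 1) :
    ∃ g : H, orderOf g = r * s := by
  classical
  haveI : Fact r.Prime := ⟨hr⟩
  haveI : Fact s.Prime := ⟨hs⟩
  by_contra hno
  obtain ⟨S⟩ : Nonempty (Sylow s N) := inferInstance
  set S' : Subgroup H := (S : Subgroup N).map N.subtype with hS'
  set c := (Nat.card N).factorization s with hc
  have hScard : Nat.card S' = s ^ c := by
    rw [hS', Subgroup.card_map_of_injective N.subtype_injective, S.card_eq_multiplicity]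
  have hNpos : Nat.card N ≠ 0 := Nat.card_pos.ne'
  have hc0 : 0 < c := by
    rw [hc]
    exact (hs.factorization_pos_of_dvd hNpos hsN)
  have hcd : s ^ c ∣ Nat.card N := Nat.ordProj_dvd _ _
  -- Frattini
  have hfr : normalizer (S' : Set H) ⊔ N = ⊤ := Sylow.normalizer_sup_eq_top S
  set M : Subgroup H := normalizer (S' : Set H) with hM
  have hdiv : Nat.card H ∣ Nat.card M * Nat.card N := by
    have := Cfsg.Agent.Helper22.card_sup_dvd_mul M N
    rw [hfr, Subgroup.card_top] at this
    exact this
  have hcop : Nat.Coprime (r ^ k) (Nat.card N) :=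
    Nat.Coprime.pow_left k ((Nat.Prime.coprime_iff_not_dvd hr).2 hrN)
  have hrM : r ^ k ∣ Nat.card M := hcop.dvd_of_dvd_mul_right (hk.trans hdiv)
  obtain ⟨R₀, hR₀⟩ := Sylow.exists_subgroup_card_pow_prime r hrM
  set R : Subgroup H := R₀.map M.subtype with hR
  have hRcard : Nat.card R = r ^ k := by
    rw [hR, Subgroup.card_map_of_injective M.subtype_injective, hR₀]
  have hRM : R ≤ M := by
    rw [hR]
    exact Subgroup.map_subtype_le R₀
  -- no commuting pairs
  have hfree : ∀ x ∈ R, ∀ y ∈ S', x * y = y * x → x = 1 ∨ y = 1 := by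
    intro x hx y hy hxy
    by_contra hcon
    push Not at hcon
    apply hno
    exact exists_orderOf_mul_of_commute hr hs hrs x y hxy
      (prime_dvd_orderOf_of_mem hr R hRcard x hx hcon.1)
      (prime_dvd_orderOf_of_mem hs S' hScard y hy hcon.2)
  let act := conjActOn R S' hRM
  have hstab : ∀ b : ↥((S' : Set H) \ {1}), MulAction.stabilizer R b = ⊥ := by
    intro b
    rw [eq_bot_iff]
    intro x hx
    rw [MulAction.mem_stabilizer_iff] at hx
    have hx' : (x : H) * (b : H) * (x : H)⁻¹ = (b : H) := congrArg Subtype.val hx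
    have hcomm : (x : H) * (b : H) = (b : H) * (x : H) := by
      calc (x : H) * (b : H) = (x : H) * (b : H) * (x : H)⁻¹ * (x : H) := by group
        _ = (b : H) * (x : H) := by rw [hx']
    rcases hfree x x.2 b b.2.1 hcomm with h | h
    · rw [Subgroup.mem_bot]
      exact Subtype.ext h
    · exact absurd h b.2.2
  have hdvd := card_dvd_of_free hstab
  have hX : Nat.card ↥((S' : Set H) \ {1}) = s ^ c - 1 := by
    rw [Nat.card_coe_set_eq, Set.ncard_diff_singleton_of_mem (S'.one_mem),
      ← Nat.card_coe_set_eq]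
    show Nat.card S' - 1 = _
    rw [hScard]
  rw [hX, hRcard] at hdvd
  exact hnd c hc0 hcd hdvd

end Cfsg.Agent.Helper3.PG7920
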