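import Mathlib
import Cfsg.Agent.Lib.Lead.SylowTools
import Cfsg.Agent.Lib.Lead.SimpleTools
import Cfsg.Agent.Lib.Helper3.PG7920B

set_option autoImplicit false

namespace Cfsg.Agent.Helper3.PG7920

open Subgroup

variable {H : Type*} [Group H]

/-- element orders lift from quotients -/
theorem lift_order [Finite H] (N : Subgroup H) [N.Normal] {m : ℕ} (q : H ⧸ N)
    (hq : orderOf q = m) : ∃ g : H, orderOf g = m := by
  obtain ⟨g, rfl⟩ := QuotientGroup.mk_surjective q
  have h1 : orderOf (QuotientGroup.mk g : H ⧸ N) ∣ orderOf g :=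
    orderOf_dvd_of_pow_eq_one (by rw [← QuotientGroup.mk_pow, pow_orderOf_eq_one]; rfl)
  rw [hq] at h1
  exact ⟨g ^ (orderOf g / m), exists_pow_orderOf_eq_prime g h1⟩

theorem relIndex_mul_card {K L : Subgroup H} (h : K ≤ L) :
    K.relIndex L * Nat.card K = Nat.card L := by
  have := Subgroup.relIndex_mul_relIndex (⊥ : Subgroup H) K L bot_le h
  rw [Subgroup.relIndex_bot_left, Subgroup.relIndex_bot_left] at this
  rw [← this, mul_comm]

/-- a prime dividing the order of the centralizer of a Sylow subgroup of prime order `p`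
gives an element of order `p * q` -/
theorem adj_of_dvd_card_centralizer [Finite H] {p q : ℕ} [hp : Fact p.Prime] (hq : q.Prime)
    (hpq : p ≠ q) (P : Subgroup H) (hP : Nat.card P = p)
    (hd : q ∣ Nat.card (centralizer (P : Set H))) : ∃ g : H, orderOf g = p * q := by
  haveI : Fact q.Prime := ⟨hq⟩
  obtain ⟨z, hz⟩ := exists_prime_orderOf_dvd_card' (G := P) p (by rw [hP])
  obtain ⟨x, hx⟩ := exists_prime_orderOf_dvd_card' (G := centralizer (P : Set H)) q hd
  have hz' : orderOf (z : H) = p := by rw [Subgroup.orderOf_coe]; exact hz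
  have hx' : orderOf (x : H) = q := by rw [Subgroup.orderOf_coe]; exact hx
  have hcomm : (z : H) * (x : H) = (x : H) * (z : H) :=
    (Subgroup.mem_centralizer_iff.1 x.2 (z : H) z.2)
  exact exists_orderOf_mul_of_commute hp.out hq hpq (z : H) (x : H) hcomm
    (by rw [hz']) (by rw [hx'])

end Cfsg.Agent.Helper3.PG7920
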