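import Mathlib
import Cfsg.Agent.Lib.Lead.SylowTools
import Cfsg.Agent.Lib.Lead.SimpleTools
import Cfsg.Agent.Lib.Helper3.PG7920C

set_option autoImplicit false

namespace Cfsg.Agent.Helper3.PG7920

open Subgroup

/-- adjacency in the prime graph -/
def Adj (G : Type*) [Group G] (r s : ℕ) : Prop := ∃ g : G, orderOf g = r * s

theorem Adj.symm {G : Type*} [Group G] {r s : ℕ} (h : Adj G r s) : Adj G s r := by
  obtain ⟨g, hg⟩ := h
  exact ⟨g, by rw [hg, mul_comm]⟩

variable {G : Type*} [Group G] [Finite G]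

theorem card_dvd (hG : Nat.card G = 7920) (N : Subgroup G) : Nat.card N ∣ 7920 :=
  hG ▸ Subgroup.card_subgroup_dvd_card N

theorem pow_two_le {c n : ℕ} (h : 2 ^ c ∣ n) (hn : n ∣ 7920) : c ≤ 4 := by
  by_contra hc
  push Not at hc
  have := ((pow_dvd_pow 2 hc).trans h).trans hn
  norm_num at this

theorem pow_three_le {c n : ℕ} (h : 3 ^ c ∣ n) (hn : n ∣ 7920) : c ≤ 2 := by
  by_contra hc
  push Not at hc
  have := ((pow_dvd_pow 3 hc).trans h).trans hn
  norm_num at this

theorem pow_five_le {c n : ℕ} (h : 5 ^ c ∣ n) (hn : n ∣ 7920) : c ≤ 1 := by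
  by_contra hc
  push Not at hc
  have := ((pow_dvd_pow 5 hc).trans h).trans hn
  norm_num at this

theorem pow_eleven_le {c n : ℕ} (h : 11 ^ c ∣ n) (hn : n ∣ 7920) : c ≤ 1 := by
  by_contra hc
  push Not at hc
  have := ((pow_dvd_pow 11 hc).trans h).trans hn
  norm_num at this

section edges

variable (hG : Nat.card G = 7920) (N : Subgroup G) [N.Normal]
include hG

theorem e11_2 (h11 : ¬ 11 ∣ Nat.card N) (h : 2 ∣ Nat.card N) : Adj G 2 11 := by
  refine Adj.symm (lemC N (by norm_num) (by norm_num) (by norm_num) 1 (by rw [hG]; norm_num) h11 h ?_)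
  intro c hc0 hcd
  have hc := pow_two_le hcd (card_dvd hG N)
  interval_cases c <;> norm_num

theorem e11_3 (h11 : ¬ 11 ∣ Nat.card N) (h : 3 ∣ Nat.card N) : Adj G 3 11 := by
  refine Adj.symm (lemC N (by norm_num) (by norm_num) (by norm_num) 1 (by rw [hG]; norm_num) h11 h ?_)
  intro c hc0 hcd
  have hc := pow_three_le hcd (card_dvd hG N)
  interval_cases c <;> norm_num

theorem e11_5 (h11 : ¬ 11 ∣ Nat.card N) (h : 5 ∣ Nat.card N) : Adj G 5 11 := by
  refine Adj.symm (lemC N (by norm_num) (by norm_num) (by norm_num) 1 (by rw [hG]; norm_num) h11 h ?_)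
  intro c hc0 hcd
  have hc := pow_five_le hcd (card_dvd hG N)
  interval_cases c <;> norm_num

theorem e3_2 (h3 : ¬ 3 ∣ Nat.card N) (h : 2 ∣ Nat.card N) : Adj G 2 3 := by
  refine Adj.symm (lemC N (by norm_num) (by norm_num) (by norm_num) 2 (by rw [hG]; norm_num) h3 h ?_)
  intro c hc0 hcd
  have hc := pow_two_le hcd (card_dvd hG N)
  interval_cases c <;> norm_num

theorem e3_5 (h3 : ¬ 3 ∣ Nat.card N) (h : 5 ∣ Nat.card N) : Adj G 3 5 := by
  refine (lemC N (by norm_num) (by norm_num) (by norm_num) 2 (by rw [hG]; norm_num) h3 h ?_)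
  intro c hc0 hcd
  have hc := pow_five_le hcd (card_dvd hG N)
  interval_cases c <;> norm_num

theorem e3_11 (h3 : ¬ 3 ∣ Nat.card N) (h : 11 ∣ Nat.card N) : Adj G 3 11 := by
  refine (lemC N (by norm_num) (by norm_num) (by norm_num) 2 (by rw [hG]; norm_num) h3 h ?_)
  intro c hc0 hcd
  have hc := pow_eleven_le hcd (card_dvd hG N)
  interval_cases c <;> norm_num

theorem e2_3 (h2 : ¬ 2 ∣ Nat.card N) (h : 3 ∣ Nat.card N) : Adj G 2 3 := by
  refine (lemC N (by norm_num) (by norm_num) (by norm_num) 4 (by rw [hG]; norm_num) h2 h ?_)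
  intro c hc0 hcd
  have hc := pow_three_le hcd (card_dvd hG N)
  interval_cases c <;> norm_num

theorem e2_5 (h2 : ¬ 2 ∣ Nat.card N) (h : 5 ∣ Nat.card N) : Adj G 2 5 := by
  refine (lemC N (by norm_num) (by norm_num) (by norm_num) 4 (by rw [hG]; norm_num) h2 h ?_)
  intro c hc0 hcd
  have hc := pow_five_le hcd (card_dvd hG N)
  interval_cases c <;> norm_num

theorem e2_11 (h2 : ¬ 2 ∣ Nat.card N) (h : 11 ∣ Nat.card N) : Adj G 2 11 := by
  refine (lemC N (by norm_num) (by norm_num) (by norm_num) 4 (by rw [hG]; norm_num) h2 h ?_)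
  intro c hc0 hcd
  have hc := pow_eleven_le hcd (card_dvd hG N)
  interval_cases c <;> norm_num

theorem e5_3 (h5 : ¬ 5 ∣ Nat.card N) (h : 3 ∣ Nat.card N) : Adj G 3 5 := by
  refine Adj.symm (lemC N (by norm_num) (by norm_num) (by norm_num) 1 (by rw [hG]; norm_num) h5 h ?_)
  intro c hc0 hcd
  have hc := pow_three_le hcd (card_dvd hG N)
  interval_cases c <;> norm_num

theorem e5_2 (h5 : ¬ 5 ∣ Nat.card N) (h : 2 ∣ Nat.card N) (h16 : ¬ 16 ∣ Nat.card N) :
    Adj G 2 5 := by
  refine Adj.symm (lemC N (by norm_num) (by norm_num) (by norm_num) 1 (by rw [hG]; norm_num) h5 h ?_)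
  intro c hc0 hcd
  have hc := pow_two_le hcd (card_dvd hG N)
  interval_cases c
  · norm_num
  · norm_num
  · norm_num
  · exact absurd hcd h16

end edges

end Cfsg.Agent.Helper3.PG7920
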