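import Mathlib
import Cfsg.Agent.Lib.Lead.SylowTools
import Cfsg.Agent.Lib.Lead.SimpleTools
import Cfsg.Agent.Lib.Helper3.PG7920D

set_option autoImplicit false

namespace Cfsg.Agent.Helper3.PG7920

open Subgroup

variable {G : Type*} [Group G] [Finite G]

instance h3pg_fact11 : Fact (Nat.Prime 11) := ⟨by norm_num⟩
instance h3pg_fact5 : Fact (Nat.Prime 5) := ⟨by norm_num⟩

theorem card_sylow11 (hG : Nat.card G = 7920) (P : Sylow 11 G) : Nat.card (P : Subgroup G) = 11 := by
  have := (Cfsg.Agent.Lead.sylow_facts (G := G) (p := 11) (k := 1) (m := 720) (by rw [hG]; norm_num) (by norm_num)).1 P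
  simpa using this

omit [Finite G] in
theorem centralizer_subgroupOf_normal (P : Subgroup G) :
    ((centralizer (P : Set G)).subgroupOf (normalizer (P : Set G))).Normal := by
  rw [← Subgroup.normalizerMonoidHom_ker]
  exact MonoidHom.normal_ker _

/-- the local lemma at a Sylow 11-subgroup whose normalizer has order divisible by 660 -/
theorem NP (hG : Nat.card G = 7920) (P : Sylow 11 G)
    (h : 660 ∣ Nat.card (normalizer ((P : Subgroup G) : Set G))) :
    Adj G 2 11 ∧ Adj G 3 11 ∧ (Adj G 5 11 ∨ Adj G 3 5) := by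
  have hP := card_sylow11 hG P
  set C := centralizer ((P : Subgroup G) : Set G) with hC
  set Nn := normalizer ((P : Subgroup G) : Set G) with hNn
  have hCN : C ≤ Nn := Subgroup.centralizer_le_normalizer _
  have ht : C.relIndex Nn ∣ 10 := Cfsg.Agent.Lead.relIndex_centralizer_normalizer_dvd P hP
  have hmul := relIndex_mul_card hCN
  obtain ⟨t', ht'⟩ := ht
  have ht0 : 0 < C.relIndex Nn := by
    rcases Nat.eq_zero_or_pos (C.relIndex Nn) with h0 | h0
    · rw [h0] at ht'; omega
    · exact h0
  have h66 : 66 ∣ Nat.card C := by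
    have h1 : C.relIndex Nn * (66 * t') ∣ C.relIndex Nn * Nat.card C := by
      rw [hmul]
      have : C.relIndex Nn * (66 * t') = 660 := by
        calc C.relIndex Nn * (66 * t') = 66 * (C.relIndex Nn * t') := by ring
          _ = 660 := by rw [← ht']
      rw [this]; exact h
    exact (dvd_mul_right 66 t').trans (Nat.dvd_of_mul_dvd_mul_left ht0 h1)
  have h2 : Adj G 11 2 := adj_of_dvd_card_centralizer (by norm_num) (by norm_num) (P : Subgroup G) hP
    ((by norm_num : 2 ∣ 66).trans h66)
  have h3 : Adj G 11 3 := adj_of_dvd_card_centralizer (by norm_num) (by norm_num) (P : Subgroup G) hP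
    ((by norm_num : 3 ∣ 66).trans h66)
  refine ⟨h2.symm, h3.symm, ?_⟩
  by_cases h5 : 5 ∣ Nat.card C
  · left
    exact Adj.symm (show Adj G 11 5 from adj_of_dvd_card_centralizer (by norm_num) (by norm_num) (P : Subgroup G) hP h5)
  · right
    haveI := centralizer_subgroupOf_normal (P : Subgroup G)
    have hcard : Nat.card (C.subgroupOf Nn) = Nat.card C := by
      rw [Cfsg.Agent.Lead.card_subgroupOf_eq, inf_of_le_left hCN]
    have key := lemC (H := Nn) (C.subgroupOf Nn) (r := 5) (s := 3) (by norm_num) (by norm_num)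
      (by norm_num) 1 ((by norm_num : 5 ^ 1 ∣ 660).trans h) (by rw [hcard]; exact h5)
      (by rw [hcard]; exact (by norm_num : 3 ∣ 66).trans h66) ?_
    · obtain ⟨g, hg⟩ := key
      refine Adj.symm ⟨(g : G), ?_⟩
      rw [Subgroup.orderOf_coe]; exact hg
    · intro c hc0 hcd
      rw [hcard] at hcd
      have hc := pow_three_le hcd (card_dvd hG C)
      interval_cases c <;> norm_num

/-- a normal subgroup of order 11 -/
theorem NS (hG : Nat.card G = 7920) (K : Subgroup G) [K.Normal] (hK : Nat.card K = 11) :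
    Adj G 2 11 ∧ Adj G 3 11 ∧ (Adj G 5 11 ∨ Adj G 3 5) := by
  have hKp : IsPGroup 11 K := IsPGroup.of_card (n := 1) (by rw [hK, pow_one])
  obtain ⟨P, hP⟩ := hKp.exists_le_sylow
  have hPc := card_sylow11 hG P
  have hKP : K = (P : Subgroup G) :=
    Subgroup.eq_of_le_of_card_ge hP (by rw [hK, hPc])
  apply NP hG P
  rw [← hKP, Subgroup.normalizer_eq_top, Subgroup.card_top, hG]
  norm_num

/-- a group of order 495 has an element of order 15 -/
theorem exists_order15 {Q : Type*} [Group Q] [Finite Q] (hQ : Nat.card Q = 495) :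
    ∃ g : Q, orderOf g = 5 * 3 := by
  obtain ⟨h1, h2, h3⟩ := Cfsg.Agent.Lead.sylow_facts (G := Q) (p := 5) (k := 1) (m := 99)
    (by rw [hQ]; norm_num) (by norm_num)
  obtain ⟨P⟩ : Nonempty (Sylow 5 Q) := inferInstance
  have hP : Nat.card (P : Subgroup Q) = 5 := by simpa using h1 P
  set C := centralizer ((P : Subgroup Q) : Set Q) with hC
  set Nn := normalizer ((P : Subgroup Q) : Set Q) with hNn
  have hCN : C ≤ Nn := Subgroup.centralizer_le_normalizer _
  have ht : C.relIndex Nn ∣ 4 := Cfsg.Agent.Lead.relIndex_centralizer_normalizer_dvd P hP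
  have hmul := relIndex_mul_card hCN
  have hnN := Cfsg.Agent.Lead.card_sylow_mul_card_normalizer P
  rw [hQ] at hnN
  have hNd : Nat.card Nn ∣ 495 := ⟨Nat.card (Sylow 5 Q), by rw [← hnN, mul_comm]⟩
  have ht2 : C.relIndex Nn ∣ 495 := (Dvd.intro _ hmul).trans hNd
  have ht1 : C.relIndex Nn = 1 := by
    have h := Nat.dvd_gcd ht ht2
    have hg : Nat.gcd 4 495 = 1 := by norm_num
    rw [hg] at h
    exact Nat.dvd_one.1 h
  rw [ht1, one_mul] at hmul
  have h3C : 3 ∣ Nat.card C := by
    rw [hmul]
    -- n_5 ∣ 99, n_5 % 5 = 1, n_5 * |Nn| = 495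
    obtain ⟨n5, hn5⟩ : ∃ n5, n5 = Nat.card (Sylow 5 Q) := ⟨_, rfl⟩
    rw [← hn5] at h2 h3 hnN
    have hle : n5 ≤ 99 := Nat.le_of_dvd (by norm_num) h2
    have hpos : 0 < n5 := by rw [hn5]; exact Nat.card_pos
    clear hn5
    have hnN' : n5 * Nat.card Nn = 495 := hnN
    clear hnN
    interval_cases n5 <;> omega
  exact adj_of_dvd_card_centralizer (by norm_num) (by norm_num) (P : Subgroup Q) hP h3C

/-- a normal subgroup of order 16 -/
theorem N16 (hG : Nat.card G = 7920) (K : Subgroup G) [K.Normal] (hK : Nat.card K = 16) :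
    Adj G 3 5 := by
  have hq : Nat.card (G ⧸ K) = 495 := by
    have := Subgroup.card_eq_card_quotient_mul_card_subgroup K
    rw [hG, hK] at this
    omega
  obtain ⟨q, hq⟩ := exists_order15 hq
  exact Adj.symm (lift_order K q hq)

end Cfsg.Agent.Helper3.PG7920
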