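import Mathlib
import Cfsg.Agent.Lib.Lead.SylowTools
import Cfsg.Agent.Lib.Lead.SimpleTools
import Cfsg.Agent.Lib.Helper3.PG7920E

set_option autoImplicit false

namespace Cfsg.Agent.Helper3.PG7920

open Subgroup

variable {G : Type*} [Group G] [Finite G]

/-- a separation of the prime graph: no edges between the two sides -/
structure Sep (G : Type*) [Group G] (s2 s3 s5 s11 : Prop) : Prop where
  h23 : Adj G 2 3 → (s2 ↔ s3)
  h25 : Adj G 2 5 → (s2 ↔ s5)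
  h2b : Adj G 2 11 → (s2 ↔ s11)
  h35 : Adj G 3 5 → (s3 ↔ s5)
  h3b : Adj G 3 11 → (s3 ↔ s11)
  h5b : Adj G 5 11 → (s5 ↔ s11)
  hne : ¬ ((s2 ↔ s3) ∧ (s3 ↔ s5) ∧ (s5 ↔ s11))

omit [Finite G] in
theorem Sep.of_NP {s2 s3 s5 s11 : Prop} (hS : Sep G s2 s3 s5 s11)
    (h : Adj G 2 11 ∧ Adj G 3 11 ∧ (Adj G 5 11 ∨ Adj G 3 5)) : False := by
  obtain ⟨h1, h2, h3⟩ := h
  have a1 := hS.h2b h1
  have a2 := hS.h3b h2
  have hne := hS.hne
  rcases h3 with h3 | h3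
  · have a3 := hS.h5b h3
    tauto
  · have a3 := hS.h35 h3
    tauto

/-- number facts about divisors of 7920 -/
theorem eq11 {n : ℕ} (hn : n ∣ 7920) (hn1 : n ≠ 1) (h2 : ¬ 2 ∣ n) (h3 : ¬ 3 ∣ n) (h5 : ¬ 5 ∣ n) :
    n = 11 := by
  have c2 : Nat.Coprime n 2 := (Nat.Coprime.symm ((Nat.Prime.coprime_iff_not_dvd (by norm_num)).2 h2))
  have c3 : Nat.Coprime n 3 := (Nat.Coprime.symm ((Nat.Prime.coprime_iff_not_dvd (by norm_num)).2 h3))
  have c5 : Nat.Coprime n 5 := (Nat.Coprime.symm ((Nat.Prime.coprime_iff_not_dvd (by norm_num)).2 h5))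
  have c : Nat.Coprime n (2 ^ 4 * 3 ^ 2 * 5) :=
    Nat.Coprime.mul_right (Nat.Coprime.mul_right (Nat.Coprime.pow_right 4 c2) (Nat.Coprime.pow_right 2 c3)) c5
  have h : n ∣ 11 := c.dvd_of_dvd_mul_left (by norm_num; exact hn)
  rcases (Nat.dvd_prime (by norm_num)).1 h with h | h
  · exact absurd h hn1
  · exact h

theorem eq16 {n : ℕ} (hn : n ∣ 7920) (h16 : 16 ∣ n) (h3 : ¬ 3 ∣ n) (h5 : ¬ 5 ∣ n) (h11 : ¬ 11 ∣ n) :
    n = 16 := by
  have c3 : Nat.Coprime n 3 := (Nat.Coprime.symm ((Nat.Prime.coprime_iff_not_dvd (by norm_num)).2 h3))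
  have c5 : Nat.Coprime n 5 := (Nat.Coprime.symm ((Nat.Prime.coprime_iff_not_dvd (by norm_num)).2 h5))
  have c11 : Nat.Coprime n 11 := (Nat.Coprime.symm ((Nat.Prime.coprime_iff_not_dvd (by norm_num)).2 h11))
  have c : Nat.Coprime n (3 ^ 2 * 5 * 11) :=
    Nat.Coprime.mul_right (Nat.Coprime.mul_right (Nat.Coprime.pow_right 2 c3) c5) c11
  have h : n ∣ 16 := c.dvd_of_dvd_mul_left (by norm_num; exact hn)
  exact Nat.dvd_antisymm h h16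

theorem eq176 {n : ℕ} (hn : n ∣ 7920) (h16 : 16 ∣ n) (h3 : ¬ 3 ∣ n) (h5 : ¬ 5 ∣ n) (h11 : 11 ∣ n) :
    n = 176 := by
  have c3 : Nat.Coprime n 3 := (Nat.Coprime.symm ((Nat.Prime.coprime_iff_not_dvd (by norm_num)).2 h3))
  have c5 : Nat.Coprime n 5 := (Nat.Coprime.symm ((Nat.Prime.coprime_iff_not_dvd (by norm_num)).2 h5))
  have c : Nat.Coprime n (3 ^ 2 * 5) :=
    (Nat.Coprime.mul_right (Nat.Coprime.pow_right 2 c3) c5)
  have h : n ∣ 176 := c.dvd_of_dvd_mul_left (by norm_num; exact hn)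
  have h' : 16 * 11 ∣ n := Nat.Coprime.mul_dvd_of_dvd_of_dvd (by norm_num) h16 h11
  exact Nat.dvd_antisymm h h'

theorem exists_prime_dvd {n : ℕ} (hn : n ∣ 7920) (hn1 : n ≠ 1) :
    2 ∣ n ∨ 3 ∣ n ∨ 5 ∣ n ∨ 11 ∣ n := by
  by_contra hcon
  push Not at hcon
  obtain ⟨h2, h3, h5, h11⟩ := hcon
  have := eq11 hn hn1 h2 h3 h5
  rw [this] at h11
  exact h11 dvd_rfl

end Cfsg.Agent.Helper3.PG7920
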