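import Mathlib
import Cfsg.Agent.Lib.Lead.SylowTools
import Cfsg.Agent.Lib.Lead.SimpleTools
import Cfsg.Agent.Lib.Helper3.PG7920F

set_option autoImplicit false

namespace Cfsg.Agent.Helper3.PG7920

open Subgroup

variable {G : Type*} [Group G] [Finite G]

/-- Sylow 11-subgroups of a subgroup whose order is divisible by 11 have order 11 -/
theorem sylow11_sub (hG : Nat.card G = 7920) (N : Subgroup G) (h11 : 11 ∣ Nat.card N) :
    ∃ m, Nat.card N = 11 * m ∧ m ∣ 720 ∧ (∀ P : Sylow 11 N, Nat.card (P : Subgroup N) = 11) ∧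
      Nat.card (Sylow 11 N) ∣ m ∧ Nat.card (Sylow 11 N) % 11 = 1 := by
  obtain ⟨m, hm⟩ := h11
  have hd := card_dvd hG N
  have hm720 : m ∣ 720 := by
    rw [hm] at hd
    exact Nat.dvd_of_mul_dvd_mul_left (by norm_num : 0 < 11) (by norm_num; exact hd)
  have hm11 : ¬ 11 ∣ m := fun h => by
    have := h.trans hm720
    norm_num at this
  obtain ⟨h1, h2, h3⟩ := Cfsg.Agent.Lead.sylow_facts (G := N) (p := 11) (k := 1) (m := m)
    (by rw [hm, pow_one]) hm11
  exact ⟨m, hm, hm720, fun P => by simpa using h1 P, h2, h3⟩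

/-- a normal subgroup with a unique Sylow 11-subgroup yields a normal subgroup of order 11 -/
theorem exists_normal11 (hG : Nat.card G = 7920) (N : Subgroup G) [N.Normal]
    (h11 : 11 ∣ Nat.card N) (h1 : Nat.card (Sylow 11 N) = 1) :
    ∃ K : Subgroup G, K.Normal ∧ Nat.card K = 11 := by
  obtain ⟨m, -, -, hP, -, -⟩ := sylow11_sub hG N h11
  haveI : Subsingleton (Sylow 11 N) := (Nat.card_eq_one_iff_unique.1 h1).1
  obtain ⟨P⟩ : Nonempty (Sylow 11 N) := inferInstance
  haveI : (P : Subgroup N).Characteristic := Sylow.characteristic_of_subsingleton P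
  refine ⟨(P : Subgroup N).map N.subtype, inferInstance, ?_⟩
  rw [Subgroup.card_map_of_injective N.subtype_injective, hP P]

theorem propF (hG : Nat.card G = 7920) {s2 s3 s5 s11 : Prop} (hS : Sep G s2 s3 s5 s11)
    (N : Subgroup G) [N.Normal] (hN : N ≠ ⊥) :
    2 ∣ Nat.card N ∧ 3 ∣ Nat.card N ∧ 11 ∣ Nat.card N := by
  have hd := card_dvd hG N
  have hn1 : Nat.card N ≠ 1 := fun h => hN (Subgroup.card_eq_one.1 h)
  have j1 : Nat.card N = 11 → False := fun h => hS.of_NP (NS hG N h)
  have j2 : Nat.card N = 16 → Adj G 3 5 := fun h => N16 hG N h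
  have j3 : Nat.card N = 176 → False := by
    intro h
    have h11 : 11 ∣ Nat.card N := by rw [h]; norm_num
    obtain ⟨m, hm, -, -, hd1, hd2⟩ := sylow11_sub hG N h11
    have hm16 : m = 16 := by omega
    rw [hm16] at hd1
    have hn : Nat.card (Sylow 11 N) = 1 := by
      obtain ⟨n', hn'⟩ : ∃ n', n' = Nat.card (Sylow 11 N) := ⟨_, rfl⟩
      rw [← hn'] at hd1 hd2 ⊢
      have hle : n' ≤ 16 := Nat.le_of_dvd (by norm_num) hd1
      have hpos : 0 < n' := by rw [hn']; exact Nat.card_pos
      clear hn'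
      interval_cases n' <;> omega
    obtain ⟨K, hK, hK11⟩ := exists_normal11 hG N h11 hn
    exact hS.of_NP (NS hG K hK11)
  have k0 := exists_prime_dvd hd hn1
  have hne := hS.hne
  by_contra hcon
  by_cases p11 : 11 ∣ Nat.card N
  · by_cases p3 : 3 ∣ Nat.card N
    · -- Case C
      have p2 : ¬ 2 ∣ Nat.card N := fun h => hcon ⟨h, p3, p11⟩
      have a1 := hS.h23 (e2_3 hG N p2 p3)
      have a2 := hS.h2b (e2_11 hG N p2 p11)
      by_cases p5 : 5 ∣ Nat.card N
      · have a3 := hS.h25 (e2_5 hG N p2 p5)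
        clear j1 j2 j3 k0 hd hn1 hcon hS
        tauto
      · have a3 := hS.h35 (e5_3 hG N p5 p3)
        clear j1 j2 j3 k0 hd hn1 hcon hS
        tauto
    · -- Case B
      have a1 := hS.h3b (e3_11 hG N p3 p11)
      by_cases p2 : 2 ∣ Nat.card N
      · have a2 := hS.h23 (e3_2 hG N p3 p2)
        by_cases p5 : 5 ∣ Nat.card N
        · have a3 := hS.h35 (e3_5 hG N p3 p5)
          clear j1 j2 j3 k0 hd hn1 hcon hS
          tauto
        · by_cases p16 : 16 ∣ Nat.card N
          · exact j3 (eq176 hd p16 p3 p5 p11)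
          · have a3 := hS.h25 (e5_2 hG N p5 p2 p16)
            clear j1 j2 j3 k0 hd hn1 hcon hS
            tauto
      · have a2 := hS.h2b (e2_11 hG N p2 p11)
        by_cases p5 : 5 ∣ Nat.card N
        · have a3 := hS.h35 (e3_5 hG N p3 p5)
          clear j1 j2 j3 k0 hd hn1 hcon hS
          tauto
        · exact j1 (eq11 hd hn1 p2 p3 p5)
  · -- Case A
    by_cases p3 : 3 ∣ Nat.card N
    · have a1 := hS.h3b (e11_3 hG N p11 p3)
      have a2 : s5 ↔ s11 := by
        by_cases p5 : 5 ∣ Nat.card N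
        · exact hS.h5b (e11_5 hG N p11 p5)
        · have := hS.h35 (e5_3 hG N p5 p3)
          clear j1 j2 j3 k0 hd hn1 hcon hS
          tauto
      by_cases p2 : 2 ∣ Nat.card N
      · have a3 := hS.h2b (e11_2 hG N p11 p2)
        clear j1 j2 j3 k0 hd hn1 hcon hS
        tauto
      · have a3 := hS.h23 (e2_3 hG N p2 p3)
        clear j1 j2 j3 k0 hd hn1 hcon hS
        tauto
    · by_cases p2 : 2 ∣ Nat.card N
      · have a1 := hS.h2b (e11_2 hG N p11 p2)
        have a2 := hS.h23 (e3_2 hG N p3 p2)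
        by_cases p5 : 5 ∣ Nat.card N
        · have a3 := hS.h5b (e11_5 hG N p11 p5)
          clear j1 j2 j3 k0 hd hn1 hcon hS
          tauto
        · by_cases p16 : 16 ∣ Nat.card N
          · have a3 := hS.h35 (j2 (eq16 hd p16 p3 p5 p11))
            clear j1 j2 j3 k0 hd hn1 hcon hS
            tauto
          · have a3 := hS.h25 (e5_2 hG N p5 p2 p16)
            clear j1 j2 j3 k0 hd hn1 hcon hS
            tauto
      · have p5 : 5 ∣ Nat.card N := by
          clear j1 j2 j3 hd hn1 hcon hS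
          tauto
        have a1 := hS.h5b (e11_5 hG N p11 p5)
        have a2 := hS.h35 (e3_5 hG N p3 p5)
        have a3 := hS.h25 (e2_5 hG N p2 p5)
        clear j1 j2 j3 k0 hd hn1 hcon hS
        tauto

end Cfsg.Agent.Helper3.PG7920
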