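import Mathlib
import Cfsg.Agent.Lib.Lead.SylowTools
import Cfsg.Agent.Lib.Lead.SimpleTools
import Cfsg.Agent.Lib.Helper12.MaxSubG
import Cfsg.Agent.Lib.Helper22.PPrimeCore
import Cfsg.Agent.Lib.Helper3.PG7920G
import Cfsg.Agent.S4700

set_option autoImplicit false

namespace Cfsg.Agent.Helper3.PG7920

open Subgroup
open scoped commutatorElement

variable {G : Type*} [Group G] [Finite G]

/-- possible numbers of Sylow 11-subgroups -/
theorem n11_cases {n' : ℕ} (h1 : n' ∣ 720) (h2 : n' % 11 = 1) :
    n' = 1 ∨ n' = 12 ∨ n' = 45 ∨ n' = 144 := by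
  obtain ⟨n, hn⟩ : ∃ n, n' = 1 + n * 11 := ⟨n' / 11, by omega⟩
  have hle : n' ≤ 720 := Nat.le_of_dvd (by norm_num) h1
  have hn65 : n ≤ 65 := by omega
  subst hn
  interval_cases n <;> omega

/-- the third alternative of the Brauer-Reynolds dichotomy is impossible for few Sylow subgroups -/
theorem no_hu {n h u : ℕ} (hn : n ≤ 4) (hh : 0 < h) (hu : 0 < u)
    (e : n * (u + 1) = h * u * 11 + u ^ 2 + u + h) : False := by
  have h1 : u ≤ h * u := Nat.le_mul_of_pos_left u hh
  nlinarith

theorem main (hG : Nat.card G = 7920) {s2 s3 s5 s11 : Prop} (hS : Sep G s2 s3 s5 s11)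
    (N₀ : Subgroup G) (hN₀ : N₀.Normal) (hb : N₀ ≠ ⊥) (ht : N₀ ≠ ⊤) : False := by
  classical
  -- a normal subgroup of minimal order
  have hex : ∃ k, ∃ K : Subgroup G, K.Normal ∧ K ≠ ⊥ ∧ Nat.card K = k := ⟨_, N₀, hN₀, hb, rfl⟩
  obtain ⟨L, hLn, hLb, hLcard⟩ := Nat.find_spec hex
  have hmin : ∀ K : Subgroup G, K.Normal → K ≠ ⊥ → Nat.card L ≤ Nat.card K := by
    intro K hK hKb
    rw [hLcard]
    exact Nat.find_min' hex ⟨K, hK, hKb, rfl⟩
  haveI := hLn
  have hLt : L ≠ ⊤ := by
    intro h
    have h1 := hmin N₀ hN₀ hb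
    rw [h, Subgroup.card_top] at h1
    exact ht (Subgroup.eq_top_of_le_card _ h1)
  obtain ⟨hL2, hL3, hL11⟩ := propF hG hS L hLb
  -- the 11'-cores are trivial
  have hOG : Cfsg.pPrimeCore 11 G = ⊥ := by
    by_contra hne
    haveI := Cfsg.Agent.Helper22.pPrimeCore_normal (G := G) 11
    have := (propF hG hS _ hne).2.2
    exact Cfsg.Agent.Helper22.not_dvd_card_pPrimeCore 11 (by norm_num) this
  have hOL : Cfsg.pPrimeCore 11 L = ⊥ := by
    have h1 := Cfsg.Agent.Helper22.pPrimeCore_subgroup_le 11 L
    rw [hOG, le_bot_iff] at h1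
    exact (Subgroup.map_eq_bot_iff_of_injective _ L.subtype_injective).1 h1
  -- Sylow data in L
  obtain ⟨m, hm, hm720, hPc, hn'm, hn'11⟩ := sylow11_sub hG L hL11
  obtain ⟨P⟩ : Nonempty (Sylow 11 L) := inferInstance
  have hP := hPc P
  -- L is perfect
  have hperf : commutator L = ⊤ := by
    set K' : Subgroup G := (commutator L).map L.subtype with hK'
    have hK'n : K'.Normal := inferInstance
    have hK'L : K' ≤ L := Subgroup.map_subtype_le _
    by_cases hK'b : K' = ⊥
    · exfalso
      have hcb : commutator L = ⊥ :=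
        (Subgroup.map_eq_bot_iff_of_injective _ L.subtype_injective).1 hK'b
      have hcomm : ∀ x y : L, x * y = y * x := by
        intro x y
        have : ⁅x, y⁆ ∈ commutator L :=
          Subgroup.commutator_mem_commutator (Subgroup.mem_top x) (Subgroup.mem_top y)
        rw [hcb, Subgroup.mem_bot] at this
        exact commutatorElement_eq_one_iff_mul_comm.1 this
      have hPn : (P : Subgroup L).Normal := by
        constructor
        intro x hx g
        have : g * x * g⁻¹ = x := by rw [hcomm g x, mul_inv_cancel_right]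
        rw [this]; exact hx
      haveI := Sylow.unique_of_normal P hPn
      have h1 : Nat.card (Sylow 11 L) = 1 := Nat.card_unique
      obtain ⟨K, hK, hK11⟩ := exists_normal11 hG L hL11 h1
      exact hS.of_NP (NS hG K hK11)
    · have h1 := hmin K' hK'n hK'b
      have h2 : K' = L := Subgroup.eq_of_le_of_card_ge hK'L h1
      have h3 : (commutator L).map L.subtype = (⊤ : Subgroup L).map L.subtype := by
        rw [← hK', h2, ← MonoidHom.range_eq_map, Subgroup.range_subtype]
      exact Subgroup.map_injective L.subtype_injective h3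
  -- number of Sylow 11-subgroups of L
  have hn'720 : Nat.card (Sylow 11 L) ∣ 720 := hn'm.trans hm720
  obtain ⟨n, hn⟩ : ∃ n, Nat.card (Sylow 11 L) = 1 + n * 11 :=
    ⟨Nat.card (Sylow 11 L) / 11, by omega⟩
  have hncases := n11_cases hn'720 hn'11
  -- the two surviving possibilities
  have hkey : Nat.card L = 660 ∨ n = 13 := by
    rcases Cfsg.Agent.S4700.result hperf 11 P hP n hn with h | h | h
    · left
      obtain ⟨F, _, _, hF, -, ⟨e⟩⟩ := h
      have h1 : Nat.card (L ⧸ Cfsg.pPrimeCore 11 L) =
          Nat.card (Matrix.ProjectiveSpecialLinearGroup (Fin 2) F) := Nat.card_congr e.toEquiv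
      have h2 := Subgroup.card_eq_card_quotient_mul_card_subgroup (Cfsg.pPrimeCore 11 L)
      rw [hOL, Subgroup.card_bot, mul_one] at h2
      have h3 := Cfsg.Agent.Helper12.MaxSub.two_mul_card_PSL2 (F := F) (by rw [hF]; decide)
      rw [hF] at h3
      rw [hOL] at h1
      omega
    · exfalso
      obtain ⟨k, F, _, _, -, hk, -⟩ := h
      have h10 : 2 ^ k = 10 := by omega
      have hk4 : k < 4 := by
        by_contra hc
        push Not at hc
        have := Nat.pow_le_pow_right (by norm_num : 0 < 2) hc
        omega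
      interval_cases k <;> omega
    · obtain ⟨h', u, hh, hu, e⟩ := h
      right
      rcases hncases with h1 | h1 | h1 | h1
      · exact (no_hu (n := n) (by omega) hh hu e).elim
      · exact (no_hu (n := n) (by omega) hh hu e).elim
      · exact (no_hu (n := n) (by omega) hh hu e).elim
      · omega
  rcases hkey with h660 | h13
  · -- |L| = 660: Frattini
    set P' : Subgroup G := (P : Subgroup L).map L.subtype with hP'
    have hP'c : Nat.card P' = 11 := by
      rw [hP', Subgroup.card_map_of_injective L.subtype_injective, hP]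
    have hfr : normalizer (P' : Set G) ⊔ L = ⊤ := Sylow.normalizer_sup_eq_top P
    set M := normalizer (P' : Set G) with hM
    have hdiv : Nat.card G ∣ Nat.card M * Nat.card L := by
      have := Cfsg.Agent.Helper22.card_sup_dvd_mul M L
      rw [hfr, Subgroup.card_top] at this
      exact this
    rw [hG, h660] at hdiv
    have h12 : 12 ∣ Nat.card M := by
      have : 660 * 12 ∣ 660 * Nat.card M := by rw [mul_comm 660 (Nat.card M)]; exact hdiv
      exact Nat.dvd_of_mul_dvd_mul_left (by norm_num) this
    have h11M : 11 ∣ Nat.card M := by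
      rw [← hP'c]
      exact Subgroup.card_dvd_of_le Subgroup.le_normalizer
    have h132 : 132 ∣ Nat.card M :=
      Nat.Coprime.mul_dvd_of_dvd_of_dvd (by norm_num : Nat.Coprime 12 11) h12 h11M
    -- P' is a Sylow subgroup of G
    have hP'p : IsPGroup 11 P' := IsPGroup.of_card (n := 1) (by rw [hP'c, pow_one])
    obtain ⟨Q, hQ⟩ := hP'p.exists_le_sylow
    have hQc := card_sylow11 hG Q
    have hPQ : P' = (Q : Subgroup G) := Subgroup.eq_of_le_of_card_ge hQ (by rw [hP'c, hQc])
    have hnM := Cfsg.Agent.Lead.card_sylow_mul_card_normalizer Q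
    rw [← hPQ, hG] at hnM
    obtain ⟨-, hQ2, hQ3⟩ := Cfsg.Agent.Lead.sylow_facts (G := G) (p := 11) (k := 1) (m := 720)
      (by rw [hG]; norm_num) (by norm_num)
    have h660M : 660 ∣ Nat.card M := by
      have hnM' : Nat.card (Sylow 11 G) * Nat.card M = 7920 := hnM
      rcases n11_cases hQ2 hQ3 with h | h | h | h <;> rw [h] at hnM' <;> omega
    have := NP hG Q (by rw [← hPQ]; exact h660M)
    exact hS.of_NP this
  · -- n' = 144: Burnside
    have hn144 : Nat.card (Sylow 11 L) = 144 := by omega
    have hm144 : m = 144 := by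
      rw [hn144] at hn'm
      obtain ⟨j, hj⟩ := hn'm
      obtain ⟨i, hi⟩ := hm720
      have hj5 : j ∣ 5 := ⟨i, by rw [hj, mul_assoc] at hi; omega⟩
      rcases (Nat.dvd_prime (by norm_num)).1 hj5 with h | h
      · omega
      · exfalso
        apply hLt
        apply Subgroup.eq_top_of_card_eq
        rw [hm, hG, hj, h]
    have hNc := Cfsg.Agent.Lead.card_sylow_mul_card_normalizer P
    rw [hn144, hm, hm144] at hNc
    have hNc' : Nat.card (normalizer ((P : Subgroup L) : Set L)) = 11 := by omega
    have hNP : normalizer ((P : Subgroup L) : Set L) = (P : Subgroup L) :=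
      (Subgroup.eq_of_le_of_card_ge Subgroup.le_normalizer (by rw [hNc', hP])).symm
    haveI : IsCyclic (P : Subgroup L) := isCyclic_of_prime_card hP
    have hPab : normalizer ((P : Subgroup L) : Set L) ≤ centralizer ((P : Subgroup L) : Set L) := by
      rw [hNP]
      intro x hx y hy
      have := (IsCyclic.commGroup (α := (P : Subgroup L))).mul_comm ⟨y, hy⟩ ⟨x, hx⟩
      exact congrArg Subtype.val this
    have hcompl := MonoidHom.ker_transferSylow_isComplement' P hPab
    have hcard := hcompl.card_mul
    rw [hP, hm, hm144] at hcard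
    have hK144 : Nat.card (MonoidHom.transferSylow P hPab).ker = 144 := by omega
    have hKle : (MonoidHom.transferSylow P hPab).ker ≤ Cfsg.pPrimeCore 11 L :=
      Cfsg.Agent.Helper22.le_pPrimeCore 11 _ inferInstance (by rw [hK144]; norm_num)
    rw [hOL, le_bot_iff] at hKle
    rw [hKle, Subgroup.card_bot] at hK144
    omega

end Cfsg.Agent.Helper3.PG7920
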