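import Mathlib
import Cfsg.Agent.Lib.Helper3.BisetYoshida

/-!
# The automorphism group of the characteristic biset as a right set (Park's group)

`AutR c` is the group of the permutations of `Om c` commuting with the right action; `incl` embeds
`T` in it through the left action; the maps of the fusion system are exactly the homomorphisms
induced by conjugation in `AutR c` (Park), when the biset is stable and contains the diagonal orbit.
-/

set_option autoImplicit false
set_option linter.style.haveILetI false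
set_option linter.unusedSectionVars false

namespace Cfsg.Agent.Helper3.Biset

open Cfsg Cfsg.FusionSystem Cfsg.Agent.Helper25

universe u

section AutR

variable {T : Type u} [Group T]

/-- The permutations of `Om c` commuting with the right action. -/
def AutR (c : Subgroup (T × T) → ℕ) : Subgroup (Equiv.Perm (Om c)) where
  carrier := {f | ∀ (b : T) (x : Om c), f (((1 : T), b) • x) = ((1 : T), b) • f x}
  one_mem' := fun _ _ => rfl
  mul_mem' := by
    intro f g hf hg b x
    show f (g (((1 : T), b) • x)) = ((1 : T), b) • f (g x)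
    rw [hg, hf]
  inv_mem' := by
    intro f hf b x
    show f⁻¹ (((1 : T), b) • x) = ((1 : T), b) • f⁻¹ x
    rw [Equiv.Perm.inv_eq_iff_eq, hf, Equiv.Perm.inv_def, Equiv.apply_symm_apply]

variable {c : Subgroup (T × T) → ℕ}

theorem AutR.comm (f : AutR c) (b : T) (x : Om c) :
    (f : Equiv.Perm (Om c)) (((1 : T), b) • x) = ((1 : T), b) • (f : Equiv.Perm (Om c)) x :=
  f.2 b x

instance AutR.instFinite [Finite T] : Finite (AutR c) := inferInstance

/-- `Om c` as a biset for `AutR c` on the left and `T` on the right. -/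
instance AutR.instMulAction : MulAction (AutR c × T) (Om c) where
  smul g x := (g.1 : Equiv.Perm (Om c)) (((1 : T), g.2) • x)
  one_smul x := by
    show ((1 : AutR c) : Equiv.Perm (Om c)) (((1 : T), (1 : T)) • x) = x
    rw [Prod.mk_one_one, one_smul]; rfl
  mul_smul g h x := by
    show ((g.1 * h.1 : AutR c) : Equiv.Perm (Om c)) (((1 : T), g.2 * h.2) • x) =
      (g.1 : Equiv.Perm (Om c)) (((1 : T), g.2) • ((h.1 : Equiv.Perm (Om c)) (((1 : T), h.2) • x)))
    rw [← AutR.comm, ← smul_right_mul]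
    rfl

theorem AutR.smul_def (f : AutR c) (b : T) (x : Om c) :
    ((f, b) : AutR c × T) • x = (f : Equiv.Perm (Om c)) (((1 : T), b) • x) := rfl

theorem AutR.one_smul_eq (b : T) (x : Om c) :
    (((1 : AutR c), b) : AutR c × T) • x = ((1 : T), b) • x := rfl

theorem AutR.smul_one_eq (f : AutR c) (x : Om c) :
    ((f, (1 : T)) : AutR c × T) • x = (f : Equiv.Perm (Om c)) x := by
  rw [AutR.smul_def, Prod.mk_one_one, one_smul]

/-- The embedding of `T` through the left action. -/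
def incl (c : Subgroup (T × T) → ℕ) : T →* AutR c where
  toFun a := ⟨MulAction.toPerm ((a, (1 : T)) : T × T), fun b x => by
    show ((a, (1 : T)) : T × T) • ((1 : T), b) • x = ((1 : T), b) • ((a, (1 : T)) : T × T) • x
    exact smul_comm_lr a b x⟩
  map_one' := by
    apply Subtype.ext
    ext x
    show ((1 : T), (1 : T)) • x = x
    rw [Prod.mk_one_one, one_smul]
  map_mul' a a' := by
    apply Subtype.ext
    ext x
    show ((a * a', (1 : T)) : T × T) • x = ((a, (1 : T)) : T × T) • ((a', (1 : T)) : T × T) • x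
    rw [smul_left_mul]

theorem incl_apply (a : T) (x : Om c) :
    ((incl c a : AutR c) : Equiv.Perm (Om c)) x = ((a, (1 : T)) : T × T) • x := rfl

theorem incl_smul (a b : T) (x : Om c) :
    ((incl c a, b) : AutR c × T) • x = ((a, b) : T × T) • x := by
  rw [AutR.smul_def, incl_apply, ← mul_smul, Prod.mk_mul_mk, mul_one, one_mul]

theorem rfree_AutR (hfree : RFree T T (Om c)) : RFree (AutR c) T (Om c) :=
  fun b y h => hfree b y h

end AutR

section Park

variable {T : Type u} [Group T] [Finite T] {F : FusionSystem (⊤ : Subgroup T)}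
  {c : Subgroup (T × T) → ℕ}

/-- **Park, forward direction.** A map of the system is induced by conjugation in `AutR c`. -/
theorem exists_autR_of_mem
    (hstab : ∀ E E' : Subgroup (T × T), FFConj F E E' → marks c E = marks c E')
    {Q : Subgroup T} {ψ : Q →* T} (hψ : ψ ∈ F.Hom Q) :
    ∃ f : AutR c, ∀ u : Q, f * incl c (u : T) = incl c (ψ u) * f := by
  set ι₁ : ↥Q × T →* T × T := Q.subtype.prodMap (MonoidHom.id T) with hι₁
  set ι₂ : ↥Q × T →* T × T := ψ.prodMap (MonoidHom.id T) with hι₂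
  have hmarks : ∀ H : Subgroup (↥Q × T), Nat.card (fix H (Pull ι₁ (Om c))) =
      Nat.card (fix H (Pull ι₂ (Om c))) := by
    intro H
    rw [card_fix_pull, card_fix_pull]
    refine hstab _ _ ⟨Q, ⊤, ψ, (⊤ : Subgroup T).subtype, hψ, subtype_mem F le_rfl, ?_, ?_⟩
    · rintro _ ⟨h, -, rfl⟩
      exact Subgroup.mem_prod.2 ⟨h.1.2, Subgroup.mem_top _⟩
    · ext x'
      rw [mem_ffimg]
      constructor
      · rintro ⟨h, hh, rfl⟩
        exact ⟨ι₁ h, ⟨h, hh, rfl⟩, h.1.2, Subgroup.mem_top _, rfl, rfl⟩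
      · rintro ⟨_, ⟨h, hh, rfl⟩, h₁, h₂, e₁, e₂⟩
        exact ⟨h, hh, Prod.ext e₁ e₂⟩
  obtain ⟨f, hf⟩ := exists_equiv_of_marks hmarks
  let f' : Equiv.Perm (Om c) := f
  have hf' : ∀ (u : Q) (b : T) (x : Om c), f' (((u : T), b) • x) =
      ((ψ u, b) : T × T) • f' x := fun u b x => hf (u, b) x
  have hf'mem : f' ∈ AutR c := by
    intro b x
    have := hf' 1 b x
    rwa [map_one] at this
  refine ⟨⟨f', hf'mem⟩, fun u => ?_⟩
  apply Subtype.ext
  ext x
  show f' (((u : T), (1 : T)) • x) = ((ψ u, (1 : T)) : T × T) • f' x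
  exact hf' u 1 x

/-- A point of the biset fixed by the diagonal. -/
theorem exists_diag_point
    (htop : ∀ D : Subgroup (T × T), Nat.card D = Nat.card T → c D = cTop F D) :
    ∃ x₀ : Om c, ∀ a : T, ((a, a) : T × T) • x₀ = x₀ := by
  set Δ : Subgroup (T × T) := graph ⊤ (⊤ : Subgroup T).subtype with hΔ
  have hΔT : Δ ∈ TopTD F := graph_mem_TopTD (subtype_mem F le_rfl)
  have hrep : crep Δ ∈ TopTD F := crep_mem_TopTD hΔT
  have hc1 : c (crep Δ) = 1 := by
    rw [htop _ hrep.2]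
    exact cTop_eq_one hrep (crep_crep Δ)
  obtain ⟨g₀, hg₀⟩ := crep_spec Δ
  have hpos : 0 < c (crep Δ) := by rw [hc1]; exact one_pos
  let i : Σ D : Subgroup (T × T), Fin (c D) := ⟨crep Δ, ⟨0, hpos⟩⟩
  refine ⟨(⟨i, ((g₀⁻¹ : T × T) : (T × T) ⧸ i.1)⟩ : Om c), fun a => ?_⟩
  refine (Om.smul_mk c _ i _).trans ?_
  have key : ((a, a) : T × T) • ((g₀⁻¹ : T × T) : (T × T) ⧸ i.1) = ((g₀⁻¹ : T × T) : (T × T) ⧸ i.1) := ?_
  · rw [key]
  show ((a, a) : T × T) • ((g₀⁻¹ : T × T) : (T × T) ⧸ crep Δ) = ((g₀⁻¹ : T × T) : (T × T) ⧸ crep Δ)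
  rw [MulAction.Quotient.smul_coe, QuotientGroup.eq, hg₀]
  refine ⟨(a⁻¹, a⁻¹), ?_, ?_⟩
  · rw [hΔ, SetLike.mem_coe, mem_graph]
    exact ⟨Subgroup.mem_top _, rfl⟩
  · show g₀ * (a⁻¹, a⁻¹) * g₀⁻¹ = (((a, a) : T × T) • g₀⁻¹)⁻¹ * g₀⁻¹
    rw [smul_eq_mul, mul_inv_rev, inv_inv]
    rfl

/-- **Park, converse direction.** A homomorphism induced by conjugation in `AutR c` is a map of the
system. -/
theorem mem_of_autR (hc : ∀ D, c D ≠ 0 → D ∈ TD F) {x₀ : Om c}
    (hx₀ : ∀ a : T, ((a, a) : T × T) • x₀ = x₀) {P : Subgroup T} {φ : P →* T} (f : AutR c)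
    (hf : ∀ u : P, f * incl c (u : T) = incl c (φ u) * f) : φ ∈ F.Hom P := by
  obtain ⟨R, ρ, hρ, hst⟩ := stabilizer_mem_TD hc ((f : Equiv.Perm (Om c)) x₀)
  have key : ∀ u : P, ∃ h : φ u ∈ R, ρ ⟨φ u, h⟩ = u := by
    intro u
    have h1 : ((φ u, (u : T)) : T × T) • (f : Equiv.Perm (Om c)) x₀ = (f : Equiv.Perm (Om c)) x₀ := by
      have e : ((φ u, (u : T)) : T × T) = ((φ u, (1 : T)) : T × T) * ((1 : T), (u : T)) := by
        rw [Prod.mk_mul_mk, mul_one, one_mul]
      rw [e, mul_smul, ← AutR.comm, ← incl_apply]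
      have h2 := congrArg (fun g : AutR c => (g : Equiv.Perm (Om c)) (((1 : T), (u : T)) • x₀)) (hf u)
      simp only [Subgroup.coe_mul, Equiv.Perm.mul_apply] at h2
      rw [← h2, incl_apply, ← mul_smul, Prod.mk_mul_mk, mul_one, one_mul, hx₀]
    rw [← MulAction.mem_stabilizer_iff, hst, mem_graph] at h1
    exact h1
  have hle : φ.range ≤ R := by
    rintro _ ⟨u, rfl⟩
    exact (key u).1
  have hρ' := restrict_mem F hle hρ
  have hrange : (ρ.comp (Subgroup.inclusion hle)).range = P := by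
    ext y
    constructor
    · rintro ⟨⟨_, u, rfl⟩, rfl⟩
      show ρ ⟨φ u, _⟩ ∈ P
      rw [(key u).2]
      exact u.2
    · intro hy
      refine ⟨⟨φ ⟨y, hy⟩, ⟨y, hy⟩, rfl⟩, ?_⟩
      show ρ ⟨φ ⟨y, hy⟩, _⟩ = y
      exact (key ⟨y, hy⟩).2
  obtain ⟨ψ, hψ, hinv, -⟩ := exists_inv F hρ' hrange
  have : ψ = φ := by
    ext u
    have h1 := hinv ⟨φ u, ⟨u, rfl⟩⟩ (by
      show ρ ⟨φ u, _⟩ ∈ P
      rw [(key u).2]; exact u.2)
    have h2 : (⟨(ρ.comp (Subgroup.inclusion hle)) ⟨φ u, ⟨u, rfl⟩⟩, by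
        show ρ ⟨φ u, _⟩ ∈ P
        rw [(key u).2]; exact u.2⟩ : P) = u := Subtype.ext (key u).2
    rw [h2] at h1
    exact h1
  rw [← this]
  exact hψ

end Park

end Cfsg.Agent.Helper3.Biset
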