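import Mathlib
import Cfsg.Agent.Lib.Helper3.PPowPark1
import Cfsg.Agent.Lib.Helper10.PPowCOC

/-!
# The transfer of Park's group
-/

set_option autoImplicit false
set_option linter.style.haveILetI false
set_option linter.unusedSectionVars false

namespace Cfsg.Agent.Helper3.Biset

open Cfsg Cfsg.FusionSystem Cfsg.Agent.Helper25 Cfsg.Agent.Helper3.Cocycle

universe u


section Transfer

variable {T : Type u} [Group T] [Finite T] {p : ℕ} [Fact p.Prime]
  {F : FusionSystem (⊤ : Subgroup T)} {c : Subgroup (T × T) → ℕ} {C : Type*} [CommGroup C]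

/-- The transfer of `AutR c` followed by `χ`. -/
noncomputable def VV (hc : ∀ D, c D ≠ 0 → D ∈ TD F) (χ : T →* C) : AutR c →* C :=
  (Abelianization.lift χ).comp (transfer (AutR c) T (Om c) (rfree_AutR (rfree_Om hc)))

theorem VV_incl (hc : ∀ D, c D ≠ 0 → D ∈ TD F) (χ : T →* C)
    (hχ : ∀ (P : Subgroup T) (φ : P →* T), φ ∈ F.Hom P → ∀ x : P, χ (φ x) = χ (x : T)) (a : T) :
    VV hc χ (incl c a) = (χ a)⁻¹ ^ Nat.card (RQ T T (Om c)) := by
  have h1 : transfer T T (Om c) (rfree_Om hc) a =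
      transfer (AutR c) T (Om c) (rfree_AutR (rfree_Om hc)) (incl c a) :=
    transfer_comp (rfree_AutR (rfree_Om hc)) (rfree_Om hc) (incl c) (Equiv.refl (Om c))
      (fun a' b y' => (incl_smul a' b y').symm) a
  show Abelianization.lift χ (transfer (AutR c) T (Om c) (rfree_AutR (rfree_Om hc)) (incl c a)) = _
  rw [← h1]
  exact lift_transfer_eq_pow hc χ hχ a

/-- The structure of the biset at a right orbit, for Park's group. -/
theorem point_spec_AutR (hc : ∀ D, c D ≠ 0 → D ∈ TD F) (z : RQ (AutR c) T (Om c)) :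
    ∃ (P : Subgroup T) (φ : P →* T), φ ∈ F.Hom P ∧
      (∀ a b : T, ((a, b) : T × T) • z.out = z.out ↔ ∃ h : a ∈ P, φ ⟨a, h⟩ = b) ∧
      (∀ a : T, incl c a • z = z → a ∈ P) ∧
      ∀ (a : T) (h : a ∈ P), incl c a • z = z → dd (incl c a) z = (φ ⟨a, h⟩)⁻¹ := by
  obtain ⟨P, φ, hφ, hst⟩ := stabilizer_mem_TD hc z.out
  have key : ∀ a b : T, ((a, b) : T × T) • z.out = z.out ↔ ∃ h : a ∈ P, φ ⟨a, h⟩ = b := by
    intro a b
    rw [← MulAction.mem_stabilizer_iff, hst, mem_graph]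
  have hfree := rfree_AutR (rfree_Om hc)
  refine ⟨P, φ, hφ, key, fun a h => ?_, fun a h hz => ?_⟩
  · have h1 := smul_out_of_smul_eq h
    rw [incl_smul] at h1
    exact ((key a _).1 h1).1
  · have h1 := smul_out_of_smul_eq hz
    rw [incl_smul] at h1
    obtain ⟨_, h2⟩ := (key a _).1 h1
    rw [h2, inv_inv]

/-- **Centralizers of deep subgroups lie in the kernel of the transfer.** -/
theorem VV_eq_one_of_commute (hT : IsPGroup p T) (hc : ∀ D, c D ≠ 0 → D ∈ TD F) (χ : T →* C)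
    (hC : ∀ x : C, x ^ p = 1)
    (hχ : ∀ (P : Subgroup T) (φ : P →* T), φ ∈ F.Hom P → ∀ x : P, χ (φ x) = χ (x : T))
    {Q : Subgroup T} (hQ : ∀ x ∈ Q, χ x = 1)
    (hdeep : ∀ ρ : Q →* T, ρ ∈ F.Hom Q → ∀ d : T, (∀ x : Q, d * ρ x = ρ x * d) → χ d = 1)
    (f : AutR c) (hf : ∀ x : Q, f * incl c (x : T) = incl c (x : T) * f) : VV hc χ f = 1 := by
  classical
  haveI : Fintype (RQ (AutR c) T (Om c)) := Fintype.ofFinite _
  have hfree := rfree_AutR (rfree_Om hc)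
  show Abelianization.lift χ (transfer (AutR c) T (Om c) hfree f) = 1
  rw [lift_transfer_eq_prod hfree χ f]
  have hQp : IsPGroup p ↥(Q.map (incl c)) := (hT.to_subgroup Q).map (incl c)
  have hpow : ∀ (k : ℕ) (x : Q), f ^ k * incl c (x : T) = incl c (x : T) * f ^ k := by
    intro k x
    induction k with
    | zero => simp
    | succ k ih => rw [pow_succ, mul_assoc, hf x, ← mul_assoc, ih, mul_assoc]
  refine Cfsg.Agent.Helper3.PPow.prod_eq_one_of_commute hC (isCocycle_dd hfree χ) f (Q.map (incl c)) hQp ?_ ?_ ?_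
  · rintro _ ⟨x, hx, rfl⟩
    exact (hf ⟨x, hx⟩).symm
  · rintro _ ⟨a, ha, rfl⟩ z hz
    obtain ⟨P, φ, hφ, -, hP, hdd⟩ := point_spec_AutR hc z
    have haP := hP a hz
    show χ (dd (incl c a) z) = 1
    rw [hdd a haP hz, map_inv, hχ P φ hφ ⟨a, haP⟩, hQ a ha, inv_one]
  · intro z hz k hk
    obtain ⟨P, φ, hφ, key, hP, -⟩ := point_spec_AutR hc z
    have hQP : Q ≤ P := fun a ha => hP a (hz _ ⟨a, ha, rfl⟩)
    set g := f ^ k with hg
    set d := dd g z with hd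
    show χ d = 1
    have hfix : (g : Equiv.Perm (Om c)) (((1 : T), d⁻¹) • z.out) = z.out :=
      smul_out_of_smul_eq hk
    refine hdeep (φ.comp (Subgroup.inclusion hQP)) (restrict_mem F hQP hφ) d fun u => ?_
    have hu : (((u : T), φ ⟨u, hQP u.2⟩) : T × T) • z.out = z.out := (key _ _).2 ⟨hQP u.2, rfl⟩
    have h1 : (((u : T), d⁻¹ * φ ⟨u, hQP u.2⟩ * d) : T × T) • z.out = z.out := by
      have e1 : (g : Equiv.Perm (Om c)) (((1 : T), d⁻¹) • ((((u : T), φ ⟨u, hQP u.2⟩) : T × T) • z.out)) =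
          z.out := by rw [hu, hfix]
      have e2 : (((1 : T), d⁻¹) : T × T) * ((u : T), φ ⟨u, hQP u.2⟩) =
          ((u : T), (1 : T)) * (((1 : T), d⁻¹ * φ ⟨u, hQP u.2⟩ * d) * ((1 : T), d⁻¹)) := by
        simp only [Prod.mk_mul_mk, one_mul, mul_one, mul_assoc, mul_inv_cancel]
      rw [← mul_smul, e2, mul_smul, ← incl_apply, mul_smul] at e1
      have e3 := congrArg (fun h : AutR c => (h : Equiv.Perm (Om c))
        (((1 : T), d⁻¹ * φ ⟨u, hQP u.2⟩ * d) • ((1 : T), d⁻¹) • z.out)) (hpow k u)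
      simp only [Subgroup.coe_mul, Equiv.Perm.mul_apply] at e3
      rw [e3, AutR.comm, hfix, incl_apply, ← mul_smul, Prod.mk_mul_mk, mul_one, one_mul] at e1
      exact e1
    obtain ⟨_, h2⟩ := (key _ _).1 h1
    have h3 : φ ⟨u, hQP u.2⟩ = d⁻¹ * φ ⟨u, hQP u.2⟩ * d := h2
    show d * φ ⟨u, hQP u.2⟩ = φ ⟨u, hQP u.2⟩ * d
    conv_lhs => rw [h3]
    group

theorem incl_injective (hc : ∀ D, c D ≠ 0 → D ∈ TD F) (x₀ : Om c) :
    Function.Injective (incl c) := by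
  rw [injective_iff_map_eq_one]
  intro a ha
  obtain ⟨P, φ, hφ, hst⟩ := stabilizer_mem_TD hc x₀
  have h1 : ((a, (1 : T)) : T × T) • x₀ = x₀ := by
    rw [← incl_apply, ha]; rfl
  rw [← MulAction.mem_stabilizer_iff, hst, mem_graph] at h1
  obtain ⟨h, h2⟩ := h1
  have h3 : (⟨a, h⟩ : P) = 1 := F.injective_of_mem hφ (by rw [h2, map_one])
  exact congrArg Subtype.val h3

/-- **Park's group and its transfer**, for a saturated fusion system on the top subgroup. -/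
theorem exists_park_top (hT : IsPGroup p T) (hF : F.IsSaturated p) (χ : T →* C)
    (hC : ∀ x : C, x ^ p = 1)
    (hχ : ∀ (P : Subgroup T) (φ : P →* T), φ ∈ F.Hom P → ∀ x : P, χ (φ x) = χ (x : T)) :
    ∃ (𝒢 : Type u) (_ : Group 𝒢) (ι : T →* 𝒢) (V : 𝒢 →* C) (n : ℕ), ¬ p ∣ n ∧
      Function.Injective ι ∧
      (∀ (P : Subgroup T) (φ : P →* T), φ ∈ F.Hom P ↔ ∃ f : 𝒢, ∀ u : P, f * ι (u : T) = ι (φ u) * f) ∧
      (∀ a : T, V (ι a) = (χ a)⁻¹ ^ n) ∧
      (∀ Q : Subgroup T, (∀ x ∈ Q, χ x = 1) →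
        (∀ ρ : Q →* T, ρ ∈ F.Hom Q → ∀ d : T, (∀ x : Q, d * ρ x = ρ x * d) → χ d = 1) →
        ∀ f : 𝒢, (∀ x : Q, f * ι (x : T) = ι (x : T) * f) → V f = 1) := by
  obtain ⟨c, hc1, hc2, hc3⟩ := exists_char hT hF
  have hc : ∀ D, c D ≠ 0 → D ∈ TD F := hc1
  have hstab : ∀ E E' : Subgroup (T × T), FFConj F E E' → marks c E = marks c E' :=
    fun E E' hEE => hc3 E E' hEE (Nat.zero_le _)
  have htop : ∀ D : Subgroup (T × T), Nat.card D = Nat.card T → c D = cTop F D :=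
    fun D hD => hc2 D hD.ge
  have hndvd := not_dvd_card_RQ hT hF hc htop
  obtain ⟨x₀, hx₀⟩ := exists_diag_point (F := F) htop
  refine ⟨AutR c, inferInstance, incl c, VV hc χ, Nat.card (RQ T T (Om c)), hndvd,
    incl_injective hc x₀, fun P φ => ⟨fun hφ => exists_autR_of_mem hstab hφ,
      fun ⟨f, hf⟩ => mem_of_autR hc hx₀ f hf⟩, VV_incl hc χ hχ, fun Q hQ hdeep f hf => ?_⟩
  exact VV_eq_one_of_commute hT hc χ hC hχ hQ hdeep f hf

end Transfer

end Cfsg.Agent.Helper3.Biset
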