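import Mathlib
import Cfsg.Agent.Lib.Helper3.PPowPark2
import Cfsg.Agent.Lib.Helper3.PPowDefs
import Cfsg.Agent.Lib.Helper3.BisetTransport
import Cfsg.Agent.Lib.Helper10.PPowFOC

/-!
# Park's group and its transfer for a saturated fusion system on `S ≤ Ω`
-/

set_option autoImplicit false
set_option linter.style.haveILetI false
set_option linter.unusedSectionVars false

namespace Cfsg.Agent.Helper3.PPow

open Cfsg Cfsg.FusionSystem Cfsg.Agent.Helper25 Cfsg.Agent.Helper3.Biset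

universe u


/-- A normal subgroup of index `p` is the kernel of a surjective homomorphism onto `C_p`. -/
theorem exists_char_of_index (p : ℕ) [Fact p.Prime] {G : Type*} [Group G] (N : Subgroup G)
    [N.Normal] (h : N.index = p) :
    ∃ χ : G →* Multiplicative (ZMod p), Function.Surjective χ ∧ ∀ g, χ g = 1 ↔ g ∈ N := by
  have h1 : Nat.card (G ⧸ N) = p := by rw [← Subgroup.index_eq_card]; exact h
  have h2 : Nat.card (Multiplicative (ZMod p)) = p := by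
    rw [Nat.card_eq_fintype_card, Fintype.card_multiplicative, ZMod.card]
  let e : G ⧸ N ≃* Multiplicative (ZMod p) := mulEquivOfPrimeCardEq h1 h2
  refine ⟨e.toMonoidHom.comp (QuotientGroup.mk' N), ?_, fun g => ?_⟩
  · exact e.surjective.comp (QuotientGroup.mk'_surjective N)
  · show e (QuotientGroup.mk' N g) = 1 ↔ g ∈ N
    rw [MulEquiv.map_eq_one_iff]
    exact QuotientGroup.eq_one_iff g

theorem pow_eq_one_iff_of_not_dvd {C : Type*} [Group C] {p n : ℕ} [Fact p.Prime]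
    (hC : ∀ x : C, x ^ p = 1) (hn : ¬ p ∣ n) (y : C) : y ^ n = 1 ↔ y = 1 := by
  constructor
  · intro h
    have h1 := orderOf_dvd_of_pow_eq_one h
    have h2 := orderOf_dvd_of_pow_eq_one (hC y)
    rcases (Nat.dvd_prime (Fact.out : p.Prime)).1 h2 with h3 | h3
    · exact orderOf_eq_one_iff.1 h3
    · rw [h3] at h1; exact absurd h1 hn
  · rintro rfl; exact one_pow n

/-- **Park's group and its transfer** for a normal subgroup `M` of index `p` containing the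
hyperfocal subgroup. -/
theorem park_exists {Ω : Type u} [Group Ω] {S : Subgroup Ω} [Finite S] (p : ℕ) [Fact p.Prime]
    (hS : IsPGroup p S) (F : FusionSystem S) (hF : F.IsSaturated p) (M : Subgroup Ω) (hMS : M ≤ S)
    (hMn : (M.subgroupOf S).Normal) (hidx : (M.subgroupOf S).index = p)
    (hyp : F.hyperfocalSubgroup p ≤ M) :
    ∃ (𝒢 : Type u) (_ : Group 𝒢) (ι : S →* 𝒢) (V : 𝒢 →* Multiplicative (ZMod p)),
      Park p F M ι V := by
  have hpp : p.Prime := Fact.out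
  obtain ⟨χ, hχsurj, hχker⟩ := exists_char_of_index p (M.subgroupOf S) hidx
  have hχM : ∀ g : S, χ g = 1 ↔ (g : Ω) ∈ M := fun g => (hχker g).trans Subgroup.mem_subgroupOf
  have hCcard : Nat.card (Multiplicative (ZMod p)) = p := by
    rw [Nat.card_eq_fintype_card, Fintype.card_multiplicative, ZMod.card]
  have hC : ∀ y : Multiplicative (ZMod p), y ^ p = 1 := by
    intro y
    have := pow_card_eq_one' (x := y)
    rwa [hCcard] at this
  have hcomm : ∀ a b : Ω, a ∈ S → b ∈ S → a * b * a⁻¹ * b⁻¹ ∈ M := by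
    intro a b ha hb
    have h1 : χ ((⟨a, ha⟩ : S) * ⟨b, hb⟩ * (⟨a, ha⟩ : S)⁻¹ * (⟨b, hb⟩ : S)⁻¹) = 1 := by
      rw [map_mul, map_mul, map_mul, map_inv, map_inv, mul_comm (χ ⟨a, ha⟩), mul_assoc,
        mul_assoc, mul_inv_cancel_left, mul_inv_cancel]
    exact (hχM _).1 h1
  have hfoc := focal_le_of_hyp_le p hS F hF hcomm hyp
  obtain ⟨E₀, hE₀⟩ := exists_topCopy F
  have hE₀sat := hE₀.isSaturated hS hF
  have hχ₀ : ∀ (P' : Subgroup ↥S) (φ' : P' →* ↥S), φ' ∈ E₀.Hom P' →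
      ∀ x : P', χ (φ' x) = χ (x : ↥S) := by
    intro P' φ' hφ' x
    obtain ⟨φ, hφ, hφeq⟩ := hE₀.exists_of_mem hφ'
    have hx : ((x : ↥S) : Ω) ∈ P'.map S.subtype := Subgroup.mem_map_of_mem _ x.2
    have h1 := hfoc _ φ hφ ⟨_, hx⟩
    rw [hφeq x hx] at h1
    have h2 : χ ((x : ↥S)⁻¹ * φ' x) = 1 := (hχM _).2 h1
    rw [map_mul, map_inv, inv_mul_eq_one] at h2
    exact h2.symm
  obtain ⟨𝒢, i𝒢, ι, V, n, hn, hι, hreal, hVι, hcent⟩ :=
    exists_park_top (F := E₀) hS hE₀sat χ hC hχ₀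
  refine ⟨𝒢, i𝒢, ι, V, ⟨hMS, ⟨hι, fun P hP φ hφ => ?_⟩, hC, fun g => ?_, fun f => ?_,
    fun z hz g => ?_, fun Q hQM hdeep c hc => ?_⟩⟩
  · -- realization
    have hP' : (P.subgroupOf S).map S.subtype = P := by
      rw [Subgroup.subgroupOf_map_subtype, inf_eq_left.2 hP]
    let φ' : ↥(P.subgroupOf S) →* ↥S :=
      (φ.codRestrict S hφ).comp (Subgroup.subgroupOfEquivOfLe hP).toMonoidHom
    have hφ'app : ∀ u : ↥(P.subgroupOf S), ((φ' u : ↥S) : Ω) = φ ⟨u.1.1, Subgroup.mem_subgroupOf.1 u.2⟩ :=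
      fun u => rfl
    constructor
    · intro hφF
      have hφ' : φ' ∈ E₀.Hom (P.subgroupOf S) := hE₀.mem_of_mem hφF hP' φ' (fun x hx => rfl)
      obtain ⟨f, hf⟩ := (hreal _ φ').1 hφ'
      refine ⟨f, fun x => ?_⟩
      have h1 := hf ⟨⟨x, hP x.2⟩, Subgroup.mem_subgroupOf.2 x.2⟩
      have h2 : φ' ⟨⟨x, hP x.2⟩, Subgroup.mem_subgroupOf.2 x.2⟩ = ⟨φ x, hφ x⟩ := Subtype.ext rfl
      rw [h2] at h1
      exact eq_mul_inv_of_mul_eq h1.symm
    · rintro ⟨g, hg⟩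
      have hφ' : φ' ∈ E₀.Hom (P.subgroupOf S) := by
        refine (hreal _ φ').2 ⟨g, fun u => ?_⟩
        have h1 := hg ⟨u.1.1, Subgroup.mem_subgroupOf.1 u.2⟩
        have h2 : φ' u = ⟨φ ⟨u.1.1, Subgroup.mem_subgroupOf.1 u.2⟩, hφ _⟩ := Subtype.ext rfl
        rw [h2, h1, inv_mul_cancel_right]
      obtain ⟨φ₁, hφ₁, hφ₁eq⟩ := hE₀.exists_of_mem hφ'
      have h3 := hom_transport F hP'.symm hφ₁
      have h4 : φ₁.comp (Subgroup.inclusion hP'.symm.le) = φ := by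
        ext x
        have := hφ₁eq ⟨⟨x, hP x.2⟩, Subgroup.mem_subgroupOf.2 x.2⟩ (hP'.symm.le x.2)
        exact this
      rw [← h4]; exact h3
  · -- the kernel meets `S` in `M`
    rw [hVι, pow_eq_one_iff_of_not_dvd hC hn, inv_eq_one]
    exact hχM g
  · -- `𝒢 = ι(S) ker V`
    obtain ⟨s, hs⟩ := hχsurj (V f)
    have hcop : Nat.Coprime n p := (Nat.Coprime.symm ((Nat.Prime.coprime_iff_not_dvd hpp).2 hn))
    obtain ⟨m, -, hm⟩ := Nat.exists_mul_mod_eq_one_of_coprime hcop hpp.one_lt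
    refine ⟨(s ^ m)⁻¹, ?_⟩
    rw [hVι, map_inv, inv_inv, map_pow, hs, ← pow_mul, mul_comm m n,
      ← Nat.div_add_mod (n * m) p, hm, pow_add, pow_mul, hC, one_pow, one_mul, pow_one]
  · -- index `p`
    have hz1 : χ z ≠ 1 := fun h => hz ((hχM z).1 h)
    have htop : Subgroup.zpowers (χ z) = ⊤ := zpowers_eq_top_of_prime_card hCcard hz1
    have hmem : (χ g)⁻¹ ∈ Subgroup.zpowers (χ z) := by rw [htop]; exact Subgroup.mem_top _
    rw [← mem_powers_iff_mem_zpowers] at hmem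
    obtain ⟨i, hi⟩ := hmem
    have hi' : χ z ^ i = (χ g)⁻¹ := hi
    refine ⟨i, (hχM _).1 ?_⟩
    rw [map_mul, map_pow, hi', mul_inv_cancel]
  · -- centralizers of deep subgroups
    have hQS : Q ≤ S := hQM.trans hMS
    have hQ'map : (Q.subgroupOf S).map S.subtype = Q := by
      rw [Subgroup.subgroupOf_map_subtype, inf_eq_left.2 hQS]
    refine hcent (Q.subgroupOf S) (fun x hx => (hχM x).2 (hQM (Subgroup.mem_subgroupOf.1 hx)))
      (fun ρ' hρ' d hd => ?_) c (fun x => hc ⟨x.1.1, Subgroup.mem_subgroupOf.1 x.2⟩ x.1.2)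
    obtain ⟨ρ₁, hρ₁, hρ₁eq⟩ := hE₀.exists_of_mem hρ'
    have hρ := hom_transport F hQ'map.symm hρ₁
    refine (hχM d).2 (hdeep _ hρ (d : Ω) d.2 fun x => ?_)
    have h1 := hρ₁eq ⟨⟨x, hQS x.2⟩, Subgroup.mem_subgroupOf.2 x.2⟩ (hQ'map.symm.le x.2)
    have h2 := congrArg (fun t : ↥S => (t : Ω)) (hd ⟨⟨x, hQS x.2⟩, Subgroup.mem_subgroupOf.2 x.2⟩)
    show (d : Ω) * ρ₁ ⟨x, _⟩ = ρ₁ ⟨x, _⟩ * (d : Ω)
    rw [h1]
    exact h2

end Cfsg.Agent.Helper3.PPow
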