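import Mathlib
import Cfsg.Agent.Lib.Helper3.PPowPark3
import Cfsg.Agent.Lib.Helper20.PPowD23
import Cfsg.Agent.Lib.Helper25.PPowB3
import Cfsg.Agent.Lib.Helper25.PPowB4
import Cfsg.Agent.Lib.Helper23.PPowA3B5
import Cfsg.Agent.Lib.Helper23.PPowA4
import Cfsg.Agent.Lib.Helper16.PPowD14

/-!
# Existence and uniqueness of the saturated subsystems of `p`-power index
-/

set_option autoImplicit false

namespace Cfsg.Agent.Helper3.PPow

open Cfsg Cfsg.FusionSystem Cfsg.Agent.Helper25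

universe u v w

section PartIII

variable {Ω : Type u} [Group Ω] {S : Subgroup Ω} {p : ℕ} [Fact p.Prime] {F : FusionSystem S}
  {M : Subgroup Ω} {𝒢 : Type v} [Group 𝒢] {ι : S →* 𝒢} {C : Type w} [CommGroup C] {V : 𝒢 →* C}

theorem Park.hasPPowerIndexIn [Finite S] (h : Park p F M ι V) : h.sys.HasPPowerIndexIn F p :=
  ⟨h.sys_le, h.hyp_le, fun _ hPM => h.pResidual_le hPM⟩

theorem Park.isSaturated [Finite S] (h : Park p F M ι V) (hS : IsPGroup p S)
    (hF : F.IsSaturated p) : h.sys.IsSaturated p := by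
  intro P hPM
  obtain ⟨Q, hPQ, hfn⟩ := h.exists_conj_fullyNormalized hPM
  have hQM : Q ≤ M := isConj_le_right _ hPQ
  exact ⟨Q, hPQ, h.isFullyAutomized hS hF hQM hfn, h.isReceptive hS hF hQM hfn⟩

end PartIII

theorem parkExists : ParkExists.{u} :=
  fun p _ hS F hF M hMS hMn hidx hyp => park_exists p hS F hF M hMS hMn hidx hyp

/-- **Existence and uniqueness of the saturated subsystem of `p`-power index over `T ≥ hyp(F)`.** -/
theorem exists_unique_pPowerIndex {Ω : Type u} [Group Ω] {S : Subgroup Ω} [Finite S] (p : ℕ)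
    [Fact p.Prime] (hS : IsPGroup p S) (F : FusionSystem S) (hF : F.IsSaturated p) (T : Subgroup Ω)
    (hTS : T ≤ S) (hT : F.hyperfocalSubgroup p ≤ T) :
    ∃ E : FusionSystem T, (E.IsSaturated p ∧ E.HasPPowerIndexIn F p) ∧
      ∀ E' : FusionSystem T, E'.IsSaturated p → E'.HasPPowerIndexIn F p → E' = E := by
  obtain ⟨E, hE⟩ := exists_pPowerIndex_core parkExists p
    (fun h hS hF => h.isSaturated hS hF) (fun h => h.hasPPowerIndexIn) (Nat.card S) hS F hF T hTS hT rfl
  exact ⟨E, hE, fun E' h1 h2 => pPowerIndex_unique p hS F T hTS E E' hE.1 h1 hE.2 h2⟩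

end Cfsg.Agent.Helper3.PPow
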