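import Mathlib
import Cfsg.Agent.Lib.Helper4.QdFree
import Cfsg.Agent.Lib.Helper25.FusionAut
import Cfsg.Agent.Lib.Helper3.KLInvolves

/-!
# `SL₂(p)`-data on a subgroup of a fusion system (helper3)

`FusData p F X`: an abstract group acts on `X` through `Aut_F(X)`, maps onto `SL₂(p)`, and `X` has
the natural module as an equivariant quotient.  Such data forces every finite group realizing `F`
to involve `Qd(p)` (`p` odd).
-/

set_option autoImplicit false
set_option linter.style.haveILetI false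
set_option linter.unusedSectionVars false

namespace Cfsg.Agent.Helper3.QdD

open Cfsg Cfsg.FusionSystem Cfsg.Agent.Helper25 Matrix
open scoped MatrixGroups

universe u

variable {Ω : Type u} [Group Ω] {S : Subgroup Ω}

/-- `SL₂(p)`-data on `X` -/
def FusData (p : ℕ) (F : FusionSystem S) (X : Subgroup Ω) : Prop :=
  X ≤ S ∧ ∃ (H₀ : Type u) (_ : Group H₀) (a : H₀ →* MulAut X) (f : H₀ →* SL(2, ZMod p))
    (θ : X →* Multiplicative (Fin 2 → ZMod p)),
    (∀ h, a h ∈ F.autGroup X) ∧ Function.Surjective f ∧ Function.Surjective θ ∧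
    (∀ x₀ : X, ∃ h, a h = MulAut.conj x₀) ∧
    ∀ (h : H₀) (x : X), θ (a h x) =
      Multiplicative.ofAdd ((f h).1 *ᵥ Multiplicative.toAdd (θ x))

theorem sl_eq_of_act {p : ℕ} (s t : SL(2, ZMod p))
    (h : ∀ v : Fin 2 → ZMod p, s.1 *ᵥ v = t.1 *ᵥ v) : s = t := by
  apply Subtype.ext
  apply Matrix.mulVec_injective
  funext v
  exact h v

/-- the data pass to any system with the same automorphisms of `X` -/
theorem FusData.mono {p : ℕ} {F : FusionSystem S} {X : Subgroup Ω} (h : FusData p F X)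
    {T : Subgroup Ω} (E : FusionSystem T) (hXT : X ≤ T)
    (hle : ∀ α : MulAut X, α ∈ F.autGroup X → α ∈ E.autGroup X) : FusData p E X := by
  obtain ⟨-, H₀, _, a, f, θ, h1, h2, h3, h4, h5⟩ := h
  exact ⟨hXT, H₀, _, a, f, θ, fun h => hle _ (h1 h), h2, h3, h4, h5⟩

/-- transport along a map of the system -/
theorem FusData.transport {p : ℕ} {F : FusionSystem S} {X : Subgroup Ω} (h : FusData p F X)
    {φ : X →* Ω} (hφ : φ ∈ F.Hom X) : FusData p F φ.range := by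
  obtain ⟨-, H₀, _, a, f, θ, h1, h2, h3, h4, h5⟩ := h
  set e := homEquiv F hφ with he
  refine ⟨range_le F hφ, H₀, _, (MulAut.congr e).toMonoidHom.comp a, f,
    θ.comp e.symm.toMonoidHom, ?_, h2, ?_, ?_, ?_⟩
  · intro h
    exact congr_mem_autGroup F hφ (h1 h)
  · exact h3.comp e.symm.surjective
  · intro y₀
    obtain ⟨h, hh⟩ := h4 (e.symm y₀)
    refine ⟨h, ?_⟩
    apply MulEquiv.ext
    intro y
    show e (a h (e.symm y)) = y₀ * y * y₀⁻¹
    rw [hh]
    show e (e.symm y₀ * e.symm y * (e.symm y₀)⁻¹) = _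
    rw [map_mul, map_mul, map_inv, MulEquiv.apply_symm_apply, MulEquiv.apply_symm_apply]
  · intro h y
    show θ (e.symm (e (a h (e.symm y)))) = _
    rw [MulEquiv.symm_apply_apply, h5]
    rfl

section realize

variable {M : Type*} [Group M]

/-- **From the system to a realizing group**: `SL₂(p)`-data force a realizing finite group to
involve the affine group. -/
theorem inv_of_fusData [Finite M] {p : ℕ} [Fact p.Prime] (hp2 : p ≠ 2) (hS : IsPGroup p S)
    {F : FusionSystem S} {X : Subgroup Ω} (h : FusData p F X) (ι : S →* M)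
    (hreal : F.IsRealizedBy ι) :
    Cfsg.Agent.Helper4.SLF.Inv ↥(Cfsg.Agent.S2761.affSubgroup (ZMod p)) M := by
  classical
  obtain ⟨hXS, H₀, _, a, f, θ, h1, h2, h3, h4, h5⟩ := h
  have hι := hreal.1
  -- the relation between elements of `M` and of `H₀`
  let Rel : M → H₀ → Prop := fun m h => ∀ x : X,
    ι ⟨((a h x : X) : Ω), hXS (a h x).2⟩ = m * ι ⟨x, hXS x.2⟩ * m⁻¹
  have hRel_f : ∀ m h h', Rel m h → Rel m h' → f h = f h' := by
    intro m h h' hh hh'
    have hax : ∀ x : X, a h x = a h' x := by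
      intro x
      have e1 := (hh x).trans (hh' x).symm
      have e2 := congrArg Subtype.val (hι e1)
      exact Subtype.ext e2
    apply sl_eq_of_act
    intro v
    obtain ⟨x, hx⟩ := h3 (Multiplicative.ofAdd v)
    have e1 := h5 h x
    have e2 := h5 h' x
    rw [hax x, e2, hx] at e1
    exact (Multiplicative.ofAdd.injective e1).symm
  let K : Subgroup M :=
    { carrier := {m | ∃ h, Rel m h}
      one_mem' := ⟨1, fun x => by simp⟩
      mul_mem' := by
        rintro m₁ m₂ ⟨h₁, hh₁⟩ ⟨h₂, hh₂⟩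
        refine ⟨h₁ * h₂, fun x => ?_⟩
        have e1 : a (h₁ * h₂) x = a h₁ (a h₂ x) := by rw [map_mul]; rfl
        rw [e1, hh₁ (a h₂ x), hh₂ x]
        group
      inv_mem' := by
        rintro m ⟨h, hh⟩
        refine ⟨h⁻¹, fun x => ?_⟩
        have e1 := hh (a h⁻¹ x)
        have e2 : a h (a h⁻¹ x) = x := by
          rw [map_inv]; exact MulAut.apply_inv_self _ _ _
        rw [e2] at e1
        rw [e1]
        group }
  have hK : ∀ m : K, ∃ h, Rel m h := fun m => m.2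
  choose c hc using hK
  have hfc : ∀ (m : K) (h : H₀), Rel m h → f (c m) = f h := fun m h hh => hRel_f m _ _ (hc m) hh
  let fK : K →* SL(2, ZMod p) :=
    MonoidHom.mk' (fun m => f (c m)) (by
      intro m₁ m₂
      rw [← map_mul]
      apply hfc
      intro x
      have e1 : a (c m₁ * c m₂) x = a (c m₁) (a (c m₂) x) := by rw [map_mul]; rfl
      rw [e1, hc m₁ (a (c m₂) x), hc m₂ x]
      show _ = ((m₁ : M) * m₂) * _ * ((m₁ : M) * m₂)⁻¹
      group)
  have hfK : ∀ m : K, fK m = f (c m) := fun m => rfl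
  have hfKsurj : Function.Surjective fK := by
    intro s
    obtain ⟨h, rfl⟩ := h2 s
    have hmem := (mem_autGroup_iff F hXS (a h)).mp (h1 h)
    have hφS : ∀ x : X, (X.subtype.comp (a h).toMonoidHom) x ∈ S := fun x => hXS (a h x).2
    obtain ⟨g, hg⟩ := (hreal.2 X hXS _ hφS).mp hmem
    have hgR : Rel g h := fun x => hg x
    exact ⟨⟨g, h, hgR⟩, hfc _ h hgR⟩
  -- the image of `X`
  let U : Subgroup M := (X.subgroupOf S).map ι
  have hmemU : ∀ y : M, y ∈ U ↔ ∃ x : X, ι ⟨x, hXS x.2⟩ = y := by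
    intro y
    constructor
    · rintro ⟨s, hs, rfl⟩
      exact ⟨⟨s, hs⟩, rfl⟩
    · rintro ⟨x, rfl⟩
      exact ⟨⟨x, hXS x.2⟩, x.2, rfl⟩
  have hRelU : ∀ x₀ : X, ∃ h, a h = MulAut.conj x₀ ∧ Rel (ι ⟨x₀, hXS x₀.2⟩) h := by
    intro x₀
    obtain ⟨h, hh⟩ := h4 x₀
    refine ⟨h, hh, fun x => ?_⟩
    rw [hh, ← map_inv, ← map_mul, ← map_mul]
    rfl
  have hUK : U ≤ K := by
    intro y hy
    obtain ⟨x₀, rfl⟩ := (hmemU y).mp hy
    obtain ⟨h, -, hh⟩ := hRelU x₀
    exact ⟨h, hh⟩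
  have hUp : IsPGroup p U := (hS.to_subgroup (X.subgroupOf S)).map ι
  have hnorm : ∀ k ∈ K, ∀ u ∈ U, k * u * k⁻¹ ∈ U := by
    rintro k ⟨h, hh⟩ u hu
    obtain ⟨x, rfl⟩ := (hmemU u).mp hu
    rw [← hh x]
    exact (hmemU _).mpr ⟨a h x, rfl⟩
  have hfone : ∀ h x₀, a h = MulAut.conj x₀ → f h = 1 := by
    intro h x₀ hh
    apply sl_eq_of_act
    intro v
    obtain ⟨x, hx⟩ := h3 (Multiplicative.ofAdd v)
    have e1 := h5 h x
    rw [hh] at e1
    have e2 : θ (MulAut.conj x₀ x) = θ x := by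
      show θ (x₀ * x * x₀⁻¹) = θ x
      rw [map_mul, map_mul, map_inv, mul_comm (θ x₀), mul_assoc, mul_inv_cancel, mul_one]
    rw [e2, hx] at e1
    have e3 := Multiplicative.ofAdd.injective e1
    rw [Matrix.SpecialLinearGroup.coe_one, Matrix.one_mulVec]
    exact e3.symm
  have hUf : ∀ (u : M) (hu : u ∈ U), fK ⟨u, hUK hu⟩ = 1 := by
    intro u hu
    obtain ⟨x₀, hx₀⟩ := (hmemU u).mp hu
    obtain ⟨h, hh, hR⟩ := hRelU x₀
    rw [hfK]
    have hR' : Rel ((⟨u, hUK hu⟩ : K) : M) h := by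
      show Rel u h
      rw [← hx₀]; exact hR
    rw [hfc _ h hR']
    exact hfone h x₀ hh
  -- the inverse of `ι` on `U`
  let eU : ↥(X.subgroupOf S) ≃* ↥U := (X.subgroupOf S).equivMapOfInjective ι hι
  let eX : ↥(X.subgroupOf S) ≃* ↥X := Subgroup.subgroupOfEquivOfLe hXS
  let θU : U →* Multiplicative (Fin 2 → ZMod p) :=
    θ.comp (eX.toMonoidHom.comp eU.symm.toMonoidHom)
  have hθU : ∀ x : X, ∀ hu : ι ⟨x, hXS x.2⟩ ∈ U, θU ⟨ι ⟨x, hXS x.2⟩, hu⟩ = θ x := by
    intro x hu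
    have e1 : eU.symm ⟨ι ⟨x, hXS x.2⟩, hu⟩ = ⟨⟨x, hXS x.2⟩, x.2⟩ := by
      rw [MulEquiv.symm_apply_eq]
      rfl
    show θ (eX (eU.symm ⟨ι ⟨x, hXS x.2⟩, hu⟩)) = θ x
    rw [e1]
    rfl
  have hθUsurj : Function.Surjective θU := by
    intro v
    obtain ⟨x, rfl⟩ := h3 v
    exact ⟨⟨ι ⟨x, hXS x.2⟩, (hmemU _).mpr ⟨x, rfl⟩⟩, hθU x _⟩
  refine Cfsg.Agent.Helper4.QDF.inv_aff_of_subgroup_data hp2 K fK hfKsurj U hUK hUp hnorm hUf
    θU hθUsurj ?_
  intro k u
  obtain ⟨x, hx⟩ := (hmemU u).mp u.2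
  have hR := hc k x
  have e1 : (⟨(k : M) * u * (k : M)⁻¹, hnorm k k.2 u u.2⟩ : U) =
      ⟨ι ⟨((a (c k) x : X) : Ω), hXS (a (c k) x).2⟩, (hmemU _).mpr ⟨a (c k) x, rfl⟩⟩ := by
    apply Subtype.ext
    show (k : M) * u * (k : M)⁻¹ = ι ⟨((a (c k) x : X) : Ω), hXS (a (c k) x).2⟩
    rw [← hx]
    exact hR.symm
  have e2 : u = ⟨ι ⟨x, hXS x.2⟩, (hmemU _).mpr ⟨x, rfl⟩⟩ := Subtype.ext hx.symm
  rw [e1, hθU, h5, hfK]
  conv_rhs => rw [e2, hθU]

end realize

end Cfsg.Agent.Helper3.QdD
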