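import Mathlib
import Cfsg.Agent.Lib.Helper3.QdData1
import Cfsg.Agent.Lib.Helper3.KLEmbed
import Cfsg.Agent.Lib.Helper25.FusionRealized

/-!
# From a group involving `Qd(p)` to `SL₂(p)`-data on its fusion system (helper3)
-/

set_option autoImplicit false
set_option linter.style.haveILetI false
set_option linter.unusedSectionVars false

namespace Cfsg.Agent.Helper3.QdD

open Cfsg Cfsg.FusionSystem Cfsg.Agent.Helper25 Matrix
open Cfsg.Agent.S2761 Cfsg.Agent.Helper14.Qd Cfsg.Agent.Helper4.QDF Cfsg.Agent.Helper4.SLF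
open scoped MatrixGroups

universe u

/-- abstract group data: a group `H₀` embedded in `L`, mapping onto `SL₂(p)`, with a normal
`p`-subgroup having the natural module as equivariant quotient -/
def GrpData (p : ℕ) (L : Type u) [Group L] : Prop :=
  ∃ (H₀ : Type u) (_ : Group H₀) (j : H₀ →* L) (U : Subgroup H₀) (hU : U.Normal)
    (f : H₀ →* SL(2, ZMod p)) (θ : U →* Multiplicative (Fin 2 → ZMod p)),
    Function.Injective j ∧ IsPGroup p U ∧ Function.Surjective f ∧ Function.Surjective θ ∧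
    ∀ (h : H₀) (u : U), θ ⟨h * u * h⁻¹, hU.conj_mem u u.2 h⟩ =
      Multiplicative.ofAdd ((f h).1 *ᵥ Multiplicative.toAdd (θ u))

section surj

variable {p : ℕ} [hpp : Fact p.Prime]

theorem transHom_injective : Function.Injective (transHom (ZMod p)) := by
  intro v w h
  rw [transHom_apply, transHom_apply] at h
  exact Multiplicative.toAdd.injective (trans_injective h)

theorem conj_aff_trans (M : ↥(affSubgroup (ZMod p))) (v : Fin 2 → ZMod p) :
    M * trans v * M⁻¹ = trans ((proj (ZMod p) M).1 *ᵥ v) := by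
  obtain ⟨B, w, rfl⟩ : ∃ B w, M = aff B w := ⟨_, _, eq_aff M⟩
  rw [proj_aff, aff_eq_trans_mul, _root_.mul_inv_rev, ← conj_trans]
  have e : trans w * linHom (ZMod p) B * trans v * ((linHom (ZMod p) B)⁻¹ * (trans w)⁻¹) =
      trans w * (linHom (ZMod p) B * trans v * (linHom (ZMod p) B)⁻¹) * (trans w)⁻¹ := by group
  rw [e, conj_trans, trans_inv, trans_mul, trans_mul, add_comm w, add_neg_cancel_right]

theorem isPGroup_transSubgroup : IsPGroup p ↥(transSubgroup (ZMod p)) := by
  intro x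
  refine ⟨1, ?_⟩
  obtain ⟨v, hv⟩ := (mem_transSubgroup_iff_exists x.1).mp x.2
  apply Subtype.ext
  rw [pow_one, Subgroup.coe_pow, hv, trans_pow, Subgroup.coe_one]
  have : p • v = 0 := by
    funext i
    show p • v i = 0
    rw [nsmul_eq_mul, ZMod.natCast_self, zero_mul]
  rw [this, trans_zero]

/-- a finite group mapping onto the affine group carries the data -/
theorem data_of_surj {K₀ : Type u} [Group K₀] [Finite K₀] (φ : K₀ →* ↥(affSubgroup (ZMod p)))
    (hφ : Function.Surjective φ) :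
    ∃ (N₀ : Subgroup K₀) (U : Subgroup N₀) (hU : U.Normal) (f : N₀ →* SL(2, ZMod p))
      (θ : U →* Multiplicative (Fin 2 → ZMod p)),
      IsPGroup p U ∧ Function.Surjective f ∧ Function.Surjective θ ∧
      ∀ (h : N₀) (u : U), θ ⟨h * u * h⁻¹, hU.conj_mem u u.2 h⟩ =
        Multiplicative.ofAdd ((f h).1 *ᵥ Multiplicative.toAdd (θ u)) := by
  classical
  set π : K₀ →* SL(2, ZMod p) := (proj (ZMod p)).comp φ with hπ
  have hπsurj : Function.Surjective π := proj_surjective.comp hφ
  set MV : Subgroup K₀ := π.ker with hMV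
  haveI : MV.Normal := by rw [hMV]; infer_instance
  obtain ⟨PV⟩ : Nonempty (Sylow p MV) := inferInstance
  set T₀ : Subgroup K₀ := (PV : Subgroup MV).map MV.subtype with hT₀
  have hT₀MV : T₀ ≤ MV := by
    rintro _ ⟨t, -, rfl⟩
    exact t.2
  set N₀ : Subgroup K₀ := Subgroup.normalizer (T₀ : Set K₀) with hN₀
  have hfrat : N₀ ⊔ MV = ⊤ := Sylow.normalizer_sup_eq_top PV
  have hT₀N₀ : T₀ ≤ N₀ := Subgroup.le_normalizer
  -- the restriction of `φ` to `MV`, with values in the translations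
  have hφMV : ∀ m : MV, φ m ∈ transSubgroup (ZMod p) := by
    intro m
    have : π m = 1 := m.2
    exact this
  let φV : MV →* ↥(transSubgroup (ZMod p)) := (φ.comp MV.subtype).codRestrict _ hφMV
  have hφVsurj : Function.Surjective φV := by
    rintro ⟨y, hy⟩
    obtain ⟨k, rfl⟩ := hφ y
    have hk : k ∈ MV := hy
    exact ⟨⟨k, hk⟩, rfl⟩
  -- the image of the Sylow subgroup is everything
  have himg : ((PV : Subgroup MV).map φV) = ⊤ := by
    have h1 := Sylow.coe_mapSurjective hφVsurj PV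
    have h2 := (PV.mapSurjective hφVsurj).is_maximal' (Q := ⊤)
      ((isPGroup_transSubgroup (p := p)).to_subgroup ⊤) le_top
    rw [← h1]
    exact h2.symm
  have hcover : ∀ v : Fin 2 → ZMod p, ∃ t ∈ T₀, φ t = trans v := by
    intro v
    have h1 : (⟨trans v, trans_mem v⟩ : ↥(transSubgroup (ZMod p))) ∈
        ((PV : Subgroup MV).map φV) := by rw [himg]; exact Subgroup.mem_top _
    obtain ⟨t, ht, hte⟩ := h1
    exact ⟨t, ⟨t, ht, rfl⟩, congrArg Subtype.val hte⟩
  -- the data
  let U : Subgroup N₀ := T₀.subgroupOf N₀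
  have hU : U.Normal := by
    show (T₀.subgroupOf (Subgroup.normalizer (T₀ : Set K₀))).Normal
    exact Subgroup.normal_in_normalizer
  let f : N₀ →* SL(2, ZMod p) := π.comp N₀.subtype
  have hfsurj : Function.Surjective f := by
    intro s
    obtain ⟨k, rfl⟩ := hπsurj s
    have hk : k ∈ N₀ ⊔ MV := by rw [hfrat]; exact Subgroup.mem_top k
    rw [← SetLike.mem_coe, Subgroup.mul_normal, Set.mem_mul] at hk
    obtain ⟨n, hn, m, hm, rfl⟩ := hk
    refine ⟨⟨n, hn⟩, ?_⟩
    show π n = π (n * m)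
    have : π m = 1 := hm
    rw [map_mul, this, mul_one]
  -- the translation part
  have hφU : ∀ u : U, ∃ v : Multiplicative (Fin 2 → ZMod p),
      transHom (ZMod p) v = φ ((u : N₀) : K₀) := by
    intro u
    have h1 : ((u : N₀) : K₀) ∈ MV := hT₀MV u.2
    obtain ⟨v, hv⟩ := (mem_transSubgroup_iff_exists _).mp (hφMV ⟨_, h1⟩)
    exact ⟨Multiplicative.ofAdd v, hv.symm⟩
  choose τ hτ using hφU
  let θ : U →* Multiplicative (Fin 2 → ZMod p) :=
    MonoidHom.mk' τ (by
      intro u w
      apply transHom_injective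
      rw [map_mul, hτ, hτ, hτ]
      show φ (((u : N₀) : K₀) * ((w : N₀) : K₀)) = _
      rw [map_mul])
  have hθ : ∀ u : U, transHom (ZMod p) (θ u) = φ ((u : N₀) : K₀) := hτ
  refine ⟨N₀, U, hU, f, θ, ?_, hfsurj, ?_, ?_⟩
  · have h1 : IsPGroup p ↥T₀ := PV.isPGroup'.map _
    exact h1.comap_subtype
  · intro v
    obtain ⟨t, ht, hte⟩ := hcover (Multiplicative.toAdd v)
    refine ⟨⟨⟨t, hT₀N₀ ht⟩, ht⟩, ?_⟩
    apply transHom_injective
    rw [hθ]
    show φ t = _
    rw [hte, transHom_apply]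
  · intro h u
    apply transHom_injective
    rw [hθ]
    show φ ((h : K₀) * ((u : N₀) : K₀) * (h : K₀)⁻¹) = _
    rw [map_mul, map_mul, map_inv, ← hθ u, transHom_apply, conj_aff_trans, transHom_apply,
      toAdd_ofAdd]
    rfl

/-- a finite group involving the affine group carries the data -/
theorem grpData_of_inv {L : Type u} [Group L] [Finite L]
    (hinv : Inv ↥(affSubgroup (ZMod p)) L) : GrpData p L := by
  obtain ⟨K, φ, hφ⟩ := hinv
  obtain ⟨N₀, U, hU, f, θ, h1, h2, h3, h4⟩ := data_of_surj φ hφ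
  exact ⟨↥N₀, inferInstance, K.subtype.comp N₀.subtype, U, hU, f, θ,
    K.subtype_injective.comp N₀.subtype_injective, h1, h2, h3, h4⟩

/-- **From a realizing group to the system**: if the finite group `L` realizes `F` on a Sylow
`p`-subgroup and carries the data, then `F` has `SL₂(p)`-data on some subgroup. -/
theorem fusData_of_grpData {Ω : Type u} [Group Ω] {S : Subgroup Ω} {L : Type u} [Group L]
    [Finite L] (F : FusionSystem S) (ι : S →* L) (hreal : F.IsRealizedBy ι) (R : Sylow p L)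
    (hR : (R : Subgroup L) = ι.range) (hd : GrpData p L) : ∃ X, FusData p F X := by
  classical
  obtain ⟨H₀, _, j, U, hU, f, θ, hj, hUp, hf, hθ, heq⟩ := hd
  have hι := hreal.1
  have hUp' : IsPGroup p ↥(U.map j) := hUp.map j
  obtain ⟨l, hl⟩ := Cfsg.Agent.Helper3.KL.exists_conj_le_sylow R hUp'
  let jl : H₀ →* L := (MulAut.conj l).toMonoidHom.comp j
  have hjl : ∀ h, jl h = l * j h * l⁻¹ := fun h => rfl
  have hjlinj : Function.Injective jl := (MulAut.conj l).injective.comp hj
  have hjlU : ∀ u : U, (jl.comp U.subtype) u ∈ ι.range := fun u => by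
    rw [← hR]; exact hl _ ⟨u, u.2, rfl⟩
  let ψ : U →* Ω := (realInv ι hι).comp ((jl.comp U.subtype).codRestrict ι.range hjlU)
  have hψS : ∀ u, ψ u ∈ S := fun u => realInv_mem ι hι _
  have hψι : ∀ u : U, ι ⟨ψ u, hψS u⟩ = jl u := fun u => map_realInv ι hι _
  have hψinj : Function.Injective ψ := by
    intro u w h
    have h1 : (⟨ψ u, hψS u⟩ : S) = ⟨ψ w, hψS w⟩ := Subtype.ext h
    have h2 : jl u = jl w := by rw [← hψι u, ← hψι w, h1]
    exact Subtype.ext (hjlinj h2)
  let X : Subgroup Ω := ψ.range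
  have hXS : X ≤ S := by rintro _ ⟨u, rfl⟩; exact hψS u
  let e : U ≃* X := MonoidHom.ofInjective hψinj
  have hιe : ∀ (y : X) (hy : (y : Ω) ∈ S) (u : U), y = e u → ι ⟨(y : Ω), hy⟩ = jl u := by
    intro y hy u h
    subst h
    exact hψι u
  haveI := hU
  let a : H₀ →* MulAut X := (MulAut.congr e).toMonoidHom.comp (MulAut.conjNormal (H := U))
  have ha : ∀ h (u : U), a h (e u) = e ⟨h * u * h⁻¹, hU.conj_mem u u.2 h⟩ := by
    intro h u
    show e (MulAut.conjNormal h (e.symm (e u))) = _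
    rw [MulEquiv.symm_apply_apply]
    congr 1
  refine ⟨X, hXS, H₀, _, a, f, θ.comp e.symm.toMonoidHom, ?_, hf,
    hθ.comp e.symm.surjective, ?_, ?_⟩
  · intro h
    rw [mem_autGroup_iff F hXS]
    have hφS : ∀ x : X, (X.subtype.comp (a h).toMonoidHom) x ∈ S := fun x => hXS (a h x).2
    rw [hreal.2 X hXS _ hφS]
    refine ⟨jl h, fun x => ?_⟩
    obtain ⟨u, rfl⟩ := e.surjective x
    have e1 := hιe (a h (e u)) (hXS (a h (e u)).2) _ (ha h u)
    have e2 := hιe (e u) (hXS (e u).2) u rfl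
    show ι ⟨((a h (e u) : X) : Ω), _⟩ = jl h * ι ⟨((e u : X) : Ω), _⟩ * (jl h)⁻¹
    rw [e1, e2]
    show jl (h * u * h⁻¹) = _
    rw [map_mul, map_mul, map_inv]
  · intro x₀
    obtain ⟨u₀, rfl⟩ := e.surjective x₀
    refine ⟨(u₀ : H₀), ?_⟩
    apply MulEquiv.ext
    intro x
    obtain ⟨u, rfl⟩ := e.surjective x
    rw [ha]
    show _ = e u₀ * e u * (e u₀)⁻¹
    rw [← map_inv, ← map_mul, ← map_mul]
    rfl
  · intro h x
    obtain ⟨u, rfl⟩ := e.surjective x
    show θ (e.symm (a h (e u))) = Multiplicative.ofAdd ((f h).1 *ᵥ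
      Multiplicative.toAdd (θ (e.symm (e u))))
    rw [ha, MulEquiv.symm_apply_apply, MulEquiv.symm_apply_apply]
    exact heq h u

end surj

end Cfsg.Agent.Helper3.QdD
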