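import Mathlib
import Cfsg.Agent.Lib.Helper3.QdData1
import Cfsg.Agent.Lib.Helper3.KLSparse2
import Cfsg.Agent.Lib.Helper3.KLRecept
import Cfsg.Agent.Lib.Helper3.KLEmbed
import Cfsg.Agent.Lib.Helper3.ModelTransport
import Cfsg.Agent.Lib.Helper25.FusionModel2
import Cfsg.Agent.S5240

/-!
# `SL₂(p)`-data on a saturated fusion system contradict `Qd(p)`-freeness (helper3)
-/

set_option autoImplicit false
set_option linter.style.haveILetI false
set_option linter.unusedSectionVars false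

namespace Cfsg.Agent.Helper3.QdD

open Cfsg Cfsg.FusionSystem Cfsg.Agent.Helper25 Cfsg.Agent.Helper3.KL Cfsg.Agent.Helper3.Model

universe u

variable {Ω : Type u} [Group Ω] {S : Subgroup Ω}

/-- an automorphism of `X ≤ K` which extends to a map of `F` on `K` mapping `K` into itself is an
automorphism in the normalizer system of `K` -/
theorem mem_autGroup_normalizer_of_ext [Finite S] (F : FusionSystem S) {K X : Subgroup Ω}
    (hXK : X ≤ K) (hKS : K ≤ S) (N : FusionSystem (normalizerIn S K))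
    (hN : F.IsNormalizerSystem K N) (α : MulAut X) {ψ : K →* Ω} (hψ : ψ ∈ F.Hom K)
    (hK : ∀ (x : Ω) (hx : x ∈ K), ψ ⟨x, hx⟩ ∈ K)
    (hα : ∀ x : X, ψ ⟨x, hXK x.2⟩ = α x) : α ∈ N.autGroup X := by
  have hKN : K ≤ normalizerIn S K := le_normalizerIn hKS
  have h1 : ψ ∈ F.normalizerHom K K := mem_normalizerHom_of_le F le_rfl hKN hψ hK
  rw [← hN K] at h1
  have h2 := restrict_mem N hXK h1
  rw [mem_autGroup_iff N (hXK.trans hKN)]
  have e : X.subtype.comp α.toMonoidHom = ψ.comp (Subgroup.inclusion hXK) := by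
    ext x
    exact (hα x).symm
  rw [e]
  exact h2

/-- extension of an automorphism of `X ≤ Y` to `Y ⊴ F` -/
theorem exists_ext_normal [Finite S] (F : FusionSystem S) {Y X : Subgroup Ω} (hY : F.IsNormal Y)
    (hXY : X ≤ Y) (α : MulAut X) (hα : α ∈ F.autGroup X) :
    ∃ ψ ∈ F.Hom Y, (∀ (x : Ω) (hx : x ∈ Y), ψ ⟨x, hx⟩ ∈ Y) ∧ ∀ x : X, ψ ⟨x, hXY x.2⟩ = α x := by
  have hXS : X ≤ S := hXY.trans hY.1
  have hαF := (mem_autGroup_iff F hXS α).mp hα
  obtain ⟨ψ, hψ, hψP, hmap⟩ := hY.2 X _ hαF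
  have hle : Y ≤ X ⊔ Y := le_sup_right
  refine ⟨ψ.comp (Subgroup.inclusion hle), restrict_mem F hle hψ, fun x hx => ?_, fun x => ?_⟩
  · have h0 : ψ ⟨x, hle hx⟩ ∈ (Y.subgroupOf (X ⊔ Y)).map ψ :=
      ⟨⟨x, hle hx⟩, Subgroup.mem_subgroupOf.mpr hx, rfl⟩
    exact hmap.le h0
  · exact hψP x

/-- extension of an automorphism of `Y ⊴ S` to `Y C_S(Y)` -/
theorem exists_ext_centralizer [Finite S] (p : ℕ) [Fact p.Prime] (hS : IsPGroup p S)
    (F : FusionSystem S) (hF : F.IsSaturated p) {Y : Subgroup Ω} (hYS : Y ≤ S)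
    (hYn : S ≤ Subgroup.normalizer (Y : Set Ω)) {φ : Y →* Ω} (hφ : φ ∈ F.Hom Y)
    (hφY : ∀ (x : Ω) (hx : x ∈ Y), φ ⟨x, hx⟩ ∈ Y) :
    ∃ ψ ∈ F.Hom (Y ⊔ centralizerIn S Y),
      (∀ (x : Ω) (hx : x ∈ Y ⊔ centralizerIn S Y), ψ ⟨x, hx⟩ ∈ Y ⊔ centralizerIn S Y) ∧
      ∀ (x : Ω) (hx : x ∈ Y), ψ ⟨x, le_sup_left (b := centralizerIn S Y) hx⟩ = φ ⟨x, hx⟩ := by
  have hfn := isFullyNormalized_of_normal F hYS hYn
  obtain ⟨-, -, hrec⟩ := of_fullyNormalized p hS F hF hfn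
  have hmap := map_eq_of_forall_mem F le_rfl hφ hφY
  have hrange : φ.range = Y := by
    ext y
    constructor
    · rintro ⟨x, rfl⟩; exact hφY x.1 x.2
    · intro hy
      rw [← hmap] at hy
      obtain ⟨x, -, rfl⟩ := hy
      exact ⟨x, rfl⟩
  obtain ⟨ψ, hψ, hψext⟩ := hrec.2 Y φ hφ hrange
  have hle : Y ⊔ centralizerIn S Y ≤ extender S Y φ :=
    sup_le (le_extender F hφ) (centralizerIn_le_extender φ)
  have hψR := restrict_mem F hle hψ
  have hψQ : ∀ (a : Ω) (ha : a ∈ Y), ψ ⟨a, hle (le_sup_left (b := centralizerIn S Y) ha)⟩ =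
      φ ⟨a, ha⟩ := fun a ha => hψext a ha _
  have hmem : ∀ x : ↥(Y ⊔ centralizerIn S Y),
      (ψ.comp (Subgroup.inclusion hle)) x ∈ Y ⊔ centralizerIn S Y := by
    apply sup_hom_mem
    · intro a ha
      show ψ ⟨a, _⟩ ∈ _
      rw [hψQ a ha]
      exact le_sup_left (b := centralizerIn S Y) (hφY a ha)
    · intro c hc
      apply le_sup_right (a := Y)
      show ψ ⟨c, _⟩ ∈ _
      rw [mem_centralizerIn]
      refine ⟨(F.le_of_mem hψ).2 _, ?_⟩
      intro q hq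
      have hc' := (mem_centralizerIn.mp hc).2
      have hq' : q ∈ φ.range := by rw [hrange]; exact hq
      obtain ⟨q', rfl⟩ := hq'
      rw [← hψQ q'.1 q'.2, ← map_mul, ← map_mul]
      congr 1
      apply Subtype.ext
      exact hc' q'.1 q'.2
  refine ⟨ψ.comp (Subgroup.inclusion hle), hψR, fun x hx => hmem ⟨x, hx⟩, fun x hx => ?_⟩
  exact hψQ x hx

/-- a normalizer system with all the maps of `F` has a normal base -/
theorem isNormal_of_homTotal_eq (F : FusionSystem S) {K : Subgroup Ω} (hKS : K ≤ S)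
    (N : FusionSystem (normalizerIn S K)) (hN : F.IsNormalizerSystem K N)
    (h : homTotal N = homTotal F) : F.IsNormal K := by
  refine ⟨hKS, fun P φ hφ => ?_⟩
  have h1 : (⟨P, φ⟩ : Σ P : Subgroup Ω, (P →* Ω)) ∈ homTotal N := by rw [h]; exact hφ
  have h2 : φ ∈ N.Hom P := h1
  rw [hN P] at h2
  obtain ⟨-, -, -, ψ, hψ, hψP, hmap⟩ := h2
  exact ⟨ψ, hψ, hψP, hmap⟩

theorem homTotal_ssubset (F : FusionSystem S) {K : Subgroup Ω}
    (N : FusionSystem (normalizerIn S K)) (hN : F.IsNormalizerSystem K N)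
    (h : homTotal N ≠ homTotal F) : homTotal N ⊂ homTotal F := by
  have hsub : homTotal N ⊆ homTotal F := by
    rintro ⟨P, φ⟩ hx
    have h2 : φ ∈ N.Hom P := hx
    rw [hN P] at h2
    exact h2.1
  exact ⟨hsub, fun hback => h (Set.Subset.antisymm hsub hback)⟩

/-- `S` normalizes `Y C_S(Y)` when it normalizes `Y` -/
theorem le_normalizer_sup_centralizerIn [Finite S] {Y : Subgroup Ω} (hYS : Y ≤ S)
    (hYn : S ≤ Subgroup.normalizer (Y : Set Ω)) :
    S ≤ Subgroup.normalizer ((Y ⊔ centralizerIn S Y : Subgroup Ω) : Set Ω) := by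
  have hDS : Y ⊔ centralizerIn S Y ≤ S := sup_le hYS centralizerIn_le
  haveI : Finite ↥(Y ⊔ centralizerIn S Y) := finite_of_le_finite hDS
  intro s hs
  apply mem_normalizer_of_conj_le
  have key : ∀ x : ↥(Y ⊔ centralizerIn S Y), conjHom (Y ⊔ centralizerIn S Y) s x ∈
      Y ⊔ centralizerIn S Y := by
    apply sup_hom_mem
    · intro a ha
      apply le_sup_left (b := centralizerIn S Y)
      exact (Subgroup.mem_normalizer_iff.mp (hYn hs) a).mp ha
    · intro c hc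
      apply le_sup_right (a := Y)
      have hc' := mem_centralizerIn.mp hc
      rw [mem_centralizerIn]
      refine ⟨S.mul_mem (S.mul_mem hs hc'.1) (S.inv_mem hs), fun y hy => ?_⟩
      show y * (s * c * s⁻¹) = s * c * s⁻¹ * y
      symm
      have h1 : s⁻¹ * y * s⁻¹⁻¹ ∈ Y :=
        (Subgroup.mem_normalizer_iff.mp (hYn (S.inv_mem hs)) y).mp hy
      have h2 := hc'.2 _ h1
      have e1 : s * c * s⁻¹ * y = s * (c * (s⁻¹ * y * s⁻¹⁻¹)) * s⁻¹ := by group
      have e2 : y * (s * c * s⁻¹) = s * ((s⁻¹ * y * s⁻¹⁻¹) * c) * s⁻¹ := by group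
      rw [e1, e2, h2]
  intro y hy
  exact key ⟨y, hy⟩

/-- **Core**: `SL₂(p)`-data on a saturated fusion system contradict `Qd(p)`-freeness (`p` odd). -/
theorem not_free_of_fusData (p : ℕ) [Fact p.Prime] (hp2 : p ≠ 2) :
    ∀ (n : ℕ) (S : Subgroup Ω) [Finite S] (F : FusionSystem S), IsPGroup p S →
      F.IsSaturated p → (homTotal F).ncard = n → ∀ X, FusData p F X →
      ¬ F.IsSectionFree p ↥(Cfsg.qd p) := by
  intro n
  induction n using Nat.strong_induction_on with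
  | _ n ih =>
  intro S _ F hS hF hn X₀ hd₀ hfree
  -- Step 1: a fully normalized conjugate
  obtain ⟨X, hconj, hXfn⟩ := exists_isConj_fullyNormalized F hd₀.1
  obtain ⟨φ, hφ, rfl⟩ := hconj
  have hd := hd₀.transport hφ
  obtain ⟨X, hXdef⟩ : ∃ X : Subgroup Ω, X = φ.range := ⟨_, rfl⟩
  rw [← hXdef] at hd hXfn
  have hXS : X ≤ S := hXfn.1
  -- Step 2: the normalizer system of `X`
  obtain ⟨N, hN⟩ := Cfsg.Agent.S5096.result F X hXS
  haveI : Finite ↥(normalizerIn S X) := finite_of_le_finite normalizerIn_le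
  have hSN : IsPGroup p ↥(normalizerIn S X) := hS.to_le normalizerIn_le
  have hNsat := normalizerSystem_isSaturated p hS F hF hXfn N hN
  have hNfree := Cfsg.Agent.S5240.result p hS F hF hfree X hXfn N hN
  have hdN : FusData p N X := hd.mono N (le_normalizerIn hXS) (fun α hα =>
    (mem_autGroup_iff N (le_normalizerIn hXS) α).mpr (normalizerSystem_aut_mem F hXS N hN hα))
  by_cases hNF : homTotal N = homTotal F
  swap
  · have hlt := Set.ncard_lt_ncard (homTotal_ssubset F N hN hNF) (finite_homTotal F)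
    rw [hn] at hlt
    exact ih _ hlt (normalizerIn S X) N hSN hNsat rfl X hdN hNfree
  have hXn : F.IsNormal X := isNormal_of_homTotal_eq F hXS N hN hNF
  -- Step 3: `Y = O_p(F)` and `D = Y C_S(Y)`
  obtain ⟨Y, hYdef⟩ : ∃ Y : Subgroup Ω, Y = F.core := ⟨_, rfl⟩
  have hYn : F.IsNormal Y := by rw [hYdef]; exact isNormal_core F
  have hle_core : ∀ Q : Subgroup Ω, F.IsNormal Q → Q ≤ Y := by
    intro Q hQ
    rw [hYdef]
    exact le_sSup hQ
  have hXY : X ≤ Y := hle_core X hXn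
  have hYS : Y ≤ S := hYn.1
  have hSY := le_normalizer_of_isNormal F hYn
  obtain ⟨D, hDdef⟩ : ∃ D : Subgroup Ω, D = Y ⊔ centralizerIn S Y := ⟨_, rfl⟩
  have hDS : D ≤ S := by rw [hDdef]; exact sup_le hYS centralizerIn_le
  have hYD : Y ≤ D := by rw [hDdef]; exact le_sup_left
  have hXD : X ≤ D := hXY.trans hYD
  have hSD : S ≤ Subgroup.normalizer (D : Set Ω) := by
    rw [hDdef]; exact le_normalizer_sup_centralizerIn hYS hSY
  have hDfn := isFullyNormalized_of_normal F hDS hSD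
  obtain ⟨N₂, hN₂⟩ := Cfsg.Agent.S5096.result F D hDS
  haveI : Finite ↥(normalizerIn S D) := finite_of_le_finite normalizerIn_le
  have hSN₂ : IsPGroup p ↥(normalizerIn S D) := hS.to_le normalizerIn_le
  have hN₂sat := normalizerSystem_isSaturated p hS F hF hDfn N₂ hN₂
  have hN₂free := Cfsg.Agent.S5240.result p hS F hF hfree D hDfn N₂ hN₂
  have hdN₂ : FusData p N₂ X := by
    refine hd.mono N₂ (hXD.trans (le_normalizerIn hDS)) (fun α hα => ?_)
    obtain ⟨ψ₁, hψ₁, hψ₁Y, hψ₁α⟩ := exists_ext_normal F hYn hXY α hα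
    obtain ⟨ψ₂, hψ₂, hψ₂D, hψ₂Y⟩ := exists_ext_centralizer p hS F hF hYS hSY hψ₁ hψ₁Y
    subst hDdef
    exact mem_autGroup_normalizer_of_ext F hXD hDS N₂ hN₂ α hψ₂ hψ₂D
      (fun x => by rw [← hψ₁α x]; exact hψ₂Y x (hXY x.2))
  by_cases hN₂F : homTotal N₂ = homTotal F
  swap
  · have hlt := Set.ncard_lt_ncard (homTotal_ssubset F N₂ hN₂ hN₂F) (finite_homTotal F)
    rw [hn] at hlt
    exact ih _ hlt (normalizerIn S D) N₂ hSN₂ hN₂sat rfl X hdN₂ hN₂free
  have hDn : F.IsNormal D := isNormal_of_homTotal_eq F hDS N₂ hN₂ hN₂F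
  have hDY : D ≤ Y := hle_core D hDn
  have hCY : centralizerIn S Y ≤ Y := by
    refine le_trans ?_ hDY
    rw [hDdef]; exact le_sup_right
  -- Step 4: `Y` is centric, take a model of `N_F(Y)`
  have hYc : F.IsCentric Y := Cfsg.Agent.Helper25.Solv.isCentric_of_isNormal hYn hCY
  have hYfn := isFullyNormalized_of_normal F hYS hSY
  obtain ⟨N₃, hN₃⟩ := Cfsg.Agent.S5096.result F Y hYS
  haveI : Finite ↥(normalizerIn S Y) := finite_of_le_finite normalizerIn_le
  have hSN₃ : IsPGroup p ↥(normalizerIn S Y) := hS.to_le normalizerIn_le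
  have hN₃sat := normalizerSystem_isSaturated p hS F hF hYfn N₃ hN₃
  have hcons : N₃.IsConstrained p :=
    ⟨hN₃sat, Y, normalizerSystem_isNormal F hYS N₃ hN₃, normalizerSystem_isCentric F hYc N₃ hN₃⟩
  obtain ⟨L, _, ι, hm⟩ := exists_model p hSN₃ N₃ hcons
  have hdN₃ : FusData p N₃ X := by
    refine hd.mono N₃ (hXY.trans (le_normalizerIn hYS)) (fun α hα => ?_)
    obtain ⟨ψ₁, hψ₁, hψ₁Y, hψ₁α⟩ := exists_ext_normal F hYn hXY α hα
    exact mem_autGroup_normalizer_of_ext F hXY hYS N₃ hN₃ α hψ₁ hψ₁Y hψ₁α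
  have hm' := hm
  obtain ⟨hfin, hreal, -, -⟩ := hm'
  have hinv := inv_of_fusData hp2 hSN₃ hdN₃ ι hreal
  apply hfree Y hYfn hYc N₃ hN₃ L ι hm
  have h1 : Cfsg.Agent.Helper4.SLF.Inv ↥(Cfsg.qd p) L := by
    by_contra h
    exact (Cfsg.Agent.Helper4.QDF.qdfree_iff_afffree.mp h) hinv
  obtain ⟨K, f, hf⟩ := h1
  exact involves_of_surj K f hf

end Cfsg.Agent.Helper3.QdD
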