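import Mathlib
import Cfsg.Agent.Lib.Helper11.S11Defs

/-!
# S3211 piece S11-NOINV (helper3): every involution `u ≠ z` of `C(z)` is `C(z)`-conjugate to
`v₀ = a σ(a)`.
-/

set_option autoImplicit false
set_option linter.unusedVariables false

namespace Cfsg.Agent.Helper11.S11

/-- an outer element is not an involution. -/
theorem s11_noinv_outer {G : Type*} [Group G] {L : Subgroup G} {n z a : G} (h : Hyp L n z a)
    (p r : G) (hp : p ∈ L) (hr : r ∈ L) :
    (p * sg n r * n) * (p * sg n r * n) ≠ 1 := by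
  intro hsq
  rw [h.outer_sq p r hp hr] at hsq
  have hrp : r * p ∈ L := L.mul_mem hr hp
  have hpr : p * r ∈ L := L.mul_mem hp hr
  have h1 : (p * r * z) * sg n (r * p) = 1 := by
    calc (p * r * z) * sg n (r * p) = (p * r) * (z * sg n (r * p)) := by group
      _ = (p * r) * (sg n (r * p) * z) := by rw [h.z_sg (r * p) hrp]
      _ = (p * r) * sg n (r * p) * z := by group
      _ = 1 := hsq
  rcases h.split_one _ _ (L.mul_mem hpr h.z_mem) hrp h1 with ⟨h2, h3⟩ | ⟨h2, h3⟩
  · -- r p = 1 ⇒ p r = 1 ⇒ z = 1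
    apply h.z_ne
    have hpr1 : p * r = 1 := by
      have : r = p⁻¹ := eq_inv_of_mul_eq_one_left h3
      rw [this, mul_inv_cancel]
    rw [hpr1, one_mul] at h2
    exact h2
  · -- p r z = z ⇒ p r = 1 ⇒ r p = 1 ⇒ z = 1
    apply h.z_ne
    have hpr1 : p * r = 1 := by
      have : p * r * z = 1 * z := by rw [one_mul]; exact h2
      exact mul_right_cancel this
    have hrp1 : r * p = 1 := by
      have : p = r⁻¹ := eq_inv_of_mul_eq_one_left hpr1
      rw [this, mul_inv_cancel]
    rw [hrp1] at h3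
    exact h3.symm

/-- PIECE S11-NOINV -/
theorem invol_conj {G : Type*} [Group G] {L : Subgroup G} {n z a : G} (h : Hyp L n z a)
    (u : G) (hu : u * z = z * u) (hu2 : u * u = 1) (hu1 : u ≠ 1) (huz : u ≠ z) :
    ∃ c : G, c * z = z * c ∧ u = c * (a * sg n a) * c⁻¹ := by
  obtain ⟨p, hp, r, hr, hpr | hpr⟩ := h.cent u hu
  · -- inner
    have hsq : (p * p) * sg n (r * r) = 1 := by
      rw [← h.inner_sq p r hp hr, ← hpr]; exact hu2
    rcases h.split_one _ _ (L.mul_mem hp hp) (L.mul_mem hr hr) hsq with ⟨h2, h3⟩ | ⟨h2, h3⟩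
    · -- p, r ∈ {1, z}: u ∈ {1, z}
      exfalso
      rcases h.inv_unique p hp h2 with hp1 | hpz <;> rcases h.inv_unique r hr h3 with hr1 | hrz
      · apply hu1
        rw [hpr, hp1, hr1, sg_one, mul_one]
      · apply huz
        rw [hpr, hp1, hrz, h.sg_z, one_mul]
      · apply huz
        rw [hpr, hpz, hr1, sg_one, mul_one]
      · apply hu1
        rw [hpr, hpz, hrz, h.sg_z, h.z_sq]
    · -- p p = z, r r = z
      obtain ⟨s, hs, hps⟩ := h.conj p hp h2
      obtain ⟨t, ht, hrt⟩ := h.conj r hr h3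
      refine ⟨s * sg n t, ?_, ?_⟩
      · calc (s * sg n t) * z = s * (sg n t * z) := by group
          _ = s * (z * sg n t) := by rw [h.z_sg t ht]
          _ = (s * z) * sg n t := by group
          _ = (z * s) * sg n t := by rw [h.z_central s hs]
          _ = z * (s * sg n t) := by group
      · rw [h.inner_conj s t a a hs ht h.a_mem h.a_mem, ← hps, ← hrt]
        exact hpr
  · -- outer: impossible
    exfalso
    apply s11_noinv_outer h p r hp hr
    rw [← hpr]
    exact hu2

end Cfsg.Agent.Helper11.S11
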