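import Mathlib
import Cfsg.Agent.Lib.Helper11.S11Defs

/-!
# S3211 piece S11-QLOW (helper3): five square roots of `z` commuting with `v₀ = a σ(a)` which do not
conjugate `σ(a)` to `a⁻¹`.
-/

set_option autoImplicit false
set_option linter.unusedVariables false

namespace Cfsg.Agent.Helper11.S11

/-- PIECE S11-QLOW -/
theorem q_five {G : Type*} [Group G] {L : Subgroup G} {n z a : G} (h : Hyp L n z a) :
    ∃ s : Finset G, s.card = 5 ∧ ∀ y ∈ s, y * y = z ∧
      y * (a * sg n a) = (a * sg n a) * y ∧ y * sg n a * y⁻¹ ≠ a⁻¹ := by
  classical
  have haL : a ∈ L := h.a_mem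
  have hzL : z ∈ L := h.z_mem
  have hzaL : z * a ∈ L := L.mul_mem hzL haL
  have hainvL : a⁻¹ ∈ L := L.inv_mem haL
  have hσa : sg n a ∉ L := h.sg_a_not_mem
  -- commutation facts
  have hc_a : a * sg n a = sg n a * a := h.comm a haL a haL
  have hc_za : (z * a) * sg n a = sg n a * (z * a) := h.comm (z * a) hzaL a haL
  have hz_a : a * z = z * a := h.z_central a haL
  have hz_σ : sg n a * z = z * sg n a := h.z_sg a haL
  -- distinctness
  have d1 : n ≠ a := by
    have := h.n_not_inner a 1 haL L.one_mem
    rwa [sg_one, mul_one] at this
  have d2 : n ≠ z * a := by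
    have := h.n_not_inner (z * a) 1 hzaL L.one_mem
    rwa [sg_one, mul_one] at this
  have d3 : n ≠ sg n a := by
    have := h.n_not_inner 1 a L.one_mem haL
    rwa [one_mul] at this
  have d4 : n ≠ z * sg n a := h.n_not_inner z a hzL haL
  have d5 : a ≠ z * a := by
    intro he
    apply h.z_ne
    have : z * a = 1 * a := by rw [one_mul]; exact he.symm
    exact mul_right_cancel this
  have d6 : a ≠ sg n a := by
    intro he
    apply hσa
    rw [← he]; exact haL
  have d7 : a ≠ z * sg n a := by
    intro he
    apply hσa
    have : sg n a = z * a := by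
      calc sg n a = (z * z) * sg n a := by rw [h.z_sq, one_mul]
        _ = z * (z * sg n a) := by rw [mul_assoc]
        _ = z * a := by rw [← he]
    rw [this]; exact hzaL
  have d8 : z * a ≠ sg n a := by
    intro he
    apply hσa
    rw [← he]; exact hzaL
  have d9 : z * a ≠ z * sg n a := by
    intro he
    exact d6 (mul_left_cancel he)
  have d10 : sg n a ≠ z * sg n a := by
    intro he
    apply h.z_ne
    have : z * sg n a = 1 * sg n a := by rw [one_mul]; exact he.symm
    exact mul_right_cancel this
  refine ⟨{n, a, z * a, sg n a, z * sg n a}, ?_, ?_⟩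
  · rw [Finset.card_insert_of_notMem, Finset.card_insert_of_notMem, Finset.card_insert_of_notMem,
      Finset.card_insert_of_notMem, Finset.card_singleton]
    · simp only [Finset.mem_singleton]; exact d10
    · simp only [Finset.mem_insert, Finset.mem_singleton]
      rintro (h1 | h1)
      · exact d8 h1
      · exact d9 h1
    · simp only [Finset.mem_insert, Finset.mem_singleton]
      rintro (h1 | h1 | h1)
      · exact d5 h1
      · exact d6 h1
      · exact d7 h1
    · simp only [Finset.mem_insert, Finset.mem_singleton]
      rintro (h1 | h1 | h1 | h1)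
      · exact d1 h1
      · exact d2 h1
      · exact d3 h1
      · exact d4 h1
  · intro y hy
    simp only [Finset.mem_insert, Finset.mem_singleton] at hy
    rcases hy with hy | hy | hy | hy | hy
    · -- y = n
      rw [hy]
      refine ⟨h.n_sq, ?_, ?_⟩
      · have h1 := h.n_conj a a haL haL
        calc n * (a * sg n a) = (n * (a * sg n a) * n⁻¹) * n := by group
          _ = (a * sg n a) * n := by rw [h1]
      · have h1 : n * sg n a * n⁻¹ = a := h.sg_sg a haL
        rw [h1, h.a_inv]
        exact d5
    · -- y = a
      rw [hy]
      refine ⟨h.a_sq, ?_, ?_⟩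
      · rw [mul_assoc, ← hc_a]
      · have h1 : a * sg n a * a⁻¹ = sg n a := by rw [hc_a]; group
        rw [h1]
        intro he
        apply hσa
        rw [he]; exact hainvL
    · -- y = z * a
      rw [hy]
      refine ⟨?_, ?_, ?_⟩
      · calc (z * a) * (z * a) = z * (a * z) * a := by group
          _ = z * (z * a) * a := by rw [hz_a]
          _ = (z * z) * (a * a) := by group
          _ = z := by rw [h.z_sq, h.a_sq, one_mul]
      · calc (z * a) * (a * sg n a) = z * (a * (a * sg n a)) := by group
          _ = z * ((a * sg n a) * a) := by rw [mul_assoc a (sg n a) a, ← hc_a]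
          _ = (z * a) * sg n a * a := by group
          _ = (a * z) * sg n a * a := by rw [hz_a]
          _ = a * (z * sg n a) * a := by group
          _ = a * (sg n a * z) * a := by rw [hz_σ]
          _ = (a * sg n a) * (z * a) := by group
      · have h1 : (z * a) * sg n a * (z * a)⁻¹ = sg n a := by rw [hc_za]; group
        rw [h1]
        intro he
        apply hσa
        rw [he]; exact hainvL
    · -- y = σ a
      rw [hy]
      refine ⟨?_, ?_, ?_⟩
      · rw [← sg_mul, h.a_sq, h.sg_z]
      · rw [← mul_assoc, ← hc_a]
      · have h1 : sg n a * sg n a * (sg n a)⁻¹ = sg n a := by group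
        rw [h1]
        intro he
        apply hσa
        rw [he]; exact hainvL
    · -- y = z * σ a
      rw [hy]
      refine ⟨?_, ?_, ?_⟩
      · calc (z * sg n a) * (z * sg n a) = z * (sg n a * z) * sg n a := by group
          _ = z * (z * sg n a) * sg n a := by rw [hz_σ]
          _ = (z * z) * (sg n a * sg n a) := by group
          _ = z := by rw [h.z_sq, one_mul, ← sg_mul, h.a_sq, h.sg_z]
      · calc (z * sg n a) * (a * sg n a) = z * (sg n a * a) * sg n a := by group
          _ = z * (a * sg n a) * sg n a := by rw [← hc_a]
          _ = (z * a) * sg n a * sg n a := by group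
          _ = (a * z) * sg n a * sg n a := by rw [hz_a]
          _ = a * (z * sg n a) * sg n a := by group
          _ = a * (sg n a * z) * sg n a := by rw [hz_σ]
          _ = (a * sg n a) * (z * sg n a) := by group
      · have h1 : (z * sg n a) * sg n a * (z * sg n a)⁻¹ = z * sg n a * z⁻¹ := by group
        have h2 : z * sg n a * z⁻¹ = sg n a := by rw [← hz_σ]; group
        rw [h1, h2]
        intro he
        apply hσa
        rw [he]; exact hainvL

end Cfsg.Agent.Helper11.S11
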