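import Mathlib
import Cfsg.Prelude.Def_Classical
import Cfsg.Agent.Lib.Helper15.S74Defs
import Cfsg.Agent.Lib.Helper21.S74ODefs
import Cfsg.Agent.Lib.Helper13.MatQuad

/-!
# S2474 T3 piece S74O-UNI3 (helper3): a unipotent isometry of order `p` of `x0^2 + x1 * x2`.
-/

set_option autoImplicit false

namespace Cfsg.Agent.Helper15.S74

open QuadraticMap Matrix

universe u

section pieces

variable {F : Type u} [Field F]

/-- the Gram-type matrix of `x0^2 + x1 * x2` -/
def s74o_uni3_G (F : Type u) [Field F] : Matrix (Fin 3) (Fin 3) F := !![1, 0, 0; 0, 0, 1; 0, 0, 0]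

/-- the nilpotent part -/
def s74o_uni3_N (F : Type u) [Field F] : Matrix (Fin 3) (Fin 3) F := !![0, 0, 1; -2, 0, -1; 0, 0, 0]

theorem s74o_uni3_N_cube : s74o_uni3_N F ^ 3 = 0 := by
  unfold s74o_uni3_N
  rw [pow_succ, pow_two]
  ext i j
  fin_cases i <;> fin_cases j <;> simp [Matrix.mul_apply, Fin.sum_univ_three]

theorem s74o_uni3_N_ne : (1 : Matrix (Fin 3) (Fin 3) F) + s74o_uni3_N F ≠ 1 := by
  intro h
  have h02 := congrFun (congrFun h 0) 2
  unfold s74o_uni3_N at h02
  simp at h02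

theorem s74o_uni3_sum : s74o_uni3_G F + (s74o_uni3_G F)ᵀ = !![2, 0, 0; 0, 0, 1; 0, 1, 0] := by
  unfold s74o_uni3_G
  ext i j
  fin_cases i <;> fin_cases j <;> simp <;> norm_num

theorem s74o_uni3_det (h2 : (2 : F) ≠ 0) : (s74o_uni3_G F + (s74o_uni3_G F)ᵀ).det ≠ 0 := by
  rw [s74o_uni3_sum, Matrix.det_fin_three]
  simp
  exact h2

/-- PIECE S74O-UNI3. -/
theorem omodel_uni3 (p : ℕ) [Fact p.Prime] [CharP F p] (hp2 : p ≠ 2) : OModel F 3 p := by
  have hp : p.Prime := Fact.out
  have h2 : (2 : F) ≠ 0 := by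
    intro h
    have h' : ((2 : ℕ) : F) = 0 := by exact_mod_cast h
    rw [CharP.cast_eq_zero_iff F p] at h'
    exact hp2 ((Nat.prime_dvd_prime_iff_eq hp Nat.prime_two).1 h')
  have hp3 : 3 ≤ p := by
    have := hp.two_le
    omega
  refine ⟨Cfsg.Agent.Helper13.matQ (s74o_uni3_G F),
    Matrix.toLinAlgEquiv' (1 + s74o_uni3_N F), ?_, ?_, hp.pos, ?_⟩
  · exact Cfsg.Agent.Helper13.matQ_nondeg _ (s74o_uni3_det h2)
  · intro v
    rw [Cfsg.Agent.Helper13.matQ_apply, Cfsg.Agent.Helper13.matQ_apply, Matrix.toLinAlgEquiv'_apply]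
    unfold s74o_uni3_G s74o_uni3_N
    simp only [dotProduct, Fin.sum_univ_three, Matrix.mulVec, Matrix.of_apply, Matrix.cons_val',
      Matrix.cons_val_zero, Matrix.cons_val_one, Matrix.cons_val_two, Matrix.empty_val',
      Matrix.cons_val_fin_one, Matrix.add_apply, Matrix.one_apply_eq, Matrix.head_cons,
      Matrix.tail_cons]
    simp
    ring
  · apply orderOf_eq_prime
    · rw [← map_pow]
      have hpow : (1 + s74o_uni3_N F) ^ p = 1 := by
        rw [add_pow_char_of_commute p (Commute.one_left (s74o_uni3_N F)), one_pow]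
        have : s74o_uni3_N F ^ p = 0 := by
          have hp' : p = 3 + (p - 3) := by omega
          rw [hp', pow_add, s74o_uni3_N_cube, zero_mul]
        rw [this, add_zero]
      rw [hpow, map_one]
    · intro h
      have h1 : (Matrix.toLinAlgEquiv' (1 + s74o_uni3_N F) : Module.End F (Fin 3 → F))
          = Matrix.toLinAlgEquiv' 1 := by rw [h, map_one]
      exact s74o_uni3_N_ne (Matrix.toLinAlgEquiv'.injective h1)

end pieces

end Cfsg.Agent.Helper15.S74
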