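import Mathlib
import Cfsg.Prelude.Def_FusionSystem
import Cfsg.Agent.Lib.Helper3.SmAbDefs
import Cfsg.Agent.Lib.Helper25.FusionSubSys
import Cfsg.Agent.Lib.Helper25.KNorm7
import Cfsg.Agent.Lib.Helper25.SmAbCnt

/-!
# Small abelian subgroups control fusion: the centralizer step (helper3)
-/

set_option autoImplicit false

namespace Cfsg.Agent.Helper3.SmAb

open Cfsg Cfsg.FusionSystem Cfsg.Agent.Helper25

variable {Ω : Type*} [Group Ω] {S : Subgroup Ω}

theorem isFullyCentralized_of_le {E F : FusionSystem S} (hEF : E ≤ F) {A : Subgroup Ω}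
    (h : F.IsFullyCentralized A) : E.IsFullyCentralized A := by
  refine ⟨h.1, fun Q hQ => h.2 Q ?_⟩
  obtain ⟨φ, hφ, hr⟩ := hQ
  exact ⟨φ, hEF _ hφ, hr⟩

theorem isFullyNormalized_of_le {E F : FusionSystem S} (hEF : E ≤ F) {A : Subgroup Ω}
    (h : F.IsFullyNormalized A) : E.IsFullyNormalized A := by
  refine ⟨h.1, fun Q hQ => h.2 Q ?_⟩
  obtain ⟨φ, hφ, hr⟩ := hQ
  exact ⟨φ, hEF _ hφ, hr⟩

theorem centralizer_step [Finite S] (p : ℕ) [Fact p.Prime] (hS : IsPGroup p S)
    (E F : FusionSystem S) (hE : E.IsSaturated p) (hF : F.IsSaturated p) (hEF : E ≤ F)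
    (hag : Agree p E F)
    (IH : ∀ (T : Subgroup Ω) [Finite T], IsPGroup p T → ∀ (E' F' : FusionSystem T),
      E'.IsSaturated p → F'.IsSaturated p → E' ≤ F' → Agree p E' F' →
      morCount F' < morCount F → F' ≤ E')
    {A : Subgroup Ω} (hA : A ≤ F.hyperfocalSubgroup p) (hAs : Small p A)
    (hfc : F.IsFullyCentralized A) (hnc : ¬ CentralIn F A) :
    ∀ P : Subgroup Ω, F.centralizerHom A P ⊆ E.centralizerHom A P := by
  have hAS : A ≤ S := hfc.1
  have hTS : centralizerIn S A ≤ S := centralizerIn_le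
  haveI : Finite (centralizerIn S A) := finite_of_le_finite hTS
  have hT : IsPGroup p (centralizerIn S A) := hS.to_le hTS
  have hfcE : E.IsFullyCentralized A := isFullyCentralized_of_le hEF hfc
  have hCF := centralizerSystem_isSaturated p hS F hF hfc (centSys F A hAS)
    (isCentralizerSystem_centSys F A hAS)
  have hCE := centralizerSystem_isSaturated p hS E hE hfcE (centSys E A hAS)
    (isCentralizerSystem_centSys E A hAS)
  have hle : centSys E A hAS ≤ centSys F A hAS := by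
    rintro P φ ⟨h1, h2, h3, ψ, hψ, hψP, hψA⟩
    exact ⟨hEF _ h1, h2, h3, ψ, hEF _ hψ, hψP, hψA⟩
  have hhyp : (centSys F A hAS).hyperfocalSubgroup p ≤ F.hyperfocalSubgroup p :=
    hyperfocalSubgroup_mono F (centSys F A hAS) hTS (fun P φ h => h.1) p
  have hag' : Agree p (centSys E A hAS) (centSys F A hAS) := by
    rintro B hB hBs φ ⟨hφF, hBC, hφC, ψ, hψF, hψB, hψA⟩
    have hBA : Small p (B ⊔ A) := by
      refine small_sup hBs hAs ?_
      intro b hb a ha
      exact ((mem_centralizerIn.mp (hBC hb)).2 a ha).symm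
    have hle' : B ⊔ A ≤ F.hyperfocalSubgroup p := sup_le (hB.trans hhyp) hA
    have hψE : ψ ∈ E.Hom (B ⊔ A) := hag _ hle' hBA hψF
    have hφE : φ ∈ E.Hom B := by
      have := restrict_mem E (le_sup_left : B ≤ B ⊔ A) hψE
      have e : ψ.comp (Subgroup.inclusion (le_sup_left : B ≤ B ⊔ A)) = φ := by
        ext x; exact hψB x
      rwa [e] at this
    exact ⟨hφE, hBC, hφC, ψ, hψE, hψB, hψA⟩
  have hlt := Cfsg.Agent.Helper25.SmAbCnt.morCount_centSys_lt F A hAS hnc
  have := IH (centralizerIn S A) hT (centSys E A hAS) (centSys F A hAS) hCE hCF hle hag' hlt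
  intro P φ hφ
  exact this P hφ

end Cfsg.Agent.Helper3.SmAb
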