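import Mathlib
import Cfsg.Prelude.Def_FusionSystem
import Cfsg.Agent.Lib.Helper3.SmAbDefs
import Cfsg.Agent.Lib.Helper3.SmAbCent
import Cfsg.Agent.Lib.Helper25.FusionModel2
import Cfsg.Agent.Lib.Helper25.FusionNormal3
import Cfsg.Agent.Lib.Helper25.KNorm7
import Cfsg.Agent.Lib.Helper26.FusionCentric
import Cfsg.Agent.Lib.Helper25.SmAbCent
import Cfsg.Agent.S5082
import Cfsg.Agent.S5080
import Cfsg.Agent.S5096

/-!
# Small abelian subgroups control fusion: the normalizer step (helper3)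
-/

set_option autoImplicit false

namespace Cfsg.Agent.Helper3.SmAb

open Cfsg Cfsg.FusionSystem Cfsg.Agent.Helper25

variable {Ω : Type*} [Group Ω] {S : Subgroup Ω}

theorem surj_on_of_maps_into {A P : Subgroup Ω} [Finite A] (hAP : A ≤ P) {φ : P →* Ω}
    (hinj : Function.Injective φ) (himg : ∀ (a : Ω) (ha : a ∈ A), φ ⟨a, hAP ha⟩ ∈ A) :
    ∀ y ∈ A, ∃ (a : Ω) (ha : a ∈ A), φ ⟨a, hAP ha⟩ = y := by
  let f : A → A := fun a => ⟨φ ⟨a, hAP a.2⟩, himg a a.2⟩
  have hf : Function.Injective f := by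
    intro a b hab
    have h1 : φ ⟨a, hAP a.2⟩ = φ ⟨b, hAP b.2⟩ := congrArg Subtype.val hab
    have h2 := hinj h1
    have h3 : (a : Ω) = b := congrArg (fun z : P => (z : Ω)) h2
    exact Subtype.ext h3
  have hs := Finite.surjective_of_injective hf
  intro y hy
  obtain ⟨a, ha⟩ := hs ⟨y, hy⟩
  exact ⟨a, a.2, congrArg Subtype.val ha⟩

/-- membership in `normalizerHom` for a source containing `A` -/
theorem mem_normalizerHom_of_le (F : FusionSystem S) {A P : Subgroup Ω} [Finite A] (hAP : A ≤ P)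
    (hPN : P ≤ normalizerIn S A) {φ : P →* Ω} (hφ : φ ∈ F.Hom P)
    (himg : ∀ (a : Ω) (ha : a ∈ A), φ ⟨a, hAP ha⟩ ∈ A) : φ ∈ F.normalizerHom A P := by
  have hinj := F.injective_of_mem hφ
  have hsurj := surj_on_of_maps_into hAP hinj himg
  have hle : P ⊔ A ≤ P := sup_le le_rfl hAP
  refine ⟨hφ, hPN, fun x => ?_, φ.comp (Subgroup.inclusion hle), restrict_mem F hle hφ,
    fun x => rfl, ?_⟩
  · refine ⟨(F.le_of_mem hφ).2 x, ?_⟩
    have hxN := (hPN x.2).2
    apply mem_normalizer_of_forall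
    · intro y hy
      obtain ⟨a, ha, rfl⟩ := hsurj y hy
      have h1 : (x : Ω) * a * (x : Ω)⁻¹ ∈ A := (Subgroup.mem_normalizer_iff.mp hxN a).mp ha
      have h2 := himg _ h1
      have e : (⟨(x : Ω) * a * (x : Ω)⁻¹, hAP h1⟩ : P) = x * ⟨a, hAP ha⟩ * x⁻¹ := Subtype.ext rfl
      rw [e, map_mul, map_mul, map_inv] at h2
      exact h2
    · intro y hy
      obtain ⟨a, ha, rfl⟩ := hsurj y hy
      have h1 : (x : Ω)⁻¹ * a * (x : Ω) ∈ A := by
        have := (Subgroup.mem_normalizer_iff.mp (Subgroup.inv_mem _ hxN) a).mp ha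
        simpa using this
      have h2 := himg _ h1
      have e : (⟨(x : Ω)⁻¹ * a * (x : Ω), hAP h1⟩ : P) = x⁻¹ * ⟨a, hAP ha⟩ * x := Subtype.ext rfl
      rw [e, map_mul, map_mul, map_inv] at h2
      exact h2
  · ext y
    rw [mem_map_subgroupOf]
    constructor
    · rintro ⟨x, hK, hxA, rfl⟩
      exact himg x hxA
    · intro hy
      obtain ⟨a, ha, rfl⟩ := hsurj y hy
      exact ⟨a, le_sup_right (a := P) ha, ha, rfl⟩

/-- membership in `centralizerHom` for a source containing `A` -/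
theorem mem_centralizerHom_of_le (F : FusionSystem S) {A P : Subgroup Ω} (hAP : A ≤ P)
    (hPC : P ≤ centralizerIn S A) {φ : P →* Ω} (hφ : φ ∈ F.Hom P)
    (hfix : ∀ (a : Ω) (ha : a ∈ A), φ ⟨a, hAP ha⟩ = a) : φ ∈ F.centralizerHom A P := by
  have hle : P ⊔ A ≤ P := sup_le le_rfl hAP
  refine ⟨hφ, hPC, fun x => ?_, φ.comp (Subgroup.inclusion hle), restrict_mem F hle hφ,
    fun x => rfl, fun a => ?_⟩
  · rw [mem_centralizerIn]
    refine ⟨(F.le_of_mem hφ).2 x, fun a ha => ?_⟩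
    have h1 := (mem_centralizerIn.mp (hPC x.2)).2 a ha
    have h2 : (⟨a, hAP ha⟩ : P) * x = x * ⟨a, hAP ha⟩ := Subtype.ext h1
    have h3 := congrArg φ h2
    rw [map_mul, map_mul, hfix a ha] at h3
    exact h3
  · exact hfix a a.2


theorem normalizer_step [Finite S] (p : ℕ) [Fact p.Prime] (hS : IsPGroup p S)
    (E F : FusionSystem S) (hE : E.IsSaturated p) (hF : F.IsSaturated p) (hEF : E ≤ F)
    (hag : Agree p E F)
    {A : Subgroup Ω} (hA : A ≤ F.hyperfocalSubgroup p) (hAs : Small p A)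
    (hfn : F.IsFullyNormalized A)
    (hcent : ∀ P : Subgroup Ω, F.centralizerHom A P ⊆ E.centralizerHom A P) :
    ∀ P : Subgroup Ω, F.normalizerHom A P ⊆ E.normalizerHom A P := by
  have hAS : A ≤ S := hfn.1
  haveI : Finite A := finite_of_le_finite hAS
  obtain ⟨N, hN⟩ := Cfsg.Agent.S5096.result F A hAS
  obtain ⟨N', hN'⟩ := Cfsg.Agent.S5096.result E A hAS
  have hTS : normalizerIn S A ≤ S := normalizerIn_le
  haveI : Finite (normalizerIn S A) := finite_of_le_finite hTS
  have hT : IsPGroup p (normalizerIn S A) := hS.to_le hTS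
  have hfnE : E.IsFullyNormalized A := isFullyNormalized_of_le hEF hfn
  have hNsat := normalizerSystem_isSaturated p hS F hF hfn N hN
  have hN'sat := normalizerSystem_isSaturated p hS E hE hfnE N' hN'
  have hN'N : N' ≤ N := by
    intro P φ hφ
    rw [hN' P] at hφ
    rw [hN P]
    obtain ⟨h1, h2, h3, ψ, hψ, hψP, hψA⟩ := hφ
    exact ⟨hEF _ h1, h2, h3, ψ, hEF _ hψ, hψP, hψA⟩
  have hNF : ∀ P : Subgroup Ω, N.Hom P ⊆ F.Hom P := by
    intro P φ hφ
    rw [hN P] at hφ
    exact hφ.1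
  have hN'E : ∀ P : Subgroup Ω, N'.Hom P ⊆ E.Hom P := by
    intro P φ hφ
    rw [hN' P] at hφ
    exact hφ.1
  have hAn : N.IsNormal A := normalizerSystem_isNormal F hAS N hN
  have hAsc : N.StronglyClosed A := stronglyClosed_of_isNormal N hAn
  have hAT : A ≤ normalizerIn S A := le_normalizerIn hAS
  have hrecE : E.IsReceptive A := (of_fullyNormalized p hS E hE hfnE).2.2
  have key : N ≤ N' := by
    apply Cfsg.Agent.S5082.result p hT N hNsat N'
    intro R hR α hα
    -- basic facts on `R`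
    have hRT : R ≤ normalizerIn S A := by
      rcases hR with rfl | hess
      · exact le_rfl
      · exact hess.1.1
    have hRS : R ≤ S := hRT.trans hTS
    have hAR : A ≤ R := by
      rcases hR with rfl | hess
      · exact hAT
      · exact le_of_isNormal_of_centric_radical p hT N hAn hess.1
          (Cfsg.Agent.S5080.result p hT N hNsat R hess)
    -- `Y = C_R(A)`
    obtain ⟨Y, hYdef⟩ : ∃ Y : Subgroup Ω, Y = centralizerIn R A := ⟨_, rfl⟩
    have hYR : Y ≤ R := hYdef ▸ centralizerIn_le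
    have hAY : A ≤ Y := by
      intro a ha
      rw [hYdef, mem_centralizerIn]
      exact ⟨hAR ha, fun x hx => small_comm hAs hx ha⟩
    have hYC : Y ≤ centralizerIn S A := by
      intro y hy
      rw [hYdef, mem_centralizerIn] at hy
      rw [mem_centralizerIn]
      exact ⟨hRS hy.1, hy.2⟩
    have hYT : Y ≤ normalizerIn S A := hYR.trans hRT
    have hαA : ∀ β ∈ N.autGroup R, ∀ x : R, (x : Ω) ∈ A → ((β x : R) : Ω) ∈ A :=
      fun β hβ x hx => aut_mem_of_stronglyClosed N hAsc hRT hβ hx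
    have hαY : ∀ β ∈ N.autGroup R, ∀ x : R, (x : Ω) ∈ Y → ((β x : R) : Ω) ∈ Y := by
      intro β hβ x hx
      rw [hYdef, mem_centralizerIn] at hx ⊢
      refine ⟨(β x).2, fun a ha => ?_⟩
      have hβi : β⁻¹ ∈ N.autGroup R := Subgroup.inv_mem _ hβ
      have ha' := hαA β⁻¹ hβi ⟨a, hAR ha⟩ ha
      have h1 := hx.2 _ ha'
      have h2 : (β⁻¹ ⟨a, hAR ha⟩) * x = x * (β⁻¹ ⟨a, hAR ha⟩) := Subtype.ext h1
      have h3 := congrArg β h2
      rw [map_mul, map_mul, MulAut.apply_inv_self] at h3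
      exact congrArg Subtype.val h3
    have hYcen : ∀ r ∈ R, (∀ y ∈ Y, r * y = y * r) → r ∈ Y := by
      intro r hr h
      rw [hYdef, mem_centralizerIn]
      exact ⟨hr, fun a ha => (h a (hAY ha)).symm⟩
    have hYc : N.IsCentric Y := by
      rcases hR with rfl | hess
      · -- `Y` is normal in `T`
        have hYn : normalizerIn (normalizerIn S A) Y = normalizerIn S A := by
          apply le_antisymm normalizerIn_le
          intro g hg
          refine ⟨hg, ?_⟩
          have hc : conjHom (normalizerIn S A) g ∈ N.Hom (normalizerIn S A) :=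
            N.conj_mem le_rfl hg
          have hc' : conjHom (normalizerIn S A) g⁻¹ ∈ N.Hom (normalizerIn S A) :=
            N.conj_mem le_rfl (Subgroup.inv_mem _ hg)
          obtain ⟨β, hβ, hβc⟩ := Cfsg.Agent.Helper25.exists_aut_of_range_eq N hc (by
            apply le_antisymm
            · rintro _ ⟨x, rfl⟩
              exact Subgroup.mul_mem _ (Subgroup.mul_mem _ hg x.2) (Subgroup.inv_mem _ hg)
            · intro y hy
              refine ⟨⟨g⁻¹ * y * g, Subgroup.mul_mem _ (Subgroup.mul_mem _ (Subgroup.inv_mem _ hg) hy) hg⟩, ?_⟩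
              show g * (g⁻¹ * y * g) * g⁻¹ = y
              group)
          obtain ⟨β', hβ', hβ'c⟩ := Cfsg.Agent.Helper25.exists_aut_of_range_eq N hc' (by
            apply le_antisymm
            · rintro _ ⟨x, rfl⟩
              exact Subgroup.mul_mem _ (Subgroup.mul_mem _ (Subgroup.inv_mem _ hg) x.2)
                (Subgroup.inv_mem _ (Subgroup.inv_mem _ hg))
            · intro y hy
              refine ⟨⟨g * y * g⁻¹, Subgroup.mul_mem _ (Subgroup.mul_mem _ hg hy) (Subgroup.inv_mem _ hg)⟩, ?_⟩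
              show g⁻¹ * (g * y * g⁻¹) * g⁻¹⁻¹ = y
              group)
          apply mem_normalizer_of_forall
          · intro y hy
            have := hαY β hβ ⟨y, hYR hy⟩ hy
            have e : (((β ⟨y, hYR hy⟩ : ↥(normalizerIn S A)) : Ω)) = g * y * g⁻¹ :=
              congrFun (congrArg DFunLike.coe hβc) ⟨y, hYR hy⟩
            rwa [e] at this
          · intro y hy
            have := hαY β' hβ' ⟨y, hYR hy⟩ hy
            have e : (((β' ⟨y, hYR hy⟩ : ↥(normalizerIn S A)) : Ω)) = g⁻¹ * y * g⁻¹⁻¹ :=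
              congrFun (congrArg DFunLike.coe hβ'c) ⟨y, hYR hy⟩
            rw [e, inv_inv] at this
            exact this
        have hYfn : N.IsFullyNormalized Y := by
          refine ⟨hYR, fun Q _ => ?_⟩
          rw [hYn]
          exact Subgroup.card_le_of_le normalizerIn_le
        have hYfc := (of_fullyNormalized p hT N hNsat hYfn).1
        refine isCentric_of_fullyCentralized N hYfc ?_
        intro c hc
        rw [mem_centralizerIn] at hc
        exact hYcen c hc.1 (fun y hy => (hc.2 y hy).symm)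
      · exact Cfsg.Agent.Helper25.SmAbCent.centric_of_invariant p hT N hNsat hess.1
          (Cfsg.Agent.S5080.result p hT N hNsat R hess) hYR hαY hYcen
    -- the restriction of `α` to `A`
    have hαN : R.subtype.comp α.toMonoidHom ∈ N.Hom R := (mem_autGroup_iff N hRT α).mp hα
    have hαF : R.subtype.comp α.toMonoidHom ∈ F.Hom R := hNF R hαN
    obtain ⟨a, hadef⟩ : ∃ a : A →* Ω, a = (R.subtype.comp α.toMonoidHom).comp (Subgroup.inclusion hAR) :=
      ⟨_, rfl⟩
    have haapply : ∀ (x : Ω) (hx : x ∈ A), a ⟨x, hx⟩ = ((α ⟨x, hAR hx⟩ : R) : Ω) := by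
      intro x hx; rw [hadef]; rfl
    have haF : a ∈ F.Hom A := hadef ▸ restrict_mem F hAR hαF
    have haE : a ∈ E.Hom A := hag A hA hAs haF
    have haA : ∀ (x : Ω) (hx : x ∈ A), a ⟨x, hx⟩ ∈ A := fun x hx => by
      rw [haapply x hx]; exact hαA α hα _ hx
    have harange : a.range = A := by
      apply le_antisymm
      · rintro _ ⟨x, rfl⟩; exact haA x x.2
      · intro y hy
        obtain ⟨x, hx, hxy⟩ := surj_on_of_maps_into (le_rfl : A ≤ A) (F.injective_of_mem haF)
          (fun x hx => haA x hx) y hy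
        exact ⟨⟨x, hx⟩, hxy⟩
    obtain ⟨ψ, hψE, hψa⟩ := hrecE.2 A a haE harange
    have hRext : R ≤ extender S A a := by
      intro g hg
      rw [mem_extender_iff]
      refine ⟨hRS hg, (hRT hg).2, ((α ⟨g, hg⟩ : R) : Ω), hRS (α ⟨g, hg⟩).2, fun x hx => ?_⟩
      rw [haapply _ hx]
      have hxx : a x = ((α ⟨x, hAR x.2⟩ : R) : Ω) := haapply x x.2
      rw [hxx]
      have e : (⟨g * (x : Ω) * g⁻¹, hAR hx⟩ : R) = ⟨g, hg⟩ * ⟨x, hAR x.2⟩ * ⟨g, hg⟩⁻¹ :=
        Subtype.ext rfl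
      rw [e, map_mul, map_mul, map_inv]
      rfl
    obtain ⟨ψR, hψRdef⟩ : ∃ ψR : R →* Ω, ψR = ψ.comp (Subgroup.inclusion hRext) := ⟨_, rfl⟩
    have hψRE : ψR ∈ E.Hom R := hψRdef ▸ restrict_mem E hRext hψE
    have hψRA : ∀ (x : Ω) (hx : x ∈ A), ψR ⟨x, hAR hx⟩ = ((α ⟨x, hAR hx⟩ : R) : Ω) := by
      intro x hx
      rw [← haapply x hx, ← hψa x hx (hRext (hAR hx)), hψRdef]
      rfl
    have hψRN' : ψR ∈ N'.Hom R := by
      rw [hN' R]
      exact mem_normalizerHom_of_le E hAR hRT hψRE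
        (fun x hx => by rw [hψRA x hx]; exact hαA α hα _ hx)
    have hψRN : ψR ∈ N.Hom R := hN'N R hψRN'
    -- `γ = ψR ∘ α⁻¹`
    have hαi : α⁻¹ ∈ N.autGroup R := Subgroup.inv_mem _ hα
    obtain ⟨γ, hγdef⟩ : ∃ γ : R →* Ω, γ = ψR.comp (α⁻¹).toMonoidHom := ⟨_, rfl⟩
    have hγapply : ∀ x : R, γ x = ψR (α⁻¹ x) := fun x => by rw [hγdef]; rfl
    have hγN : γ ∈ N.Hom R := hγdef ▸ comp_aut_mem N hψRN hαi
    have hγfix : ∀ (x : Ω) (hx : x ∈ A), γ ⟨x, hAR hx⟩ = x := by
      intro x hx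
      have h1 := hαA α⁻¹ hαi ⟨x, hAR hx⟩ hx
      have h2 := hψRA _ h1
      have e : (⟨((α⁻¹ ⟨x, hAR hx⟩ : R) : Ω), hAR h1⟩ : R) = α⁻¹ ⟨x, hAR hx⟩ := Subtype.ext rfl
      rw [e] at h2
      rw [hγapply, h2]
      simp
    have hγF : γ ∈ F.Hom R := hNF R hγN
    have hγYF : γ.comp (Subgroup.inclusion hYR) ∈ F.Hom Y := restrict_mem F hYR hγF
    have hγYC : γ.comp (Subgroup.inclusion hYR) ∈ F.centralizerHom A Y :=
      mem_centralizerHom_of_le F hAY hYC hγYF (fun x hx => hγfix x hx)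
    have hγYE := hcent Y hγYC
    have hγYN' : γ.comp (Subgroup.inclusion hYR) ∈ N'.Hom Y := by
      rw [hN' Y]
      refine mem_normalizerHom_of_le E hAY hYT hγYE.1 (fun x hx => ?_)
      have : (γ.comp (Subgroup.inclusion hYR)) ⟨x, hAY hx⟩ = x := hγfix x hx
      rw [this]; exact hx
    have hγN' : γ ∈ N'.Hom R :=
      Cfsg.Agent.Helper26.mem_of_restrict_mem_centric p hT N hNsat N' hN'sat hN'N hγN hYR hYc
        hγYN'
    obtain ⟨θ, hθ, hθinv, -⟩ := exists_inv N' hγN' rfl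
    have hγα : ∀ x : R, γ (α x) = ψR x := fun x => by
      rw [hγapply]; simp
    have hval : ∀ x : R, ψR x ∈ γ.range := fun x => ⟨α x, hγα x⟩
    rw [mem_autGroup_iff N' hRT]
    refine comp_mem' N' hψRN' hθ hval (fun x => ?_)
    have h1 := hθinv (α x) ⟨α x, rfl⟩
    show ((α x : R) : Ω) = θ ⟨ψR x, hval x⟩
    rw [← h1]
    congr 1
    exact Subtype.ext (hγα x)
  intro P φ hφ
  rw [← hN P] at hφ
  rw [← hN' P]
  exact key P hφ

end Cfsg.Agent.Helper3.SmAb
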