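import Mathlib
import Cfsg.Prelude.Def_FusionSystem
import Cfsg.Agent.Lib.Helper3.SmAbDefs
import Cfsg.Agent.Lib.Helper3.SmAbCent
import Cfsg.Agent.Lib.Helper3.SmAbNorm
import Cfsg.Agent.Lib.Helper25.FusionInner
import Cfsg.Agent.Lib.Helper25.KNorm2
import Cfsg.Agent.Lib.Helper25.SmAbNonc
import Cfsg.Agent.S5082
import Cfsg.Agent.S5124

/-!
# Small abelian subgroups control fusion: the automorphism step (helper3)
-/

set_option autoImplicit false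

namespace Cfsg.Agent.Helper3.SmAb

open Cfsg Cfsg.FusionSystem Cfsg.Agent.Helper25

variable {Ω : Type*} [Group Ω] {S : Subgroup Ω}

/-- the case of a noncentral small abelian subgroup normalized by `N_S(R)` -/
theorem aut_le_of_noncentral [Finite S] (p : ℕ) [Fact p.Prime] (hS : IsPGroup p S)
    (E F : FusionSystem S) (hE : E.IsSaturated p) (hF : F.IsSaturated p) (hEF : E ≤ F)
    (hag : Agree p E F)
    (hnorm : ∀ A : Subgroup Ω, A ≤ F.hyperfocalSubgroup p → Small p A → F.IsFullyNormalized A →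
      ¬ CentralIn F A → ∀ P : Subgroup Ω, F.normalizerHom A P ⊆ E.normalizerHom A P)
    {R : Subgroup Ω} (hRS : R ≤ S)
    (hbig : ∀ (Q : Subgroup Ω) (ψ : Q →* Ω), ψ ∈ F.Hom Q → Nat.card R < Nat.card Q → ψ ∈ E.Hom Q)
    {A : Subgroup Ω} (hAR : A ≤ R) (hA : A ≤ F.hyperfocalSubgroup p) (hAs : Small p A)
    (hAN : normalizerIn S R ≤ Subgroup.normalizer (A : Set Ω)) (hnc : ¬ CentralIn F A) :
    F.autGroup R ≤ E.autGroup R := by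
  have hAS : A ≤ S := hAR.trans hRS
  have hhyp := Cfsg.Agent.S5124.result p hS F hF
  have hRNR : R ≤ normalizerIn S R := le_normalizerIn hRS
  have hNRNA : normalizerIn S R ≤ normalizerIn S A := fun g hg => ⟨hg.1, hAN hg⟩
  have hRNA : R ≤ normalizerIn S A := hRNR.trans hNRNA
  have hANA : A ≤ normalizerIn S A := le_normalizerIn hAS
  -- Step 1: the map `ρ`
  obtain ⟨A₁, ρ, hρF, hρE, hA₁fn, hρN, hρA⟩ : ∃ (A₁ : Subgroup Ω) (ρ : ↥(normalizerIn S A) →* Ω),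
      ρ ∈ F.Hom (normalizerIn S A) ∧ ρ ∈ E.Hom (normalizerIn S A) ∧ F.IsFullyNormalized A₁ ∧
      (∀ x, ρ x ∈ normalizerIn S A₁) ∧ (A.subgroupOf (normalizerIn S A)).map ρ = A₁ := by
    by_cases hNA : normalizerIn S A = S
    · refine ⟨A, (normalizerIn S A).subtype, subtype_mem F normalizerIn_le,
        subtype_mem E normalizerIn_le, ⟨hAS, fun Q _ => ?_⟩, fun x => x.2,
        Subgroup.map_subgroupOf_eq_of_le hANA⟩
      rw [hNA]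
      exact Subgroup.card_le_of_le normalizerIn_le
    · have hRne : R ≠ S := by
        rintro rfl
        exact hNA (le_antisymm normalizerIn_le hRNA)
      obtain ⟨g₀, hg₀N, hg₀R⟩ := exists_mem_normalizerIn_not_mem hS hRS hRne
      have hlt : R < normalizerIn S A :=
        lt_of_le_of_ne hRNA (fun h => hg₀R (h ▸ hNRNA hg₀N))
      have hcard : Nat.card R < Nat.card (normalizerIn S A) := card_lt_of_lt normalizerIn_le hlt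
      obtain ⟨Q, hAQ, hQfn⟩ := exists_isConj_fullyNormalized F hAS
      obtain ⟨-, hFA, hRec⟩ := of_fullyNormalized p hS F hF hQfn
      obtain ⟨ρ, hρF, hρN, -, hρimg⟩ := exists_normalizer_map p hS F Q A hFA hRec hAQ
      exact ⟨Q, ρ, hρF, hbig _ ρ hρF hcard, hQfn, hρN, hρimg⟩
  -- Step 2: facts on `A₁`
  have hA₁S : A₁ ≤ S := hA₁fn.1
  haveI : Finite A₁ := finite_of_le_finite hA₁S
  obtain ⟨ρA, hρAdef⟩ : ∃ ρA : A →* Ω, ρA = ρ.comp (Subgroup.inclusion hANA) := ⟨_, rfl⟩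
  have hρAF : ρA ∈ F.Hom A := hρAdef ▸ restrict_mem F hANA hρF
  have hρAapply : ∀ (x : Ω) (hx : x ∈ A), ρA ⟨x, hx⟩ = ρ ⟨x, hANA hx⟩ := by
    intro x hx; rw [hρAdef]; rfl
  have hρAA₁ : ∀ (x : Ω) (hx : x ∈ A), ρA ⟨x, hx⟩ ∈ A₁ := by
    intro x hx
    rw [hρAapply x hx, ← hρA, mem_map_subgroupOf]
    exact ⟨x, hANA hx, hx, rfl⟩
  have hA₁pre : ∀ y ∈ A₁, ∃ (x : Ω) (hx : x ∈ A), ρA ⟨x, hx⟩ = y := by
    intro y hy
    rw [← hρA, mem_map_subgroupOf] at hy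
    obtain ⟨x, hK, hxA, hxy⟩ := hy
    exact ⟨x, hxA, by rw [hρAapply x hxA]; exact hxy⟩
  have hA₁hyp : A₁ ≤ F.hyperfocalSubgroup p := by
    intro y hy
    obtain ⟨x, hx, rfl⟩ := hA₁pre y hy
    exact hhyp.2 A hA ρA hρAF ⟨x, hx⟩
  have hA₁s : Small p A₁ := hρA ▸ small_map hAs ρ
  have hA₁nc : ¬ CentralIn F A₁ := by
    intro hc
    obtain ⟨-, -, -, ψ, hψ, hψA, hψA₁⟩ := hc A hρAF
    have hψinj := F.injective_of_mem hψ
    have hfix : ∀ (x : Ω) (hx : x ∈ A), ρA ⟨x, hx⟩ = x := by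
      intro x hx
      have h1 := hψA ⟨x, hx⟩
      have h2 := hψA₁ ⟨ρA ⟨x, hx⟩, hρAA₁ x hx⟩
      have h3 : ψ (Subgroup.inclusion le_sup_right ⟨ρA ⟨x, hx⟩, hρAA₁ x hx⟩) =
          ψ (Subgroup.inclusion le_sup_left ⟨x, hx⟩) := by
        rw [h1, h2]
      have h4 := hψinj h3
      exact congrArg (fun z : ↥(A ⊔ A₁) => (z : Ω)) h4
    have hAA₁ : A₁ = A := by
      ext y
      constructor
      · intro hy
        obtain ⟨x, hx, rfl⟩ := hA₁pre y hy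
        rw [hfix x hx]; exact hx
      · intro hy
        have := hρAA₁ y hy
        rwa [hfix y hy] at this
    exact hnc (hAA₁ ▸ hc)
  have hstep := hnorm A₁ hA₁hyp hA₁s hA₁fn hA₁nc
  have hrec : E.IsReceptive A₁ :=
    (of_fullyNormalized p hS E hE (isFullyNormalized_of_le hEF hA₁fn)).2.2
  -- Step 3
  intro α hα
  obtain ⟨ρR, hρRdef⟩ : ∃ ρR : R →* Ω, ρR = ρ.comp (Subgroup.inclusion hRNA) := ⟨_, rfl⟩
  have hρRF : ρR ∈ F.Hom R := hρRdef ▸ restrict_mem F hRNA hρF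
  have hρRE : ρR ∈ E.Hom R := hρRdef ▸ restrict_mem E hRNA hρE
  have hρRapply : ∀ (x : Ω) (hx : x ∈ R), ρR ⟨x, hx⟩ = ρ ⟨x, hRNA hx⟩ := by
    intro x hx; rw [hρRdef]; rfl
  have hρRA : ∀ (x : Ω) (hx : x ∈ A), ρR ⟨x, hAR hx⟩ = ρA ⟨x, hx⟩ := by
    intro x hx; rw [hρRapply, hρAapply]
  -- `β = ρR ∘ α`
  obtain ⟨β, hβdef⟩ : ∃ β : R →* Ω, β = ρR.comp α.toMonoidHom := ⟨_, rfl⟩
  have hβapply : ∀ x : R, β x = ρR (α x) := fun x => by rw [hβdef]; rfl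
  have hβF : β ∈ F.Hom R := hβdef ▸ comp_aut_mem F hρRF hα
  have hβrange : β.range = ρR.range := hβdef ▸ range_comp_aut ρR α
  obtain ⟨βA, hβAdef⟩ : ∃ βA : A →* Ω, βA = β.comp (Subgroup.inclusion hAR) := ⟨_, rfl⟩
  have hβAapply : ∀ (x : Ω) (hx : x ∈ A), βA ⟨x, hx⟩ = β ⟨x, hAR hx⟩ := by
    intro x hx; rw [hβAdef]; rfl
  have hβAF : βA ∈ F.Hom A := hβAdef ▸ restrict_mem F hAR hβF
  -- `φ = ρA ∘ βA⁻¹`
  obtain ⟨φ, hφF, hφapply, hφrange⟩ := exists_comp_inv F hβAF hρAF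
  have hA₂hyp : βA.range ≤ F.hyperfocalSubgroup p := by
    rintro _ ⟨x, rfl⟩
    exact hhyp.2 A hA βA hβAF x
  have hφE : φ ∈ E.Hom βA.range := hag _ hA₂hyp (small_range hAs βA) hφF
  have hφrange' : φ.range = A₁ := by
    rw [hφrange]
    apply le_antisymm
    · rintro _ ⟨x, rfl⟩; exact hρAA₁ x x.2
    · intro y hy
      obtain ⟨x, hx, rfl⟩ := hA₁pre y hy
      exact ⟨⟨x, hx⟩, rfl⟩
  obtain ⟨ψ, hψE, hψφ⟩ := hrec.2 βA.range φ hφE hφrange'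
  -- `ρR(R) ≤ N_φ`
  have hRA : ∀ r ∈ R, ∀ a ∈ A, r * a * r⁻¹ ∈ A := by
    intro r hr a ha
    exact (Subgroup.mem_normalizer_iff.mp (hAN (hRNR hr)) a).mp ha
  have hβconj : ∀ (r : Ω) (hr : r ∈ R) (a : Ω) (ha : a ∈ A),
      β ⟨r, hr⟩ * βA ⟨a, ha⟩ * (β ⟨r, hr⟩)⁻¹ = βA ⟨r * a * r⁻¹, hRA r hr a ha⟩ := by
    intro r hr a ha
    rw [hβAapply, hβAapply]
    have e : (⟨r * a * r⁻¹, hAR (hRA r hr a ha)⟩ : R) = ⟨r, hr⟩ * ⟨a, hAR ha⟩ * ⟨r, hr⟩⁻¹ :=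
      Subtype.ext rfl
    rw [e, map_mul, map_mul, map_inv]
  have hext : ρR.range ≤ extender S βA.range φ := by
    rw [← hβrange]
    rintro _ ⟨⟨r, hr⟩, rfl⟩
    rw [mem_extender_iff]
    refine ⟨(F.le_of_mem hβF).2 _, ?_, ρR ⟨r, hr⟩, (F.le_of_mem hρRF).2 _, ?_⟩
    · apply mem_normalizer_of_forall
      · rintro _ ⟨⟨a, ha⟩, rfl⟩
        rw [hβconj r hr a ha]
        exact ⟨_, rfl⟩
      · rintro _ ⟨⟨a, ha⟩, rfl⟩
        have h1 := hβconj r⁻¹ (R.inv_mem hr) a ha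
        have e : (⟨r⁻¹, R.inv_mem hr⟩ : R) = ⟨r, hr⟩⁻¹ := Subtype.ext rfl
        rw [e, map_inv, inv_inv] at h1
        rw [h1]
        exact ⟨_, rfl⟩
    · rintro ⟨_, ⟨a, ha⟩, rfl⟩ hx
      have h1 := hβconj r hr a ha
      have e1 : (⟨β ⟨r, hr⟩ * βA ⟨a, ha⟩ * (β ⟨r, hr⟩)⁻¹, hx⟩ : βA.range) =
          ⟨βA ⟨r * a * r⁻¹, hRA r hr a ha⟩, ⟨_, rfl⟩⟩ := Subtype.ext h1
      rw [e1, hφapply, hφapply, ← hρRA, ← hρRA]
      have e : (⟨r * a * r⁻¹, hAR (hRA r hr a ha)⟩ : R) = ⟨r, hr⟩ * ⟨a, hAR ha⟩ * ⟨r, hr⟩⁻¹ :=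
        Subtype.ext rfl
      rw [e, map_mul, map_mul, map_inv]
  obtain ⟨ψ₁, hψ₁def⟩ : ∃ ψ₁ : ρR.range →* Ω, ψ₁ = ψ.comp (Subgroup.inclusion hext) := ⟨_, rfl⟩
  have hψ₁E : ψ₁ ∈ E.Hom ρR.range := hψ₁def ▸ restrict_mem E hext hψE
  have hψ₁F : ψ₁ ∈ F.Hom ρR.range := hEF _ hψ₁E
  have hβval : ∀ x : R, β x ∈ ρR.range := fun x => ⟨α x, (hβapply x).symm⟩
  -- `ψ₁ (βA a) = ρA a`
  have hψ₁A : ∀ (a : Ω) (ha : a ∈ A), ψ₁ ⟨β ⟨a, hAR ha⟩, hβval _⟩ = ρA ⟨a, ha⟩ := by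
    intro a ha
    have hmem : β ⟨a, hAR ha⟩ ∈ βA.range := ⟨⟨a, ha⟩, hβAapply a ha⟩
    have h1 := hψφ _ hmem (hext (hβval _))
    have h2 : ψ₁ ⟨β ⟨a, hAR ha⟩, hβval _⟩ = ψ ⟨β ⟨a, hAR ha⟩, hext (hβval _)⟩ := by
      rw [hψ₁def]; rfl
    rw [h2, h1]
    have e : (⟨β ⟨a, hAR ha⟩, hmem⟩ : βA.range) = ⟨βA ⟨a, ha⟩, ⟨_, rfl⟩⟩ :=
      Subtype.ext (hβAapply a ha).symm
    rw [e, hφapply]
  -- `χ = ψ₁ ∘ β`
  obtain ⟨χ, hχdef⟩ : ∃ χ : R →* Ω, χ = ψ₁.comp (β.codRestrict ρR.range hβval) := ⟨_, rfl⟩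
  have hχapply : ∀ x : R, χ x = ψ₁ ⟨β x, hβval x⟩ := fun x => by rw [hχdef]; rfl
  have hχF : χ ∈ F.Hom R := hχdef ▸ F.comp_mem hβF hψ₁F hβval
  have hχA : ∀ (a : Ω) (ha : a ∈ A), χ ⟨a, hAR ha⟩ = ρR ⟨a, hAR ha⟩ := by
    intro a ha
    rw [hχapply, hψ₁A a ha, hρRA]
  -- `ω = χ ∘ ρR⁻¹`
  obtain ⟨ω, hωF, hωapply, -⟩ := exists_comp_inv F hρRF hχF
  have hA₁R₁ : A₁ ≤ ρR.range := by
    intro y hy
    obtain ⟨x, hx, rfl⟩ := hA₁pre y hy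
    exact ⟨⟨x, hAR hx⟩, hρRA x hx⟩
  have hR₁N : ρR.range ≤ normalizerIn S A₁ := by
    rintro _ ⟨⟨r, hr⟩, rfl⟩
    rw [hρRapply]
    exact hρN _
  have hωfix : ∀ (y : Ω) (hy : y ∈ A₁), ω ⟨y, hA₁R₁ hy⟩ = y := by
    intro y hy
    obtain ⟨x, hx, rfl⟩ := hA₁pre y hy
    have e : (⟨ρA ⟨x, hx⟩, hA₁R₁ hy⟩ : ρR.range) = ⟨ρR ⟨x, hAR hx⟩, ⟨_, rfl⟩⟩ :=
      Subtype.ext (hρRA x hx).symm
    rw [e, hωapply, hχA x hx, hρRA]
  have hωN : ω ∈ F.normalizerHom A₁ ρR.range :=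
    mem_normalizerHom_of_le F hA₁R₁ hR₁N hωF (fun y hy => by rw [hωfix y hy]; exact hy)
  have hωE : ω ∈ E.Hom ρR.range := (hstep _ hωN).1
  have hχE : χ ∈ E.Hom R :=
    comp_mem' E hρRE hωE (fun x => ⟨x, rfl⟩) (fun x => (hωapply x).symm)
  -- `β = ψ₁⁻¹ ∘ χ`
  obtain ⟨θ, hθ, hθinv, -⟩ := exists_inv E hψ₁E rfl
  have hχval : ∀ x : R, χ x ∈ ψ₁.range := fun x => ⟨⟨β x, hβval x⟩, (hχapply x).symm⟩
  have hβE : β ∈ E.Hom R := by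
    refine comp_mem' E hχE hθ hχval (fun x => ?_)
    have h1 : θ ⟨ψ₁ ⟨β x, hβval x⟩, ⟨_, rfl⟩⟩ = β x := hθinv ⟨β x, hβval x⟩ ⟨_, rfl⟩
    refine h1.symm.trans ?_
    congr 1
    exact Subtype.ext (hχapply x).symm
  -- `α = ρR⁻¹ ∘ β`
  obtain ⟨θ', hθ', hθ'inv, -⟩ := exists_inv E hρRE rfl
  rw [mem_autGroup_iff E hRS]
  refine comp_mem' E hβE hθ' hβval (fun x => ?_)
  have h1 : θ' ⟨ρR (α x), ⟨_, rfl⟩⟩ = ((α x : R) : Ω) := hθ'inv (α x) ⟨_, rfl⟩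
  show ((α x : R) : Ω) = θ' ⟨β x, hβval x⟩
  refine h1.symm.trans ?_
  congr 1
  exact Subtype.ext (hβapply x).symm

theorem aut_step [Finite S] (p : ℕ) [Fact p.Prime] (hS : IsPGroup p S)
    (E F : FusionSystem S) (hE : E.IsSaturated p) (hF : F.IsSaturated p) (hEF : E ≤ F)
    (hag : Agree p E F)
    (hnorm : ∀ A : Subgroup Ω, A ≤ F.hyperfocalSubgroup p → Small p A → F.IsFullyNormalized A →
      ¬ CentralIn F A → ∀ P : Subgroup Ω, F.normalizerHom A P ⊆ E.normalizerHom A P)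
    {R : Subgroup Ω} (hfn : F.IsFullyNormalized R)
    (hbig : ∀ (Q : Subgroup Ω) (ψ : Q →* Ω), ψ ∈ F.Hom Q → Nat.card R < Nat.card Q → ψ ∈ E.Hom Q) :
    F.autGroup R ≤ E.autGroup R := by
  have hRS : R ≤ S := hfn.1
  haveI : Finite R := finite_of_le_finite hRS
  haveI : Finite (MulAut R) :=
    Finite.of_injective (fun α : MulAut R => (α : R → R)) DFunLike.coe_injective
  by_cases hnp : ∃ b ∈ F.autGroup R, (∃ m : ℕ, m.Coprime p ∧ b ^ m = 1) ∧ b ≠ 1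
  · obtain ⟨A, hAR, hA, hAs, hAN, hnc⟩ := Cfsg.Agent.Helper25.SmAbNonc.exists_noncentral p hS F hRS hnp
    exact aut_le_of_noncentral p hS E F hE hF hEF hag hnorm hRS hbig hAR hA hAs hAN hnc
  · -- `Aut_F(R)` is a `p`-group
    have hp : p.Prime := Fact.out
    have hpg : IsPGroup p (F.autGroup R) := by
      rintro ⟨g, hg⟩
      have ho : orderOf g ≠ 0 := (orderOf_pos g).ne'
      obtain ⟨k, m, hm, hkm⟩ := Nat.exists_eq_pow_mul_and_not_dvd ho p hp.ne_one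
      refine ⟨k, ?_⟩
      apply Subtype.ext
      show g ^ p ^ k = 1
      by_contra hne
      apply hnp
      refine ⟨g ^ p ^ k, Subgroup.pow_mem _ hg _, ⟨m, ?_, ?_⟩, hne⟩
      · exact (Nat.Coprime.symm ((Nat.Prime.coprime_iff_not_dvd hp).mpr hm))
      · rw [← pow_mul, ← hkm, pow_orderOf_eq_one]
    obtain ⟨-, hFA, -⟩ := of_fullyNormalized p hS F hF hfn
    have hsyl := (isFullyAutomized_iff F p hRS).mp hFA
    have heq : F.autGroup R = autInducedBy S R := hsyl.2.2 _ le_rfl hpg hsyl.1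
    rw [heq]
    exact autInducedBy_le_autGroup E hRS

end Cfsg.Agent.Helper3.SmAb
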