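import Mathlib
import Cfsg.Prelude.Def_FusionSystem
import Cfsg.Agent.Lib.Helper3.SmAbDefs
import Cfsg.Agent.Lib.Helper3.SmAbCent
import Cfsg.Agent.Lib.Helper3.SmAbNorm
import Cfsg.Agent.Lib.Helper3.SmAbAut
import Cfsg.Agent.Lib.Helper26.FusionInduction
import Cfsg.Agent.Lib.Helper26.FusionRestrict
import Cfsg.Agent.S5124

/-!
# Small abelian subgroups control fusion: the main theorem (helper3)

If `E ≤ F` are saturated fusion systems over the same finite `p`-group `S` and every map of `F` out of
an abelian subgroup of the hyperfocal subgroup of exponent dividing `p` (`4` if `p = 2`) is a map of `E`,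
then `E = F` (Benson–Grodal–Henke). The proof is by induction on the number of maps of `F`:
centralizer systems of noncentral small abelian subgroups agree by induction (`centralizer_step`),
hence so do their normalizer systems (`normalizer_step`, via Alperin's theorem for the normalizer
systems), hence `Aut_F(R) ≤ Aut_E(R)` for `R = S` or `R` essential, given all maps on larger subgroups
(`aut_step`), and Alperin's theorem concludes.
-/

set_option autoImplicit false

namespace Cfsg.Agent.Helper3.SmAb

open Cfsg Cfsg.FusionSystem Cfsg.Agent.Helper25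

variable {Ω : Type*} [Group Ω]

theorem main (p : ℕ) [Fact p.Prime] : ∀ (n : ℕ) (S : Subgroup Ω) [Finite S], IsPGroup p S →
    ∀ (E F : FusionSystem S), E.IsSaturated p → F.IsSaturated p → E ≤ F → Agree p E F →
    morCount F = n → F ≤ E := by
  intro n
  induction n using Nat.strong_induction_on with
  | _ n ih =>
  intro S _ hS E F hE hF hEF hag hn
  subst hn
  have IH : ∀ (T : Subgroup Ω) [Finite T], IsPGroup p T → ∀ (E' F' : FusionSystem T),
      E'.IsSaturated p → F'.IsSaturated p → E' ≤ F' → Agree p E' F' →
      morCount F' < morCount F → F' ≤ E' := by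
    intro T _ hT E' F' hE' hF' hle hag' hlt
    exact ih _ hlt T hT E' F' hE' hF' hle hag' rfl
  have hnorm : ∀ A : Subgroup Ω, A ≤ F.hyperfocalSubgroup p → Small p A → F.IsFullyNormalized A →
      ¬ CentralIn F A → ∀ P : Subgroup Ω, F.normalizerHom A P ⊆ E.normalizerHom A P := by
    intro A hA hAs hfn hnc
    have hfc := (of_fullyNormalized p hS F hF hfn).1
    exact normalizer_step p hS E F hE hF hEF hag hA hAs hfn
      (centralizer_step p hS E F hE hF hEF hag IH hA hAs hfc hnc)
  apply Cfsg.Agent.Helper26.le_of_essential_induction p hS F hF E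
  · refine aut_step p hS E F hE hF hEF hag hnorm (Cfsg.Agent.Helper26.isFullyNormalized_self F) ?_
    intro Q ψ hψ hlt
    exfalso
    have := Subgroup.card_le_of_le (F.le_of_mem hψ).1
    omega
  · intro P hess _ hbig
    exact aut_step p hS E F hE hF hEF hag hnorm hess.2.1 hbig

/-- the final form -/
theorem eq_of_agree {S : Subgroup Ω} [Finite S] (p : ℕ) [Fact p.Prime] (hS : IsPGroup p S)
    (E F : FusionSystem S) (hE : E.IsSaturated p) (hF : F.IsSaturated p)
    (hEF : E.IsSubsystemOf F)
    (hodd : p ≠ 2 → ∀ A B : Subgroup Ω, A ≤ F.hyperfocalSubgroup p → B ≤ F.hyperfocalSubgroup p →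
      Cfsg.IsElementaryAbelian p A → Cfsg.IsElementaryAbelian p B → E.homSet A B = F.homSet A B)
    (htwo : p = 2 → ∀ A B : Subgroup Ω, A ≤ F.hyperfocalSubgroup p → B ≤ F.hyperfocalSubgroup p →
      IsMulCommutative ↥A → IsMulCommutative ↥B → (∀ a ∈ A, a ^ 4 = 1) → (∀ b ∈ B, b ^ 4 = 1) →
      E.homSet A B = F.homSet A B) :
    ∀ P : Subgroup Ω, E.Hom P = F.Hom P := by
  have hhyp := Cfsg.Agent.S5124.result p hS F hF
  have hag : Agree p E F := by
    intro A hA hAs φ hφ
    have hB : φ.range ≤ F.hyperfocalSubgroup p := by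
      rintro _ ⟨x, rfl⟩
      exact hhyp.2 A hA φ hφ x
    have hBs : Small p φ.range := small_range hAs φ
    have hmem : φ ∈ F.homSet A φ.range := ⟨hφ, fun x => ⟨x, rfl⟩⟩
    by_cases hp2 : p = 2
    · have e := htwo hp2 A φ.range hA hB hAs.1 hBs.1
        (fun a ha => by have := hAs.2 a ha; rwa [if_pos hp2] at this)
        (fun b hb => by have := hBs.2 b hb; rwa [if_pos hp2] at this)
      rw [← e] at hmem
      exact hmem.1
    · have e := hodd hp2 A φ.range hA hB
        ⟨hAs.1, fun a ha => by have := hAs.2 a ha; rwa [if_neg hp2] at this⟩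
        ⟨hBs.1, fun b hb => by have := hBs.2 b hb; rwa [if_neg hp2] at this⟩
      rw [← e] at hmem
      exact hmem.1
  intro P
  exact Set.Subset.antisymm (hEF P) (main p _ S hS E F hE hF hEF hag rfl P)

end Cfsg.Agent.Helper3.SmAb
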