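import Mathlib
import Cfsg.Agent.Lib.Helper3.SmallCenter6

/-!
# Exponent `p` for odd `p` (centre of index `p²`, after `Z(S) = S'`)
-/

set_option autoImplicit false
set_option linter.style.haveILetI false
set_option linter.unusedSectionVars false

namespace Cfsg.Agent.Helper3.SC

open Cfsg Cfsg.FusionSystem Cfsg.Agent.Helper25 Cfsg.Agent.Helper26 Cfsg.Agent.Helper3.KL
open Cfsg.Agent.Helper3.TT

variable {Ω : Type*} [Group Ω] {S : Subgroup Ω} {E : Subgroup Ω}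

section ed

variable [Finite S] {p : ℕ} [Fact p.Prime] {F : FusionSystem S}

/-- when `Z(S) = S'` the essential subgroups are elementary abelian, generated by `c`, `c'` -/
theorem dec_of_Zc_eq_Sd (H : Hyp p F) (hZ : centralizerIn S S = Sd S) {D : ED p F E} {x : Ω}
    {hx : x ∈ S} (hxE : x ∉ E) {u₂ : MulAut E} {c c' : E} {β : MulAut S}
    (P : IsPack F D ⟨x, hx⟩ u₂ c c' β) (e : E) : ∃ i j : ℤ, e = c ^ i * c' ^ j := by
  obtain ⟨a, i, j, rfl, ha, ha₂⟩ := P.dec e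
  have haZ := fixed_mem_Zc D hx hxE ha
  rw [hZ] at haZ
  obtain ⟨k, hk⟩ := exists_zpow_of_mem_Sd H D hx hxE P.cmu haZ
  have hak : a = c ^ k := Subtype.ext hk
  rw [hak, map_zpow, P.h6, zpow_mul_comm' D.comm] at ha₂
  have h1 : c'⁻¹ ^ k = 1 := by
    have h2 : c ^ k * c'⁻¹ ^ k = c ^ k * 1 := by rw [mul_one]; exact ha₂
    exact mul_left_cancel h2
  rw [inv_zpow, inv_eq_one] at h1
  have hord : orderOf c' = p := orderOf_eq_prime P.c'p P.c'_ne
  have hdvd : (p : ℤ) ∣ k := by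
    rw [← hord]
    exact orderOf_dvd_iff_zpow_eq_one.mpr h1
  obtain ⟨m, rfl⟩ := hdvd
  have ha1 : a = 1 := by rw [hak, zpow_mul, zpow_natCast, P.cp, one_zpow]
  exact ⟨i, j, by rw [ha1, one_mul]⟩

theorem pow_eq_one_of_mem_E (H : Hyp p F) (hZ : centralizerIn S S = Sd S) (D : ED p F E) {y : Ω}
    (hy : y ∈ E) : y ^ p = 1 := by
  obtain ⟨x, hx, hxE⟩ := exists_not_mem H D
  obtain ⟨g, hg, hgu⟩ := exists_second H D hx hxE
  obtain ⟨u₂, c, c', β, P, -⟩ := exists_pack H D hx hxE hg hgu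
  obtain ⟨i, j, hij⟩ := dec_of_Zc_eq_Sd H hZ hxE P ⟨y, hy⟩
  have h1 : (⟨y, hy⟩ : E) ^ p = 1 := by
    rw [hij, Commute.mul_pow (D.comm (c ^ i) (c' ^ j)) p, ← zpow_natCast, ← zpow_natCast,
      ← zpow_mul, ← zpow_mul, mul_comm i, mul_comm j, zpow_mul, zpow_mul, zpow_natCast,
      zpow_natCast, P.cp, P.c'p, one_zpow, one_zpow, one_mul]
  exact congrArg Subtype.val h1

theorem pow_eq_one_odd (hp2 : p ≠ 2) (H : Hyp p F) (hZ : centralizerIn S S = Sd S) {y : Ω}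
    (hy : y ∈ S) : y ^ p = 1 := by
  have hp : p.Prime := Fact.out
  obtain ⟨E, hE⟩ := exists_essential H
  have D := ed_of_essential H hE
  haveI : Finite E := finite_of_le_finite D.le
  by_cases hyE : y ∈ E
  · exact pow_eq_one_of_mem_E H hZ D hyE
  obtain ⟨g, hg, hgu⟩ := exists_second H D hy hyE
  obtain ⟨u₂, c, c', β, P, -⟩ := exists_pack H D hy hyE hg hgu
  obtain ⟨-, -, -, -, hτu⟩ := P.facts
  set u := kap D.norm ⟨y, hy⟩ with hu
  set τ : MulAut E := wEl u u₂ * wEl u u₂ with hτ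
  set Y : S := ⟨y, hy⟩ with hY
  -- `β Y` induces the same automorphism of `E` as `Y`
  have hkap : kap D.norm (β Y) = u := by
    ext f
    rw [kap_apply]
    -- f = τ f'
    set f' : E := τ⁻¹ f with hf'
    have h1 : ((β ⟨f', D.le f'.2⟩ : S) : Ω) = f := by
      rw [P.ext f', ← hτ, hf', MulAut.apply_inv_self]
    have h2 : (⟨((u f' : E) : Ω), D.le (u f').2⟩ : S) = Y * ⟨f', D.le f'.2⟩ * Y⁻¹ :=
      Subtype.ext rfl
    have h3 := P.ext (u f')
    rw [h2, map_mul, map_mul, map_inv, ← hτ] at h3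
    have h4 : τ (u f') = u f := by
      have e1 : (τ * u) f' = (u * τ) f' := by rw [hτu]
      have e2 : (τ * u) f' = τ (u f') := rfl
      have e3 : (u * τ) f' = u (τ f') := rfl
      rw [← e2, e1, e3, hf', MulAut.apply_inv_self]
    rw [h4] at h3
    rw [← h3]
    simp only [Subgroup.coe_mul, Subgroup.coe_inv, h1]
  -- so `β Y = Y * e₁` with `e₁ ∈ E`
  set e₁ : S := Y⁻¹ * β Y with he₁
  have he₁E : (e₁ : Ω) ∈ E := by
    have h1 : e₁ ∈ (kap D.norm).ker := by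
      rw [MonoidHom.mem_ker, he₁, map_mul, map_inv, hkap, inv_mul_cancel]
    rw [ker_kap D, Subgroup.mem_subgroupOf] at h1
    exact h1
  have hβY : β Y = Y * e₁ := by rw [he₁, mul_inv_cancel_left]
  -- the commutator
  set z : S := e₁ * Y * e₁⁻¹ * Y⁻¹ with hz
  have hzSd : (z : Ω) ∈ Sd S := comm_mem_Sd e₁.2 Y.2
  have hzZ : (z : Ω) ∈ centralizerIn S S := Sd_le_Zc H hzSd
  have hzc : ∀ s : S, Commute z s := by
    intro s
    apply Subtype.ext
    exact ((mem_Zc.mp hzZ).2 s s.2).symm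
  have hba : e₁ * Y = z * Y * e₁ := by rw [hz]; group
  have hpow := mul_pow_class_two Y e₁ z hba (hzc Y) (hzc e₁) p
  have he₁p : e₁ ^ p = 1 := Subtype.ext (pow_eq_one_of_mem_E H hZ D he₁E)
  have hzp : z ^ p = 1 := Subtype.ext (pow_eq_one_of_card (Sd S) (card_Sd H) hzSd)
  have hT : z ^ (p * (p - 1) / 2) = 1 := by
    obtain ⟨m, hm⟩ := hp.odd_of_ne_two hp2
    have h1 : p * (p - 1) / 2 = p * m := by
      have : p - 1 = 2 * m := by omega
      rw [this, ← mul_assoc, mul_comm p 2, mul_assoc, Nat.mul_div_cancel_left _ (by norm_num)]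
    rw [h1, pow_mul, hzp, one_pow]
  rw [he₁p, hT, mul_one, mul_one, ← hβY, ← map_pow] at hpow
  -- `Y ^ p` is central, hence inverted by `β`
  have hYpE : ((Y ^ p : S) : Ω) ∈ E := by
    have h1 : Y ^ p ∈ (kap D.norm).ker := by
      rw [MonoidHom.mem_ker, map_pow]
      exact kap_pow D Y
    rw [ker_kap D, Subgroup.mem_subgroupOf] at h1
    exact h1
  have hYpZ : ((Y ^ p : S) : Ω) ∈ centralizerIn S S := by
    apply D.cent y hy hyE _ hYpE
    show y * y ^ p = y ^ p * y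
    rw [← pow_succ', ← pow_succ]
  have hYpSd : ((Y ^ p : S) : Ω) ∈ Sd S := by rw [← hZ]; exact hYpZ
  have hinv := P.theta.2.1 _ hYpSd
  have h5 : (⟨((Y ^ p : S) : Ω), Sd_le S hYpSd⟩ : S) = Y ^ p := Subtype.ext rfl
  rw [h5, hpow] at hinv
  -- `(y ^ p)² = 1` and `(y ^ p) ^ p = 1`
  have h6 : (y ^ p) ^ 2 = 1 := by
    have h7 : ((Y ^ p : S) : Ω) = y ^ p := rfl
    rw [h7] at hinv
    rw [pow_two]
    nth_rewrite 1 [hinv]
    rw [inv_mul_cancel]
  have h8 : (y ^ p) ^ p = 1 := pow_eq_one_of_card (Sd S) (card_Sd H) hYpSd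
  have h9 : orderOf (y ^ p) ∣ Nat.gcd 2 p :=
    Nat.dvd_gcd (orderOf_dvd_of_pow_eq_one h6) (orderOf_dvd_of_pow_eq_one h8)
  have h10 : Nat.gcd 2 p = 1 := by
    rw [Nat.gcd_comm]
    exact (Nat.Prime.coprime_iff_not_dvd hp).mpr (fun h =>
      hp2 ((Nat.prime_dvd_prime_iff_eq hp Nat.prime_two).mp h))
  rw [h10, Nat.dvd_one, orderOf_eq_one_iff] at h9
  exact h9

end ed

end Cfsg.Agent.Helper3.SC
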