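import Mathlib
import Cfsg.Agent.Lib.Helper3.SmallCenter7

/-!
# `p = 2`: involutions of `Aut_F(E)`, the subgroup `A_E`, and squares (centre of index `4`)
-/

set_option autoImplicit false
set_option linter.style.haveILetI false
set_option linter.unusedSectionVars false

namespace Cfsg.Agent.Helper3.SC

open Cfsg Cfsg.FusionSystem Cfsg.Agent.Helper25 Cfsg.Agent.Helper26 Cfsg.Agent.Helper3.KL
open Cfsg.Agent.Helper3.TT

variable {Ω : Type*} [Group Ω] {S : Subgroup Ω} {E : Subgroup Ω}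

theorem zpow_two_cases {G : Type*} [Group G] {v : G} (hv : v * v = 1) (k : ℤ) :
    v ^ k = 1 ∨ v ^ k = v := by
  have hv2 : v ^ (2 : ℤ) = 1 := by rw [zpow_two]; exact hv
  rcases Int.emod_two_eq_zero_or_one k with h | h
  · left
    have : k = 2 * (k / 2) := by omega
    rw [this, zpow_mul, hv2, one_zpow]
  · right
    have : k = 2 * (k / 2) + 1 := by omega
    rw [this, zpow_add, zpow_mul, hv2, one_zpow, one_mul, zpow_one]

theorem mem_zpowers_two {G : Type*} [Group G] {v t : G} (hv : v * v = 1)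
    (ht : t ∈ Subgroup.zpowers v) : t = 1 ∨ t = v := by
  obtain ⟨k, rfl⟩ := Subgroup.mem_zpowers_iff.mp ht
  exact zpow_two_cases hv k

theorem sq_of_pow_two {G : Type*} [Group G] {v : G} (h : v ^ 2 = 1) : v * v = 1 := by
  rw [← pow_two]; exact h

/-- the centralizer in `E` of all involutions of `Aut_F(E)` -/
def AE (F : FusionSystem S) (E : Subgroup Ω) : Subgroup Ω where
  carrier := {a | ∃ ha : a ∈ E, ∀ t ∈ F.autGroup E, t * t = 1 → t ⟨a, ha⟩ = ⟨a, ha⟩}
  one_mem' := ⟨E.one_mem, fun t _ _ => by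
    have : (⟨1, E.one_mem⟩ : E) = 1 := rfl
    rw [this, map_one]⟩
  mul_mem' := by
    rintro a b ⟨ha, ha'⟩ ⟨hb, hb'⟩
    refine ⟨E.mul_mem ha hb, fun t ht htt => ?_⟩
    have : (⟨a * b, E.mul_mem ha hb⟩ : E) = ⟨a, ha⟩ * ⟨b, hb⟩ := rfl
    rw [this, map_mul, ha' t ht htt, hb' t ht htt]
  inv_mem' := by
    rintro a ⟨ha, ha'⟩
    refine ⟨E.inv_mem ha, fun t ht htt => ?_⟩
    have : (⟨a⁻¹, E.inv_mem ha⟩ : E) = ⟨a, ha⟩⁻¹ := rfl
    rw [this, map_inv, ha' t ht htt]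

theorem AE_le (F : FusionSystem S) (E : Subgroup Ω) : AE F E ≤ E := fun _ h => h.1

/-- `A_E` is invariant under `Aut_F(E)` -/
theorem AE_inv {F : FusionSystem S} {g : MulAut E} (hg : g ∈ F.autGroup E) {a : Ω}
    (ha : a ∈ AE F E) : ((g ⟨a, ha.1⟩ : E) : Ω) ∈ AE F E := by
  obtain ⟨haE, hfix⟩ := ha
  refine ⟨(g ⟨a, haE⟩).2, fun t ht htt => ?_⟩
  have h1 : g⁻¹ * t * g ∈ F.autGroup E :=
    (F.autGroup E).mul_mem ((F.autGroup E).mul_mem ((F.autGroup E).inv_mem hg) ht) hg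
  have h2 : (g⁻¹ * t * g) * (g⁻¹ * t * g) = 1 := by
    have : (g⁻¹ * t * g) * (g⁻¹ * t * g) = g⁻¹ * (t * t) * g := by group
    rw [this, htt, mul_one, inv_mul_cancel]
  have h3 := hfix _ h1 h2
  rw [MulAut.mul_apply, MulAut.mul_apply] at h3
  have h4 := congrArg g h3
  rw [MulAut.apply_inv_self] at h4
  exact h4

section ed

variable [Finite S] [Fact (Nat.Prime 2)] {F : FusionSystem S}

variable {D : ED 2 F E} {x : Ω} {hx : x ∈ S} {u₂ : MulAut E} {c c' : E} {β : MulAut S}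

/-- the three involutions of `Aut_F(E)` -/
theorem three_inv (H : Hyp 2 F) (P : IsPack F D ⟨x, hx⟩ u₂ c c' β) (hxE : x ∉ E) {t : MulAut E}
    (ht : t ∈ F.autGroup E) (ht1 : t ≠ 1) (htt : t * t = 1) :
    t = kap D.norm ⟨x, hx⟩ ∨ t = u₂ ∨ t = kap D.norm ⟨x, hx⟩ * u₂ * (kap D.norm ⟨x, hx⟩)⁻¹ := by
  haveI : Finite E := finite_of_le_finite D.le
  set u := kap D.norm ⟨x, hx⟩ with hu
  by_contra hcon
  push Not at hcon
  obtain ⟨hne1, hne2, hne3⟩ := hcon
  have hT := isTransv H D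
  have hSyl := smallSylow H D
  have huG : u ∈ F.autGroup E := autInducedBy_le_autGroup F D.le (kap_mem D.norm _)
  have hu1 : u ≠ 1 := kap_ne_one D hx hxE
  have hup : u ^ 2 = 1 := kap_pow D _
  have huu : u * u = 1 := sq_of_pow_two hup
  have hu₂u₂ : u₂ * u₂ = 1 := sq_of_pow_two P.u₂p
  have hu₂1 : u₂ ≠ 1 := by
    intro h
    have h6 := P.h6
    rw [h, MulAut.one_apply] at h6
    have : c'⁻¹ = 1 := by
      have h8 : c * c'⁻¹ = c * 1 := by rw [← h6, mul_one]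
      exact mul_left_cancel h8
    exact P.c'_ne (inv_eq_one.mp this)
  have htp : t ^ 2 = 1 := by rw [pow_two]; exact htt
  -- `t` moves `c`
  have h1 : t c ≠ c := by
    apply moves_center D.comm (F.autGroup E) hT hSyl huG ht hu1 hup htp _ P.c_range P.c_ne
    intro hmem
    rcases mem_zpowers_two huu hmem with h | h
    · exact ht1 h
    · exact hne1 h
  -- `t` moves `c'`
  have hc'r : c' ∈ (cm D.comm u₂).range := by
    have : cm D.comm u₂ c = c'⁻¹ := by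
      rw [cm_apply, P.h6, D.comm c, mul_inv_cancel_right]
    have h2 : c'⁻¹ ∈ (cm D.comm u₂).range := ⟨c, this⟩
    have := (cm D.comm u₂).range.inv_mem h2
    rwa [inv_inv] at this
  have h2 : t c' ≠ c' := by
    apply moves_center D.comm (F.autGroup E) hT hSyl P.u₂_mem ht hu₂1 P.u₂p htp _ hc'r P.c'_ne
    intro hmem
    rcases mem_zpowers_two hu₂u₂ hmem with h | h
    · exact ht1 h
    · exact hne2 h
  -- `t` moves `c' * c`
  set u'' := u * u₂ * u⁻¹ with hu''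
  have hu''G : u'' ∈ F.autGroup E :=
    (F.autGroup E).mul_mem ((F.autGroup E).mul_mem huG P.u₂_mem) ((F.autGroup E).inv_mem huG)
  have hu''u'' : u'' * u'' = 1 := by
    have : u'' * u'' = u * (u₂ * u₂) * u⁻¹ := by rw [hu'']; group
    rw [this, hu₂u₂, mul_one, mul_inv_cancel]
  have hu''1 : u'' ≠ 1 := by
    intro h
    apply hu₂1
    have : u₂ = u⁻¹ * u'' * u := by rw [hu'']; group
    rw [this, h, mul_one, inv_mul_cancel]
  have hcc'r : c' * c ∈ (cm D.comm u'').range := by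
    rw [hu'', range_cm_conj]
    exact ⟨c', hc'r, P.h4⟩
  have hcc'1 : c' * c ≠ 1 := by
    intro h
    -- then `u c' = 1`, so `c' = 1`
    have h4 := P.h4
    rw [h] at h4
    have : c' = 1 := by
      have h5 : u c' = u 1 := by rw [map_one]; exact h4
      exact u.injective h5
    exact P.c'_ne this
  have h3 : t (c' * c) ≠ c' * c := by
    apply moves_center D.comm (F.autGroup E) hT hSyl hu''G ht hu''1
      (by rw [pow_two]; exact hu''u'') htp _ hcc'r hcc'1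
    intro hmem
    rcases mem_zpowers_two hu''u'' hmem with h | h
    · exact ht1 h
    · exact hne3 h
  -- but the commutators of `t` with `c` and `c'` coincide
  obtain ⟨hcard, -⟩ := hT t ht ht1 htp
  have hd1 : cm D.comm t c ≠ 1 := fun h => h1 ((cm_eq_one_iff D.comm t c).mp h)
  have hd2 : cm D.comm t c' ≠ 1 := fun h => h2 ((cm_eq_one_iff D.comm t c').mp h)
  have hm1 : cm D.comm t c ∈ (cm D.comm t).range := MonoidHom.mem_range.mpr ⟨c, rfl⟩
  have hm2 : cm D.comm t c' ∈ (cm D.comm t).range := MonoidHom.mem_range.mpr ⟨c', rfl⟩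
  obtain ⟨k, hk⟩ := exists_zpow_of_card_prime (cm D.comm t).range hcard hm1 hd1 hm2
  have hdd : cm D.comm t c * cm D.comm t c = 1 := by
    have := pow_eq_one_of_card (cm D.comm t).range hcard hm1
    rwa [pow_two] at this
  have heq : cm D.comm t c' = cm D.comm t c := by
    rcases zpow_two_cases hdd k with h | h
    · rw [h] at hk; exact absurd hk hd2
    · rw [h] at hk; exact hk
  apply h3
  rw [← cm_eq_one_iff D.comm, map_mul, heq, hdd]

theorem mem_AE_of_fixed (H : Hyp 2 F) (P : IsPack F D ⟨x, hx⟩ u₂ c c' β) (hxE : x ∉ E) {a : E}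
    (ha : kap D.norm ⟨x, hx⟩ a = a) (ha₂ : u₂ a = a) : (a : Ω) ∈ AE F E := by
  refine ⟨a.2, fun t ht htt => ?_⟩
  by_cases ht1 : t = 1
  · rw [ht1]; rfl
  rcases three_inv H P hxE ht ht1 htt with h | h | h
  · rw [h]; exact ha
  · rw [h]; exact ha₂
  · rw [h, MulAut.mul_apply, MulAut.mul_apply]
    have : (kap D.norm ⟨x, hx⟩)⁻¹ a = a := by
      conv_lhs => rw [← ha]
      exact MulAut.inv_apply_self _ _ a
    rw [this, ha₂, ha]

theorem fixed_of_mem_AE (P : IsPack F D ⟨x, hx⟩ u₂ c c' β) {a : Ω} (ha : a ∈ AE F E) :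
    kap D.norm ⟨x, hx⟩ ⟨a, ha.1⟩ = ⟨a, ha.1⟩ ∧ u₂ ⟨a, ha.1⟩ = ⟨a, ha.1⟩ := by
  obtain ⟨haE, hfix⟩ := ha
  have huG : kap D.norm ⟨x, hx⟩ ∈ F.autGroup E :=
    autInducedBy_le_autGroup F D.le (kap_mem D.norm _)
  exact ⟨hfix _ huG (sq_of_pow_two (kap_pow D _)), hfix _ P.u₂_mem (sq_of_pow_two P.u₂p)⟩

theorem AE_le_Zc (H : Hyp 2 F) (D : ED 2 F E) : AE F E ≤ centralizerIn S S := by
  intro a ha
  obtain ⟨x, hx, hxE⟩ := exists_not_mem H D
  have huG : kap D.norm ⟨x, hx⟩ ∈ F.autGroup E :=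
    autInducedBy_le_autGroup F D.le (kap_mem D.norm _)
  have := ha.2 _ huG (sq_of_pow_two (kap_pow D _))
  exact fixed_mem_Zc D hx hxE this

/-- decomposition of the centre: `Z(S) = A_E ⟨c⟩` -/
theorem Zc_dec2 (H : Hyp 2 F) (P : IsPack F D ⟨x, hx⟩ u₂ c c' β) (hxE : x ∉ E) {z : Ω}
    (hz : z ∈ centralizerIn S S) : ∃ a ∈ AE F E, z = a ∨ z = a * (c : Ω) := by
  obtain ⟨a, i, hzeq, ha, ha₂⟩ := P.Zc_dec hxE hz
  refine ⟨a, mem_AE_of_fixed H P hxE ha ha₂, ?_⟩
  have hcc : c * c = 1 := sq_of_pow_two P.cp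
  rcases zpow_two_cases hcc i with h | h
  · left
    rw [hzeq, h, mul_one]
  · right
    rw [hzeq, h]
    rfl

/-- `c ∉ A_E` -/
theorem c_not_mem_AE (P : IsPack F D ⟨x, hx⟩ u₂ c c' β) : (c : Ω) ∉ AE F E := by
  intro hc
  have h1 := (fixed_of_mem_AE P hc).2
  have h2 : (⟨(c : Ω), hc.1⟩ : E) = c := Subtype.ext rfl
  rw [h2, P.h6] at h1
  have : c'⁻¹ = 1 := by
    have h8 : c * c'⁻¹ = c * 1 := by rw [h1, mul_one]
    exact mul_left_cancel h8
  exact P.c'_ne (inv_eq_one.mp this)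

end ed

end Cfsg.Agent.Helper3.SC
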