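import Mathlib
import Cfsg.Agent.Lib.Helper3.SmallCenter8

/-!
# `p = 2`: squares are trivial, and `Aut_F(S)` fixes the elementary abelian maximal subgroups
-/

set_option autoImplicit false
set_option linter.style.haveILetI false
set_option linter.unusedSectionVars false

namespace Cfsg.Agent.Helper3.SC

open Cfsg Cfsg.FusionSystem Cfsg.Agent.Helper25 Cfsg.Agent.Helper26 Cfsg.Agent.Helper3.KL
open Cfsg.Agent.Helper3.TT

variable {Ω : Type*} [Group Ω] {S : Subgroup Ω} {E : Subgroup Ω}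

/-- squares of central elements of `S` -/
def sqSub (S : Subgroup Ω) : Subgroup Ω where
  carrier := {y | ∃ z ∈ centralizerIn S S, y = z * z}
  one_mem' := ⟨1, (centralizerIn S S).one_mem, by simp⟩
  mul_mem' := by
    rintro _ _ ⟨z, hz, rfl⟩ ⟨z', hz', rfl⟩
    refine ⟨z * z', (centralizerIn S S).mul_mem hz hz', ?_⟩
    have h := (mem_Zc.mp hz).2 z' (Zc_le hz')
    calc z * z * (z' * z') = z * (z * z') * z' := by group
      _ = z * (z' * z) * z' := by rw [h]
      _ = z * z' * (z * z') := by group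
  inv_mem' := by
    rintro _ ⟨z, hz, rfl⟩
    exact ⟨z⁻¹, (centralizerIn S S).inv_mem hz, by group⟩

theorem sqSub_le_Zc (S : Subgroup Ω) : sqSub S ≤ centralizerIn S S := by
  rintro _ ⟨z, hz, rfl⟩
  exact (centralizerIn S S).mul_mem hz hz

section ed

variable [Finite S] [Fact (Nat.Prime 2)] {F : FusionSystem S}

theorem sq_mem_sqSub (H : Hyp 2 F) (D : ED 2 F E) (e : E) : ((e * e : E) : Ω) ∈ sqSub S := by
  obtain ⟨x, hx, hxE⟩ := exists_not_mem H D
  obtain ⟨g, hg, hgu⟩ := exists_second H D hx hxE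
  obtain ⟨u₂, c, c', β, P, -⟩ := exists_pack H D hx hxE hg hgu
  obtain ⟨a, i, j, rfl, ha, -⟩ := P.dec e
  have haZ := fixed_mem_Zc D hx hxE ha
  refine ⟨a, haZ, ?_⟩
  have hcc : c * c = 1 := sq_of_pow_two P.cp
  have hc'c' : c' * c' = 1 := sq_of_pow_two P.c'p
  have h1 : c ^ i * c ^ i = 1 := by
    rw [← (Commute.refl c).mul_zpow, hcc, one_zpow]
  have h2 : c' ^ j * c' ^ j = 1 := by
    rw [← (Commute.refl c').mul_zpow, hc'c', one_zpow]
  have h3 : a * c ^ i * c' ^ j * (a * c ^ i * c' ^ j) = a * a := by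
    calc a * c ^ i * c' ^ j * (a * c ^ i * c' ^ j)
        = a * c ^ i * (c' ^ j * (a * c ^ i)) * c' ^ j := by group
      _ = a * c ^ i * ((a * c ^ i) * c' ^ j) * c' ^ j := by rw [D.comm (c' ^ j)]
      _ = a * (c ^ i * a) * c ^ i * (c' ^ j * c' ^ j) := by group
      _ = a * (a * c ^ i) * c ^ i * (c' ^ j * c' ^ j) := by rw [D.comm (c ^ i) a]
      _ = a * a * (c ^ i * c ^ i) * (c' ^ j * c' ^ j) := by group
      _ = a * a := by rw [h1, h2, mul_one, mul_one]
  rw [h3]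
  rfl

theorem sqSub_isNormal (H : Hyp 2 F) : F.IsNormal (sqSub S) := by
  apply isNormal_of_forall_essential 2 H.pg F H.sat (sqSub S)
  rintro P (rfl | hP)
  · refine ⟨le_trans (sqSub_le_Zc _) Zc_le, fun α _ => ?_⟩
    apply map_aut_eq
    rintro y ⟨z, hz, hy⟩
    refine ⟨_, aut_mem_Zc α hz, ?_⟩
    have : y = ⟨z, Zc_le hz⟩ * ⟨z, Zc_le hz⟩ := Subtype.ext hy
    rw [this, map_mul]
    rfl
  · have D := ed_of_essential H hP
    haveI : Finite P := finite_of_le_finite D.le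
    refine ⟨le_trans (sqSub_le_Zc S) D.Z_le, fun g _ => ?_⟩
    apply map_aut_eq
    rintro y ⟨z, hz, hy⟩
    have : y = ⟨z, D.Z_le hz⟩ * ⟨z, D.Z_le hz⟩ := Subtype.ext hy
    rw [this, map_mul]
    exact sq_mem_sqSub H D _

theorem sq_E (H : Hyp 2 F) (D : ED 2 F E) {e : Ω} (he : e ∈ E) : e * e = 1 := by
  have h1 := sq_mem_sqSub H D ⟨e, he⟩
  rw [eq_bot_of_isNormal H.core (sqSub_isNormal H), Subgroup.mem_bot] at h1
  exact h1

/-! ### elementary abelian maximal subgroups, inside `↥S` -/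

/-- elementary abelian subgroups of index two of `↥S` containing the centre -/
def IsEl (K : Subgroup ↥S) : Prop :=
  Subgroup.center ↥S ≤ K ∧ K.index = 2 ∧ ∀ m ∈ K, m * m = 1

theorem isEl_of_ed (H : Hyp 2 F) (D : ED 2 F E) : IsEl (E.subgroupOf S) := by
  refine ⟨?_, D.idx, fun m hm => ?_⟩
  · rw [center_eq]
    intro z hz
    exact Subgroup.mem_subgroupOf.mpr (D.Z_le (Subgroup.mem_subgroupOf.mp hz))
  · apply Subtype.ext
    exact sq_E H D (Subgroup.mem_subgroupOf.mp hm)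

theorem IsEl.comm {K : Subgroup ↥S} (hK : IsEl K) {m m' : S} (hm : m ∈ K) (hm' : m' ∈ K) :
    m * m' = m' * m := by
  have h1 := hK.2.2 m hm
  have h2 := hK.2.2 m' hm'
  have h3 := hK.2.2 (m * m') (K.mul_mem hm hm')
  have e1 : m⁻¹ = m := inv_eq_of_mul_eq_one_right h1
  have e2 : m'⁻¹ = m' := inv_eq_of_mul_eq_one_right h2
  have e3 : (m * m')⁻¹ = m * m' := inv_eq_of_mul_eq_one_right h3
  rw [← e3, mul_inv_rev, e1, e2]

theorem IsEl.cent {K : Subgroup ↥S} (hK : IsEl K) {x m : S} (hx : x ∉ K) (hm : m ∈ K)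
    (h : x * m = m * x) : m ∈ Subgroup.center ↥S := by
  have hC : K ≤ Subgroup.centralizer {m} := by
    intro y hy
    rw [Subgroup.mem_centralizer_iff]
    intro z hz
    rw [Set.mem_singleton_iff] at hz
    rw [hz]
    exact hK.comm hm hy
  have hidx : K.relIndex ⊤ = 2 := by rw [Subgroup.relIndex_top_right]; exact hK.2.1
  rcases eq_or_eq_of_relIndex_prime Nat.prime_two hC le_top hidx with h1 | h1
  · exfalso
    apply hx
    rw [← h1, Subgroup.mem_centralizer_iff]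
    intro z hz
    rw [Set.mem_singleton_iff] at hz
    rw [hz]
    exact h.symm
  · rw [Subgroup.mem_center_iff]
    intro y
    have : y ∈ Subgroup.centralizer {m} := by rw [h1]; trivial
    exact ((Subgroup.mem_centralizer_iff.mp this) m rfl).symm

theorem IsEl.mul_mem_iff {K : Subgroup ↥S} (hK : IsEl K) {a b : S} :
    a * b ∈ K ↔ (a ∈ K ↔ b ∈ K) := Subgroup.mul_mem_iff_of_index_two hK.2.1

theorem IsEl.not_le {K₁ K₂ : Subgroup ↥S} (h₁ : IsEl K₁) (h₂ : IsEl K₂) (hne : K₁ ≠ K₂) :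
    ∃ e ∈ K₂, e ∉ K₁ := by
  by_contra hcon
  push Not at hcon
  apply hne
  apply le_antisymm _ hcon
  have h3 := Subgroup.relIndex_mul_index hcon
  rw [h₁.2.1, h₂.2.1] at h3
  have h4 : K₂.relIndex K₁ = 1 := by omega
  exact Subgroup.relIndex_eq_one.mp h4

/-- an element outside two elementary abelian maximal subgroups is not an involution -/
theorem el_third {K₁ K₂ : Subgroup ↥S} (h₁ : IsEl K₁) (h₂ : IsEl K₂) (hne : K₁ ≠ K₂) {s : S}
    (hs₁ : s ∉ K₁) (hs₂ : s ∉ K₂) : s * s ≠ 1 := by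
  intro hss
  obtain ⟨e', he'₂, he'₁⟩ := h₁.not_le h₂ hne
  set f : S := e'⁻¹ * s with hf
  have hf₁ : f ∈ K₁ := by
    rw [hf, h₁.mul_mem_iff]
    constructor
    · intro h; exact absurd (by simpa using K₁.inv_mem h) he'₁
    · intro h; exact absurd h hs₁
  have hf₂ : f ∉ K₂ := by
    rw [hf, h₂.mul_mem_iff]
    intro h
    exact hs₂ (h.mp (K₂.inv_mem he'₂))
  have hfZ : f ∉ Subgroup.center ↥S := fun h => hf₂ (h₂.1 h)
  have hs : s = e' * f := by rw [hf, mul_inv_cancel_left]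
  have e1 : e'⁻¹ = e' := inv_eq_of_mul_eq_one_right (h₂.2.2 e' he'₂)
  have e2 : f⁻¹ = f := inv_eq_of_mul_eq_one_right (h₁.2.2 f hf₁)
  have e3 : (e' * f)⁻¹ = e' * f := by rw [← hs]; exact inv_eq_of_mul_eq_one_right hss
  have hcomm : e' * f = f * e' := by
    rw [← e3, mul_inv_rev, e1, e2]
  exact hfZ (h₁.cent he'₁ hf₁ hcomm)

/-- there are at most two elementary abelian maximal subgroups -/
theorem el_two {K K₁ K₂ : Subgroup ↥S} (h : IsEl K) (h₁ : IsEl K₁) (h₂ : IsEl K₂) (hne : K ≠ K₁) :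
    K₂ = K ∨ K₂ = K₁ := by
  by_contra hcon
  push Not at hcon
  obtain ⟨hne₀, hne₁⟩ := hcon
  obtain ⟨m, hm₂, hm₀⟩ := h.not_le h₂ (Ne.symm hne₀)
  obtain ⟨m', hm'₂, hm'₁⟩ := h₁.not_le h₂ (Ne.symm hne₁)
  have key : ∃ s ∈ K₂, s ∉ K ∧ s ∉ K₁ := by
    by_cases hm₁ : m ∈ K₁
    · by_cases hm'₀ : m' ∈ K
      · refine ⟨m * m', K₂.mul_mem hm₂ hm'₂, ?_, ?_⟩
        · rw [h.mul_mem_iff]
          intro hh
          exact hm₀ (hh.mpr hm'₀)
        · rw [h₁.mul_mem_iff]
          intro hh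
          exact hm'₁ (hh.mp hm₁)
      · exact ⟨m', hm'₂, hm'₀, hm'₁⟩
    · exact ⟨m, hm₂, hm₀, hm₁⟩
  obtain ⟨s, hs₂, hs₀, hs₁⟩ := key
  exact el_third h h₁ hne hs₀ hs₁ (h₂.2.2 s hs₂)

theorem IsEl.map {K : Subgroup ↥S} (hK : IsEl K) (β : MulAut S) : IsEl (K.map β.toMonoidHom) := by
  refine ⟨?_, ?_, ?_⟩
  · intro z hz
    refine ⟨β⁻¹ z, hK.1 ?_, by simp⟩
    rw [Subgroup.mem_center_iff] at hz ⊢
    intro y
    have := hz (β y)
    apply β.injective
    rw [map_mul, map_mul, MulAut.apply_inv_self]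
    exact this
  · have := Subgroup.index_map_equiv K β
    rw [← hK.2.1, ← this]
    rfl
  · rintro _ ⟨m, hm, rfl⟩
    show β m * β m = 1
    rw [← map_mul, hK.2.2 m hm, map_one]

/-- the stabilizer of a subgroup in the automorphism group -/
def stabSub (K : Subgroup ↥S) : Subgroup (MulAut S) where
  carrier := {β | K.map β.toMonoidHom = K}
  one_mem' := by
    show K.map (1 : MulAut S).toMonoidHom = K
    have : (1 : MulAut S).toMonoidHom = MonoidHom.id S := rfl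
    rw [this, Subgroup.map_id]
  mul_mem' := by
    intro a b ha hb
    show K.map (a * b).toMonoidHom = K
    have : (a * b).toMonoidHom = a.toMonoidHom.comp b.toMonoidHom := rfl
    rw [this, ← Subgroup.map_map, hb, ha]
  inv_mem' := by
    intro a ha
    show K.map (a⁻¹).toMonoidHom = K
    have h1 : (K.map a.toMonoidHom).map (a⁻¹).toMonoidHom = K := by
      rw [Subgroup.map_map]
      have : (a⁻¹).toMonoidHom.comp a.toMonoidHom = MonoidHom.id S := by
        ext y; simp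
      rw [this, Subgroup.map_id]
    rw [ha] at h1
    exact h1

theorem mem_stabSub {K : Subgroup ↥S} {β : MulAut S} :
    β ∈ stabSub K ↔ K.map β.toMonoidHom = K := Iff.rfl

theorem sq_mem_stabSub {K : Subgroup ↥S} (hK : IsEl K) (β : MulAut S) : β * β ∈ stabSub K := by
  rw [mem_stabSub]
  have h1 := hK.map β
  have h2 := h1.map β
  have e : (β * β).toMonoidHom = β.toMonoidHom.comp β.toMonoidHom := rfl
  rw [e, ← Subgroup.map_map]
  by_cases hfix : K.map β.toMonoidHom = K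
  · rw [hfix, hfix]
  · rcases el_two hK h1 h2 (Ne.symm hfix) with h3 | h3
    · exact h3
    · exfalso
      apply hfix
      -- `β` is injective on subgroups
      have h4 : (K.map β.toMonoidHom).comap β.toMonoidHom = K :=
        Subgroup.comap_map_eq_self_of_injective β.injective K
      have h5 : ((K.map β.toMonoidHom).map β.toMonoidHom).comap β.toMonoidHom =
          K.map β.toMonoidHom :=
        Subgroup.comap_map_eq_self_of_injective β.injective _
      rw [h3, h4] at h5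
      exact h5.symm

theorem map_eq_of_forall_mem' {G : Type*} [Group G] [Finite G] (K : Subgroup G) (β : MulAut G)
    (h : ∀ m ∈ K, β m ∈ K) : K.map β.toMonoidHom = K := by
  have hle : K.map β.toMonoidHom ≤ K := by
    rintro _ ⟨m, hm, rfl⟩
    exact h m hm
  apply Subgroup.eq_of_le_of_card_ge hle
  rw [Subgroup.card_map_of_injective β.injective]

theorem inner_mem_stabSub (H : Hyp 2 F) {K : Subgroup ↥S} (hK : IsEl K) {δ : MulAut S} {s : S}
    (hδ : ∀ y : S, δ y = s * y * s⁻¹) : δ ∈ stabSub K := by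
  rw [mem_stabSub]
  apply map_eq_of_forall_mem'
  intro m hm
  rw [hδ]
  have h1 : s * m * s⁻¹ = (s * m * s⁻¹ * m⁻¹) * m := by group
  rw [h1]
  refine K.mul_mem (hK.1 ?_) hm
  have h2 := comm_mem_Zc H s.2 m.2
  rw [center_eq, Subgroup.mem_subgroupOf]
  exact h2

/-- `p`-elements of `Aut_F(S)` are inner -/
theorem pElement_inner {p : ℕ} [Fact p.Prime] {F : FusionSystem S} (H : Hyp p F) {δ : MulAut S}
    (hδ : δ ∈ F.autGroup S) {a : ℕ} (hδp : δ ^ (p ^ a) = 1) :
    ∃ s : S, ∀ y : S, δ y = s * y * s⁻¹ := by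
  obtain ⟨-, R, hR⟩ := isFullyAutomized_self p F H.sat
  have hSg : IsPGroup p (Subgroup.zpowers (⟨δ, hδ⟩ : F.autGroup S)) := by
    rintro ⟨g, hg⟩
    obtain ⟨k, rfl⟩ := Subgroup.mem_zpowers_iff.mp hg
    refine ⟨a, ?_⟩
    apply Subtype.ext
    apply Subtype.ext
    show ((δ ^ k) ^ (p ^ a) : MulAut S) = 1
    rw [← zpow_natCast, ← zpow_mul, mul_comm, zpow_mul, zpow_natCast, hδp, one_zpow]
  obtain ⟨l, hl⟩ := exists_conj_le_sylow R hSg
  have h1 := hl _ (Subgroup.mem_zpowers _)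
  rw [hR, Subgroup.mem_subgroupOf] at h1
  obtain ⟨s, hs, hconj⟩ := (mem_autInducedBy_iff _).mp h1
  refine ⟨(l : MulAut S)⁻¹ ⟨s, hs⟩, fun y => ?_⟩
  have h2 := hconj ((l : MulAut S) y)
  have h3 : ((l * ⟨δ, hδ⟩ * l⁻¹ : F.autGroup S) : MulAut S) ((l : MulAut S) y) =
      (l : MulAut S) (δ y) := by
    simp only [Subgroup.coe_mul, Subgroup.coe_inv, MulAut.mul_apply, MulAut.inv_apply_self]
  rw [h3] at h2
  have h4 : (l : MulAut S) (δ y) = ⟨s, hs⟩ * (l : MulAut S) y * ⟨s, hs⟩⁻¹ := Subtype.ext h2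
  apply (l : MulAut S).injective
  rw [h4, map_mul, map_mul, map_inv, MulAut.apply_inv_self]

/-- every automorphism in `Aut_F(S)` fixes every elementary abelian maximal subgroup -/
theorem autF_mem_stabSub (H : Hyp 2 F) {K : Subgroup ↥S} (hK : IsEl K) {β : MulAut S}
    (hβ : β ∈ F.autGroup S) : β ∈ stabSub K := by
  have hord : orderOf β ≠ 0 := (orderOf_pos β).ne'
  obtain ⟨a, m', hm', hn⟩ := Nat.exists_eq_pow_mul_and_not_dvd hord 2 (by norm_num)
  have hδp : (β ^ m') ^ (2 ^ a) = 1 := by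
    rw [← pow_mul, mul_comm, ← hn, pow_orderOf_eq_one]
  obtain ⟨s, hs⟩ := pElement_inner H ((F.autGroup S).pow_mem hβ m') hδp
  have h1 : β ^ m' ∈ stabSub K := inner_mem_stabSub H hK hs
  have h2 : β ^ 2 ∈ stabSub K := by rw [pow_two]; exact sq_mem_stabSub hK β
  have hcop : IsCoprime (2 : ℤ) (m' : ℤ) := by
    have : Nat.Coprime 2 m' := (Nat.Prime.coprime_iff_not_dvd Nat.prime_two).mpr hm'
    exact_mod_cast Nat.isCoprime_iff_coprime.mpr this
  obtain ⟨u, v, huv⟩ := hcop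
  have hβeq : β = (β ^ 2) ^ u * (β ^ m') ^ v := by
    rw [← zpow_natCast, ← zpow_natCast, ← zpow_mul, ← zpow_mul, ← zpow_add]
    have : ((2 : ℕ) : ℤ) * u + (m' : ℤ) * v = 1 := by push_cast; linarith
    rw [this, zpow_one]
  rw [hβeq]
  exact (stabSub K).mul_mem ((stabSub K).zpow_mem h2 u) ((stabSub K).zpow_mem h1 v)

theorem autF_fix_essential (H : Hyp 2 F) (D : ED 2 F E) {β : MulAut S} (hβ : β ∈ F.autGroup S)
    {e : Ω} (he : e ∈ E) : ((β ⟨e, D.le he⟩ : S) : Ω) ∈ E := by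
  have h1 := autF_mem_stabSub H (isEl_of_ed H D) hβ
  rw [mem_stabSub] at h1
  have h2 : β ⟨e, D.le he⟩ ∈ (E.subgroupOf S).map β.toMonoidHom :=
    ⟨⟨e, D.le he⟩, Subgroup.mem_subgroupOf.mpr he, rfl⟩
  rw [h1] at h2
  exact Subgroup.mem_subgroupOf.mp h2

/-- restriction of an automorphism of `S` in `F` to an essential subgroup -/
theorem restrict_autF (H : Hyp 2 F) (D : ED 2 F E) {β : MulAut S} (hβ : β ∈ F.autGroup S) :
    ∃ g ∈ F.autGroup E, ∀ e : E, ((g e : E) : Ω) = ((β ⟨e, D.le e.2⟩ : S) : Ω) := by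
  have hψ : S.subtype.comp β.toMonoidHom ∈ F.Hom S := (mem_autGroup_iff F le_rfl β).mp hβ
  have hψE := restrict_mem F D.le hψ
  obtain ⟨g, hg, hgeq⟩ := exists_aut_of_hom F hψE (fun e => autF_fix_essential H D hβ e.2)
  exact ⟨g, hg, fun e => hgeq e⟩

theorem AE_autF (H : Hyp 2 F) (D : ED 2 F E) {β : MulAut S} (hβ : β ∈ F.autGroup S) {a : Ω}
    (ha : a ∈ AE F E) : ((β ⟨a, D.le ha.1⟩ : S) : Ω) ∈ AE F E := by
  obtain ⟨g, hg, hgeq⟩ := restrict_autF H D hβ
  have := AE_inv hg ha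
  rw [hgeq] at this
  exact this

end ed

end Cfsg.Agent.Helper3.SC
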