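import Mathlib
import Cfsg.Agent.Lib.Helper3.SmallCenter9

/-!
# `p = 2`: two essential subgroups, the normal subgroup `A_{E₁} ∩ A_{E₂}`, permutation of the centres
-/

set_option autoImplicit false
set_option linter.style.haveILetI false
set_option linter.unusedSectionVars false

namespace Cfsg.Agent.Helper3.SC

open Cfsg Cfsg.FusionSystem Cfsg.Agent.Helper25 Cfsg.Agent.Helper26 Cfsg.Agent.Helper3.KL
open Cfsg.Agent.Helper3.TT

variable {Ω : Type*} [Group Ω] {S : Subgroup Ω} {E E₁ E₂ : Subgroup Ω}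

theorem subgroupOf_inj_of_le {A B : Subgroup Ω} (hA : A ≤ S) (hB : B ≤ S)
    (h : A.subgroupOf S = B.subgroupOf S) : A = B := by
  ext y
  constructor
  · intro hy
    have : (⟨y, hA hy⟩ : S) ∈ A.subgroupOf S := Subgroup.mem_subgroupOf.mpr hy
    rw [h] at this
    exact Subgroup.mem_subgroupOf.mp this
  · intro hy
    have : (⟨y, hB hy⟩ : S) ∈ B.subgroupOf S := Subgroup.mem_subgroupOf.mpr hy
    rw [← h] at this
    exact Subgroup.mem_subgroupOf.mp this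

section ed

variable [Finite S] [Fact (Nat.Prime 2)] {F : FusionSystem S}

theorem essential_cases (H : Hyp 2 F) (D₁ : ED 2 F E₁) (D₂ : ED 2 F E₂) (hne : E₁ ≠ E₂)
    {P : Subgroup Ω} (hP : F.IsEssential 2 P) : P = E₁ ∨ P = E₂ := by
  have D := ed_of_essential H hP
  have hne' : E₁.subgroupOf S ≠ E₂.subgroupOf S :=
    fun h => hne (subgroupOf_inj_of_le D₁.le D₂.le h)
  rcases el_two (isEl_of_ed H D₁) (isEl_of_ed H D₂) (isEl_of_ed H D) hne' with h | h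
  · exact Or.inl (subgroupOf_inj_of_le D.le D₁.le h)
  · exact Or.inr (subgroupOf_inj_of_le D.le D₂.le h)

theorem exists_two_essential (H : Hyp 2 F) :
    ∃ E₁ E₂ : Subgroup Ω, F.IsEssential 2 E₁ ∧ F.IsEssential 2 E₂ ∧ E₁ ≠ E₂ := by
  obtain ⟨E₁, hE₁⟩ := exists_essential H
  by_contra hcon
  have hall : ∀ P, F.IsEssential 2 P → P = E₁ := by
    intro P hP
    by_contra hne
    exact hcon ⟨E₁, P, hE₁, hP, Ne.symm hne⟩
  have D := ed_of_essential H hE₁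
  have hn : F.IsNormal E₁ := by
    apply isNormal_of_forall_essential 2 H.pg F H.sat E₁
    rintro P (rfl | hP)
    · refine ⟨D.le, fun α hα => ?_⟩
      apply map_aut_eq
      intro y hy
      exact autF_fix_essential H D hα hy
    · have := hall P hP
      subst this
      refine ⟨le_rfl, fun α _ => ?_⟩
      rw [Subgroup.subgroupOf_self]
      ext y
      constructor
      · intro _; trivial
      · intro _; exact ⟨α⁻¹ y, trivial, by simp⟩
  have hbot := eq_bot_of_isNormal H.core hn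
  have h1 := D.idxZ
  rw [hbot, Subgroup.relIndex_bot_right] at h1
  omega

/-- `Aut_F(E₁)` preserves `A_{E₁} ∩ A_{E₂}` -/
theorem inf_AE_autE (H : Hyp 2 F) (D₁ : ED 2 F E₁) (D₂ : ED 2 F E₂) {g : MulAut E₁}
    (hg : g ∈ F.autGroup E₁) {z : Ω} (hz₁ : z ∈ AE F E₁) (hz₂ : z ∈ AE F E₂) :
    ((g ⟨z, hz₁.1⟩ : E₁) : Ω) ∈ AE F E₂ := by
  obtain ⟨x, hx, hxE⟩ := exists_not_mem H D₁
  by_cases hgu : g * kap D₁.norm ⟨x, hx⟩ * g⁻¹ ∈ Subgroup.zpowers (kap D₁.norm ⟨x, hx⟩)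
  · obtain ⟨β', hβ', hext⟩ := exists_ext H D₁ hg (norm_of_conj_mem D₁ hx hxE hgu)
    rw [← hext ⟨z, hz₁.1⟩]
    exact AE_autF H D₂ hβ' hz₂
  · obtain ⟨u₂, c, c', β₁, P, hmem⟩ := exists_pack H D₁ hx hxE hg hgu
    set w := wEl (kap D₁.norm ⟨x, hx⟩) u₂ with hw
    have hnG : w⁻¹ * g ∈ F.autGroup E₁ :=
      (F.autGroup E₁).mul_mem ((F.autGroup E₁).inv_mem P.w_mem) hg
    obtain ⟨β', hβ', hext⟩ := exists_ext H D₁ hnG (norm_of_conj_mem D₁ hx hxE (P.norm hmem))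
    have h1 : (((w⁻¹ * g) ⟨z, hz₁.1⟩ : E₁) : Ω) ∈ AE F E₁ := AE_inv hnG hz₁
    have h2 : (((w⁻¹ * g) ⟨z, hz₁.1⟩ : E₁) : Ω) ∈ AE F E₂ := by
      rw [← hext ⟨z, hz₁.1⟩]
      exact AE_autF H D₂ hβ' hz₂
    obtain ⟨hf1, hf2⟩ := fixed_of_mem_AE P h1
    obtain ⟨-, hwa, -⟩ := P.facts
    have h3 := hwa _ hf1 hf2
    have h4 : g ⟨z, hz₁.1⟩ = w ((w⁻¹ * g) ⟨z, hz₁.1⟩) := by
      rw [MulAut.mul_apply, MulAut.apply_inv_self]
    have h5 : (⟨(((w⁻¹ * g) ⟨z, hz₁.1⟩ : E₁) : Ω), h1.1⟩ : E₁) = (w⁻¹ * g) ⟨z, hz₁.1⟩ :=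
      Subtype.ext rfl
    rw [h5] at h3
    rw [h4, h3]
    exact h2

theorem inf_AE_isNormal (H : Hyp 2 F) (D₁ : ED 2 F E₁) (D₂ : ED 2 F E₂) (hne : E₁ ≠ E₂) :
    F.IsNormal (AE F E₁ ⊓ AE F E₂) := by
  apply isNormal_of_forall_essential 2 H.pg F H.sat
  rintro P (rfl | hP)
  · refine ⟨le_trans inf_le_left (le_trans (AE_le F E₁) D₁.le), fun α hα => ?_⟩
    apply map_aut_eq
    rintro y ⟨hy₁, hy₂⟩
    exact ⟨AE_autF H D₁ hα hy₁, AE_autF H D₂ hα hy₂⟩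
  · rcases essential_cases H D₁ D₂ hne hP with rfl | rfl
    · haveI : Finite P := finite_of_le_finite D₁.le
      refine ⟨le_trans inf_le_left (AE_le F P), fun g hg => ?_⟩
      apply map_aut_eq
      rintro y ⟨hy₁, hy₂⟩
      exact ⟨AE_inv hg hy₁, inf_AE_autE H D₁ D₂ hg hy₁ hy₂⟩
    · haveI : Finite P := finite_of_le_finite D₂.le
      refine ⟨le_trans inf_le_right (AE_le F P), fun g hg => ?_⟩
      apply map_aut_eq
      rintro y ⟨hy₁, hy₂⟩
      exact ⟨inf_AE_autE H D₂ D₁ hg hy₂ hy₁, AE_inv hg hy₂⟩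

theorem inf_AE_eq_bot (H : Hyp 2 F) (D₁ : ED 2 F E₁) (D₂ : ED 2 F E₂) (hne : E₁ ≠ E₂) :
    AE F E₁ ⊓ AE F E₂ = ⊥ :=
  eq_bot_of_isNormal H.core (inf_AE_isNormal H D₁ D₂ hne)

/-- in a group of order two, two nontrivial elements coincide -/
theorem eq_of_mem_of_card_two {G : Type*} [Group G] (W : Subgroup G) (hW : Nat.card W = 2)
    {d d' : G} (hd : d ∈ W) (hd' : d' ∈ W) (hd1 : d ≠ 1) (hd'1 : d' ≠ 1) : d = d' := by
  obtain ⟨k, hk⟩ := exists_zpow_of_card_prime W hW hd hd1 hd'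
  have hdd : d * d = 1 := by
    have := pow_eq_one_of_card W hW hd
    rwa [pow_two] at this
  rcases zpow_two_cases hdd k with h | h
  · rw [h] at hk; exact absurd hk hd'1
  · rw [h] at hk; exact hk.symm

variable {D : ED 2 F E} {x : Ω} {hx : x ∈ S} {u₂ : MulAut E} {c c' : E} {β : MulAut S}

/-- an involution `t` with centre `w` -/
def Cen (D : ED 2 F E) (t : MulAut E) (w : E) : Prop :=
  w ≠ 1 ∧ w ∈ (cm D.comm t).range ∧ ∀ e, cm D.comm t e = 1 ∨ cm D.comm t e = w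

theorem cen_u (P : IsPack F D ⟨x, hx⟩ u₂ c c' β) : Cen D (kap D.norm ⟨x, hx⟩) c := by
  refine ⟨P.c_ne, P.c_range, fun e => ?_⟩
  obtain ⟨k, hk⟩ := P.cmu e
  rw [hk]
  exact zpow_two_cases (sq_of_pow_two P.cp) k

theorem c'_range (P : IsPack F D ⟨x, hx⟩ u₂ c c' β) : c' ∈ (cm D.comm u₂).range := by
  have : cm D.comm u₂ c = c'⁻¹ := by
    rw [cm_apply, P.h6, D.comm c, mul_inv_cancel_right]
  have h2 : c'⁻¹ ∈ (cm D.comm u₂).range := ⟨c, this⟩
  have := (cm D.comm u₂).range.inv_mem h2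
  rwa [inv_inv] at this

theorem cen_u₂ (P : IsPack F D ⟨x, hx⟩ u₂ c c' β) : Cen D u₂ c' := by
  refine ⟨P.c'_ne, c'_range P, fun e => ?_⟩
  obtain ⟨k, hk⟩ := P.cmu₂ e
  rw [hk]
  exact zpow_two_cases (sq_of_pow_two P.c'p) k

theorem cen_conj {t : MulAut E} {w : E} (h : Cen D t w) (g : MulAut E) :
    Cen D (g * t * g⁻¹) (g w) := by
  obtain ⟨h1, h2, h3⟩ := h
  refine ⟨fun h => h1 (g.injective (by rw [h, map_one])), ?_, fun e => ?_⟩
  · rw [range_cm_conj]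
    exact ⟨w, h2, rfl⟩
  · rw [cm_conj]
    rcases h3 (g⁻¹ e) with h | h
    · left; rw [h, map_one]
    · right; rw [h]

theorem cen_unique {t : MulAut E} {w w' : E} (h : Cen D t w) (h' : Cen D t w') : w = w' := by
  obtain ⟨e, he⟩ := h'.2.1
  rcases h.2.2 e with h1 | h1
  · rw [h1] at he; exact absurd he.symm h'.1
  · rw [h1] at he; exact he

theorem cen_u'' (P : IsPack F D ⟨x, hx⟩ u₂ c c' β) :
    Cen D (kap D.norm ⟨x, hx⟩ * u₂ * (kap D.norm ⟨x, hx⟩)⁻¹) (c' * c) := by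
  have := cen_conj (cen_u₂ P) (kap D.norm ⟨x, hx⟩)
  rwa [P.h4] at this

/-- `Aut_F(E)` permutes the three centres -/
theorem center_perm (H : Hyp 2 F) (P : IsPack F D ⟨x, hx⟩ u₂ c c' β) (hxE : x ∉ E) {g : MulAut E}
    (hg : g ∈ F.autGroup E) {w : E} (hw : w = c ∨ w = c' ∨ w = c' * c) :
    g w = c ∨ g w = c' ∨ g w = c' * c := by
  set u := kap D.norm ⟨x, hx⟩ with hu
  have huG : u ∈ F.autGroup E := autInducedBy_le_autGroup F D.le (kap_mem D.norm _)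
  have key : ∀ (t : MulAut E) (w : E), t ∈ F.autGroup E → t ≠ 1 → t * t = 1 → Cen D t w →
      g w = c ∨ g w = c' ∨ g w = c' * c := by
    intro t w ht ht1 htt hcen
    have hc := cen_conj hcen g
    have ht'G : g * t * g⁻¹ ∈ F.autGroup E :=
      (F.autGroup E).mul_mem ((F.autGroup E).mul_mem hg ht) ((F.autGroup E).inv_mem hg)
    have ht'1 : g * t * g⁻¹ ≠ 1 := by
      intro h
      apply ht1
      have : t = g⁻¹ * (g * t * g⁻¹) * g := by group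
      rw [this, h, mul_one, inv_mul_cancel]
    have ht't' : (g * t * g⁻¹) * (g * t * g⁻¹) = 1 := by
      have : (g * t * g⁻¹) * (g * t * g⁻¹) = g * (t * t) * g⁻¹ := by group
      rw [this, htt, mul_one, mul_inv_cancel]
    rcases three_inv H P hxE ht'G ht'1 ht't' with h | h | h
    · rw [h] at hc
      exact Or.inl (cen_unique hc (cen_u P))
    · rw [h] at hc
      exact Or.inr (Or.inl (cen_unique hc (cen_u₂ P)))
    · rw [h] at hc
      exact Or.inr (Or.inr (cen_unique hc (cen_u'' P)))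
  have hu1 : u ≠ 1 := kap_ne_one D hx hxE
  have huu : u * u = 1 := sq_of_pow_two (kap_pow D _)
  have hu₂u₂ : u₂ * u₂ = 1 := sq_of_pow_two P.u₂p
  have hu₂1 : u₂ ≠ 1 := by
    intro h
    have h6 := P.h6
    rw [h, MulAut.one_apply] at h6
    have : c'⁻¹ = 1 := by
      have h8 : c * c'⁻¹ = c * 1 := by rw [← h6, mul_one]
      exact mul_left_cancel h8
    exact P.c'_ne (inv_eq_one.mp this)
  rcases hw with rfl | rfl | rfl
  · exact key u _ huG hu1 huu (cen_u P)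
  · exact key u₂ _ P.u₂_mem hu₂1 hu₂u₂ (cen_u₂ P)
  · refine key (u * u₂ * u⁻¹) _
      ((F.autGroup E).mul_mem ((F.autGroup E).mul_mem huG P.u₂_mem) ((F.autGroup E).inv_mem huG))
      ?_ ?_ (cen_u'' P)
    · intro h
      apply hu₂1
      have : u₂ = u⁻¹ * (u * u₂ * u⁻¹) * u := by group
      rw [this, h, mul_one, inv_mul_cancel]
    · have : (u * u₂ * u⁻¹) * (u * u₂ * u⁻¹) = u * (u₂ * u₂) * u⁻¹ := by group
      rw [this, hu₂u₂, mul_one, mul_inv_cancel]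

end ed

end Cfsg.Agent.Helper3.SC
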