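import Mathlib
import Cfsg.Agent.Lib.Helper3.BisetThompson
import Cfsg.Agent.Lib.Helper3.BisetTransportElt

/-!
# Thompson transfer for saturated fusion systems, with only `S` finite

The same statement as `S5192`, assuming `Finite S` instead of finiteness of the ambient group, and with the focal
subgroup in the conclusion.
-/

set_option autoImplicit false
set_option linter.style.haveILetI false
set_option linter.unusedSectionVars false
open Cfsg

namespace Cfsg.Agent.Helper3.TTS

open Cfsg.FusionSystem Cfsg.Agent.Helper25 Cfsg.Agent.Helper3.Biset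

theorem hyperfocal_le_focal' {Ω : Type*} [Group Ω] {S : Subgroup Ω} (F : Cfsg.FusionSystem S)
    (p : ℕ) : F.hyperfocalSubgroup p ≤ F.focalSubgroup := by
  unfold FusionSystem.hyperfocalSubgroup FusionSystem.focalSubgroup
  rw [Subgroup.closure_le]
  rintro _ ⟨P, α, x, hPS, -, rfl⟩
  have hα := (mem_autGroup_iff F hPS (α : MulAut P)).1 α.2
  exact Subgroup.subset_closure ⟨P, _, x, hα, rfl⟩

theorem not_mem_focal {Ω : Type*} [Group Ω] {S : Subgroup Ω} [Finite S]
    (hS : IsPGroup 2 ↥S) (F : Cfsg.FusionSystem S) (hF : F.IsSaturated 2)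
    (T : Subgroup Ω) (hTS : T ≤ S) (hT : T.relIndex S = 2)
    (i : Ω) (hi : i ∈ S) (hi2 : orderOf i = 2)
    (h : ∀ j : Ω, F.IsConjElt i j → F.IsFullyNormalized (Subgroup.zpowers j) → j ∉ T) :
    i ∉ F.focalSubgroup := by
  intro hifoc
  haveI : Fact (Nat.Prime 2) := ⟨Nat.prime_two⟩
  obtain ⟨E, hE⟩ := exists_topCopy F
  have hEsat := hE.isSaturated hS hF
  set a : ↥S := ⟨i, hi⟩ with ha
  have hii : i * i = 1 := by
    have := pow_orderOf_eq_one i
    rwa [hi2, pow_two] at this
  have hi1 : i ≠ 1 := by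
    intro h1
    rw [h1, orderOf_one] at hi2
    exact absurd hi2 (by norm_num)
  have haa : a * a = 1 := Subtype.ext hii
  have ha1 : a ≠ 1 := fun h1 => hi1 (congrArg Subtype.val h1)
  have hfoc' : a ∈ E.focalSubgroup := by
    obtain ⟨w, hw, hwz⟩ := hE.focal_le hifoc
    have : w = a := Subtype.ext hwz
    rwa [← this]
  refine not_mem_focal_of_thompson hS hEsat (T.subgroupOf S) hT a haa ?_ hfoc'
  intro t hat hmax htT
  have htT' : (t : Ω) ∈ T := Subgroup.mem_subgroupOf.1 htT
  have hit : F.IsConjElt i (t : Ω) := hE.isConjElt_of hat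
  obtain ⟨htt, ht1⟩ := IsConjElt.mul_self hat haa ha1
  refine h (t : Ω) hit ⟨Subgroup.zpowers_le.2 t.2, fun Q hQ => ?_⟩ htT'
  obtain ⟨ψ, hψ, rfl⟩ := hQ
  rw [range_eq_zpowers ψ]
  have htj : F.IsConjElt (t : Ω) (ψ ⟨(t : Ω), Subgroup.mem_zpowers _⟩) := ⟨ψ, hψ, rfl⟩
  obtain ⟨hj, haj⟩ := hE.isConjElt_to (a := a) (isConjElt_trans F hit htj)
  obtain ⟨hjj, hj1⟩ := IsConjElt.mul_self haj haa ha1
  have e1 := card_normalizerIn_zpowers (S := S) hjj hj1
  have e2 := card_normalizerIn_zpowers (S := S) htt ht1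
  rw [e2]
  refine le_trans (le_of_eq ?_) (hmax _ haj)
  exact e1

end Cfsg.Agent.Helper3.TTS
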