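import Mathlib
import Cfsg.Agent.Lib.Helper3.SmallCenter10
import Cfsg.Agent.Lib.Helper3.ThompsonTransferS

/-!
# `p = 2`: the transfer argument (centre of index `4`)

With two essential subgroups `E₁`, `E₂` and `A_{E₁} ≠ 1`, the nontrivial element `a₁` of `A_{E₁}` has exactly three
conjugates in the system, all outside a subgroup `T` of index two; by Thompson transfer `a₁` is not in the focal
subgroup.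
-/

set_option autoImplicit false
set_option linter.style.haveILetI false
set_option linter.unusedSectionVars false

namespace Cfsg.Agent.Helper3.SC

open Cfsg Cfsg.FusionSystem Cfsg.Agent.Helper25 Cfsg.Agent.Helper26 Cfsg.Agent.Helper3.KL
open Cfsg.Agent.Helper3.TT

variable {Ω : Type*} [Group Ω] {S : Subgroup Ω} {E E₁ E₂ : Subgroup Ω}

section ed

variable [Finite S] [Fact (Nat.Prime 2)] {F : FusionSystem S}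

section pack

variable {D : ED 2 F E} {x : Ω} {hx : x ∈ S} {u₂ : MulAut E} {c c' : E} {β : MulAut S}

/-- an element of `⟨c, c'⟩` fixed by `u` lies in `⟨c⟩` -/
theorem W_fixed (P : IsPack F D ⟨x, hx⟩ u₂ c c' β) {i j : ℤ}
    (h : kap D.norm ⟨x, hx⟩ (c ^ i * c' ^ j) = c ^ i * c' ^ j) : c' ^ j = 1 := by
  rw [map_mul, map_zpow, map_zpow, P.h3, P.h4, zpow_mul_comm' D.comm] at h
  have h8 : c ^ j = 1 := by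
    have h9 : c ^ i * (c' ^ j * c ^ j) = c ^ i * (c' ^ j * 1) := by rw [mul_one]; exact h
    exact mul_left_cancel (mul_left_cancel h9)
  have hcc : c * c = 1 := sq_of_pow_two P.cp
  have hc'c' : c' * c' = 1 := sq_of_pow_two P.c'p
  rcases Int.emod_two_eq_zero_or_one j with hj | hj
  · have : j = 2 * (j / 2) := by omega
    rw [this, zpow_mul, zpow_two, hc'c', one_zpow]
  · exfalso
    have : j = 2 * (j / 2) + 1 := by omega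
    rw [this, zpow_add, zpow_mul, zpow_two, hcc, one_zpow, one_mul, zpow_one] at h8
    exact P.c_ne h8

/-- `A_E ∩ ⟨c, c'⟩ = 1` -/
theorem AE_inter_W (P : IsPack F D ⟨x, hx⟩ u₂ c c' β) {a : E}
    (ha : kap D.norm ⟨x, hx⟩ a = a) (ha₂ : u₂ a = a) {i j : ℤ} (h : a = c ^ i * c' ^ j) :
    a = 1 := by
  rw [h] at ha ha₂
  have h1 := W_fixed P ha
  rw [h1, mul_one] at ha₂
  rw [h, h1, mul_one]
  rw [map_zpow, P.h6, zpow_mul_comm' D.comm] at ha₂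
  have h2 : c'⁻¹ ^ i = 1 := by
    have h9 : c ^ i * c'⁻¹ ^ i = c ^ i * 1 := by rw [mul_one]; exact ha₂
    exact mul_left_cancel h9
  rw [inv_zpow, inv_eq_one] at h2
  have hcc : c * c = 1 := sq_of_pow_two P.cp
  have hc'c' : c' * c' = 1 := sq_of_pow_two P.c'p
  rcases Int.emod_two_eq_zero_or_one i with hi | hi
  · have : i = 2 * (i / 2) := by omega
    rw [this, zpow_mul, zpow_two, hcc, one_zpow]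
  · exfalso
    have : i = 2 * (i / 2) + 1 := by omega
    rw [this, zpow_add, zpow_mul, zpow_two, hc'c', one_zpow, one_mul, zpow_one] at h2
    exact P.c'_ne h2

/-- the subgroup `⟨c, c'⟩`, inside `↥S` -/
def Wsub (D : ED 2 F E) (c c' : E) : Subgroup ↥S where
  carrier := {s | ∃ i j : ℤ, (s : Ω) = ((c ^ i * c' ^ j : E) : Ω)}
  one_mem' := ⟨0, 0, by simp⟩
  mul_mem' := by
    rintro s t ⟨i, j, hs⟩ ⟨k, l, ht⟩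
    refine ⟨i + k, j + l, ?_⟩
    rw [Subgroup.coe_mul, hs, ht, ← Subgroup.coe_mul]
    congr 1
    rw [zpow_add, zpow_add]
    exact comm4 D.comm _ _ _ _
  inv_mem' := by
    rintro s ⟨i, j, hs⟩
    refine ⟨-i, -j, ?_⟩
    rw [Subgroup.coe_inv, hs, ← Subgroup.coe_inv]
    congr 1
    rw [mul_inv_rev, zpow_neg, zpow_neg, D.comm]

theorem mem_Wsub {s : S} :
    s ∈ Wsub D c c' ↔ ∃ i j : ℤ, (s : Ω) = ((c ^ i * c' ^ j : E) : Ω) := Iff.rfl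

theorem Wsub_le (s : S) (hs : s ∈ Wsub D c c') : (s : Ω) ∈ E := by
  obtain ⟨i, j, h⟩ := hs
  rw [h]
  exact (c ^ i * c' ^ j).2

theorem Wsub_normal (H : Hyp 2 F) (P : IsPack F D ⟨x, hx⟩ u₂ c c' β) (hxE : x ∉ E) :
    (Wsub D c c').Normal := by
  refine ⟨fun w hw s => ?_⟩
  have h1 : s * w * s⁻¹ = (s * w * s⁻¹ * w⁻¹) * w := by group
  rw [h1]
  refine (Wsub D c c').mul_mem ?_ hw
  have h2 : ((s * w * s⁻¹ * w⁻¹ : S) : Ω) ∈ Sd S := comm_mem_Sd s.2 w.2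
  obtain ⟨k, hk⟩ := exists_zpow_of_mem_Sd H D hx hxE P.cmu h2
  exact ⟨k, 0, by rw [hk, zpow_zero, mul_one]⟩

end pack

/-- the configuration with two essential subgroups and `A_{E₁} ≠ 1` -/
structure Cfg (F : FusionSystem S) {E₁ E₂ : Subgroup Ω} (D₁ : ED 2 F E₁) (D₂ : ED 2 F E₂)
    (x₁ : Ω) (hx₁ : x₁ ∈ S) (v₁ : MulAut E₁) (c₁ c₁' : E₁) (β₁ : MulAut S)
    (x₂ : Ω) (hx₂ : x₂ ∈ S) (v₂ : MulAut E₂) (c₂ c₂' : E₂) (β₂ : MulAut S) (a₁ a₂ : Ω) : Prop where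
  hyp : Hyp 2 F
  ne : E₁ ≠ E₂
  x₁E : x₁ ∉ E₁
  x₂E : x₂ ∉ E₂
  P₁ : IsPack F D₁ ⟨x₁, hx₁⟩ v₁ c₁ c₁' β₁
  P₂ : IsPack F D₂ ⟨x₂, hx₂⟩ v₂ c₂ c₂' β₂
  a₁_mem : a₁ ∈ AE F E₁
  a₁_ne : a₁ ≠ 1
  a₂_mem : a₂ ∈ AE F E₂
  a₂_ne : a₂ ≠ 1
  a_eq : a₁ = a₂ * (c₂ : Ω)
  c_eq : (c₁ : Ω) = (c₂ : Ω)
  U₁ : ∀ a ∈ AE F E₁, a ≠ 1 → a = a₁
  U₂ : ∀ b ∈ AE F E₂, b ≠ 1 → b = a₂

/-- the conjugacy class of `a₁` -/
def orb (a₂ : Ω) (c₂ c₂' : E₂) : Set Ω :=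
  {y | y = a₂ * (c₂ : Ω) ∨ y = a₂ * (c₂' : Ω) ∨ y = a₂ * ((c₂' * c₂ : E₂) : Ω)}

variable {D₁ : ED 2 F E₁} {D₂ : ED 2 F E₂} {x₁ : Ω} {hx₁ : x₁ ∈ S} {v₁ : MulAut E₁} {c₁ c₁' : E₁}
  {β₁ : MulAut S} {x₂ : Ω} {hx₂ : x₂ ∈ S} {v₂ : MulAut E₂} {c₂ c₂' : E₂} {β₂ : MulAut S} {a₁ a₂ : Ω}

theorem Cfg.orb_le (C : Cfg F D₁ D₂ x₁ hx₁ v₁ c₁ c₁' β₁ x₂ hx₂ v₂ c₂ c₂' β₂ a₁ a₂) {y : Ω}
    (hy : y ∈ orb a₂ c₂ c₂') : y ∈ E₂ := by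
  have ha₂E : a₂ ∈ E₂ := C.a₂_mem.1
  rcases hy with rfl | rfl | rfl
  · exact E₂.mul_mem ha₂E c₂.2
  · exact E₂.mul_mem ha₂E c₂'.2
  · exact E₂.mul_mem ha₂E (c₂' * c₂).2

theorem Cfg.inter_le (C : Cfg F D₁ D₂ x₁ hx₁ v₁ c₁ c₁' β₁ x₂ hx₂ v₂ c₂ c₂' β₂ a₁ a₂) {e : Ω}
    (he₁ : e ∈ E₁) (he₂ : e ∈ E₂) : e ∈ centralizerIn S S := by
  obtain ⟨y, hy₂, hy₁⟩ : ∃ y ∈ E₂, y ∉ E₁ := by
    by_contra hcon
    push Not at hcon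
    rcases eq_or_eq_of_relIndex_prime Nat.prime_two hcon D₁.le D₂.idx with h | h
    · exact C.ne h
    · exact essential_ne C.hyp D₁.ess h
  apply D₁.cent y (D₂.le hy₂) hy₁ e he₁
  exact congrArg Subtype.val (D₂.comm ⟨y, hy₂⟩ ⟨e, he₂⟩)

theorem Cfg.c₂'_not_Zc (C : Cfg F D₁ D₂ x₁ hx₁ v₁ c₁ c₁' β₁ x₂ hx₂ v₂ c₂ c₂' β₂ a₁ a₂) :
    (c₂' : Ω) ∉ centralizerIn S S := by
  intro h
  have h1 := kap_fix_Zc D₂ ⟨x₂, hx₂⟩ h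
  rw [C.P₂.h4] at h1
  have : c₂ = 1 := by
    have h2 : c₂' * c₂ = c₂' * 1 := by rw [mul_one]; exact h1
    exact mul_left_cancel h2
  exact C.P₂.c_ne this

theorem Cfg.c₂_Zc (C : Cfg F D₁ D₂ x₁ hx₁ v₁ c₁ c₁' β₁ x₂ hx₂ v₂ c₂ c₂' β₂ a₁ a₂) :
    (c₂ : Ω) ∈ centralizerIn S S := by
  obtain ⟨e, he⟩ := C.P₂.c_range
  rw [← he]
  exact cm_kap_mem_Zc C.hyp D₂ _ e

theorem Cfg.a₂_Zc (C : Cfg F D₁ D₂ x₁ hx₁ v₁ c₁ c₁' β₁ x₂ hx₂ v₂ c₂ c₂' β₂ a₁ a₂) :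
    a₂ ∈ centralizerIn S S := AE_le_Zc C.hyp D₂ C.a₂_mem

theorem Cfg.c₂'_not_E₁ (C : Cfg F D₁ D₂ x₁ hx₁ v₁ c₁ c₁' β₁ x₂ hx₂ v₂ c₂ c₂' β₂ a₁ a₂) :
    (c₂' : Ω) ∉ E₁ := fun h => C.c₂'_not_Zc (C.inter_le h c₂'.2)

/-- the only element of the class inside `E₁` is `a₁` -/
theorem Cfg.orb_E₁ (C : Cfg F D₁ D₂ x₁ hx₁ v₁ c₁ c₁' β₁ x₂ hx₂ v₂ c₂ c₂' β₂ a₁ a₂) {y : Ω}
    (hy : y ∈ orb a₂ c₂ c₂') (hyE : y ∈ E₁) : y = a₁ := by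
  have ha₂E₁ : a₂ ∈ E₁ := D₁.Z_le C.a₂_Zc
  rcases hy with rfl | rfl | rfl
  · exact C.a_eq.symm
  · exfalso
    apply C.c₂'_not_E₁
    have : (c₂' : Ω) = a₂⁻¹ * (a₂ * (c₂' : Ω)) := by group
    rw [this]
    exact E₁.mul_mem (E₁.inv_mem ha₂E₁) hyE
  · exfalso
    apply C.c₂'_not_E₁
    have : (c₂' : Ω) = a₂⁻¹ * (a₂ * ((c₂' * c₂ : E₂) : Ω)) * (c₂ : Ω)⁻¹ := by
      rw [Subgroup.coe_mul]; group
    rw [this]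
    exact E₁.mul_mem (E₁.mul_mem (E₁.inv_mem ha₂E₁) hyE) (E₁.inv_mem (D₁.Z_le C.c₂_Zc))

theorem Cfg.orb_autE₂ (C : Cfg F D₁ D₂ x₁ hx₁ v₁ c₁ c₁' β₁ x₂ hx₂ v₂ c₂ c₂' β₂ a₁ a₂)
    {g : MulAut E₂} (hg : g ∈ F.autGroup E₂) {y : E₂} (hy : (y : Ω) ∈ orb a₂ c₂ c₂') :
    ((g y : E₂) : Ω) ∈ orb a₂ c₂ c₂' := by
  have ha₂E : a₂ ∈ E₂ := C.a₂_mem.1
  have hga₂ : g ⟨a₂, ha₂E⟩ = ⟨a₂, ha₂E⟩ := by
    apply Subtype.ext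
    apply C.U₂ _ (AE_inv hg C.a₂_mem)
    intro h
    have h1 : g ⟨a₂, ha₂E⟩ = 1 := Subtype.ext h
    have h2 : g ⟨a₂, ha₂E⟩ = g 1 := by rw [map_one]; exact h1
    exact C.a₂_ne (congrArg Subtype.val (g.injective h2))
  have key : ∀ w : E₂, (w = c₂ ∨ w = c₂' ∨ w = c₂' * c₂) →
      ((g (⟨a₂, ha₂E⟩ * w) : E₂) : Ω) ∈ orb a₂ c₂ c₂' := by
    intro w hw
    rw [map_mul, hga₂]
    rcases center_perm C.hyp C.P₂ C.x₂E hg hw with h | h | h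
    · rw [h]; exact Or.inl rfl
    · rw [h]; exact Or.inr (Or.inl rfl)
    · rw [h]; exact Or.inr (Or.inr rfl)
  rcases hy with h | h | h
  · have : y = ⟨a₂, ha₂E⟩ * c₂ := Subtype.ext h
    rw [this]; exact key _ (Or.inl rfl)
  · have : y = ⟨a₂, ha₂E⟩ * c₂' := Subtype.ext h
    rw [this]; exact key _ (Or.inr (Or.inl rfl))
  · have : y = ⟨a₂, ha₂E⟩ * (c₂' * c₂) := Subtype.ext h
    rw [this]; exact key _ (Or.inr (Or.inr rfl))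

theorem Cfg.orb_autE₂_iff (C : Cfg F D₁ D₂ x₁ hx₁ v₁ c₁ c₁' β₁ x₂ hx₂ v₂ c₂ c₂' β₂ a₁ a₂)
    {g : MulAut E₂} (hg : g ∈ F.autGroup E₂) (y : E₂) :
    (y : Ω) ∈ orb a₂ c₂ c₂' ↔ ((g y : E₂) : Ω) ∈ orb a₂ c₂ c₂' := by
  refine ⟨C.orb_autE₂ hg, fun h => ?_⟩
  have := C.orb_autE₂ ((F.autGroup E₂).inv_mem hg) h
  rwa [MulAut.inv_apply_self] at this

theorem Cfg.orb_autE₁ (C : Cfg F D₁ D₂ x₁ hx₁ v₁ c₁ c₁' β₁ x₂ hx₂ v₂ c₂ c₂' β₂ a₁ a₂)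
    {g : MulAut E₁} (hg : g ∈ F.autGroup E₁) {y : E₁} (hy : (y : Ω) ∈ orb a₂ c₂ c₂') :
    ((g y : E₁) : Ω) ∈ orb a₂ c₂ c₂' := by
  have h1 := C.orb_E₁ hy y.2
  have ha₁E : a₁ ∈ E₁ := C.a₁_mem.1
  have h2 : y = ⟨a₁, ha₁E⟩ := Subtype.ext h1
  have hga₁ : ((g ⟨a₁, ha₁E⟩ : E₁) : Ω) = a₁ := by
    apply C.U₁ _ (AE_inv hg C.a₁_mem)
    intro h
    have h3 : g ⟨a₁, ha₁E⟩ = g 1 := by rw [map_one]; exact Subtype.ext h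
    exact C.a₁_ne (congrArg Subtype.val (g.injective h3))
  rw [h2, hga₁]
  exact Or.inl C.a_eq

theorem Cfg.orb_autE₁_iff (C : Cfg F D₁ D₂ x₁ hx₁ v₁ c₁ c₁' β₁ x₂ hx₂ v₂ c₂ c₂' β₂ a₁ a₂)
    {g : MulAut E₁} (hg : g ∈ F.autGroup E₁) (y : E₁) :
    (y : Ω) ∈ orb a₂ c₂ c₂' ↔ ((g y : E₁) : Ω) ∈ orb a₂ c₂ c₂' := by
  refine ⟨C.orb_autE₁ hg, fun h => ?_⟩
  have := C.orb_autE₁ ((F.autGroup E₁).inv_mem hg) h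
  rwa [MulAut.inv_apply_self] at this

theorem Cfg.orb_autS (C : Cfg F D₁ D₂ x₁ hx₁ v₁ c₁ c₁' β₁ x₂ hx₂ v₂ c₂ c₂' β₂ a₁ a₂)
    {β : MulAut S} (hβ : β ∈ F.autGroup S) {y : S} (hy : (y : Ω) ∈ orb a₂ c₂ c₂') :
    ((β y : S) : Ω) ∈ orb a₂ c₂ c₂' := by
  obtain ⟨g, hg, hgeq⟩ := restrict_autF C.hyp D₂ hβ
  have hyE := C.orb_le hy
  have := C.orb_autE₂ hg (y := ⟨y, hyE⟩) hy
  rw [hgeq] at this
  exact this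

theorem Cfg.orb_autS_iff (C : Cfg F D₁ D₂ x₁ hx₁ v₁ c₁ c₁' β₁ x₂ hx₂ v₂ c₂ c₂' β₂ a₁ a₂)
    {β : MulAut S} (hβ : β ∈ F.autGroup S) (y : S) :
    (y : Ω) ∈ orb a₂ c₂ c₂' ↔ ((β y : S) : Ω) ∈ orb a₂ c₂ c₂' := by
  refine ⟨C.orb_autS hβ, fun h => ?_⟩
  have := C.orb_autS ((F.autGroup S).inv_mem hβ) h
  rwa [MulAut.inv_apply_self] at this

/-- every conjugate of `a₁` in the system lies in the class -/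
theorem Cfg.orb_isConj (C : Cfg F D₁ D₂ x₁ hx₁ v₁ c₁ c₁' β₁ x₂ hx₂ v₂ c₂ c₂' β₂ a₁ a₂) {j : Ω}
    (h : F.IsConjElt a₁ j) : j ∈ orb a₂ c₂ c₂' := by
  obtain ⟨φ, hφ, rfl⟩ := h
  have key := alperin_induction 2 C.hyp.pg F C.hyp.sat
    (fun P φ => ∀ y : P, (y : Ω) ∈ orb a₂ c₂ c₂' ↔ φ y ∈ orb a₂ c₂ c₂') ?_ ?_ ?_ ?_ hφ
  · exact (key ⟨a₁, Subgroup.mem_zpowers a₁⟩).mp (Or.inl C.a_eq)
  · intro P g hP hg y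
    have hβF : MulAut.conj (⟨g, hg⟩ : S) ∈ F.autGroup S := by
      apply autInducedBy_le_autGroup F le_rfl
      rw [mem_autInducedBy_iff]
      exact ⟨g, hg, fun y => rfl⟩
    exact C.orb_autS_iff hβF ⟨y, hP y.2⟩
  · intro P Q φ ψ _ _ h1 h2 hPQ y
    rw [h1 y]
    exact h2 ⟨φ y, hPQ y⟩
  · intro P φ _ h1 ψ _ hψ y
    obtain ⟨x, hx⟩ := y.2
    have hy : y = ⟨φ x, ⟨x, rfl⟩⟩ := Subtype.ext hx.symm
    rw [hy, hψ x]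
    exact (h1 x).symm
  · rintro P (rfl | hP) α hα y
    · exact C.orb_autS_iff hα y
    · rcases essential_cases C.hyp D₁ D₂ C.ne hP with rfl | rfl
      · exact C.orb_autE₁_iff hα y
      · exact C.orb_autE₂_iff hα y

end ed

end Cfsg.Agent.Helper3.SC
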