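import Mathlib
import Cfsg.Agent.Lib.Helper3.SmallCenter11

/-!
# `p = 2`: the subgroup of index two and the conclusion `Z(S) = S'` (centre of index `4`)
-/

set_option autoImplicit false
set_option linter.style.haveILetI false
set_option linter.unusedSectionVars false

namespace Cfsg.Agent.Helper3.SC

open Cfsg Cfsg.FusionSystem Cfsg.Agent.Helper25 Cfsg.Agent.Helper26 Cfsg.Agent.Helper3.KL
open Cfsg.Agent.Helper3.TT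

variable {Ω : Type*} [Group Ω] {S : Subgroup Ω} {E E₁ E₂ : Subgroup Ω}

section ed

variable [Finite S] [Fact (Nat.Prime 2)] {F : FusionSystem S}

variable {D₁ : ED 2 F E₁} {D₂ : ED 2 F E₂} {x₁ : Ω} {hx₁ : x₁ ∈ S} {v₁ : MulAut E₁} {c₁ c₁' : E₁}
  {β₁ : MulAut S} {x₂ : Ω} {hx₂ : x₂ ∈ S} {v₂ : MulAut E₂} {c₂ c₂' : E₂} {β₂ : MulAut S} {a₁ a₂ : Ω}

/-- the subgroup `T = ⟨c, c₁', c₂'⟩` of `↥S` -/
def Tsub (D₁ : ED 2 F E₁) (D₂ : ED 2 F E₂) (c₁ c₁' : E₁) (c₂ c₂' : E₂) : Subgroup ↥S :=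
  Wsub D₁ c₁ c₁' ⊔ Wsub D₂ c₂ c₂'

theorem Cfg.mem_Tsub (C : Cfg F D₁ D₂ x₁ hx₁ v₁ c₁ c₁' β₁ x₂ hx₂ v₂ c₂ c₂' β₂ a₁ a₂) {t : S} :
    t ∈ Tsub D₁ D₂ c₁ c₁' c₂ c₂' ↔
      ∃ w₁ ∈ Wsub D₁ c₁ c₁', ∃ w₂ ∈ Wsub D₂ c₂ c₂', w₁ * w₂ = t := by
  haveI := Wsub_normal C.hyp C.P₂ C.x₂E
  exact Subgroup.mem_sup_of_normal_right

/-- `a₂ ∉ T` -/
theorem Cfg.a₂_not_mem (C : Cfg F D₁ D₂ x₁ hx₁ v₁ c₁ c₁' β₁ x₂ hx₂ v₂ c₂ c₂' β₂ a₁ a₂)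
    {t : S} (ht : t ∈ Tsub D₁ D₂ c₁ c₁' c₂ c₂') : (t : Ω) ≠ a₂ := by
  intro hta
  obtain ⟨w₁, hw₁, w₂, hw₂, rfl⟩ := C.mem_Tsub.mp ht
  have ha₂E : a₂ ∈ E₂ := C.a₂_mem.1
  have hw₂E : (w₂ : Ω) ∈ E₂ := Wsub_le w₂ hw₂
  have hw₁E₁ : (w₁ : Ω) ∈ E₁ := Wsub_le w₁ hw₁
  -- `w₁ ∈ E₁ ∩ E₂ = Z(S)`
  have hw₁E₂ : (w₁ : Ω) ∈ E₂ := by
    have : (w₁ : Ω) = a₂ * (w₂ : Ω)⁻¹ := by
      rw [← hta, Subgroup.coe_mul, mul_inv_cancel_right]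
    rw [this]
    exact E₂.mul_mem ha₂E (E₂.inv_mem hw₂E)
  have hw₁Z := C.inter_le hw₁E₁ hw₁E₂
  -- so `w₁` is a power of `c`
  obtain ⟨i, j, hij⟩ := hw₁
  have hfix := kap_fix_Zc D₁ ⟨x₁, hx₁⟩ (e := c₁ ^ i * c₁' ^ j) (by rw [← hij]; exact hw₁Z)
  have hj := W_fixed C.P₁ hfix
  rw [hj, mul_one] at hij
  -- hence `a₂ ∈ ⟨c₂, c₂'⟩`
  obtain ⟨k, l, hkl⟩ := hw₂
  have hci : ((c₁ ^ i : E₁) : Ω) = ((c₂ ^ i : E₂) : Ω) := by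
    rw [Subgroup.coe_zpow, Subgroup.coe_zpow, C.c_eq]
  have ha₂eq : (⟨a₂, ha₂E⟩ : E₂) = c₂ ^ (i + k) * c₂' ^ l := by
    apply Subtype.ext
    show a₂ = _
    rw [← hta, Subgroup.coe_mul, hij, hkl, hci, ← Subgroup.coe_mul, zpow_add, mul_assoc]
  obtain ⟨hf1, hf2⟩ := fixed_of_mem_AE C.P₂ C.a₂_mem
  have := AE_inter_W C.P₂ hf1 hf2 ha₂eq
  exact C.a₂_ne (congrArg Subtype.val this)

theorem Cfg.c₂_mem_T (C : Cfg F D₁ D₂ x₁ hx₁ v₁ c₁ c₁' β₁ x₂ hx₂ v₂ c₂ c₂' β₂ a₁ a₂) (k l : ℤ) :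
    (⟨((c₂ ^ k * c₂' ^ l : E₂) : Ω), D₂.le (c₂ ^ k * c₂' ^ l).2⟩ : S) ∈
      Tsub D₁ D₂ c₁ c₁' c₂ c₂' :=
  le_sup_right (a := Wsub D₁ c₁ c₁') ⟨k, l, rfl⟩

theorem Cfg.c₁_mem_T (C : Cfg F D₁ D₂ x₁ hx₁ v₁ c₁ c₁' β₁ x₂ hx₂ v₂ c₂ c₂' β₂ a₁ a₂) (k l : ℤ) :
    (⟨((c₁ ^ k * c₁' ^ l : E₁) : Ω), D₁.le (c₁ ^ k * c₁' ^ l).2⟩ : S) ∈
      Tsub D₁ D₂ c₁ c₁' c₂ c₂' :=
  le_sup_left (b := Wsub D₂ c₂ c₂') ⟨k, l, rfl⟩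

/-- the class of `a₁` avoids `T` -/
theorem Cfg.orb_not_mem (C : Cfg F D₁ D₂ x₁ hx₁ v₁ c₁ c₁' β₁ x₂ hx₂ v₂ c₂ c₂' β₂ a₁ a₂)
    {t : S} (ht : t ∈ Tsub D₁ D₂ c₁ c₁' c₂ c₂') : (t : Ω) ∉ orb a₂ c₂ c₂' := by
  intro hy
  -- in each case `a₂ = t * w⁻¹` with `w ∈ ⟨c₂, c₂'⟩`
  have key : ∀ k l : ℤ, (t : Ω) = a₂ * ((c₂ ^ k * c₂' ^ l : E₂) : Ω) → False := by
    intro k l h
    have hw := C.c₂_mem_T k l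
    have h1 := (Tsub D₁ D₂ c₁ c₁' c₂ c₂').mul_mem ht ((Tsub D₁ D₂ c₁ c₁' c₂ c₂').inv_mem hw)
    apply C.a₂_not_mem h1
    rw [Subgroup.coe_mul, Subgroup.coe_inv, h]
    exact mul_inv_cancel_right _ _
  rcases hy with h | h | h
  · exact key 1 0 (by rw [h, zpow_one, zpow_zero, mul_one])
  · exact key 0 1 (by rw [h, zpow_zero, zpow_one, one_mul])
  · exact key 1 1 (by rw [h, zpow_one, zpow_one, D₂.comm])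

theorem Cfg.a₁_not_mem (C : Cfg F D₁ D₂ x₁ hx₁ v₁ c₁ c₁' β₁ x₂ hx₂ v₂ c₂ c₂' β₂ a₁ a₂)
    {t : S} (ht : t ∈ Tsub D₁ D₂ c₁ c₁' c₂ c₂') : (t : Ω) ≠ a₁ := by
  intro h
  exact C.orb_not_mem ht (Or.inl (h.trans C.a_eq))

/-- `T` has index two -/
theorem Cfg.index_Tsub (C : Cfg F D₁ D₂ x₁ hx₁ v₁ c₁ c₁' β₁ x₂ hx₂ v₂ c₂ c₂' β₂ a₁ a₂) :
    (Tsub D₁ D₂ c₁ c₁' c₂ c₂').index = 2 := by
  set T := Tsub D₁ D₂ c₁ c₁' c₂ c₂' with hT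
  have ha₁E : a₁ ∈ E₁ := C.a₁_mem.1
  have ha₁S : a₁ ∈ S := D₁.le ha₁E
  have ha₁Z : a₁ ∈ centralizerIn S S := AE_le_Zc C.hyp D₁ C.a₁_mem
  have ha₁sq : a₁ * a₁ = 1 := sq_E C.hyp D₁ ha₁E
  rw [Subgroup.index_eq_two_iff]
  refine ⟨⟨a₁, ha₁S⟩, fun b => ?_⟩
  -- `b = t₀ * e` with `t₀ ∈ T` and `e ∈ E₁`
  obtain ⟨t₀, ht₀, e, he, hb⟩ : ∃ t₀ ∈ T, ∃ e : S, (e : Ω) ∈ E₁ ∧ b = t₀ * e := by
    by_cases hbE : (b : Ω) ∈ E₁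
    · exact ⟨1, T.one_mem, b, hbE, (one_mul b).symm⟩
    · set s : S := ⟨(c₂' : Ω), D₂.le c₂'.2⟩ with hs
      have hsT : s ∈ T := by
        have := C.c₂_mem_T 0 1
        have e1 : (⟨((c₂ ^ (0 : ℤ) * c₂' ^ (1 : ℤ) : E₂) : Ω),
            D₂.le (c₂ ^ (0 : ℤ) * c₂' ^ (1 : ℤ)).2⟩ : S) = s := by
          apply Subtype.ext
          simp [hs]
        rwa [e1] at this
      refine ⟨s, hsT, s⁻¹ * b, ?_, by rw [mul_inv_cancel_left]⟩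
      have hidx : (E₁.subgroupOf S).index = 2 := D₁.idx
      have h1 : s⁻¹ * b ∈ E₁.subgroupOf S := by
        rw [Subgroup.mul_mem_iff_of_index_two hidx]
        constructor
        · intro h
          exfalso
          apply C.c₂'_not_E₁
          have := (E₁.subgroupOf S).inv_mem h
          rw [inv_inv] at this
          exact Subgroup.mem_subgroupOf.mp this
        · intro h
          exact absurd (Subgroup.mem_subgroupOf.mp h) hbE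
      exact Subgroup.mem_subgroupOf.mp h1
  -- `e = a * w₁` with `a ∈ A_{E₁}` and `w₁ ∈ ⟨c₁, c₁'⟩`
  obtain ⟨a, i, j, heq, ha, ha₂⟩ := C.P₁.dec ⟨e, he⟩
  have haA : (a : Ω) ∈ AE F E₁ := mem_AE_of_fixed C.hyp C.P₁ C.x₁E ha ha₂
  have hw := C.c₁_mem_T i j
  set w : S := ⟨((c₁ ^ i * c₁' ^ j : E₁) : Ω), D₁.le (c₁ ^ i * c₁' ^ j).2⟩ with hwdef
  have he' : e = ⟨(a : Ω), D₁.le a.2⟩ * w := by
    apply Subtype.ext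
    have := congrArg Subtype.val heq
    rw [mul_assoc] at this
    exact this
  by_cases ha1 : (a : Ω) = 1
  · -- `b ∈ T`
    have hbT : b ∈ T := by
      rw [hb, he']
      have : (⟨(a : Ω), D₁.le a.2⟩ : S) = 1 := Subtype.ext ha1
      rw [this, one_mul]
      exact T.mul_mem ht₀ hw
    refine Or.inr ⟨hbT, fun h => ?_⟩
    have h2 := T.mul_mem (T.inv_mem hbT) h
    rw [inv_mul_cancel_left] at h2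
    exact C.a₁_not_mem h2 rfl
  · -- `a = a₁`, `b ∉ T`, `b * a₁ ∈ T`
    have haa₁ : (a : Ω) = a₁ := C.U₁ _ haA ha1
    have hA : (⟨(a : Ω), D₁.le a.2⟩ : S) = ⟨a₁, ha₁S⟩ := Subtype.ext haa₁
    have hcomm : ∀ y : S, y * ⟨a₁, ha₁S⟩ = ⟨a₁, ha₁S⟩ * y := by
      intro y
      apply Subtype.ext
      exact (mem_Zc.mp ha₁Z).2 y y.2
    have hsq : (⟨a₁, ha₁S⟩ : S) * ⟨a₁, ha₁S⟩ = 1 := Subtype.ext ha₁sq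
    have hba : b * ⟨a₁, ha₁S⟩ = t₀ * w := by
      rw [hb, he', hA]
      calc t₀ * (⟨a₁, ha₁S⟩ * w) * ⟨a₁, ha₁S⟩ = t₀ * ⟨a₁, ha₁S⟩ * (w * ⟨a₁, ha₁S⟩) := by group
        _ = t₀ * ⟨a₁, ha₁S⟩ * (⟨a₁, ha₁S⟩ * w) := by rw [hcomm w]
        _ = t₀ * (⟨a₁, ha₁S⟩ * ⟨a₁, ha₁S⟩) * w := by group
        _ = t₀ * w := by rw [hsq, mul_one]
    have hbaT : b * ⟨a₁, ha₁S⟩ ∈ T := by rw [hba]; exact T.mul_mem ht₀ hw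
    refine Or.inl ⟨hbaT, fun h => ?_⟩
    have h2 := T.mul_mem (T.inv_mem h) hbaT
    rw [inv_mul_cancel_left] at h2
    exact C.a₁_not_mem h2 rfl

/-- the transfer argument: the configuration is impossible when `hyp(F) = S` -/
theorem Cfg.false (C : Cfg F D₁ D₂ x₁ hx₁ v₁ c₁ c₁' β₁ x₂ hx₂ v₂ c₂ c₂' β₂ a₁ a₂)
    (hhyp : F.hyperfocalSubgroup 2 = S) : False := by
  have ha₁E : a₁ ∈ E₁ := C.a₁_mem.1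
  have ha₁S : a₁ ∈ S := D₁.le ha₁E
  have ha₁sq : a₁ * a₁ = 1 := sq_E C.hyp D₁ ha₁E
  set T : Subgroup Ω := (Tsub D₁ D₂ c₁ c₁' c₂ c₂').map S.subtype with hT
  have hTS : T ≤ S := Subgroup.map_subtype_le _
  have hTidx : T.relIndex S = 2 := by
    have : T.subgroupOf S = Tsub D₁ D₂ c₁ c₁' c₂ c₂' :=
      Subgroup.comap_map_eq_self_of_injective S.subtype_injective _
    unfold Subgroup.relIndex
    rw [this]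
    exact C.index_Tsub
  have hord : orderOf a₁ = 2 := orderOf_eq_prime (by rw [pow_two]; exact ha₁sq) C.a₁_ne
  have hnot := Cfsg.Agent.Helper3.TTS.not_mem_focal C.hyp.pg F C.hyp.sat T hTS hTidx a₁ ha₁S hord
    (by
      intro j hj _ hjT
      obtain ⟨t, ht, rfl⟩ := hjT
      exact C.orb_not_mem ht (C.orb_isConj hj))
  apply hnot
  apply Cfsg.Agent.Helper3.TTS.hyperfocal_le_focal' F 2
  rw [hhyp]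
  exact ha₁S

end ed

end Cfsg.Agent.Helper3.SC
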