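import Mathlib
import Cfsg.Agent.Lib.Helper3.SmallCenter12
import Cfsg.Agent.Lib.Helper9.FrattiniElem
import Cfsg.Agent.Lib.Helper23.PGroup
import Cfsg.Agent.Lib.Lead.DihedralRecog

/-!
# Conclusion: `S` is extraspecial of order `p³` (centre of index `p²`)
-/

set_option autoImplicit false
set_option linter.style.haveILetI false
set_option linter.unusedSectionVars false

namespace Cfsg.Agent.Helper3.SC

open Cfsg Cfsg.FusionSystem Cfsg.Agent.Helper25 Cfsg.Agent.Helper26 Cfsg.Agent.Helper3.KL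
open Cfsg.Agent.Helper3.TT

variable {Ω : Type*} [Group Ω] {S : Subgroup Ω} {E E₁ E₂ : Subgroup Ω}

section two

variable [Finite S] [Fact (Nat.Prime 2)] {F : FusionSystem S}

theorem coe_c_mem_Sd (H : Hyp 2 F) {D : ED 2 F E} {x : Ω} {hx : x ∈ S} (hxE : x ∉ E)
    {u₂ : MulAut E} {c c' : E} {β : MulAut S} (P : IsPack F D ⟨x, hx⟩ u₂ c c' β) :
    (c : Ω) ∈ Sd S := by
  have := mem_Sd_of_zpow H D hx hxE P.c_range 1
  rwa [zpow_one] at this

/-- for `p = 2` and `hyp(F) = S`: `A_{E₁} = 1` -/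
theorem AE_eq_bot (H : Hyp 2 F) (hhyp : F.hyperfocalSubgroup 2 = S) (D₁ : ED 2 F E₁)
    (D₂ : ED 2 F E₂) (hne : E₁ ≠ E₂) : AE F E₁ = ⊥ := by
  by_contra hnb
  obtain ⟨⟨a₁, ha₁A⟩, ha₁1⟩ := (Subgroup.ne_bot_iff_exists_ne_one).mp hnb
  have ha₁1' : a₁ ≠ 1 := fun h => ha₁1 (Subtype.ext h)
  obtain ⟨x₁, hx₁, hx₁E⟩ := exists_not_mem H D₁
  obtain ⟨g₁, hg₁, hgu₁⟩ := exists_second H D₁ hx₁ hx₁E
  obtain ⟨v₁, c₁, c₁', β₁, P₁, -⟩ := exists_pack H D₁ hx₁ hx₁E hg₁ hgu₁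
  obtain ⟨x₂, hx₂, hx₂E⟩ := exists_not_mem H D₂
  obtain ⟨g₂, hg₂, hgu₂⟩ := exists_second H D₂ hx₂ hx₂E
  obtain ⟨v₂, c₂, c₂', β₂, P₂, -⟩ := exists_pack H D₂ hx₂ hx₂E hg₂ hgu₂
  have hB := inf_AE_eq_bot H D₁ D₂ hne
  have hBmem : ∀ y, y ∈ AE F E₁ → y ∈ AE F E₂ → y = 1 := by
    intro y h1 h2
    have : y ∈ AE F E₁ ⊓ AE F E₂ := ⟨h1, h2⟩
    rw [hB, Subgroup.mem_bot] at this
    exact this
  have hc₁1 : (c₁ : Ω) ≠ 1 := fun h => P₁.c_ne (Subtype.ext h)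
  have hc₂1 : (c₂ : Ω) ≠ 1 := fun h => P₂.c_ne (Subtype.ext h)
  have hceq : (c₁ : Ω) = (c₂ : Ω) :=
    eq_of_mem_of_card_two (Sd S) (card_Sd H) (coe_c_mem_Sd H hx₁E P₁) (coe_c_mem_Sd H hx₂E P₂)
      hc₁1 hc₂1
  have hc₂sq : (c₂ : Ω) * (c₂ : Ω) = 1 := by
    have := sq_of_pow_two P₂.cp
    exact congrArg Subtype.val this
  -- decomposition of elements of `A_{E₁}`
  have hdec₁ : ∀ a ∈ AE F E₁, a ≠ 1 → ∃ b ∈ AE F E₂, a = b * (c₂ : Ω) := by
    intro a ha ha1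
    obtain ⟨b, hb, h | h⟩ := Zc_dec2 H P₂ hx₂E (AE_le_Zc H D₁ ha)
    · exfalso
      exact ha1 (hBmem a ha (h ▸ hb))
    · exact ⟨b, hb, h⟩
  obtain ⟨a₂, ha₂A, ha_eq⟩ := hdec₁ a₁ ha₁A ha₁1'
  have ha₂1 : a₂ ≠ 1 := by
    intro h
    rw [h, one_mul, ← hceq] at ha_eq
    exact c_not_mem_AE P₁ (ha_eq ▸ ha₁A)
  have hU₁ : ∀ a ∈ AE F E₁, a ≠ 1 → a = a₁ := by
    intro a ha ha1
    obtain ⟨b, hb, hab⟩ := hdec₁ a ha ha1
    have h1 : a * a₁⁻¹ = b * a₂⁻¹ := by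
      rw [hab, ha_eq]; group
    have h2 : a * a₁⁻¹ = 1 :=
      hBmem _ ((AE F E₁).mul_mem ha ((AE F E₁).inv_mem ha₁A))
        (h1 ▸ (AE F E₂).mul_mem hb ((AE F E₂).inv_mem ha₂A))
    exact mul_inv_eq_one.mp h2
  have hU₂ : ∀ b ∈ AE F E₂, b ≠ 1 → b = a₂ := by
    intro b hb hb1
    obtain ⟨a, ha, h | h⟩ := Zc_dec2 H P₁ hx₁E (AE_le_Zc H D₂ hb)
    · exfalso
      exact hb1 (hBmem b (h ▸ ha) hb)
    · have ha1 : a ≠ 1 := by
        intro h1
        rw [h1, one_mul, hceq] at h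
        exact c_not_mem_AE P₂ (h ▸ hb)
      have := hU₁ a ha ha1
      rw [h, this, ha_eq, hceq, mul_assoc, hc₂sq, mul_one]
  have C : Cfg F D₁ D₂ x₁ hx₁ v₁ c₁ c₁' β₁ x₂ hx₂ v₂ c₂ c₂' β₂ a₁ a₂ :=
    ⟨H, hne, hx₁E, hx₂E, P₁, P₂, ha₁A, ha₁1', ha₂A, ha₂1, ha_eq, hceq, hU₁, hU₂⟩
  exact C.false hhyp

theorem Zc_eq_Sd_two (H : Hyp 2 F) (hhyp : F.hyperfocalSubgroup 2 = S) :
    centralizerIn S S = Sd S := by
  obtain ⟨E₁, E₂, hE₁, hE₂, hne⟩ := exists_two_essential H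
  have D₁ := ed_of_essential H hE₁
  have D₂ := ed_of_essential H hE₂
  have hbot := AE_eq_bot H hhyp D₁ D₂ hne
  obtain ⟨x₁, hx₁, hx₁E⟩ := exists_not_mem H D₁
  obtain ⟨g₁, hg₁, hgu₁⟩ := exists_second H D₁ hx₁ hx₁E
  obtain ⟨v₁, c₁, c₁', β₁, P₁, -⟩ := exists_pack H D₁ hx₁ hx₁E hg₁ hgu₁
  apply le_antisymm _ (Sd_le_Zc H)
  intro z hz
  obtain ⟨a, ha, h | h⟩ := Zc_dec2 H P₁ hx₁E hz
  · rw [hbot, Subgroup.mem_bot] at ha
    rw [h, ha]
    exact (Sd S).one_mem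
  · rw [hbot, Subgroup.mem_bot] at ha
    rw [h, ha, one_mul]
    exact coe_c_mem_Sd H hx₁E P₁

theorem inter_le_Zc (H : Hyp 2 F) (D₁ : ED 2 F E₁) (D₂ : ED 2 F E₂) (hne : E₁ ≠ E₂) {e : Ω}
    (he₁ : e ∈ E₁) (he₂ : e ∈ E₂) : e ∈ centralizerIn S S := by
  obtain ⟨y, hy₂, hy₁⟩ : ∃ y ∈ E₂, y ∉ E₁ := by
    by_contra hcon
    push Not at hcon
    rcases eq_or_eq_of_relIndex_prime Nat.prime_two hcon D₁.le D₂.idx with h | h
    · exact hne h
    · exact essential_ne H D₁.ess h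
  apply D₁.cent y (D₂.le hy₂) hy₁ e he₁
  exact congrArg Subtype.val (D₂.comm ⟨y, hy₂⟩ ⟨e, he₂⟩)

theorem exists_not_mem_Zc (D : ED 2 F E) : ∃ e ∈ E, e ∉ centralizerIn S S := by
  by_contra hcon
  push Not at hcon
  have h1 := D.idxZ
  rw [Subgroup.relIndex_eq_one.mpr hcon] at h1
  omega

/-- for `p = 2`, `S` is dihedral of order `8` -/
theorem dihedral_two (H : Hyp 2 F) (hcard : Nat.card S = 8) :
    Nonempty (↥S ≃* DihedralGroup 4) := by
  obtain ⟨E₁, E₂, hE₁, hE₂, hne⟩ := exists_two_essential H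
  have D₁ := ed_of_essential H hE₁
  have D₂ := ed_of_essential H hE₂
  obtain ⟨e₁, he₁, he₁Z⟩ := exists_not_mem_Zc D₁
  obtain ⟨e₂, he₂, he₂Z⟩ := exists_not_mem_Zc D₂
  have he₂E₁ : e₂ ∉ E₁ := fun h => he₂Z (inter_le_Zc H D₁ D₂ hne h he₂)
  have hs₁ : e₁ * e₁ = 1 := sq_E H D₁ he₁
  have hs₂ : e₂ * e₂ = 1 := sq_E H D₂ he₂
  have hnc : e₂ * e₁ ≠ e₁ * e₂ := fun h => he₁Z (D₁.cent e₂ (D₂.le he₂) he₂E₁ e₁ he₁ h)
  have i₁ : e₁⁻¹ = e₁ := inv_eq_of_mul_eq_one_right hs₁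
  have i₂ : e₂⁻¹ = e₂ := inv_eq_of_mul_eq_one_right hs₂
  set s : S := ⟨e₁, D₁.le he₁⟩ with hs
  set t : S := ⟨e₂, D₂.le he₂⟩ with ht
  have hss : s * s = 1 := Subtype.ext hs₁
  have htt : t * t = 1 := Subtype.ext hs₂
  have j₁ : s⁻¹ = s := inv_eq_of_mul_eq_one_right hss
  have j₂ : t⁻¹ = t := inv_eq_of_mul_eq_one_right htt
  have hnc' : t * s ≠ s * t := fun h => hnc (congrArg Subtype.val h)
  have hinv : (s * t)⁻¹ = t * s := by rw [mul_inv_rev, j₁, j₂]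
  -- `(s t)² ≠ 1`
  have h2 : ¬ (s * t) ^ 2 ^ 1 = 1 := by
    intro h
    rw [pow_one, pow_two] at h
    have := inv_eq_of_mul_eq_one_right h
    rw [hinv] at this
    exact hnc' this
  -- `(s t)² ∈ S'`, of order two
  have h4 : (s * t) ^ 2 ^ (1 + 1) = 1 := by
    have h5 : (((s * t) ^ 2 : S) : Ω) ∈ Sd S := by
      have : (s * t) ^ 2 = s * t * s⁻¹ * t⁻¹ := by rw [pow_two, j₁, j₂]; group
      rw [this]
      exact comm_mem_Sd s.2 t.2
    have h6 := pow_eq_one_of_card (Sd S) (card_Sd H) h5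
    have h7 : ((s * t) ^ 2) ^ 2 = 1 := Subtype.ext h6
    rw [← pow_mul] at h7
    exact h7
  have hord : orderOf (s * t) = 4 := by
    have := orderOf_eq_prime_pow h2 h4
    simpa using this
  apply Cfsg.Agent.Lead.nonempty_mulEquiv_dihedral 4 (s * t) s hord hss
  · rw [hinv]
    calc s * (s * t) * s = (s * s) * t * s := by group
      _ = t * s := by rw [hss, one_mul]
  · intro hmem
    obtain ⟨k, hk⟩ := Subgroup.mem_zpowers_iff.mp hmem
    have hcomm : (s * t) * s = s * (s * t) := by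
      have hc := (Commute.refl (s * t)).zpow_right k
      rw [hk] at hc
      exact hc.eq
    apply hnc'
    have : s * t * s = s * (s * t) := hcomm
    have h8 : s * (t * s) = s * (s * t) := by rw [← mul_assoc]; exact this
    exact mul_left_cancel h8
  · rw [hcard]

end two

section final

variable [Finite S] {p : ℕ} [Fact p.Prime] {F : FusionSystem S}

theorem card_S (H : Hyp p F) (hZ : centralizerIn S S = Sd S) : Nat.card S = p ^ 3 := by
  have h1 := relIndex_Zc H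
  have h2 : Nat.card ((centralizerIn S S).subgroupOf S) = p := by
    rw [← card_Sd H, ← hZ]
    exact Nat.card_congr (Subgroup.subgroupOfEquivOfLe Zc_le).toEquiv
  have h3 := Subgroup.card_mul_index ((centralizerIn S S).subgroupOf S)
  have h4 : ((centralizerIn S S).subgroupOf S).index = p ^ 2 := h1
  rw [h2, h4] at h3
  rw [← h3]
  ring

theorem card_center (H : Hyp p F) (hZ : centralizerIn S S = Sd S) :
    Nat.card (Subgroup.center ↥S) = p := by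
  rw [center_eq, ← card_Sd H, ← hZ]
  exact Nat.card_congr (Subgroup.subgroupOfEquivOfLe Zc_le).toEquiv

theorem commutator_eq_center (H : Hyp p F) (hZ : centralizerIn S S = Sd S) :
    commutator ↥S = Subgroup.center ↥S := by
  have hp : p.Prime := Fact.out
  have hle : commutator ↥S ≤ Subgroup.center ↥S := by
    rw [commutator_eq_closure, Subgroup.closure_le]
    rintro _ ⟨a, b, rfl⟩
    have := comm_mem_Zc H a.2 b.2
    rw [center_eq]
    exact Subgroup.mem_subgroupOf.mpr this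
  apply Subgroup.eq_of_le_of_card_ge hle
  rw [card_center H hZ]
  have hdvd : Nat.card (commutator ↥S) ∣ p := by
    rw [← card_center H hZ]
    exact Subgroup.card_dvd_of_le hle
  rcases (Nat.dvd_prime hp).mp hdvd with h | h
  · exfalso
    apply not_comm H
    intro a b
    have h1 : commutator ↥S = ⊥ := Subgroup.card_eq_one.mp h
    have h2 : a * b * a⁻¹ * b⁻¹ ∈ commutator ↥S := by
      rw [commutator_eq_closure]
      exact Subgroup.subset_closure ⟨a, b, rfl⟩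
    rw [h1, Subgroup.mem_bot] at h2
    calc a * b = (a * b * a⁻¹ * b⁻¹) * (b * a) := by group
      _ = b * a := by rw [h2, one_mul]
  · exact h.ge

theorem quot_pow_eq_one (H : Hyp p F) (a : ↥S ⧸ Subgroup.center ↥S) : a ^ p = 1 := by
  have hp : p.Prime := Fact.out
  have hcard : Nat.card (↥S ⧸ Subgroup.center ↥S) = p ^ 2 := by
    rw [← Subgroup.index_eq_card]
    exact (index_center H).1
  haveI : Finite (↥S ⧸ Subgroup.center ↥S) := inferInstance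
  have h1 : orderOf a ∣ p ^ 2 := by rw [← hcard]; exact orderOf_dvd_natCard a
  obtain ⟨k, hk2, hk⟩ := (Nat.dvd_prime_pow hp).mp h1
  have hk1 : k ≤ 1 := by
    by_contra hcon
    have hk2' : k = 2 := by omega
    rw [hk2', ← hcard] at hk
    haveI : IsCyclic (↥S ⧸ Subgroup.center ↥S) := isCyclic_of_orderOf_eq_card a hk
    apply not_comm H
    exact ((QuotientGroup.mk' (Subgroup.center ↥S)).isMulCommutative_of_isCyclic_of_ker_le_center
      (by rw [QuotientGroup.ker_mk'])).is_comm.comm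
  apply orderOf_dvd_iff_pow_eq_one.mp
  rw [hk]
  interval_cases k
  · simp
  · simp

theorem frattini_eq_center (H : Hyp p F) (hZ : centralizerIn S S = Sd S) :
    frattini ↥S = Subgroup.center ↥S := by
  apply le_antisymm
  · have := Cfsg.Agent.Helper9.frattini_le_ker_of_elementary (p := p)
      (QuotientGroup.mk' (Subgroup.center ↥S)) (index_center H).2 (quot_pow_eq_one H)
    rwa [QuotientGroup.ker_mk'] at this
  · rw [← commutator_eq_center H hZ]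
    exact Cfsg.Agent.Helper23.commutator_le_frattini_pgroup p H.pg

theorem isExtraspecial (H : Hyp p F) (hZ : centralizerIn S S = Sd S) :
    Cfsg.IsExtraspecial p ↥S :=
  ⟨⟨H.pg, frattini_eq_center H hZ, commutator_eq_center H hZ⟩, card_center H hZ⟩

end final

end Cfsg.Agent.Helper3.SC
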