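import Mathlib
import Cfsg.Agent.S5076
import Cfsg.Agent.S0542
import Cfsg.Agent.Lib.Helper3.SubConstrained
import Cfsg.Agent.Lib.Helper25.FusionSubSys
import Cfsg.Agent.Lib.Helper25.Fusion

/-!
# Constrained fusion systems of groups pass to subnormal subgroups

If `F_S(G)` is constrained and `H` is subnormal in `G`, then `F_{S ∩ H}(H)` is constrained,
both as a system inside `G` and as a system inside the group `H` itself.
-/

set_option autoImplicit false
set_option linter.style.haveILetI false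
set_option linter.unusedSectionVars false

namespace Cfsg.Agent.Helper3.SubnCons

open Cfsg Cfsg.FusionSystem Cfsg.Agent.Helper25

variable {G : Type*} [Group G]

theorem fusionSystemOfSubgroup_top (S : Subgroup G) :
    fusionSystemOfSubgroup ⊤ S le_top = groupFusionSystem S := by
  apply fs_ext
  intro P
  ext φ
  constructor
  · rintro ⟨h1, h2, g, -, hg⟩
    exact ⟨h1, h2, g, hg⟩
  · rintro ⟨h1, h2, g, hg⟩
    exact ⟨h1, h2, g, Subgroup.mem_top g, hg⟩

theorem step [Finite G] (p : ℕ) [Fact p.Prime] {H K TK TH : Subgroup G} (hHK : H ≤ K)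
    (hN : (H.subgroupOf K).Normal) (hTK : TK ≤ K) (hTH : TH ≤ H) (hTHK : TH = TK ⊓ H)
    (hTKp : IsPGroup p TK) (hsylH : IsSylowIn p TH H)
    (hFK : (fusionSystemOfSubgroup K TK hTK).IsConstrained p) :
    (fusionSystemOfSubgroup H TH hTH).IsConstrained p := by
  have hsat := fusionSystemOfSubgroup_isSaturated hsylH
  have hle : TH ≤ TK := hTHK.le.trans inf_le_left
  refine SubConstrained.isConstrained_of_sub p hTKp _ hFK _ hsat ?_ ?_
  · rintro P φ ⟨hP, hφ, g, hgH, hg⟩
    exact ⟨hP.trans hle, fun x => hle (hφ x), g, hHK hgH, hg⟩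
  · refine ⟨hle, ?_⟩
    rintro R hR φ ⟨-, hφT, g, hgK, hg⟩ x
    rw [hTHK]
    refine ⟨hφT x, ?_⟩
    rw [hg]
    have hxH : (x : G) ∈ H := hTH (hR x.2)
    have := hN.conj_mem ⟨(x : G), hHK hxH⟩ (Subgroup.mem_subgroupOf.mpr hxH) ⟨g, hgK⟩
    exact Subgroup.mem_subgroupOf.mp this

theorem aux [Finite G] (p : ℕ) [Fact p.Prime] (S : Sylow p G)
    (hF : (groupFusionSystem (S : Subgroup G)).IsConstrained p) {H : Subgroup G}
    (hH : H.IsSubnormal) :
    ∀ (T : Subgroup G) (hTH : T ≤ H), T = (S : Subgroup G) ⊓ H →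
      (fusionSystemOfSubgroup H T hTH).IsConstrained p := by
  induction hH with
  | top =>
    intro T hTH hT
    have hT' : T = (S : Subgroup G) := by rw [hT, inf_top_eq]
    subst hT'
    rw [fusionSystemOfSubgroup_top]
    exact hF
  | step H K hHK hK hN ih =>
    intro T hTH hT
    have hKc := ih ((S : Subgroup G) ⊓ K) inf_le_right rfl
    have hHsub : H.IsSubnormal := Subgroup.IsSubnormal.step H K hHK hK hN
    obtain ⟨R, hR⟩ := Cfsg.Agent.S0542.result p H hHsub S
    have hsyl : IsSylowIn p T H :=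
      (isSylowIn_iff_exists_sylow hTH).mpr ⟨R, by rw [hR, hT, Subgroup.inf_subgroupOf_right]⟩
    refine step p hHK hN inf_le_right hTH ?_ (S.isPGroup'.to_le inf_le_left) hsyl hKc
    rw [hT, inf_assoc, inf_eq_right.mpr hHK]

/-- Transport from the ambient group `G` to the ambient group `H`. -/
theorem isConstrained_subtype [Finite G] (p : ℕ) [Fact p.Prime] {H T : Subgroup G} (hTH : T ≤ H)
    (R : Sylow p H) (hR : (R : Subgroup H) = T.subgroupOf H)
    (hE : (fusionSystemOfSubgroup H T hTH).IsConstrained p) :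
    (groupFusionSystem (T.subgroupOf H)).IsConstrained p := by
  obtain ⟨-, Q, hQn, hQc⟩ := hE
  have hsat : (groupFusionSystem (T.subgroupOf H)).IsSaturated p := by
    rw [← hR]; exact Cfsg.Agent.S5076.result p R
  have hQT : Q ≤ T := hQn.1
  have hQH : Q ≤ H := hQT.trans hTH
  have hQ'T' : Q.subgroupOf H ≤ T.subgroupOf H := Subgroup.subgroupOf_mono H hQT
  have hn : (groupFusionSystem (T.subgroupOf H)).IsNormal (Q.subgroupOf H) := by
    refine ⟨hQ'T', ?_⟩
    rintro P' φ' ⟨hP', hφ'T, g, hg⟩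
    have hPT : P'.map H.subtype ≤ T := by
      rintro _ ⟨x, hx, rfl⟩
      exact Subgroup.mem_subgroupOf.mp (hP' hx)
    have hφ : conjHom (P'.map H.subtype) (g : G) ∈
        (fusionSystemOfSubgroup H T hTH).Hom (P'.map H.subtype) := by
      refine ⟨hPT, ?_, (g : G), g.2, fun y => rfl⟩
      rintro ⟨_, x, hx, rfl⟩
      have := hφ'T ⟨x, hx⟩
      rw [hg] at this
      exact Subgroup.mem_subgroupOf.mp this
    obtain ⟨ψ, hψ, hext, himg⟩ := hQn.2 _ _ hφ
    obtain ⟨hPQ, hψT, h, hhH, hh⟩ := hψ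
    have hmap : (P' ⊔ Q.subgroupOf H).map H.subtype = P'.map H.subtype ⊔ Q := by
      rw [Subgroup.map_sup, Subgroup.subgroupOf_map_subtype, inf_eq_left.2 hQH]
    refine ⟨conjHom (P' ⊔ Q.subgroupOf H) (⟨h, hhH⟩ : ↥H),
      ⟨sup_le hP' hQ'T', ?_, ⟨h, hhH⟩, fun x => rfl⟩, ?_, ?_⟩
    · intro x
      have hx : ((x : ↥H) : G) ∈ P'.map H.subtype ⊔ Q :=
        hmap.le (Subgroup.mem_map_of_mem _ x.2)
      have := hψT ⟨_, hx⟩
      rw [hh] at this
      exact Subgroup.mem_subgroupOf.mpr this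
    · intro x
      apply Subtype.ext
      have hx1 : ((x : ↥H) : G) ∈ P'.map H.subtype := Subgroup.mem_map_of_mem _ x.2
      have e1 := hext ⟨_, hx1⟩
      rw [hh] at e1
      rw [hg x]
      exact e1
    · ext y
      constructor
      · rintro ⟨w, hw, rfl⟩
        have hw' : ((w : ↥H) : G) ∈ Q := hw
        have hw2 : ((w : ↥H) : G) ∈ P'.map H.subtype ⊔ Q :=
          le_sup_right (a := P'.map H.subtype) hw'
        have := himg.le ⟨⟨_, hw2⟩, Subgroup.mem_subgroupOf.2 hw', rfl⟩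
        rw [hh] at this
        exact Subgroup.mem_subgroupOf.mpr this
      · intro hy
        have hy' : ((y : ↥H) : G) ∈ Q := Subgroup.mem_subgroupOf.1 hy
        obtain ⟨v, hv, hvy⟩ := himg.ge hy'
        have hvQ : (v : G) ∈ Q := Subgroup.mem_subgroupOf.1 hv
        rw [hh] at hvy
        have hvm : (⟨(v : G), hQH hvQ⟩ : ↥H) ∈ P' ⊔ Q.subgroupOf H :=
          le_sup_right (a := P') (Subgroup.mem_subgroupOf.2 hvQ)
        refine ⟨⟨⟨(v : G), hQH hvQ⟩, hvm⟩,
          Subgroup.mem_subgroupOf.2 (Subgroup.mem_subgroupOf.2 hvQ), ?_⟩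
        apply Subtype.ext
        exact hvy
  refine ⟨hsat, Q.subgroupOf H, hn, hQ'T', fun R' hR' => ?_⟩
  have hsc := stronglyClosed_of_isNormal _ hn
  rw [SubConstrained.eq_of_isConj_of_stronglyClosed _ hsc hR']
  intro s hs
  rw [mem_centralizerIn] at hs
  rw [Subgroup.mem_subgroupOf]
  apply hQc.2 Q (isConj_refl _ hQT)
  rw [mem_centralizerIn]
  refine ⟨Subgroup.mem_subgroupOf.mp hs.1, fun x hx => ?_⟩
  have := hs.2 ⟨x, hQH hx⟩ (Subgroup.mem_subgroupOf.2 hx)
  exact congrArg Subtype.val this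

end Cfsg.Agent.Helper3.SubnCons
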