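import Mathlib
import Cfsg.Agent.Lib.Helper1.Carter
import Cfsg.Agent.Lib.Helper1.Hall
import Cfsg.Agent.Lib.Helper1.HallConj
import Cfsg.Agent.Lib.Helper3.Basic
import Cfsg.Agent.Lib.Helper3.NilpotentHall
import Cfsg.Agent.Lib.Helper21.FittingSubgroup
import Cfsg.Agent.Lib.Helper20.PrimaryParts
import Cfsg.Agent.Lib.Helper3.Supersolvable2
import Cfsg.Agent.S0087
import Cfsg.Agent.S0543
import Cfsg.Agent.S0544
import Cfsg.Agent.S0545

set_option autoImplicit false

/-! System normalizers and Carter subgroups. -/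

namespace Cfsg.Agent.Helper3

open scoped Pointwise

universe u

section

variable {G : Type u} [Group G]

/-- The complement system `K` reduces into `C`: every `p'`-element of `C` lies in `K p`. -/
def Reduces (K : Nat.Primes → Subgroup G) (C : Subgroup G) : Prop :=
  ∀ p : Nat.Primes, ∀ x ∈ C, (orderOf x).Coprime p → x ∈ K p

theorem mem_systemNormalizer_iff {K : Nat.Primes → Subgroup G} {x : G} :
    x ∈ Cfsg.systemNormalizer K ↔ ∀ p : Nat.Primes, x ∈ Subgroup.normalizer (K p : Set G) := by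
  unfold Cfsg.systemNormalizer
  rw [Subgroup.mem_iInf]

/-- Key local lemma: in `C N`, with `N` a normal `q`-group and `H` the `q'`-part of the Carter
subgroup `C`, the normalizer of `H` is `C`. -/
theorem normalizer_inf_sup_le_of_isCarter [Finite G] {q : ℕ} [Fact q.Prime] (C N H : Subgroup G)
    [N.Normal] (hC : Cfsg.Agent.Helper1.IsCarter C) (hN : IsPGroup q N) (hHC : H ≤ C)
    (hCH : C ≤ Subgroup.normalizer (H : Set G)) (hHq : (Nat.card H).Coprime q) {k : ℕ}
    (hk : H.relIndex C = q ^ k) :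
    Subgroup.normalizer (H : Set G) ⊓ (C ⊔ N) ≤ C := by
  have hq : q.Prime := Fact.out
  set Y : Subgroup G := Subgroup.normalizer (H : Set G) ⊓ (C ⊔ N) with hY
  have hCY : C ≤ Y := le_inf hCH le_sup_left
  have hHY : H ≤ Y := hHC.trans hCY
  have hYn : Y ≤ Subgroup.normalizer (H : Set G) := inf_le_left
  haveI hHn : (H.subgroupOf Y).Normal :=
    (Subgroup.normal_subgroupOf_iff_le_normalizer hHY).mpr hYn
  set π : G →* G ⧸ N := QuotientGroup.mk' N with hπ
  -- the index of `H` in `Y` is a power of `q`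
  obtain ⟨a, ha⟩ := IsPGroup.iff_card.mp hN
  obtain ⟨j, hj⟩ : ∃ j, (H.subgroupOf Y).index = q ^ j := by
    have h1 : H.relIndex Y ∣ H.relIndex (C ⊔ N) :=
      Dvd.intro _ (Subgroup.relIndex_mul_relIndex H Y (C ⊔ N) hHY inf_le_right)
    have h2 : H.relIndex C * C.relIndex (C ⊔ N) = H.relIndex (C ⊔ N) :=
      Subgroup.relIndex_mul_relIndex H C (C ⊔ N) hHC le_sup_left
    have h3 : C.relIndex (C ⊔ N) = C.relIndex N :=
      Cfsg.Agent.Helper21.relIndex_sup_eq_of_normal C N
    have h4 : C.relIndex N ∣ q ^ a := ha ▸ Subgroup.relIndex_dvd_card C N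
    have h5 : H.relIndex Y ∣ q ^ (k + a) := by
      rw [pow_add, ← hk]
      refine h1.trans ?_
      rw [← h2, h3]
      exact Nat.mul_dvd_mul_left _ h4
    obtain ⟨j, -, hj⟩ := (Nat.dvd_prime_pow hq).mp h5
    exact ⟨j, hj⟩
  have hnil : Group.IsNilpotent Y := by
    have hpq : IsPGroup q (Y ⧸ H.subgroupOf Y) := by
      apply IsPGroup.of_card (n := j)
      rw [← hj, Subgroup.index_eq_card]
    haveI : Group.IsNilpotent (Y ⧸ H.subgroupOf Y) := hpq.isNilpotent
    haveI : Group.IsNilpotent C := hC.1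
    haveI : Group.IsNilpotent (C.map π) :=
      Group.nilpotent_of_surjective (π.subgroupMap C) (π.subgroupMap_surjective C)
    have hmem : ∀ y : Y, π (y : G) ∈ C.map π := by
      intro y
      have h1 : (y : G) ∈ C ⊔ N := (inf_le_right : Y ≤ C ⊔ N) y.2
      have h2 : π (y : G) ∈ (C ⊔ N).map π := ⟨y, h1, rfl⟩
      rw [Subgroup.map_sup] at h2
      have h3 : N.map π = ⊥ := QuotientGroup.map_mk'_self N
      rwa [h3, sup_bot_eq] at h2
    let ψ : Y →* (C.map π : Subgroup (G ⧸ N)) := (π.comp Y.subtype).codRestrict (C.map π) hmem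
    let φ : Y →* (Y ⧸ H.subgroupOf Y) × (C.map π : Subgroup (G ⧸ N)) :=
      (QuotientGroup.mk' (H.subgroupOf Y)).prod ψ
    have hinj : Function.Injective φ := by
      rw [injective_iff_map_eq_one]
      intro c hc
      have h1 : (QuotientGroup.mk' (H.subgroupOf Y)) c = 1 := congrArg Prod.fst hc
      have h2 : ψ c = 1 := congrArg Prod.snd hc
      rw [QuotientGroup.mk'_apply, QuotientGroup.eq_one_iff, Subgroup.mem_subgroupOf] at h1
      have h3 : π (c : G) = 1 := congrArg Subtype.val h2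
      rw [hπ, QuotientGroup.mk'_apply, QuotientGroup.eq_one_iff] at h3
      have hdisj : Disjoint H N := by
        apply Subgroup.disjoint_of_coprime_natCard
        rw [ha]
        exact Nat.Coprime.pow_right _ hHq
      have h4 : (c : G) ∈ H ⊓ N := Subgroup.mem_inf.mpr ⟨h1, h3⟩
      rw [hdisj.eq_bot, Subgroup.mem_bot] at h4
      exact Subtype.ext h4
    exact Group.nilpotent_of_mulEquiv (MonoidHom.ofInjective hinj).symm
  have htop : C.subgroupOf Y = ⊤ := (hC.subgroupOf hCY).eq_top_of_isNilpotent hnil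
  intro y hy
  have : (⟨y, hy⟩ : Y) ∈ C.subgroupOf Y := by rw [htop]; exact Subgroup.mem_top _
  exact Subgroup.mem_subgroupOf.mp this

theorem relIndex_sup_dvd_pow [Finite G] {q : ℕ} (C N H : Subgroup G) [N.Normal] (hHC : H ≤ C)
    {k a : ℕ} (hk : H.relIndex C = q ^ k) (ha : Nat.card N = q ^ a) :
    H.relIndex (C ⊔ N) ∣ q ^ (k + a) := by
  have h2 : H.relIndex C * C.relIndex (C ⊔ N) = H.relIndex (C ⊔ N) :=
    Subgroup.relIndex_mul_relIndex H C (C ⊔ N) hHC le_sup_left
  have h3 : C.relIndex (C ⊔ N) = C.relIndex N :=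
    Cfsg.Agent.Helper21.relIndex_sup_eq_of_normal C N
  have h4 : C.relIndex N ∣ q ^ a := ha ▸ Subgroup.relIndex_dvd_card C N
  rw [pow_add, ← hk, ← h2, h3]
  exact Nat.mul_dvd_mul_left _ h4

theorem orderOf_coprime_of_mem {H : Subgroup G} {q : ℕ} (hH : (Nat.card H).Coprime q) {x : G}
    (hx : x ∈ H) : (orderOf x).Coprime q := by
  have h3 : orderOf x ∣ Nat.card H := by
    have := orderOf_dvd_natCard (⟨x, hx⟩ : H)
    rwa [Subgroup.orderOf_mk] at this
  exact Nat.Coprime.coprime_dvd_left h3 hH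

theorem reduces_map [Finite G] {K : Nat.Primes → Subgroup G} {C : Subgroup G} (hred : Reduces K C)
    (N : Subgroup G) [N.Normal] :
    Reduces (fun p => (K p).map (QuotientGroup.mk' N)) (C.map (QuotientGroup.mk' N)) := by
  intro p xb hxb hcop
  obtain ⟨x, hx, rfl⟩ := hxb
  haveI : Fact (p : ℕ).Prime := ⟨p.2⟩
  obtain ⟨u, v, hxuv, -, ⟨k, hu⟩, hv, huz, hvz⟩ :=
    Cfsg.Agent.Helper20.exists_pPart_decomp (p : ℕ) x (orderOf_pos x)
  have hzC : Subgroup.zpowers x ≤ C := Subgroup.zpowers_le.mpr hx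
  have hvK : v ∈ K p := hred p v (hzC hvz) hv
  set π := QuotientGroup.mk' N with hπ
  have h1 : π u ∈ Subgroup.zpowers (π x) := by
    rw [← MonoidHom.map_zpowers]
    exact ⟨u, huz, rfl⟩
  have h2 : orderOf (π u) ∣ orderOf (π x) := orderOf_dvd_of_mem_zpowers h1
  have h3 : orderOf (π u) ∣ (p : ℕ) ^ k := hu ▸ orderOf_map_dvd π u
  have h4 : orderOf (π u) = 1 :=
    Nat.eq_one_of_dvd_coprimes (Nat.Coprime.pow_right k hcop) h2 h3
  rw [orderOf_eq_one_iff] at h4
  have h5 : π x = π v := by rw [hxuv, map_mul, h4, one_mul]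
  rw [h5]
  exact ⟨v, hvK, rfl⟩

theorem systemNormalizer_le_of_reduces_aux (n : ℕ) : ∀ (G : Type u) [Group G] [Finite G]
    [Group.IsSolvable G], Nat.card G = n → ∀ (K : Nat.Primes → Subgroup G) (C : Subgroup G),
    Cfsg.IsComplementSystem K → Cfsg.Agent.Helper1.IsCarter C → Reduces K C →
    Cfsg.systemNormalizer K ≤ C := by
  induction n using Nat.strong_induction_on with
  | _ n ih =>
  intro G _ _ _ hcard K C hK hC hred
  rcases subsingleton_or_nontrivial G with hsub | hnt
  · intro x _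
    rw [Subsingleton.elim x 1]; exact C.one_mem
  · obtain ⟨q, hq, N, hNn, hNbot, hNq⟩ :=
      Cfsg.Agent.Helper1.exists_normal_pSubgroup_of_solvable G
    haveI := hNn
    haveI : Fact q.Prime := ⟨hq⟩
    set π := QuotientGroup.mk' N with hπ
    have hlt : Nat.card (G ⧸ N) < n :=
      hcard ▸ card_quotient_lt N ((Subgroup.one_lt_card_iff_ne_bot N).mpr hNbot)
    have hKb : Cfsg.IsComplementSystem (fun p => (K p).map π) :=
      Cfsg.Agent.S0545.isComplementSystem_map K hK N
    have hCb : Cfsg.Agent.Helper1.IsCarter (C.map π) :=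
      hC.map_mk' N (fun H _ C₁ C₂ h1 h2 => Cfsg.Agent.Helper1.carter_conj C₁ C₂ h1 h2)
    have hredb : Reduces (fun p => (K p).map π) (C.map π) := reduces_map hred N
    have hDb := ih _ hlt (G ⧸ N) rfl _ _ hKb hCb hredb
    have hDX : Cfsg.systemNormalizer K ≤ C ⊔ N := by
      intro d hd
      have h1 : π d ∈ Cfsg.systemNormalizer (fun p => (K p).map π) := by
        rw [Cfsg.Agent.S0545.systemNormalizer_map K hK N]; exact ⟨d, hd, rfl⟩
      have h3 : d ∈ (C.map π).comap π := hDb h1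
      rw [QuotientGroup.comap_map_mk'] at h3
      rwa [sup_comm]
    obtain ⟨H, hHC, hCH, hHq, ⟨k, hk⟩, hHel⟩ :=
      Cfsg.Agent.Helper1.exists_pPrime_of_nilpotent hC.1 q
    set qq : Nat.Primes := ⟨q, hq⟩ with hqq
    have hHK : H ≤ K qq := fun x hx => hred qq x (hHC hx) (orderOf_coprime_of_mem hHq hx)
    have hKq : (Nat.card (K qq)).Coprime q :=
      ((Nat.Prime.coprime_iff_not_dvd hq).mpr
        (Cfsg.Agent.S0544.not_dvd_card_of_index (K qq) q hq (hK qq))).symm
    obtain ⟨a, ha⟩ := IsPGroup.iff_card.mp hNq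
    have hT : K qq ⊓ (C ⊔ N) ≤ H := by
      have hHT : H ≤ K qq ⊓ (C ⊔ N) := le_inf hHK (hHC.trans le_sup_left)
      rw [← Subgroup.relIndex_eq_one]
      have h1 : H.relIndex (K qq ⊓ (C ⊔ N)) ∣ H.relIndex (C ⊔ N) :=
        Dvd.intro _ (Subgroup.relIndex_mul_relIndex H _ (C ⊔ N) hHT inf_le_right)
      have h2 : H.relIndex (K qq ⊓ (C ⊔ N)) ∣ q ^ (k + a) :=
        h1.trans (relIndex_sup_dvd_pow C N H hHC hk ha)
      have h3 : H.relIndex (K qq ⊓ (C ⊔ N)) ∣ Nat.card (K qq) :=
        (Subgroup.relIndex_dvd_card H _).trans (Subgroup.card_dvd_of_le inf_le_left)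
      exact Nat.eq_one_of_dvd_coprimes (Nat.Coprime.pow_right _ hKq) h3 h2
    intro d hd
    apply normalizer_inf_sup_le_of_isCarter C N H hC hNq hHC hCH hHq hk
    refine Subgroup.mem_inf.mpr ⟨?_, hDX hd⟩
    apply Cfsg.Agent.S0087.mem_normalizer_of_forall
    intro h hh
    apply hT
    refine Subgroup.mem_inf.mpr ⟨?_, ?_⟩
    · exact (Subgroup.mem_normalizer_iff.mp (mem_systemNormalizer_iff.mp hd qq) h).mp (hHK hh)
    · have hdX := hDX hd
      have hhX : h ∈ C ⊔ N := (hHC.trans le_sup_left) hh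
      exact mul_mem (mul_mem hdX hhX) (inv_mem hdX)

/-- If the complement system `K` reduces into the Carter subgroup `C`, then the system
normalizer of `K` lies in `C`. -/
theorem systemNormalizer_le_of_reduces [Finite G] [Group.IsSolvable G]
    (K : Nat.Primes → Subgroup G) (C : Subgroup G) (hK : Cfsg.IsComplementSystem K)
    (hC : Cfsg.Agent.Helper1.IsCarter C) (hred : Reduces K C) : Cfsg.systemNormalizer K ≤ C :=
  systemNormalizer_le_of_reduces_aux _ G rfl K C hK hC hred

/-- Every nilpotent subgroup has a complement system reducing into it. -/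
theorem exists_reduces [Finite G] [Group.IsSolvable G] (C : Subgroup G)
    (hC : Group.IsNilpotent C) :
    ∃ K : Nat.Primes → Subgroup G, Cfsg.IsComplementSystem K ∧ Reduces K C := by
  have key : ∀ p : Nat.Primes, ∃ L : Subgroup G,
      L.index = (p : ℕ) ^ (Nat.card G).factorization p ∧
        ∀ x ∈ C, (orderOf x).Coprime p → x ∈ L := by
    intro p
    have hp : (p : ℕ).Prime := p.2
    haveI : Fact (p : ℕ).Prime := ⟨hp⟩
    obtain ⟨H, hHC, hCH, hHq, ⟨k, hk⟩, hHel⟩ :=
      Cfsg.Agent.Helper1.exists_pPrime_of_nilpotent hC (p : ℕ)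
    have hn0 : Nat.card G ≠ 0 := (Nat.card_pos (α := G)).ne'
    set a := (Nat.card G).factorization p with ha
    set m := Nat.card G / (p : ℕ) ^ a with hm
    have hG : Nat.card G = m * (p : ℕ) ^ a := by
      rw [mul_comm]; exact (Nat.ordProj_mul_ordCompl_eq_self (Nat.card G) p).symm
    have hcop : m.Coprime ((p : ℕ) ^ a) :=
      (Nat.Coprime.pow_left a (Nat.coprime_ordCompl hp hn0)).symm
    obtain ⟨L, hL, hHL⟩ := Cfsg.Agent.Helper1.hall_contain m ((p : ℕ) ^ a) hG hcop H
      (Nat.Coprime.pow_right a hHq)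
    refine ⟨L, ?_, fun x hx hxo => hHL (hHel x hx hxo)⟩
    have h1 := L.card_mul_index
    rw [hL, hG] at h1
    have hmpos : 0 < m := by
      rcases Nat.eq_zero_or_pos m with h0 | h0
      · rw [h0, zero_mul] at hG; exact absurd hG hn0
      · exact h0
    exact Nat.eq_of_mul_eq_mul_left hmpos h1
  choose K hK1 hK2 using key
  exact ⟨K, hK1, hK2⟩

/-- Every Carter subgroup contains a system normalizer. -/
theorem exists_systemNormalizer_le_of_isCarter [Finite G] [Group.IsSolvable G] (C : Subgroup G)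
    (hC : Cfsg.Agent.Helper1.IsCarter C) :
    ∃ K : Nat.Primes → Subgroup G, Cfsg.IsComplementSystem K ∧ Cfsg.systemNormalizer K ≤ C := by
  obtain ⟨K, hK, hred⟩ := exists_reduces C hC.1
  exact ⟨K, hK, systemNormalizer_le_of_reduces K C hK hC hred⟩

/-- Every system normalizer lies in a Carter subgroup. -/
theorem exists_isCarter_systemNormalizer_le [Finite G] [Group.IsSolvable G]
    (K : Nat.Primes → Subgroup G) (hK : Cfsg.IsComplementSystem K) :
    ∃ C : Subgroup G, Cfsg.Agent.Helper1.IsCarter C ∧ Cfsg.systemNormalizer K ≤ C := by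
  obtain ⟨C₀, hC₀⟩ := Cfsg.Agent.Helper1.carter_exists (G := G)
  obtain ⟨K₀, hK₀, hD₀⟩ := exists_systemNormalizer_le_of_isCarter C₀ hC₀
  obtain ⟨g, hg⟩ := Cfsg.Agent.S0543.result K₀ K hK₀ hK
  refine ⟨MulAut.conj g • C₀, hC₀.conj g, ?_⟩
  intro x hx
  rw [mem_conj_smul_iff]
  apply hD₀
  rw [mem_systemNormalizer_iff] at hx ⊢
  intro p
  have h1 := hx p
  rw [← hg p, Cfsg.Agent.Helper1.mem_normalizer_conj_smul_iff] at h1
  exact h1

end

end Cfsg.Agent.Helper3
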