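import Mathlib
import Cfsg.Agent.Lib.Helper18.WCAbsDefs

set_option autoImplicit false

namespace Cfsg.Agent.Helper18.WC

/-- every element of a finite field of characteristic two is a square -/
theorem wc_sq_exists_sq_two {F : Type*} [Field F] [Finite F] (h2 : (2 : F) = 0) (s : F) :
    ∃ l : F, l ^ 2 = s := by
  haveI : CharP F 2 := CharTwo.of_one_ne_zero_of_two_eq_zero one_ne_zero h2
  have hF : ringChar F = 2 := ringChar.eq F 2
  obtain ⟨l, hl⟩ := FiniteField.isSquare_of_char_two hF s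
  exact ⟨l, by rw [hl, pow_two]⟩

/-- WC-SQ -/
theorem sq_closed_eq_top {F : Type*} [Field F] [Finite F] (A : AddSubgroup F)
    (hA : ∃ a ∈ A, a ≠ 0) (hsq : ∀ l : F, l ≠ 0 → ∀ a ∈ A, l ^ 2 * a ∈ A) : ∀ t : F, t ∈ A := by
  obtain ⟨a, ha, ha0⟩ := hA
  have key : ∀ u : F, u ^ 2 * a ∈ A := by
    intro u
    by_cases hu : u = 0
    · rw [hu]; simp [A.zero_mem]
    · exact hsq u hu a ha
  intro t
  by_cases h2 : (2 : F) = 0
  · obtain ⟨l, hl⟩ := wc_sq_exists_sq_two h2 (t / a)
    have := key l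
    rwa [hl, div_mul_cancel₀ _ ha0] at this
  · have e : t = ((t / a + 1) / 2) ^ 2 * a - ((t / a - 1) / 2) ^ 2 * a := by
      field_simp
      ring
    rw [e]
    exact A.sub_mem (key _) (key _)

end Cfsg.Agent.Helper18.WC
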