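import Mathlib
import Cfsg.Agent.Lib.Helper3.WClos3
import Cfsg.Agent.Lib.Helper3.WClos4

/-!
# The local step through a model, second form; `p`-th powers of central elements
-/

set_option autoImplicit false
set_option linter.style.haveILetI false
set_option linter.unusedSectionVars false

namespace Cfsg.Agent.Helper3.WC

open Cfsg Cfsg.FusionSystem Cfsg.Agent.Helper25 Cfsg.Agent.Helper3.KL Cfsg.Agent.Helper3.Model
open Cfsg.Agent.Helper25.Grun

section model

variable {Ω : Type*} [Group Ω] {S : Subgroup Ω} [Finite S] {p : ℕ} [Fact p.Prime]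
  {F : FusionSystem S}

/-- in a model of `N_F(Q)` the image of `Q` lies in the `p`-core -/
theorem map_mem_pCore_of_isModel (hS : IsPGroup p S) {Q : Subgroup Ω} (hQS : Q ≤ S)
    (N : FusionSystem (normalizerIn S Q)) (hN : F.IsNormalizerSystem Q N)
    {L : Type*} [Group L] (ι : ↥(normalizerIn S Q) →* L) (hm : N.IsModel p L ι)
    {q : Ω} (hq : q ∈ Q) : ι ⟨q, le_normalizerIn hQS hq⟩ ∈ pCore p L := by
  have hTS : normalizerIn S Q ≤ S := normalizerIn_le
  haveI : Finite ↥(normalizerIn S Q) := finite_of_le_finite hTS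
  have hTp : IsPGroup p ↥(normalizerIn S Q) := hS.to_le hTS
  have hQn : N.IsNormal Q := normalizerSystem_isNormal F hQS N hN
  have hnormal := normal_map_of_isNormal_of_isModel p N ι hm hQn
  apply le_pCore hnormal
  · have : IsPGroup p ↥(Q.subgroupOf (normalizerIn S Q)) := hTp.to_subgroup _
    exact this.map ι
  · exact ⟨⟨q, le_normalizerIn hQS hq⟩, Subgroup.mem_subgroupOf.mpr hq, rfl⟩

end model

section powers

variable {Ω : Type*} [Group Ω] {S : Subgroup Ω}

/-- the subgroup generated by the `p`-th powers of the elements of `Z(S)` consists of such powers -/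
theorem exists_pow_of_mem_closure {p : ℕ} {z : Ω}
    (hz : z ∈ Subgroup.closure ((fun y => y ^ p) '' ((S ⊓ Subgroup.centralizer (S : Set Ω) :
      Subgroup Ω) : Set Ω))) :
    ∃ y ∈ centralizerIn S S, z = y ^ p := by
  induction hz using Subgroup.closure_induction with
  | mem x hx =>
    obtain ⟨y, hy, rfl⟩ := hx
    exact ⟨y, hy, rfl⟩
  | one => exact ⟨1, Subgroup.one_mem _, (one_pow p).symm⟩
  | mul a b _ _ ha hb =>
    obtain ⟨y₁, hy₁, rfl⟩ := ha
    obtain ⟨y₂, hy₂, rfl⟩ := hb
    refine ⟨y₁ * y₂, Subgroup.mul_mem _ hy₁ hy₂, ?_⟩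
    have hc : Commute y₁ y₂ := ((mem_centralizerIn.mp hy₂).2 y₁ (mem_centralizerIn.mp hy₁).1)
    exact (hc.mul_pow p).symm
  | inv a _ ha =>
    obtain ⟨y, hy, rfl⟩ := ha
    exact ⟨y⁻¹, Subgroup.inv_mem _ hy, (inv_pow y p).symm⟩

end powers

end Cfsg.Agent.Helper3.WC
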