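import Mathlib

set_option autoImplicit false

/-! Wagner's theorem: a normal subgroup, acting non-trivially, of a triply transitive group of odd
degree at least 5 is triply transitive.  Abstract (not necessarily faithful) version, proved by
induction on the degree using Witt's lemma on the fixed points of a Sylow 2-subgroup of a
two-point stabiliser of the normal subgroup. -/

namespace Cfsg.Agent.Helper3.Wagner

open MulAction

/-- Elementary form of triple transitivity. -/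
def T3 (G Ω : Type*) [Group G] [MulAction G Ω] : Prop :=
  ∀ x y z x' y' z' : Ω, x ≠ y → x ≠ z → y ≠ z → x' ≠ y' → x' ≠ z' → y' ≠ z' →
    ∃ g : G, g • x = x' ∧ g • y = y' ∧ g • z = z'

section basic

variable {G Ω : Type*} [Group G] [MulAction G Ω]

/-- A subgroup `B`, normalized by a group `A` that is doubly transitive on an invariant set `X`,
and moving some point of `X`, is transitive on `X`. -/
theorem trans_of_normal (A B : Subgroup G) (X : Set Ω)
    (h2 : ∀ x ∈ X, ∀ y ∈ X, ∀ x' ∈ X, ∀ y' ∈ X, x ≠ y → x' ≠ y' →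
      ∃ g ∈ A, g • x = x' ∧ g • y = y')
    (hBn : ∀ g ∈ A, ∀ b ∈ B, g * b * g⁻¹ ∈ B)
    (hBX : ∀ b ∈ B, ∀ x ∈ X, b • x ∈ X)
    (hmove : ∃ b ∈ B, ∃ x ∈ X, b • x ≠ x) : ∀ c ∈ X, ∀ d ∈ X, ∃ b ∈ B, b • c = d := by
  obtain ⟨b, hb, x, hx, hbx⟩ := hmove
  intro c hc d hd
  by_cases hcd : c = d
  · exact ⟨1, B.one_mem, by rw [one_smul, hcd]⟩
  obtain ⟨g, hg, h1, h2'⟩ := h2 x hx (b • x) (hBX b hb x hx) c hc d hd (Ne.symm hbx) hcd
  refine ⟨g * b * g⁻¹, hBn g hg b hb, ?_⟩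
  rw [mul_smul, mul_smul, ← h1, inv_smul_smul, h2']

/-- An involutive map on a set of odd size has a fixed point. -/
theorem invol_fixed_point {Ω : Type*} [Fintype Ω] (f : Ω → Ω) (hf : ∀ x, f (f x) = x)
    (hodd : Odd (Fintype.card Ω)) : ∃ c, f c = c := by
  classical
  let F : Function.End Ω := f
  have hf' : F ^ 2 ^ 1 = 1 := by
    rw [pow_one, pow_two]
    funext x
    exact hf x
  haveI : Fact (Nat.Prime 2) := ⟨Nat.prime_two⟩
  have hmod : Fintype.card Ω ≡ Fintype.card (Function.fixedPoints f) [MOD 2] :=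
    Equiv.Perm.card_fixedPoints_modEq (f := F) (p := 2) (n := 1) hf'
  have hoddF : Odd (Fintype.card (Function.fixedPoints f)) := by
    rw [← Nat.not_even_iff_odd] at hodd ⊢
    rw [Nat.even_iff] at hodd ⊢
    have : Fintype.card Ω % 2 = Fintype.card (Function.fixedPoints f) % 2 := hmod
    omega
  have hpos : 0 < Fintype.card (Function.fixedPoints f) := hoddF.pos
  obtain ⟨c⟩ := Fintype.card_pos_iff.mp hpos
  exact ⟨c.1, c.2⟩

/-- A point outside three given ones, when there are at least 4 points. -/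
theorem exists_fourth [Fintype Ω] [DecidableEq Ω] (h4 : 4 ≤ Fintype.card Ω) (x y z : Ω) :
    ∃ w : Ω, w ≠ x ∧ w ≠ y ∧ w ≠ z := by
  by_contra hcon
  push Not at hcon
  have : (Finset.univ : Finset Ω) ⊆ {x, y, z} := by
    intro w _
    rw [Finset.mem_insert, Finset.mem_insert, Finset.mem_singleton]
    by_cases h1 : w = x
    · left; exact h1
    by_cases h2 : w = y
    · right; left; exact h2
    right; right; exact hcon w h1 h2
  have := Finset.card_le_card this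
  rw [Finset.card_univ] at this
  have h3 := Finset.card_le_three (a := x) (b := y) (c := z)
  omega

end basic

section twotrans

variable {G Ω : Type*} [Group G] [MulAction G Ω] [Fintype Ω]

/-- Triple transitivity implies double transitivity (at least 3 points). -/
theorem T3.two [DecidableEq Ω] (h3 : T3 G Ω) (h4 : 4 ≤ Fintype.card Ω) (x y x' y' : Ω)
    (hxy : x ≠ y) (hxy' : x' ≠ y') : ∃ g : G, g • x = x' ∧ g • y = y' := by
  obtain ⟨z, hzx, hzy, -⟩ := exists_fourth h4 x y y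
  obtain ⟨z', hzx', hzy', -⟩ := exists_fourth h4 x' y' y'
  obtain ⟨g, h1, h2, -⟩ := h3 x y z x' y' z' hxy (Ne.symm hzx) (Ne.symm hzy) hxy' (Ne.symm hzx')
    (Ne.symm hzy')
  exact ⟨g, h1, h2⟩

/-- A normal subgroup, acting non-trivially, of a triply transitive group of odd degree at least 5
is doubly transitive: its point stabilizers are transitive on the remaining points. -/
theorem two_trans_of_normal (h3 : T3 G Ω) (hodd : Odd (Fintype.card Ω))
    (h5 : 5 ≤ Fintype.card Ω) (N : Subgroup G) (hNn : N.Normal)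
    (hmove : ∃ m ∈ N, ∃ x : Ω, m • x ≠ x) :
    ∀ a x y : Ω, x ≠ a → y ≠ a → ∃ m ∈ N, m • a = a ∧ m • x = y := by
  classical
  have h2 := fun x y x' y' => T3.two h3 (by omega : 4 ≤ Fintype.card Ω) x y x' y'
  -- N is transitive
  have hNtr : ∀ c d : Ω, ∃ m ∈ N, m • c = d := by
    intro c d
    have := trans_of_normal (⊤ : Subgroup G) N (Set.univ : Set Ω)
      (fun x _ y _ x' _ y' _ hxy hxy' => by
        obtain ⟨g, hg⟩ := h2 x y x' y' hxy hxy'
        exact ⟨g, Subgroup.mem_top g, hg⟩)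
      (fun g _ b hb => hNn.conj_mem b hb g) (fun _ _ _ _ => Set.mem_univ _)
      (by
        obtain ⟨m, hm, x, hx⟩ := hmove
        exact ⟨m, hm, x, Set.mem_univ _, hx⟩) c (Set.mem_univ _) d (Set.mem_univ _)
    exact this
  by_contra hcon
  push Not at hcon
  obtain ⟨a, x₁, y₁, hx₁, hy₁, hno⟩ := hcon
  -- elements of N fixing a act trivially
  have hreg_a : ∀ b ∈ N, b • a = a → ∀ z : Ω, b • z = z := by
    intro b hb hba z
    by_contra hbz
    have hza : z ≠ a := by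
      rintro rfl
      exact hbz hba
    have := trans_of_normal (stabilizer G a) (N ⊓ stabilizer G a) {w : Ω | w ≠ a}
      (fun x hx y hy x' hx' y' hy' hxy hxy' => by
        obtain ⟨g, hg1, hg2, hg3⟩ := h3 a x y a x' y' (Ne.symm hx) (Ne.symm hy) hxy (Ne.symm hx')
          (Ne.symm hy') hxy'
        exact ⟨g, hg1, hg2, hg3⟩)
      (fun g hg b hb => ⟨hNn.conj_mem b hb.1 g, by
        have hga : g • a = a := hg
        have hba' : b • a = a := hb.2
        show (g * b * g⁻¹) • a = a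
        rw [mul_smul, mul_smul, inv_smul_eq_iff.mpr hga.symm, hba', hga]⟩)
      (fun b hb w hw => by
        have hba' : b • a = a := hb.2
        intro h
        apply hw
        have h' : b • w = b • a := h.trans hba'.symm
        exact smul_left_cancel b h')
      ⟨b, ⟨hb, hba⟩, z, hza, hbz⟩ x₁ hx₁ y₁ hy₁
    obtain ⟨m, hm, hmx⟩ := this
    exact hno m hm.1 hm.2 hmx
  have hreg : ∀ b ∈ N, ∀ c : Ω, b • c = c → ∀ z : Ω, b • z = z := by
    intro b hb c hbc z
    obtain ⟨m, hm, hma⟩ := hNtr a c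
    have h1 : (m⁻¹ * b * m) • a = a := by
      rw [mul_smul, mul_smul, hma, hbc, ← hma, inv_smul_smul]
    have h2' := hreg_a (m⁻¹ * b * m) (by
      have := hNn.conj_mem b hb m⁻¹
      simpa using this) h1 (m⁻¹ • z)
    rw [mul_smul, mul_smul, smul_inv_smul] at h2'
    have := congrArg (fun w => m • w) h2'
    simpa using this
  -- every element of N acts as an involution
  have hinv : ∀ m ∈ N, ∀ c : Ω, m • m • c = c := by
    intro m hm c
    by_cases hmc : m • c = c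
    · rw [hmc, hmc]
    by_contra hy
    set x := m • c with hx
    set y := m • x with hy'
    have hyx : y ≠ x := by
      intro h
      have := hreg m hm x h c
      exact hmc this
    obtain ⟨z, hzc, hzx, hzy⟩ := exists_fourth (by omega : 4 ≤ Fintype.card Ω) c x y
    obtain ⟨g, hgc, hgx, hgy⟩ := h3 c x y c x z (Ne.symm hmc) (Ne.symm hy) (Ne.symm hyx)
      (Ne.symm hmc) (Ne.symm hzc) (Ne.symm hzx)
    have hconj : g * m * g⁻¹ ∈ N := hNn.conj_mem m hm g
    have h1 : (m⁻¹ * (g * m * g⁻¹)) • c = c := by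
      rw [mul_smul, mul_smul, mul_smul, inv_smul_eq_iff.mpr hgc.symm, ← hx, hgx, hx, inv_smul_smul]
    have h2' := hreg _ (N.mul_mem (N.inv_mem hm) hconj) c h1 x
    rw [mul_smul, mul_smul, mul_smul, inv_smul_eq_iff.mpr hgx.symm, ← hy', hgy] at h2'
    rw [inv_smul_eq_iff] at h2'
    exact hzy h2'
  obtain ⟨m₁, hm₁, hm₁a⟩ := hNtr a x₁
  obtain ⟨c₀, hc₀⟩ := invol_fixed_point (fun w => m₁ • w) (hinv m₁ hm₁) hodd
  have := hreg m₁ hm₁ c₀ hc₀ a
  rw [hm₁a] at this
  exact hx₁ this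

end twotrans

section sylowconj

open scoped Pointwise

variable {G : Type*} [Group G] [Finite G]

/-- Sylow conjugacy inside a subgroup `K`: if `P ≤ K` is a `p`-group of index prime to `p` in `K`
and `R ≤ K` has the same order, then `R` is a `K`-conjugate of `P`. -/
theorem conj_of_card_eq {p : ℕ} [Fact p.Prime] (K P R : Subgroup G) (hPK : P ≤ K) (hRK : R ≤ K)
    (hP : IsPGroup p P) (hidx : ¬ p ∣ P.relIndex K) (hcard : Nat.card R = Nat.card P) :
    ∃ k ∈ K, ∀ x : G, x ∈ R ↔ k⁻¹ * x * k ∈ P := by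
  have hP' : IsPGroup p (P.subgroupOf K) := hP.comap_subtype
  have hcP : Nat.card (P.subgroupOf K) = Nat.card P :=
    Nat.card_congr (Subgroup.subgroupOfEquivOfLe hPK).toEquiv
  have hcR : Nat.card (R.subgroupOf K) = Nat.card R :=
    Nat.card_congr (Subgroup.subgroupOfEquivOfLe hRK).toEquiv
  have hR' : IsPGroup p (R.subgroupOf K) := by
    obtain ⟨n, hn⟩ := IsPGroup.iff_card.mp hP'
    apply IsPGroup.of_card (n := n)
    rw [hcR, hcard, ← hcP, hn]
  have hidxR : ¬ p ∣ (R.subgroupOf K).index := by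
    have h1 := Subgroup.card_mul_index (P.subgroupOf K)
    have h2 := Subgroup.card_mul_index (R.subgroupOf K)
    have hcc : Nat.card (R.subgroupOf K) = Nat.card (P.subgroupOf K) := by
      rw [hcR, hcard, hcP]
    rw [hcc, ← h1] at h2
    have hpos : 0 < Nat.card (P.subgroupOf K) := Nat.card_pos
    have := Nat.eq_of_mul_eq_mul_left hpos h2
    rw [this]
    exact hidx
  have hidx' : ¬ p ∣ (P.subgroupOf K).index := hidx
  set SP : Sylow p K := hP'.toSylow hidx' with hSP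
  set SR : Sylow p K := hR'.toSylow hidxR with hSR
  obtain ⟨k, hk⟩ := MulAction.exists_smul_eq K SP SR
  refine ⟨k, k.2, ?_⟩
  have hmem : ∀ y : K, y ∈ SR ↔ k⁻¹ * y * k ∈ SP := by
    intro y
    have hco : (SR : Subgroup K) = MulAut.conj k • (SP : Subgroup K) := by
      rw [← hk, Sylow.coe_subgroup_smul]
    show y ∈ (SR : Subgroup K) ↔ k⁻¹ * y * k ∈ (SP : Subgroup K)
    rw [hco, Subgroup.mem_pointwise_smul_iff_inv_smul_mem]
    simp [MulAut.smul_def]
  intro x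
  constructor
  · intro hx
    have h1 : (⟨x, hRK hx⟩ : K) ∈ SR := by
      rw [hSR, IsPGroup.mem_toSylow, Subgroup.mem_subgroupOf]
      exact hx
    have h2 := (hmem _).mp h1
    rw [hSP, IsPGroup.mem_toSylow, Subgroup.mem_subgroupOf] at h2
    exact h2
  · intro hx
    have hxK : x ∈ K := by
      have := K.mul_mem (K.mul_mem k.2 (hPK hx)) (K.inv_mem k.2)
      have e : (k : G) * ((k : G)⁻¹ * x * k) * (k : G)⁻¹ = x := by group
      rwa [e] at this
    have h1 : k⁻¹ * (⟨x, hxK⟩ : K) * k ∈ SP := by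
      rw [hSP, IsPGroup.mem_toSylow, Subgroup.mem_subgroupOf]
      exact hx
    have h2 := (hmem _).mpr h1
    rw [hSR, IsPGroup.mem_toSylow, Subgroup.mem_subgroupOf] at h2
    exact h2

end sylowconj

section sylowconj2

open scoped Pointwise

variable {G : Type*} [Group G] [Finite G]

/-- A `p`-subgroup of `K` is `K`-conjugate into a given Sylow `p`-subgroup `P` of `K`. -/
theorem conj_le_of_isPGroup {p : ℕ} [Fact p.Prime] (K P R : Subgroup G) (hPK : P ≤ K)
    (hRK : R ≤ K) (hP : IsPGroup p P) (hidx : ¬ p ∣ P.relIndex K) (hR : IsPGroup p R) :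
    ∃ k ∈ K, ∀ x ∈ R, k * x * k⁻¹ ∈ P := by
  have hP' : IsPGroup p (P.subgroupOf K) := hP.comap_subtype
  have hR' : IsPGroup p (R.subgroupOf K) := hR.comap_subtype
  have hidx' : ¬ p ∣ (P.subgroupOf K).index := hidx
  set SP : Sylow p K := hP'.toSylow hidx' with hSP
  obtain ⟨Q, hQ⟩ := hR'.exists_le_sylow
  obtain ⟨k, hk⟩ := MulAction.exists_smul_eq K Q SP
  refine ⟨k, k.2, ?_⟩
  intro x hx
  have h1 : (⟨x, hRK hx⟩ : K) ∈ (Q : Subgroup K) := hQ (Subgroup.mem_subgroupOf.mpr hx)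
  have hco : (SP : Subgroup K) = MulAut.conj k • (Q : Subgroup K) := by
    rw [← hk, Sylow.coe_subgroup_smul]
  have h2 : k * (⟨x, hRK hx⟩ : K) * k⁻¹ ∈ (SP : Subgroup K) := by
    rw [hco, Subgroup.mem_pointwise_smul_iff_inv_smul_mem]
    have e : (MulAut.conj k)⁻¹ • (k * (⟨x, hRK hx⟩ : K) * k⁻¹) = ⟨x, hRK hx⟩ := by
      rw [MulAut.smul_def, ← map_inv, MulAut.conj_apply]
      group
    rw [e]
    exact h1
  have h3 : k * (⟨x, hRK hx⟩ : K) * k⁻¹ ∈ SP := h2
  rw [hSP, IsPGroup.mem_toSylow, Subgroup.mem_subgroupOf] at h3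
  exact h3

end sylowconj2

section parity

/-- An element of 2-power order preserving a finite set of odd size fixes a point of it. -/
theorem fixed_point_two_elt {G Ω : Type*} [Group G] [MulAction G Ω] [DecidableEq Ω]
    (t : G) (k : ℕ) (ht : t ^ 2 ^ k = 1) (S : Finset Ω) (hS : ∀ x ∈ S, t • x ∈ S)
    (hodd : Odd S.card) : ∃ x ∈ S, t • x = x := by
  let F : Function.End S := fun x => ⟨t • x.1, hS x.1 x.2⟩
  have hpow : ∀ (m : ℕ) (x : S), ((F ^ m) x).1 = t ^ m • x.1 := by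
    intro m
    induction m with
    | zero => intro x; rw [pow_zero, pow_zero, one_smul]; rfl
    | succ m ih =>
      intro x
      rw [pow_succ]
      show ((F ^ m) (F x)).1 = _
      rw [ih, pow_succ, mul_smul]
  have hF : F ^ 2 ^ k = 1 := by
    funext x
    apply Subtype.ext
    rw [hpow, ht, one_smul]
    rfl
  haveI : Fact (Nat.Prime 2) := ⟨Nat.prime_two⟩
  have hmod : Fintype.card S ≡ Fintype.card (Function.fixedPoints F) [MOD 2] :=
    Equiv.Perm.card_fixedPoints_modEq (f := F) (p := 2) (n := k) hF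
  rw [Fintype.card_coe] at hmod
  have hoddF : Odd (Fintype.card (Function.fixedPoints F)) := by
    rw [← Nat.not_even_iff_odd] at hodd ⊢
    rw [Nat.even_iff] at hodd ⊢
    have : S.card % 2 = Fintype.card (Function.fixedPoints F) % 2 := hmod
    omega
  obtain ⟨c⟩ := Fintype.card_pos_iff.mp hoddF.pos
  exact ⟨c.1.1, c.1.2, congrArg Subtype.val c.2⟩

end parity

section main

universe u v

theorem wagner_aux (n : ℕ) : ∀ (G : Type u) [Group G] [Finite G] (Ω : Type v) [Fintype Ω]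
    [MulAction G Ω], Fintype.card Ω = n → Odd n → 5 ≤ n → T3 G Ω →
    ∀ N : Subgroup G, N.Normal → (∃ m ∈ N, ∃ x : Ω, m • x ≠ x) →
    ∀ α β γ δ : Ω, α ≠ β → γ ≠ α → γ ≠ β → δ ≠ α → δ ≠ β →
      ∃ m ∈ N, m • α = α ∧ m • β = β ∧ m • γ = δ := by
  induction n using Nat.strong_induction_on with
  | _ n ih =>
  intro G _ _ Ω _ _ hn hodd h5 h3 N hNn hmove α β γ δ hαβ hγα hγβ hδα hδβ
  classical
  have h4 : 4 ≤ Fintype.card Ω := by omega
  have hN2a := two_trans_of_normal h3 (hn ▸ hodd) (hn ▸ h5) N hNn hmove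
  -- N is doubly transitive on ordered pairs
  have hN2 : ∀ x y x' y' : Ω, x ≠ y → x' ≠ y' → ∃ m ∈ N, m • x = x' ∧ m • y = y' := by
    intro x y x' y' hxy hxy'
    obtain ⟨z, hzx, hzx', -⟩ := exists_fourth h4 x x' x'
    obtain ⟨m₁, hm₁, hm₁z, hm₁x⟩ := hN2a z x x' (Ne.symm hzx) (Ne.symm hzx')
    have h1 : m₁ • y ≠ x' := by
      rw [← hm₁x]
      intro h
      exact hxy (smul_left_cancel _ h).symm
    obtain ⟨m₂, hm₂, hm₂x, hm₂y⟩ := hN2a x' (m₁ • y) y' h1 (Ne.symm hxy')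
    exact ⟨m₂ * m₁, N.mul_mem hm₂ hm₁, by rw [mul_smul, hm₁x, hm₂x], by rw [mul_smul, hm₂y]⟩
  set L : Subgroup G := N ⊓ stabilizer G α ⊓ stabilizer G β with hL
  have hLmem : ∀ g : G, g ∈ L ↔ g ∈ N ∧ g • α = α ∧ g • β = β := by
    intro g
    rw [hL]
    constructor
    · rintro ⟨⟨h1, h2⟩, h3'⟩
      exact ⟨h1, h2, h3'⟩
    · rintro ⟨h1, h2, h3'⟩
      exact ⟨⟨h1, h2⟩, h3'⟩
  haveI : Fact (Nat.Prime 2) := ⟨Nat.prime_two⟩
  obtain ⟨P₀⟩ : Nonempty (Sylow 2 L) := inferInstance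
  set P : Subgroup G := (P₀ : Subgroup L).map L.subtype with hP
  have hPL : P ≤ L := by
    rintro x ⟨y, _, rfl⟩
    exact y.2
  have hP2 : IsPGroup 2 P := P₀.isPGroup'.map L.subtype
  have hPsub : P.subgroupOf L = (P₀ : Subgroup L) := by
    rw [hP, Subgroup.subgroupOf,
      Subgroup.comap_map_eq_self_of_injective (Subgroup.subtype_injective L)]
  have hPidx : ¬ 2 ∣ P.relIndex L := by
    rw [Subgroup.relIndex, hPsub]
    exact P₀.not_dvd_index
  set F : Set Ω := {x | ∀ p ∈ P, p • x = x} with hF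
  have hαF : α ∈ F := fun p hp => ((hLmem p).mp (hPL hp)).2.1
  have hβF : β ∈ F := fun p hp => ((hLmem p).mp (hPL hp)).2.2
  -- Witt's argument
  have hWitt : ∀ K : Subgroup G, K ≤ L → P ≤ K → ∀ g₀ : G, (∀ p ∈ P, g₀⁻¹ * p * g₀ ∈ K) →
      ∃ ℓ ∈ K, ∀ z : G, z ∈ P ↔ (g₀ * ℓ) * z * (g₀ * ℓ)⁻¹ ∈ P := by
    intro K hKL hPK g₀ hg₀
    set R : Subgroup G := P.map (MulAut.conj g₀⁻¹).toMonoidHom with hR
    have hRmem : ∀ x : G, x ∈ R ↔ g₀ * x * g₀⁻¹ ∈ P := by
      intro x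
      rw [hR, Subgroup.mem_map_equiv, MulAut.conj_symm_apply, inv_inv]
    have hRK : R ≤ K := by
      intro x hx
      have := hg₀ _ ((hRmem x).mp hx)
      have e : g₀⁻¹ * (g₀ * x * g₀⁻¹) * g₀ = x := by group
      rwa [e] at this
    have hcard : Nat.card R = Nat.card P :=
      Subgroup.card_map_of_injective (MulAut.conj g₀⁻¹).injective
    have hidxK : ¬ 2 ∣ P.relIndex K := by
      intro h
      apply hPidx
      rw [← Subgroup.relIndex_mul_relIndex P K L hPK hKL]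
      exact Dvd.dvd.mul_right h _
    obtain ⟨k, hk, hkR⟩ := conj_of_card_eq K P R hPK hRK hP2 hidxK hcard
    refine ⟨k, hk, fun z => ?_⟩
    have h1 := hkR (k * z * k⁻¹)
    have e1 : k⁻¹ * (k * z * k⁻¹) * k = z := by group
    rw [e1] at h1
    rw [← h1, hRmem]
    have e2 : g₀ * (k * z * k⁻¹) * g₀⁻¹ = g₀ * k * z * (g₀ * k)⁻¹ := by group
    rw [e2]
  have hNF : ∀ m : G, (∀ z : G, z ∈ P ↔ m * z * m⁻¹ ∈ P) → ∀ x ∈ F, m • x ∈ F := by
    intro m hm x hx p hp
    have h1 : m⁻¹ * p * m ∈ P := by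
      rw [hm]
      have e : m * (m⁻¹ * p * m) * m⁻¹ = p := by group
      rw [e]
      exact hp
    have h2 := hx _ h1
    rw [mul_smul, mul_smul, inv_smul_eq_iff] at h2
    exact h2
  have hNinv : ∀ m : G, (∀ z : G, z ∈ P ↔ m * z * m⁻¹ ∈ P) →
      (∀ z : G, z ∈ P ↔ m⁻¹ * z * m⁻¹⁻¹ ∈ P) := by
    intro m hm z
    have := hm (m⁻¹ * z * m⁻¹⁻¹)
    have e : m * (m⁻¹ * z * m⁻¹⁻¹) * m⁻¹ = z := by group
    rw [e] at this
    exact this.symm
  -- |F| is odd
  have hFfix : (fixedPoints P Ω) = F := by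
    ext x
    rw [mem_fixedPoints, hF]
    constructor
    · intro h p hp
      exact h ⟨p, hp⟩
    · intro h p
      exact h p.1 p.2
  have hFodd : Odd F.ncard := by
    have := hP2.card_modEq_card_fixedPoints Ω
    rw [hFfix, Nat.card_coe_set_eq, Nat.card_eq_fintype_card, hn] at this
    rw [Nat.odd_iff] at hodd ⊢
    have h' : n % 2 = F.ncard % 2 := this
    omega
  obtain ⟨x₀, hx₀F, hx₀α, hx₀β⟩ : ∃ x₀ ∈ F, x₀ ≠ α ∧ x₀ ≠ β := by
    by_contra hcon
    push Not at hcon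
    have hFeq : F = {α, β} := by
      ext x
      constructor
      · intro hx
        by_cases h : x = α
        · left; exact h
        · right; exact hcon x hx h
      · rintro (rfl | rfl)
        · exact hαF
        · exact hβF
    rw [hFeq, Set.ncard_pair hαβ] at hFodd
    exact absurd hFodd (by decide)
  have h3a : ∀ c : Ω, c ≠ α → c ≠ β → ∃ ℓ ∈ L, ℓ • c ∈ F := by
    intro c hcα hcβ
    obtain ⟨g, hgα, hgβ, hgx⟩ := h3 α β x₀ α β c hαβ (Ne.symm hx₀α) (Ne.symm hx₀β) hαβ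
      (Ne.symm hcα) (Ne.symm hcβ)
    obtain ⟨ℓ, hℓ, hnorm⟩ := hWitt L le_rfl hPL g⁻¹ (by
      intro p hp
      rw [inv_inv, hLmem]
      have hpL := (hLmem p).mp (hPL hp)
      refine ⟨hNn.conj_mem p hpL.1 g, ?_, ?_⟩
      · rw [mul_smul, mul_smul, inv_smul_eq_iff.mpr hgα.symm, hpL.2.1, hgα]
      · rw [mul_smul, mul_smul, inv_smul_eq_iff.mpr hgβ.symm, hpL.2.2, hgβ])
    refine ⟨ℓ⁻¹, L.inv_mem hℓ, ?_⟩
    have hm' := hNinv _ hnorm
    have := hNF _ hm' x₀ hx₀F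
    rw [mul_inv_rev, inv_inv, mul_smul, hgx] at this
    exact this
  have hW2 : ∀ x ∈ F, ∀ y ∈ F, x ≠ y →
      ∃ m ∈ N, (∀ z : G, z ∈ P ↔ m * z * m⁻¹ ∈ P) ∧ m • α = x ∧ m • β = y := by
    intro x hx y hy hxy
    obtain ⟨n₀, hn₀, hn₀α, hn₀β⟩ := hN2 α β x y hαβ hxy
    obtain ⟨ℓ, hℓ, hnorm⟩ := hWitt L le_rfl hPL n₀ (by
      intro p hp
      rw [hLmem]
      have hpL := (hLmem p).mp (hPL hp)
      refine ⟨?_, ?_, ?_⟩
      · have := hNn.conj_mem p hpL.1 n₀⁻¹
        simpa using this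
      · rw [mul_smul, mul_smul, hn₀α, hx p hp, ← hn₀α, inv_smul_smul]
      · rw [mul_smul, mul_smul, hn₀β, hy p hp, ← hn₀β, inv_smul_smul])
    have hℓ' := (hLmem ℓ).mp hℓ
    exact ⟨n₀ * ℓ, N.mul_mem hn₀ hℓ'.1, hnorm, by rw [mul_smul, hℓ'.2.1, hn₀α],
      by rw [mul_smul, hℓ'.2.2, hn₀β]⟩
  have hW3 : ∀ x ∈ F, ∀ y ∈ F, ∀ z ∈ F, x ≠ y → x ≠ z → y ≠ z →
      ∃ g : G, (∀ w : G, w ∈ P ↔ g * w * g⁻¹ ∈ P) ∧ g • α = x ∧ g • β = y ∧ g • x₀ = z := by
    intro x hx y hy z hz hxy hxz hyz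
    obtain ⟨g₀, hgα, hgβ, hgx⟩ := h3 α β x₀ x y z hαβ (Ne.symm hx₀α) (Ne.symm hx₀β) hxy hxz hyz
    obtain ⟨ℓ, hℓ, hnorm⟩ := hWitt (L ⊓ stabilizer G x₀) inf_le_left
      (fun p hp => ⟨hPL hp, hx₀F p hp⟩) g₀ (by
      intro p hp
      have hpL := (hLmem p).mp (hPL hp)
      refine ⟨(hLmem _).mpr ⟨?_, ?_, ?_⟩, ?_⟩
      · have := hNn.conj_mem p hpL.1 g₀⁻¹
        simpa using this
      · rw [mul_smul, mul_smul, hgα, hx p hp, ← hgα, inv_smul_smul]
      · rw [mul_smul, mul_smul, hgβ, hy p hp, ← hgβ, inv_smul_smul]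
      · show (g₀⁻¹ * p * g₀) • x₀ = x₀
        rw [mul_smul, mul_smul, hgx, hz p hp, ← hgx, inv_smul_smul])
    have hℓL := (hLmem ℓ).mp hℓ.1
    have hℓx : ℓ • x₀ = x₀ := hℓ.2
    exact ⟨g₀ * ℓ, hnorm, by rw [mul_smul, hℓL.2.1, hgα], by rw [mul_smul, hℓL.2.2, hgβ],
      by rw [mul_smul, hℓx, hgx]⟩
  -- reduction to transitivity on the fixed points
  suffices hFtrans : ∀ c ∈ F, ∀ d ∈ F, c ≠ α → c ≠ β → d ≠ α → d ≠ β → ∃ ℓ ∈ L, ℓ • c = d by
    obtain ⟨ℓ₁, hℓ₁, h1⟩ := h3a γ hγα hγβ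
    obtain ⟨ℓ₂, hℓ₂, h2⟩ := h3a δ hδα hδβ
    have hℓ₁' := (hLmem ℓ₁).mp hℓ₁
    have hℓ₂' := (hLmem ℓ₂).mp hℓ₂
    have n1 : ℓ₁ • γ ≠ α := by
      intro h
      have h' : ℓ₁ • γ = ℓ₁ • α := h.trans hℓ₁'.2.1.symm
      exact hγα (smul_left_cancel _ h')
    have n2 : ℓ₁ • γ ≠ β := by
      intro h
      have h' : ℓ₁ • γ = ℓ₁ • β := h.trans hℓ₁'.2.2.symm
      exact hγβ (smul_left_cancel _ h')
    have n3 : ℓ₂ • δ ≠ α := by
      intro h
      have h' : ℓ₂ • δ = ℓ₂ • α := h.trans hℓ₂'.2.1.symm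
      exact hδα (smul_left_cancel _ h')
    have n4 : ℓ₂ • δ ≠ β := by
      intro h
      have h' : ℓ₂ • δ = ℓ₂ • β := h.trans hℓ₂'.2.2.symm
      exact hδβ (smul_left_cancel _ h')
    obtain ⟨ℓ, hℓ, h⟩ := hFtrans _ h1 _ h2 n1 n2 n3 n4
    have hm : ℓ₂⁻¹ * ℓ * ℓ₁ ∈ L := L.mul_mem (L.mul_mem (L.inv_mem hℓ₂) hℓ) hℓ₁
    have hm' := (hLmem _).mp hm
    exact ⟨_, hm'.1, hm'.2.1, hm'.2.2, by rw [mul_smul, mul_smul, h, inv_smul_smul]⟩
  intro c hc d hd hcα hcβ hdα hdβ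
  have hFtoF : F.ncard = F.toFinset.card := Set.ncard_eq_toFinset_card' F
  have hFle : F.ncard ≤ n := by
    rw [hFtoF, ← hn]
    exact Finset.card_le_univ _
  have hF3 : 3 ≤ F.ncard := by
    have hsub : ({α, β, x₀} : Finset Ω) ⊆ F.toFinset := by
      intro w hw
      rw [Finset.mem_insert, Finset.mem_insert, Finset.mem_singleton] at hw
      rw [Set.mem_toFinset]
      rcases hw with rfl | rfl | rfl
      · exact hαF
      · exact hβF
      · exact hx₀F
    have hcard3 : ({α, β, x₀} : Finset Ω).card = 3 := by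
      rw [Finset.card_insert_of_notMem, Finset.card_insert_of_notMem, Finset.card_singleton]
      · rw [Finset.mem_singleton]; exact Ne.symm hx₀β
      · rw [Finset.mem_insert, Finset.mem_singleton, not_or]
        exact ⟨hαβ, Ne.symm hx₀α⟩
    rw [hFtoF, ← hcard3]
    exact Finset.card_le_card hsub
  have hcases : F.ncard = 3 ∨ F.ncard = n ∨ (5 ≤ F.ncard ∧ F.ncard < n) := by
    obtain ⟨j, hj⟩ := hFodd
    omega
  rcases hcases with hF3' | hFn | ⟨h5F, hlt⟩
  · -- three fixed points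
    by_cases hcd : c = d
    · exact ⟨1, L.one_mem, by rw [one_smul, hcd]⟩
    exfalso
    have hsub : ({α, β, c, d} : Finset Ω) ⊆ F.toFinset := by
      intro w hw
      rw [Finset.mem_insert, Finset.mem_insert, Finset.mem_insert, Finset.mem_singleton] at hw
      rw [Set.mem_toFinset]
      rcases hw with rfl | rfl | rfl | rfl
      · exact hαF
      · exact hβF
      · exact hc
      · exact hd
    have hcard4 : ({α, β, c, d} : Finset Ω).card = 4 := by
      rw [Finset.card_insert_of_notMem, Finset.card_insert_of_notMem,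
        Finset.card_insert_of_notMem, Finset.card_singleton]
      · rw [Finset.mem_singleton]; exact hcd
      · rw [Finset.mem_insert, Finset.mem_singleton, not_or]
        exact ⟨Ne.symm hcβ, Ne.symm hdβ⟩
      · rw [Finset.mem_insert, Finset.mem_insert, Finset.mem_singleton, not_or, not_or]
        exact ⟨hαβ, Ne.symm hcα, Ne.symm hdα⟩
    have := Finset.card_le_card hsub
    rw [hcard4, ← hFtoF, hF3'] at this
    omega
  · -- the Sylow 2-subgroup acts trivially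
    have hFuniv : ∀ x : Ω, x ∈ F := by
      have h1 : F.toFinset = Finset.univ := by
        apply Finset.eq_univ_of_card
        rw [← hFtoF, hFn, hn]
      intro x
      have h2 : x ∈ F.toFinset := by rw [h1]; exact Finset.mem_univ x
      exact Set.mem_toFinset.mp h2
    have hPtriv : ∀ p ∈ P, ∀ x : Ω, p • x = x := fun p hp x => hFuniv x p hp
    have htriv2 : ∀ s ∈ N, ∀ k : ℕ, s ^ 2 ^ k = 1 → ∀ c₁ c₂ : Ω, c₁ ≠ c₂ → s • c₁ = c₁ →
        s • c₂ = c₂ → ∀ x : Ω, s • x = x := by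
      intro s hs k hsk c₁ c₂ hc12 h1 h2 x
      obtain ⟨n₀, hn₀, hn₀α, hn₀β⟩ := hN2 α β c₁ c₂ hαβ hc12
      set s' := n₀⁻¹ * s * n₀ with hs'
      have hs'L : s' ∈ L := by
        rw [hLmem]
        refine ⟨?_, ?_, ?_⟩
        · have := hNn.conj_mem s hs n₀⁻¹
          simpa using this
        · rw [hs', mul_smul, mul_smul, hn₀α, h1, ← hn₀α, inv_smul_smul]
        · rw [hs', mul_smul, mul_smul, hn₀β, h2, ← hn₀β, inv_smul_smul]
      have hs'k : s' ^ 2 ^ k = 1 := by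
        have : s' = n₀⁻¹ * s * n₀⁻¹⁻¹ := by rw [hs', inv_inv]
        rw [this, conj_pow, hsk]
        group
      have hR2 : IsPGroup 2 (Subgroup.zpowers s') := by
        rintro ⟨g, hg⟩
        obtain ⟨i, rfl⟩ := Subgroup.mem_zpowers_iff.mp hg
        refine ⟨k, ?_⟩
        apply Subtype.ext
        show (s' ^ i) ^ 2 ^ k = 1
        rw [← zpow_natCast, ← zpow_mul, mul_comm, zpow_mul, zpow_natCast, hs'k, one_zpow]
      obtain ⟨ℓ, hℓ, hconj⟩ := conj_le_of_isPGroup L P (Subgroup.zpowers s') hPL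
        (by rw [Subgroup.zpowers_le]; exact hs'L) hP2 hPidx hR2
      have h3' := hconj s' (Subgroup.mem_zpowers s')
      have h4' := hPtriv _ h3' (ℓ • n₀⁻¹ • x)
      rw [mul_smul, mul_smul, inv_smul_smul] at h4'
      have h5' := smul_left_cancel _ h4'
      rw [hs', mul_smul, mul_smul, smul_inv_smul] at h5'
      exact smul_left_cancel _ h5'
    -- a 2-element of N interchanging α and β
    obtain ⟨n₁, hn₁, hn₁α, hn₁β⟩ := hN2 α β β α hαβ (Ne.symm hαβ)
    obtain ⟨e, r, hrodd, hord⟩ := Nat.exists_eq_two_pow_mul_odd (orderOf_pos n₁).ne'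
    set t₁ := n₁ ^ r with ht₁
    have ht₁N : t₁ ∈ N := N.pow_mem hn₁ r
    have ht₁e : t₁ ^ 2 ^ e = 1 := by
      rw [ht₁, ← pow_mul, mul_comm, ← hord, pow_orderOf_eq_one]
    have hsqα : n₁ ^ 2 • α = α := by rw [pow_two, mul_smul, hn₁α, hn₁β]
    have hsqβ : n₁ ^ 2 • β = β := by rw [pow_two, mul_smul, hn₁β, hn₁α]
    have hn₁sq : ∀ j : ℕ, (n₁ ^ 2) ^ j • α = α ∧ (n₁ ^ 2) ^ j • β = β := by
      intro j
      induction j with
      | zero => simp
      | succ j ih =>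
        rw [pow_succ, mul_smul, mul_smul, hsqα, hsqβ]
        exact ih
    obtain ⟨j, hj⟩ := hrodd
    have ht₁α : t₁ • α = β := by
      rw [ht₁, hj, pow_succ, pow_mul, mul_smul, hn₁α]
      exact (hn₁sq j).2
    have ht₁β : t₁ • β = α := by
      rw [ht₁, hj, pow_succ, pow_mul, mul_smul, hn₁β]
      exact (hn₁sq j).1
    obtain ⟨c₀, -, hc₀⟩ := fixed_point_two_elt (Ω := Ω) t₁ e ht₁e Finset.univ
      (fun _ _ => Finset.mem_univ _) (by rw [Finset.card_univ, hn]; exact hodd)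
    have hc₀α : c₀ ≠ α := by
      rintro rfl
      rw [ht₁α] at hc₀
      exact hαβ hc₀.symm
    have hc₀β : c₀ ≠ β := by
      rintro rfl
      rw [ht₁β] at hc₀
      exact hαβ hc₀
    by_contra hno
    push Not at hno
    obtain ⟨g, hgα, hgβ, hgc⟩ := h3 α β c₀ α β c hαβ (Ne.symm hc₀α) (Ne.symm hc₀β) hαβ
      (Ne.symm hcα) (Ne.symm hcβ)
    obtain ⟨t, ht⟩ : ∃ t, t = g * t₁ * g⁻¹ := ⟨_, rfl⟩
    have htN : t ∈ N := by rw [ht]; exact hNn.conj_mem t₁ ht₁N g
    have hte : t ^ 2 ^ e = 1 := by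
      rw [ht, conj_pow, ht₁e]
      group
    have htα : t • α = β := by
      rw [ht, mul_smul, mul_smul, inv_smul_eq_iff.mpr hgα.symm, ht₁α, hgβ]
    have htβ : t • β = α := by
      rw [ht, mul_smul, mul_smul, inv_smul_eq_iff.mpr hgβ.symm, ht₁β, hgα]
    have htc : t • c = c := by
      rw [ht, mul_smul, mul_smul, inv_smul_eq_iff.mpr hgc.symm, hc₀, hgc]
    have htiα : t⁻¹ • α = β := by rw [inv_smul_eq_iff, htβ]
    have htiβ : t⁻¹ • β = α := by rw [inv_smul_eq_iff, htα]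
    have htic : t⁻¹ • c = c := by rw [inv_smul_eq_iff, htc]
    -- t preserves the orbits of L
    have hpres : ∀ w : Ω, w ≠ α → w ≠ β → ∃ ℓ ∈ L, t • w = ℓ • w := by
      intro w hwα hwβ
      obtain ⟨k, hkα, hkβ, hkc⟩ := h3 α β c α β w hαβ (Ne.symm hcα) (Ne.symm hcβ) hαβ
        (Ne.symm hwα) (Ne.symm hwβ)
      have hkiα : k⁻¹ • α = α := by rw [inv_smul_eq_iff, hkα]
      have hkiβ : k⁻¹ • β = β := by rw [inv_smul_eq_iff, hkβ]
      have hkiw : k⁻¹ • w = c := by rw [inv_smul_eq_iff, hkc]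
      refine ⟨t * (k * t⁻¹ * k⁻¹), (hLmem _).mpr ⟨?_, ?_, ?_⟩, ?_⟩
      · exact N.mul_mem htN (hNn.conj_mem _ (N.inv_mem htN) k)
      · rw [mul_smul, mul_smul, mul_smul, hkiα, htiα, hkβ, htβ]
      · rw [mul_smul, mul_smul, mul_smul, hkiβ, htiβ, hkα, htα]
      · rw [mul_smul, mul_smul, mul_smul, hkiw, htic, hkc]
    set O₂ : Finset Ω := Finset.univ.filter (fun w => ∃ ℓ ∈ L, ℓ • d = w) with hO₂
    have hO₂pres : ∀ w ∈ O₂, t • w ∈ O₂ := by
      intro w hw
      rw [hO₂, Finset.mem_filter] at hw ⊢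
      obtain ⟨_, ℓ, hℓ, rfl⟩ := hw
      have hℓ' := (hLmem ℓ).mp hℓ
      have n1 : ℓ • d ≠ α := by
        intro h
        have h' : ℓ • d = ℓ • α := h.trans hℓ'.2.1.symm
        exact hdα (smul_left_cancel _ h')
      have n2 : ℓ • d ≠ β := by
        intro h
        have h' : ℓ • d = ℓ • β := h.trans hℓ'.2.2.symm
        exact hdβ (smul_left_cancel _ h')
      obtain ⟨ℓ', hℓ'', he⟩ := hpres (ℓ • d) n1 n2
      exact ⟨Finset.mem_univ _, ℓ' * ℓ, L.mul_mem hℓ'' hℓ, by rw [mul_smul, he]⟩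
    have hO₂odd : Odd O₂.card := by
      have h1 : O₂.card = (orbit L d).ncard := by
        rw [Set.ncard_eq_toFinset_card']
        congr 1
        ext w
        rw [hO₂, Finset.mem_filter, Set.mem_toFinset, MulAction.mem_orbit_iff]
        constructor
        · rintro ⟨_, ℓ, hℓ, h⟩
          exact ⟨⟨ℓ, hℓ⟩, h⟩
        · rintro ⟨ℓ, h⟩
          exact ⟨Finset.mem_univ _, ℓ.1, ℓ.2, h⟩
      rw [h1, ← MulAction.index_stabilizer]
      have hle : (P₀ : Subgroup L) ≤ stabilizer L d := by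
        intro p hp
        rw [MulAction.mem_stabilizer_iff]
        exact hPtriv (p : G) ⟨p, hp, rfl⟩ d
      have hdvd := Subgroup.index_dvd_of_le hle
      rw [← Nat.not_even_iff_odd]
      intro hev
      exact P₀.not_dvd_index (hev.two_dvd.trans hdvd)
    obtain ⟨x, hxO, hx⟩ := fixed_point_two_elt t e hte O₂ hO₂pres hO₂odd
    rw [hO₂, Finset.mem_filter] at hxO
    obtain ⟨_, ℓ, hℓ, hℓd⟩ := hxO
    have hxc : c ≠ x := by
      intro h
      apply hno ℓ⁻¹ (L.inv_mem hℓ)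
      rw [h, ← hℓd, inv_smul_smul]
    have := htriv2 t htN e hte c x hxc htc hx α
    rw [htα] at this
    exact hαβ this.symm
  · -- induction on the fixed points of the Sylow 2-subgroup
    set NP : Subgroup G := Subgroup.normalizer (P : Set G) with hNP
    have hNPmem : ∀ g : G, g ∈ NP ↔ ∀ z : G, z ∈ P ↔ g * z * g⁻¹ ∈ P := by
      intro g
      rw [hNP, Subgroup.mem_normalizer_iff]
    let SF : SubMulAction NP Ω :=
      { carrier := F
        smul_mem' := fun c x hx => hNF (c : G) ((hNPmem c).mp c.2) x hx }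
    haveI : Fintype SF := Fintype.ofFinite SF
    have hcardSF : Fintype.card SF = F.ncard := by
      rw [← Nat.card_eq_fintype_card]
      exact Nat.card_coe_set_eq F
    have hT3' : T3 NP SF := by
      intro x y z x' y' z' hxy hxz hyz hxy' hxz' hyz'
      obtain ⟨g₁, hg₁n, hg₁α, hg₁β, hg₁x⟩ := hW3 x.1 x.2 y.1 y.2 z.1 z.2
        (fun h => hxy (Subtype.ext h)) (fun h => hxz (Subtype.ext h))
        (fun h => hyz (Subtype.ext h))
      obtain ⟨g₂, hg₂n, hg₂α, hg₂β, hg₂x⟩ := hW3 x'.1 x'.2 y'.1 y'.2 z'.1 z'.2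
        (fun h => hxy' (Subtype.ext h)) (fun h => hxz' (Subtype.ext h))
        (fun h => hyz' (Subtype.ext h))
      refine ⟨⟨g₂ * g₁⁻¹, NP.mul_mem ((hNPmem _).mpr hg₂n)
        (NP.inv_mem ((hNPmem _).mpr hg₁n))⟩, ?_, ?_, ?_⟩
      · apply Subtype.ext
        show (g₂ * g₁⁻¹) • x.1 = x'.1
        rw [mul_smul, ← hg₁α, inv_smul_smul, hg₂α]
      · apply Subtype.ext
        show (g₂ * g₁⁻¹) • y.1 = y'.1
        rw [mul_smul, ← hg₁β, inv_smul_smul, hg₂β]
      · apply Subtype.ext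
        show (g₂ * g₁⁻¹) • z.1 = z'.1
        rw [mul_smul, ← hg₁x, inv_smul_smul, hg₂x]
    set N₁ : Subgroup NP := N.subgroupOf NP with hN₁
    have hN₁n : N₁.Normal := hNn.subgroupOf NP
    have hmove₁ : ∃ m ∈ N₁, ∃ x : SF, m • x ≠ x := by
      obtain ⟨m, hm, hmn, hmα, hmβ⟩ := hW2 β hβF α hαF (Ne.symm hαβ)
      refine ⟨⟨m, (hNPmem m).mpr hmn⟩, Subgroup.mem_subgroupOf.mpr hm, ⟨α, hαF⟩, ?_⟩
      intro h
      have h' : m • α = α := congrArg Subtype.val h
      rw [hmα] at h'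
      exact hαβ h'.symm
    obtain ⟨m, hm, h1, h2, h3'⟩ := ih F.ncard hlt NP SF hcardSF hFodd h5F hT3' N₁ hN₁n hmove₁
      ⟨α, hαF⟩ ⟨β, hβF⟩ ⟨c, hc⟩ ⟨d, hd⟩ (fun h => hαβ (congrArg Subtype.val h))
      (fun h => hcα (congrArg Subtype.val h)) (fun h => hcβ (congrArg Subtype.val h))
      (fun h => hdα (congrArg Subtype.val h)) (fun h => hdβ (congrArg Subtype.val h))
    have hmN : ((m : NP) : G) ∈ N := Subgroup.mem_subgroupOf.mp hm
    exact ⟨((m : NP) : G), (hLmem _).mpr ⟨hmN, congrArg Subtype.val h1, congrArg Subtype.val h2⟩,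
      congrArg Subtype.val h3'⟩

end main

section final

universe u v

/-- **Wagner's theorem** (abstract form): a normal subgroup acting non-trivially of a triply
transitive group of odd degree at least 5 is triply transitive. -/
theorem wagner {G : Type u} [Group G] [Finite G] {Ω : Type v} [Fintype Ω] [MulAction G Ω]
    (hodd : Odd (Fintype.card Ω)) (h5 : 5 ≤ Fintype.card Ω) (h3 : T3 G Ω) (N : Subgroup G)
    (hNn : N.Normal) (hmove : ∃ m ∈ N, ∃ x : Ω, m • x ≠ x) :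
    ∀ x y z x' y' z' : Ω, x ≠ y → x ≠ z → y ≠ z → x' ≠ y' → x' ≠ z' → y' ≠ z' →
      ∃ m ∈ N, m • x = x' ∧ m • y = y' ∧ m • z = z' := by
  classical
  intro x y z x' y' z' hxy hxz hyz hxy' hxz' hyz'
  have h4 : 4 ≤ Fintype.card Ω := by omega
  have hN2a := two_trans_of_normal h3 hodd h5 N hNn hmove
  obtain ⟨w, hwx, hwx', -⟩ := exists_fourth h4 x x' x'
  obtain ⟨m₁, hm₁, hm₁w, hm₁x⟩ := hN2a w x x' (Ne.symm hwx) (Ne.symm hwx')
  have h1 : m₁ • y ≠ x' := by
    rw [← hm₁x]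
    intro h
    exact hxy (smul_left_cancel _ h).symm
  obtain ⟨m₂, hm₂, hm₂x, hm₂y⟩ := hN2a x' (m₁ • y) y' h1 (Ne.symm hxy')
  have e1 : (m₂ * m₁) • x = x' := by rw [mul_smul, hm₁x, hm₂x]
  have e2 : (m₂ * m₁) • y = y' := by rw [mul_smul, hm₂y]
  have n1 : (m₂ * m₁) • z ≠ x' := by
    rw [← e1]
    intro h
    exact hxz (smul_left_cancel _ h).symm
  have n2 : (m₂ * m₁) • z ≠ y' := by
    rw [← e2]
    intro h
    exact hyz (smul_left_cancel _ h).symm
  obtain ⟨m₃, hm₃, h31, h32, h33⟩ := wagner_aux (Fintype.card Ω) G Ω rfl hodd h5 h3 N hNn hmove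
    x' y' ((m₂ * m₁) • z) z' hxy' n1 n2 (Ne.symm hxz') (Ne.symm hyz')
  refine ⟨m₃ * (m₂ * m₁), N.mul_mem hm₃ (N.mul_mem hm₂ hm₁), ?_, ?_, ?_⟩
  · rw [mul_smul, e1, h31]
  · rw [mul_smul, e2, h32]
  · rw [mul_smul, h33]

end final

end Cfsg.Agent.Helper3.Wagner
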