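import Mathlib
import Cfsg.Prelude.Def_JComponents
import Cfsg.Agent.Lib.Helper4.ZNDefs

/-!
# S0518, piece LEX: a lexicographically maximal straddling 2-subgroup exists; hypothesis conversion
-/

set_option autoImplicit false
open Cfsg

namespace Cfsg.Agent.Helper4.ZN

variable {G : Type*} [Group G]

/-- a finite nonempty set has an element maximizing a natural-number valued function -/
theorem LEX_exists_max {α : Type*} [Finite α] (s : Set α) (hs : s.Nonempty) (f : α → ℕ) :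
    ∃ a ∈ s, ∀ b ∈ s, f b ≤ f a := by
  classical
  have hfin : s.Finite := Set.toFinite s
  obtain ⟨a, ha, hmax⟩ := Set.exists_max_image s f hfin hs
  exact ⟨a, ha, hmax⟩

theorem exists_maxStraddling [Finite G] (M : Subgroup G)
    (h : (straddlingTwoSubgroups M).Nonempty) : (maxStraddlingTwoSubgroups M).Nonempty := by
  classical
  set S := straddlingTwoSubgroups M with hS
  -- step 1: maximize `a`
  obtain ⟨T1, hT1, hmax1⟩ := LEX_exists_max S h (fun T => maxElemAbelianOrder T)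
  set S1 : Set (Subgroup G) := {T | T ∈ S ∧ ∀ T' ∈ S, maxElemAbelianOrder T' ≤ maxElemAbelianOrder T}
    with hS1
  have hS1ne : S1.Nonempty := ⟨T1, hT1, hmax1⟩
  -- step 2: maximize `|J|`
  obtain ⟨T2, hT2, hmax2⟩ := LEX_exists_max S1 hS1ne (fun T => Nat.card ↥(thompsonSubgroupOf 2 T))
  set S2 : Set (Subgroup G) := {T | T ∈ S1 ∧ ∀ T' ∈ S1,
    Nat.card ↥(thompsonSubgroupOf 2 T') ≤ Nat.card ↥(thompsonSubgroupOf 2 T)} with hS2
  have hS2ne : S2.Nonempty := ⟨T2, hT2, hmax2⟩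
  -- step 3: maximize `|T|`
  obtain ⟨T3, hT3, hmax3⟩ := LEX_exists_max S2 hS2ne (fun T => Nat.card ↥T)
  refine ⟨T3, hT3.1.1, ?_⟩
  intro T hT
  refine ⟨hT3.1.2 T hT, ?_⟩
  intro heq
  have hTS1 : T ∈ S1 := by
    refine ⟨hT, ?_⟩
    intro T' hT'
    rw [heq]
    exact hT3.1.2 T' hT'
  refine ⟨hT3.2 T hTS1, ?_⟩
  intro heq2
  have hTS2 : T ∈ S2 := by
    refine ⟨hTS1, ?_⟩
    intro T' hT'
    rw [heq2]
    exact hT3.2 T' hT'
  exact hmax3 T hTS2

theorem hZ_convert
    (hZ : ∀ S : Sylow 2 G,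
      Subgroup.centralizer {z : G | z ∈ (S : Subgroup G) ∧ z ^ 2 = 1 ∧ ∀ s ∈ (S : Subgroup G), s * z = z * s} ≤
        Subgroup.normalizer ((S : Subgroup G) : Set G)) :
    ∀ S : Sylow 2 G, Subgroup.centralizer (omegaCenterOf (S : Subgroup G) : Set G) ≤
      Subgroup.normalizer ((S : Subgroup G) : Set G) := by
  intro S
  refine le_trans ?_ (hZ S)
  apply Subgroup.centralizer_le
  intro z hz
  obtain ⟨hzS, hz2, hzc⟩ := hz
  show z ∈ omegaCenterOf (S : Subgroup G)
  unfold omegaCenterOf omegaOne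
  apply Subgroup.subset_closure
  have hcen : z ∈ Subgroup.centralizer ((S : Subgroup G) : Set G) := by
    rw [Subgroup.mem_centralizer_iff]
    intro s hs
    exact hzc s hs
  exact ⟨⟨hzS, hcen⟩, hz2⟩

end Cfsg.Agent.Helper4.ZN
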